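import Cfsg.Agent.H18.BrauerQuot
import Cfsg.Agent.H64.Char2Graph

/-!
Consequences: perfect groups of order less than `p ^ 3`, small Sylow counts.
-/

set_option autoImplicit false
set_option linter.unusedSectionVars false

open Cfsg

namespace H18.BR

universe u

/-- The conclusion with the special linear group in characteristic two. -/
def ConclSL (G : Type u) [Group G] (p : ℕ) : Prop :=
  (∃ (F : Type) (_ : Field F) (_ : Fintype F), Fintype.card F = p ∧ 3 < p ∧
    Nonempty (G ≃* Matrix.ProjectiveSpecialLinearGroup (Fin 2) F)) ∨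
  (∃ (m : ℕ) (F : Type) (_ : Field F) (_ : Fintype F), Fintype.card F = 2 ^ m ∧ p = 2 ^ m + 1 ∧
    3 < p ∧ Nonempty (G ≃* Matrix.SpecialLinearGroup (Fin 2) F))

theorem charTwo_of_card (F : Type) [Field F] [Fintype F] {m : ℕ} (hm : 0 < m)
    (h : Fintype.card F = 2 ^ m) : CharP F 2 := by
  obtain ⟨r, hr⟩ := CharP.exists F
  obtain ⟨f, hrp, hc⟩ := FiniteField.card F r
  have h1 : r ∣ 2 ^ m := h ▸ hc ▸ dvd_pow_self r f.2.ne'
  rwa [(Nat.prime_dvd_prime_iff_eq hrp Nat.prime_two).1 (hrp.dvd_of_dvd_pow h1)] at hr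

theorem Concl.toSL {G : Type u} [Group G] {p : ℕ} (h : Concl G p) : ConclSL G p := by
  rcases h with h | ⟨m, F, i, j, hc, hpm, h3, ⟨e⟩⟩
  · exact .inl h
  · have hm : 0 < m := Nat.pos_of_ne_zero fun h => by subst h; simp at hpm; omega
    haveI := charTwo_of_card F hm hc
    obtain ⟨e'⟩ := H64.psl2_char2_equiv (F := F)
    exact .inr ⟨m, F, i, j, hc, hpm, h3, ⟨e.trans e'.symm⟩⟩

theorem Concl.congr {G : Type u} {G' : Type*} [Group G] [Group G'] {p : ℕ} (e : G' ≃* G)
    (h : Concl G p) : Concl G' p := by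
  rcases h with ⟨F, i, j, hc, h3, ⟨e'⟩⟩ | ⟨m, F, i, j, hc, hpm, h3, ⟨e'⟩⟩
  · exact .inl ⟨F, i, j, hc, h3, ⟨e.trans e'⟩⟩
  · exact .inr ⟨m, F, i, j, hc, hpm, h3, ⟨e.trans e'⟩⟩

/-- The order of the groups in the conclusion. -/
theorem Concl.card {G : Type u} [Group G] {p : ℕ} (hp : p.Prime) (h : Concl G p) :
    5 ≤ p ∧ (2 * Nat.card G = p * (p * p - 1) ∨ Nat.card G = p * (p - 1) * (p - 2)) := by
  rcases h with ⟨F, i, j, hc, h3, ⟨e⟩⟩ | ⟨m, F, i, j, hc, hpm, h3, ⟨e⟩⟩
  · obtain ⟨r, hr⟩ := CharP.exists F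
    obtain ⟨f, hrp, hcard⟩ := FiniteField.card F r
    have hpp : IsPrimePow p := hc ▸ FiniteField.isPrimePow_card F
    have h := order_psl2 F
    rw [← Nat.card_congr e.toEquiv, hc] at h
    rcases d_cases (show 2 ≤ p by omega) with ⟨hd, hev⟩ | ⟨hd, hodd⟩
    · obtain ⟨k, hk⟩ := hev
      rcases hp.eq_two_or_odd with h2 | h2 <;> omega
    · rw [hd] at h
      obtain ⟨k, hk⟩ := hodd
      exact ⟨by omega, .inl h⟩
  · have h := order_psl2 F
    rw [← Nat.card_congr e.toEquiv, hc] at h
    have hm : 0 < m := Nat.pos_of_ne_zero fun h => by subst h; simp at hpm; omega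
    obtain ⟨k, hk⟩ : 2 ∣ 2 ^ m := dvd_pow_self 2 hm.ne'
    rcases d_cases (show 2 ≤ 2 ^ m by omega) with ⟨hd, -⟩ | ⟨-, ⟨l, hl⟩⟩
    · rw [hd, one_mul] at h
      refine ⟨by omega, .inr ?_⟩
      rw [h, hpm]
      obtain ⟨q, hq⟩ : ∃ q, 2 ^ m = q + 1 := ⟨2 ^ m - 1, by omega⟩
      rw [hq, show (q + 1) * (q + 1) - 1 = q * (q + 2) by
        rw [show (q + 1) * (q + 1) = q * (q + 2) + 1 by ring, Nat.add_sub_cancel],
        show q + 1 + 1 - 1 = q + 1 by omega, show q + 1 + 1 - 2 = q by omega]
      ring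
    · omega

variable {G : Type u} [Group G] [Finite G] {p : ℕ} [hp : Fact p.Prime]

theorem two_le_normalizer (hperf : commutator G = ⊤) (P : Sylow p G) (hP : Nat.card P = p) :
    2 * p ≤ Nat.card (Subgroup.normalizer ((P : Subgroup G) : Set G)) := by
  obtain ⟨k, hk⟩ : p ∣ Nat.card (Subgroup.normalizer ((P : Subgroup G) : Set G)) :=
    hP.symm.dvd.trans (Subgroup.card_dvd_of_le Subgroup.le_normalizer)
  have hk0 : 0 < k := Nat.pos_of_ne_zero fun h => by
    rw [h, mul_zero] at hk; exact Nat.card_pos.ne' hk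
  rcases Nat.lt_or_ge k 2 with hk2 | hk2
  · exfalso
    have heq : (P : Subgroup G) = Subgroup.normalizer ((P : Subgroup G) : Set G) :=
      Subgroup.eq_of_le_of_card_ge Subgroup.le_normalizer
        (by rw [hk, show k = 1 by omega, mul_one]; exact hP.ge)
    haveI : IsCyclic (P : Subgroup G) := isCyclic_of_prime_card hP
    letI := IsCyclic.commGroup (α := (P : Subgroup G))
    have hle : Subgroup.normalizer ((P : Subgroup G) : Set G) ≤
        Subgroup.centralizer ((P : Subgroup G) : Set G) := by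
      rw [← heq]
      intro g hg
      rw [Subgroup.mem_centralizer_iff]
      intro x hx
      exact congrArg Subtype.val (mul_comm (⟨x, hx⟩ : (P : Subgroup G)) ⟨g, hg⟩)
    have hc' := MonoidHom.ker_transferSylow_isComplement' P hle
    have htop : (MonoidHom.transferSylow P hle).ker = ⊤ :=
      eq_top_iff.2 fun g _ =>
        hom_trivial_of_comm hperf mul_comm (MonoidHom.transferSylow P hle) g
    rw [htop] at hc'
    letI := Fintype.ofFinite G
    obtain ⟨x, hx, hx1⟩ := exists_ne_one_mem hP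
    rw [Subgroup.isComplement'_top_left.1 hc', Subgroup.mem_bot] at hx
    exact hx1 hx
  · rw [hk, mul_comm 2]; exact Nat.mul_le_mul_left p hk2

theorem exists_sylow_count : ∃ n, Nat.card (Sylow p G) = 1 + n * p := by
  have h := card_sylow_modEq_one p G
  obtain ⟨k, hk⟩ := (Nat.modEq_iff_dvd' Nat.card_pos).1 h.symm
  refine ⟨k, ?_⟩
  have := Nat.card_pos (α := Sylow p G)
  rw [mul_comm]; omega

/-- Order below `p ^ 3`. -/
theorem small_order (hperf : commutator G = ⊤) (hdvd : p ∣ Nat.card G)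
    (hbig : Nat.card G < p ^ 3) (P : Sylow p G) (hP : ¬ (P : Subgroup G).Normal)
    (h2 : ∀ N : Subgroup G, N.Normal → Nat.card N ≠ 2) : Concl G p := by
  have hp2 := hp.out.two_le
  obtain ⟨n, hn⟩ := exists_sylow_count (G := G) (p := p)
  have hn0 : 0 < n := Nat.pos_of_ne_zero fun h => by
    rw [h] at hn
    haveI : Subsingleton (Sylow p G) := (Nat.card_eq_one_iff_unique.1 (by simpa using hn)).1
    exact hP P.normal_of_subsingleton
  have hGmul : Nat.card (Subgroup.normalizer ((P : Subgroup G) : Set G)) * (1 + n * p) =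
      Nat.card G := by
    rw [← hn, P.card_eq_index_normalizer]; exact Subgroup.card_mul_index _
  obtain ⟨k, hk⟩ := IsPGroup.iff_card.1 P.isPGroup'
  have hk1 : k = 1 := by
    have h0 : p ∣ Nat.card (P : Subgroup G) := P.dvd_card_of_dvd_card hdvd
    rw [hk] at h0
    have hle : p ^ k ≤ Nat.card (Subgroup.normalizer ((P : Subgroup G) : Set G)) :=
      hk ▸ Nat.le_of_dvd Nat.card_pos (Subgroup.card_dvd_of_le Subgroup.le_normalizer)
    rcases Nat.lt_or_ge k 2 with h | h
    · interval_cases k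
      · simp at h0; omega
      · rfl
    · exfalso
      have h1 : p ^ 2 * (1 + n * p) ≤ Nat.card G := by
        rw [← hGmul]
        exact Nat.mul_le_mul_right _ ((Nat.pow_le_pow_right hp.out.pos h).trans hle)
      have h3 : p ^ 2 * p ≤ p ^ 2 * (1 + n * p) :=
        Nat.mul_le_mul_left _ (by have := Nat.le_mul_of_pos_left p hn0; omega)
      have h4 : p ^ 3 = p ^ 2 * p := pow_succ p 2
      omega
  have hPc : Nat.card P = p := by rw [hk1, pow_one] at hk; exact hk
  have hN := two_le_normalizer hperf P hPc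
  have hF : ¬ IsF n p := fun h => by
    have h1 := isF_bound h
    have h3 : 2 * p * (1 + n * p) < p ^ 3 :=
      lt_of_le_of_lt (le_trans (Nat.mul_le_mul_right _ hN) hGmul.le) hbig
    nlinarith
  haveI := H1.pPrimeCore_normal' p G
  obtain ⟨hc, -⟩ := concl_quot hperf P hPc hn hF
  obtain ⟨hp5, hcard⟩ := hc.card hp.out
  have hG := Subgroup.card_eq_card_quotient_mul_card_subgroup (Cfsg.pPrimeCore p G)
  set c := Nat.card (Cfsg.pPrimeCore p G) with hcdef
  have hc0 : 0 < c := Nat.card_pos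
  have hc2 : c ≤ 2 := by
    by_contra hcc
    have h3 : Nat.card (G ⧸ Cfsg.pPrimeCore p G) * 3 ≤ Nat.card G := by
      rw [hG]; exact Nat.mul_le_mul_left _ (by omega)
    obtain ⟨X, hX⟩ : ∃ X, Nat.card (G ⧸ Cfsg.pPrimeCore p G) = X := ⟨_, rfl⟩
    rw [hX] at hcard h3
    obtain ⟨r, hr⟩ : ∃ r, p = r + 5 := ⟨p - 5, by omega⟩
    rcases hcard with h | h
    · rw [hr, show (r + 5) * (r + 5) - 1 = r * r + 10 * r + 24 by
        rw [show (r + 5) * (r + 5) = r * r + 10 * r + 24 + 1 by ring, Nat.add_sub_cancel]] at h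
      rw [hr] at hbig
      have key : 2 * ((r + 5) * (r + 5)) ≤ 3 * (r * r + 10 * r + 24) := by nlinarith
      have key2 := Nat.mul_le_mul_left (r + 5) key
      linarith [show (r + 5) ^ 3 = (r + 5) * ((r + 5) * (r + 5)) by ring]
    · rw [hr, show r + 5 - 1 = r + 4 by omega, show r + 5 - 2 = r + 3 by omega] at h
      rw [hr] at hbig
      have key : (r + 5) * (r + 5) ≤ 3 * ((r + 4) * (r + 3)) := by nlinarith
      have key2 := Nat.mul_le_mul_left (r + 5) key
      linarith [show (r + 5) ^ 3 = (r + 5) * ((r + 5) * (r + 5)) by ring]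
  have hbot : Cfsg.pPrimeCore p G = ⊥ := by
    rcases Nat.lt_or_ge c 2 with h | h
    · exact Subgroup.card_eq_one.1 (by omega)
    · exact absurd (show c = 2 by omega) (h2 _ inferInstance)
  exact hc.congr ((QuotientGroup.quotientBot (G := G)).symm.trans
    (QuotientGroup.quotientMulEquivOfEq hbot.symm))

/-- An element of order `p` generating its centraliser, with few Sylow subgroups. -/
theorem self_centralizing (hperf : commutator G = ⊤) (z : G) (hz : orderOf z = p)
    (hC : Subgroup.centralizer ({z} : Set G) = Subgroup.zpowers z)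
    (hn : 2 * Nat.card (Sylow p G) < (p + 1) * (p + 2)) : Concl G p := by
  have hzp : IsPGroup p (Subgroup.zpowers z) := IsPGroup.of_card (n := 1) (by
    rw [Nat.card_zpowers, hz, pow_one])
  obtain ⟨P, hP⟩ := hzp.exists_le_sylow
  have hzP : z ∈ (P : Subgroup G) := hP (Subgroup.mem_zpowers z)
  have hz1 : z ≠ 1 := fun h => by rw [h, orderOf_one] at hz; exact hp.out.one_lt.ne hz
  have hPC : (P : Subgroup G) ≤ Subgroup.zpowers z := by
    haveI : Nontrivial (P : Subgroup G) :=
      ⟨⟨⟨z, hzP⟩, 1, fun h => hz1 (congrArg Subtype.val h)⟩⟩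
    haveI := P.isPGroup'.center_nontrivial
    obtain ⟨⟨⟨y, hyP⟩, hy⟩, hy1⟩ := exists_ne (1 : Subgroup.center (P : Subgroup G))
    have hyc : ∀ x ∈ (P : Subgroup G), x * y = y * x := fun x hx =>
      congrArg Subtype.val (Subgroup.mem_center_iff.1 hy ⟨x, hx⟩)
    have hy0 : y ∈ Subgroup.zpowers z := by
      rw [← hC, Subgroup.mem_centralizer_singleton_iff]
      exact (hyc z hzP).symm
    have hyz : Subgroup.zpowers y = Subgroup.zpowers z :=
      Subgroup.eq_of_le_of_card_ge (Subgroup.zpowers_le.2 hy0) (by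
        rw [Nat.card_zpowers, Nat.card_zpowers, hz]
        have h1 : orderOf y ∣ p :=
          (Subgroup.orderOf_dvd_natCard _ hy0).trans ((Nat.card_zpowers z).trans hz).dvd
        rcases (Nat.dvd_prime hp.out).1 h1 with h | h
        · exact absurd (Subtype.ext (Subtype.ext (orderOf_eq_one_iff.1 h))) hy1
        · exact h.ge)
    intro x hx
    rw [← hC, Subgroup.mem_centralizer_singleton_iff]
    obtain ⟨i, hi⟩ := Subgroup.mem_zpowers_iff.1 (hyz.symm ▸ Subgroup.mem_zpowers z :
      z ∈ Subgroup.zpowers y)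
    rw [← hi]
    exact Commute.zpow_right (hyc x hx) i
  have hPc : Nat.card P = p := by
    have h := le_antisymm hPC hP
    show Nat.card (P : Subgroup G) = p
    rw [h, Nat.card_zpowers, hz]
  obtain ⟨n, hn'⟩ := exists_sylow_count (G := G) (p := p)
  have hF : ¬ IsF n p := fun h => by
    have := isF_bound h
    rw [hn'] at hn
    have h' : (p + 3) * p ≤ 2 * n * p := Nat.mul_le_mul_right p this
    nlinarith
  haveI := H1.pPrimeCore_normal' p G
  obtain ⟨hc, hle⟩ := concl_quot hperf P hPc hn' hF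
  have hbot : Cfsg.pPrimeCore p G = ⊥ := by
    rw [Subgroup.eq_bot_iff_forall]
    intro h hh
    have hcop := H1.card_pPrimeCore_coprime p G
    have hdisj : ∀ y ∈ (P : Subgroup G), y ∈ Cfsg.pPrimeCore p G → y = 1 := by
      intro y hy hy'
      have h1 := Subgroup.orderOf_dvd_natCard _ hy
      rw [show Nat.card (P : Subgroup G) = p from hPc] at h1
      exact orderOf_eq_one_iff.1
        (Nat.eq_one_of_dvd_coprimes hcop (Subgroup.orderOf_dvd_natCard _ hy') h1)
    have h1 : h * z * h⁻¹ * z⁻¹ = 1 := hdisj _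
      (mul_mem ((Subgroup.mem_normalizer_iff.1 (hle hh) z).1 hzP) (inv_mem hzP))
      (by
        rw [show h * z * h⁻¹ * z⁻¹ = h * (z * h⁻¹ * z⁻¹) by group]
        exact mul_mem hh ((inferInstance : (Cfsg.pPrimeCore p G).Normal).conj_mem _ (inv_mem hh) z))
    rw [mul_inv_eq_one, mul_inv_eq_iff_eq_mul] at h1
    have h2 : h ∈ Subgroup.centralizer ({z} : Set G) :=
      Subgroup.mem_centralizer_singleton_iff.2 h1
    rw [hC] at h2
    exact hdisj h (hP h2) hh
  exact hc.congr ((QuotientGroup.quotientBot (G := G)).symm.trans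
    (QuotientGroup.quotientMulEquivOfEq hbot.symm))

/-- Simple groups of order below `p ^ 3`. -/
theorem simple_small_order [IsSimpleGroup G] (hG : ¬ IsCyclic G) (hdvd : p ∣ Nat.card G)
    (hbig : Nat.card G < p ^ 3) : Concl G p := by
  have hperf : commutator G = ⊤ := by
    rcases (inferInstance : (commutator G).Normal).eq_bot_or_eq_top with h | h
    · exfalso
      rw [commutator_eq_bot_iff] at h
      letI : CommGroup G := { (inferInstance : Group G) with mul_comm := h.is_comm.comm }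
      exact hG (isCyclic_of_prime_card (α := G) (hp := ⟨IsSimpleGroup.prime_card⟩) rfl)
    · exact h
  obtain ⟨P⟩ : Nonempty (Sylow p G) := inferInstance
  have hnc : ∀ N : Subgroup G, N = ⊤ → IsPGroup p N → False := by
    intro N hN hp'
    have hGp : IsPGroup p G := fun g => by
      obtain ⟨k, hk⟩ := hp' ⟨g, hN ▸ Subgroup.mem_top g⟩
      exact ⟨k, congrArg Subtype.val hk⟩
    haveI := hGp.isNilpotent
    have : Group.IsSolvable G := inferInstance
    exact (Group.IsSolvable.commutator_lt_top_of_nontrivial G).ne hperf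
  refine small_order hperf hdvd hbig P (fun hN => ?_) (fun N hN hcard => ?_)
  · rcases hN.eq_bot_or_eq_top with h | h
    · have := P.dvd_card_of_dvd_card hdvd
      rw [h, Subgroup.card_bot] at this
      exact hp.out.one_lt.ne' (Nat.dvd_one.1 this)
    · exact hnc _ h P.isPGroup'
  · rcases hN.eq_bot_or_eq_top with h | h
    · rw [h, Subgroup.card_bot] at hcard; omega
    · rw [h, Subgroup.card_top] at hcard
      haveI : Fact (Nat.Prime 2) := ⟨Nat.prime_two⟩
      exact hG (isCyclic_of_prime_card (p := 2) hcard)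

end H18.BR
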