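import Cfsg.Prelude.Def_Characters
import Cfsg.Agent.H13.Correspondence
import Cfsg.Agent.H14.BrauerInduction
import Cfsg.Agent.H25.Galois
import Cfsg.Agent.H16.VChar
import Cfsg.Agent.H12.Linear
import Mathlib.GroupTheory.Nilpotent

/-!
An invariant Galois-fixed character of a normal subgroup with quotient of odd order has exactly
one fixed extension, the automorphism inverting the classes of the quotient.
-/

set_option autoImplicit false
open Cfsg
open scoped ComplexConjugate commutatorElement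

namespace H18

universe u

section PartA

variable {G : Type u} [Group G] [Fintype G] (N : Subgroup G) [hN : N.Normal] [Fintype N]

theorem res_eq_smul_of_invariant {θ : N → ℂ} (hθ : IsIrrCharacter N θ)
    (hinv : ∀ g, H13.twist N g θ = θ) (χ : IrrCharacter G)
    (hne : classInner (fun n : N => (χ : G → ℂ) n) θ ≠ 0) :
    (fun n : N => (χ : G → ℂ) n) = classInner (fun n : N => (χ : G → ℂ) n) θ • θ := by
  have h := H13.clifford_res N χ.2 hθ hne {⟨θ, hθ⟩} (fun ψ => by
    rw [Finset.mem_singleton]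
    exact ⟨fun h => ⟨1, by rw [hinv, h]⟩, fun ⟨x, hx⟩ => Subtype.ext (hx.symm.trans (hinv x))⟩)
  rwa [Finset.sum_singleton] at h

theorem sum_shift_mul_conj {θ : N → ℂ} (hθ : IsIrrCharacter N θ)
    (hinv : ∀ g, H13.twist N g θ = θ) (χ : IrrCharacter G) (a : G) :
    (∑ n : N, (χ : G → ℂ) (a * n) * conj (θ n)) * (χ : G → ℂ) 1 =
      (Nat.card N : ℂ) * classInner (fun n : N => (χ : G → ℂ) n) θ * (χ : G → ℂ) a := by
  obtain ⟨d, ρ, hρ, h⟩ := χ.2
  have := hρ
  let T : Module.End ℂ (Fin d → ℂ) := ∑ n : N, conj (θ n) • ρ (n : G)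
  have hcomm : ∀ g, T * ρ g = ρ g * T := by
    intro g
    simp only [T, Finset.sum_mul, Finset.mul_sum, smul_mul_assoc, mul_smul_comm, ← map_mul]
    refine Fintype.sum_equiv (MulAut.conjNormal g⁻¹ : N ≃* N).toEquiv _ _ fun n => ?_
    have h1 : θ ((MulAut.conjNormal g⁻¹ : N ≃* N) n) = θ n := by
      conv_rhs => rw [← hinv g⁻¹]
      rw [H13.twist_apply]
      exact congrArg θ (Subtype.ext (by simp))
    change conj (θ n) • ρ ((n : G) * g) =
      conj (θ ((MulAut.conjNormal g⁻¹ : N ≃* N) n)) • ρ (g * ((MulAut.conjNormal g⁻¹ : N ≃* N) n : N))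
    rw [h1]
    simp [mul_assoc]
  obtain ⟨c, hc⟩ := H12.exists_scalar_of_commute ρ T hcomm
  have h2 : ∀ a : G, ∑ n : N, (χ : G → ℂ) (a * n) * conj (θ n) =
      LinearMap.trace ℂ (Fin d → ℂ) (ρ a * T) := by
    intro a
    simp only [T, Finset.mul_sum, mul_smul_comm, ← map_mul, map_sum, map_smul, smul_eq_mul]
    refine Finset.sum_congr rfl fun n _ => ?_
    rw [← h, mul_comm]
    rfl
  have h3 : ∀ a : G, ∑ n : N, (χ : G → ℂ) (a * n) * conj (θ n) = c * (χ : G → ℂ) a := by
    intro a
    rw [h2, hc, mul_smul_comm, mul_one, map_smul, smul_eq_mul, ← h]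
    rfl
  have h4 : c * (χ : G → ℂ) 1 =
      (Nat.card N : ℂ) * classInner (fun n : N => (χ : G → ℂ) n) θ := by
    rw [← h3 1, H12.classInner_def, mul_inv_cancel_left₀ (by exact_mod_cast Nat.card_pos.ne')]
    simp
  rw [h3, mul_right_comm, h4]

open scoped Classical in
/-- The kernel of the projection onto the characters over `θ`. -/
theorem card_mul_sum_over {θ : N → ℂ} (hθ : IsIrrCharacter N θ)
    (hinv : ∀ g, H13.twist N g θ = θ) (a b : G) :
    (Nat.card N : ℂ) * (∑ χ ∈ Finset.univ.filter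
        (fun χ : IrrCharacter G => classInner (fun n : N => (χ : G → ℂ) n) θ ≠ 0),
        (χ : G → ℂ) a * conj ((χ : G → ℂ) b)) =
      θ 1 * ∑ n : N, conj (θ n) *
        ∑ χ : IrrCharacter G, (χ : G → ℂ) (a * n) * conj ((χ : G → ℂ) b) := by
  classical
  simp only [Finset.mul_sum]
  rw [Finset.sum_comm, Finset.sum_filter]
  refine Finset.sum_congr rfl fun χ _ => ?_
  have h1 : ∑ n : N, θ 1 * (conj (θ n) * ((χ : G → ℂ) (a * n) * conj ((χ : G → ℂ) b))) =
      θ 1 * (∑ n : N, (χ : G → ℂ) (a * n) * conj (θ n)) * conj ((χ : G → ℂ) b) := by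
    rw [Finset.mul_sum, Finset.sum_mul]
    exact Finset.sum_congr rfl fun n _ => by ring
  rw [h1]
  have h2 := sum_shift_mul_conj N hθ hinv χ a
  have hχ1 := H12.irr_apply_one_ne_zero χ
  split_ifs with he
  · have h3 : (χ : G → ℂ) 1 = classInner (fun n : N => (χ : G → ℂ) n) θ * θ 1 := by
      have := congrFun (res_eq_smul_of_invariant N hθ hinv χ he) 1
      simpa using this
    apply mul_right_cancel₀ hχ1
    calc (Nat.card N : ℂ) * ((χ : G → ℂ) a * conj ((χ : G → ℂ) b)) * (χ : G → ℂ) 1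
        = θ 1 * ((Nat.card N : ℂ) * classInner (fun n : N => (χ : G → ℂ) n) θ * (χ : G → ℂ) a)
            * conj ((χ : G → ℂ) b) := by rw [h3]; ring
      _ = _ := by rw [← h2]; ring
  · rw [not_not] at he
    rw [he, mul_zero, zero_mul] at h2
    rw [(mul_eq_zero.mp h2).resolve_right hχ1]
    ring

theorem eq_one_of_isConj_inv_of_odd {Q : Type u} [Group Q] [Finite Q] (h : Odd (Nat.card Q))
    {q : Q} (hq : IsConj q q⁻¹) : q = 1 := by
  obtain ⟨c, hc⟩ := isConj_iff.mp hq
  have hodd : ∀ z : Q, Odd (orderOf z) := fun z => h.of_dvd_nat (orderOf_dvd_natCard z)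
  have h2 : Commute (c ^ 2) q := by
    have : c * (c * q * c⁻¹) * c⁻¹ = q := by
      rw [hc]
      calc c * q⁻¹ * c⁻¹ = (c * q * c⁻¹)⁻¹ := by group
        _ = q := by rw [hc, inv_inv]
    rw [Commute, SemiconjBy, pow_two]
    calc c * c * q = (c * (c * q * c⁻¹) * c⁻¹) * (c * c) := by group
      _ = q * (c * c) := by rw [this]
  obtain ⟨j, hj⟩ := hodd c
  have h3 : Commute c q := by
    have : c = (c ^ 2) ^ (j + 1) := by
      rw [← pow_mul, show 2 * (j + 1) = 2 * j + 1 + 1 by ring, pow_succ, ← hj, pow_orderOf_eq_one,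
        one_mul]
    rw [this]
    exact h2.pow_left _
  rw [h3.eq, mul_inv_cancel_right] at hc
  have h4 : q ^ 2 = 1 := by
    rw [pow_two]; nth_rewrite 2 [hc]; exact mul_inv_cancel q
  rcases Nat.prime_two.eq_one_or_self_of_dvd _ (orderOf_dvd_of_pow_eq_one h4) with h5 | h5
  · exact orderOf_eq_one_iff.mp h5
  · exact absurd (h5 ▸ hodd q) (by decide)

open scoped Classical in
theorem card_fixed_over {θ : N → ℂ} (hθ : IsIrrCharacter N θ) (hodd : Odd N.index)
    (hinv : ∀ g, H13.twist N g θ = θ) (k : ℕ) (hk : Nat.Coprime k (Nat.card G))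
    (hkinv : ∀ g : G, g ^ k * g ∈ N) (hfix : ∀ n : N, θ (n ^ k) = θ n) :
    (Finset.univ.filter fun χ : IrrCharacter G =>
      classInner (fun n : N => (χ : G → ℂ) n) θ ≠ 0 ∧
        ∀ g, (χ : G → ℂ) (g ^ k) = (χ : G → ℂ) g).card = 1 := by
  classical
  set S := Finset.univ.filter
    (fun χ : IrrCharacter G => classInner (fun n : N => (χ : G → ℂ) n) θ ≠ 0) with hS
  have hG : (Nat.card G : ℂ) ≠ 0 := by exact_mod_cast Nat.card_pos.ne'
  have hNc : (Nat.card N : ℂ) ≠ 0 := by exact_mod_cast Nat.card_pos.ne'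
  have hθ1 : θ 1 ≠ 0 := H12.irr_apply_one_ne_zero ⟨θ, hθ⟩
  -- the sum of the squares of the degrees
  have hdeg : (Nat.card N : ℂ) * ∑ χ ∈ S, (χ : G → ℂ) 1 * conj ((χ : G → ℂ) 1) =
      θ 1 * conj (θ 1) * (Nat.card G : ℂ) := by
    rw [card_mul_sum_over N hθ hinv 1 1, mul_assoc]
    congr 1
    simp only [H12.column_orthogonality, one_mul]
    rw [Finset.sum_eq_single (1 : N)]
    · rw [OneMemClass.coe_one, if_pos (IsConj.refl _)]
      congr 2
      rw [show ({(1 : G)} : Set G) = {1} from rfl]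
      have : Subgroup.centralizer ({(1 : G)} : Set G) = ⊤ := by
        rw [eq_top_iff]; intro z _
        rw [Subgroup.mem_centralizer_singleton_iff]; simp
      rw [this, Subgroup.card_top]
    · intro n _ hn
      rw [if_neg (fun h => hn (Subtype.ext (isConj_one_left.mp h))), mul_zero]
    · simp
  -- the fixed ones
  have hterm : ∀ χ : IrrCharacter G,
      ∑ g : G, (χ : G → ℂ) (g ^ k) * conj ((χ : G → ℂ) g) =
        if (∀ g, (χ : G → ℂ) (g ^ k) = (χ : G → ℂ) g) then (Nat.card G : ℂ) else 0 := by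
    intro χ
    have h1 := H12.classInner_irr
      (⟨_, H25.isIrrCharacter_comp_pow χ.2 hk⟩ : IrrCharacter G) χ
    rw [H12.classInner_def, inv_mul_eq_iff_eq_mul₀ hG] at h1
    change ∑ g : G, (χ : G → ℂ) (g ^ k) * conj ((χ : G → ℂ) g) = _ at h1
    rw [h1]
    by_cases h : ∀ g, (χ : G → ℂ) (g ^ k) = (χ : G → ℂ) g
    · rw [if_pos (Subtype.ext (funext h)), if_pos h, mul_one]
    · rw [if_neg (fun h' => h (congrFun (congrArg Subtype.val h'))), if_neg h, mul_zero]
  have hout : ∀ g : G, g ∉ N → ∑ χ ∈ S, (χ : G → ℂ) (g ^ k) * conj ((χ : G → ℂ) g) = 0 := by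
    intro g hg
    apply mul_left_cancel₀ hNc
    rw [mul_zero, card_mul_sum_over N hθ hinv (g ^ k) g]
    simp only [H12.column_orthogonality]
    rw [Finset.sum_eq_zero, mul_zero]
    intro n _
    rw [if_neg, mul_zero]
    intro hc
    apply hg
    rw [← QuotientGroup.eq_one_iff]
    refine eq_one_of_isConj_inv_of_odd (by rw [← Subgroup.index_eq_card]; exact hodd) ?_
    have h2 := (QuotientGroup.mk' N).map_isConj hc.symm
    have h3 : QuotientGroup.mk' N (g ^ k * n) = (QuotientGroup.mk' N g)⁻¹ := by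
      rw [eq_inv_iff_mul_eq_one, ← map_mul]
      refine (QuotientGroup.eq_one_iff _).mpr ?_
      have : g ^ k * (n : G) * g = (g ^ k * g) * (g⁻¹ * (n : G) * g) := by group
      rw [this]
      refine N.mul_mem (hkinv g) ?_
      simpa using hN.conj_mem _ n.2 g⁻¹
    rw [h3] at h2
    exact h2
  have hin : ∀ χ ∈ S, ∀ n : N, (χ : G → ℂ) ((n : G) ^ k) = (χ : G → ℂ) n := by
    intro χ hχ n
    have h1 := res_eq_smul_of_invariant N hθ hinv χ (Finset.mem_filter.mp hχ).2
    have h2 := congrFun h1 (n ^ k)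
    have h3 := congrFun h1 n
    simp only [Pi.smul_apply, hfix, Subgroup.coe_pow] at h2 h3
    rw [h2, h3]
  have hN2 : ∀ χ ∈ S, (∑ n : N, (χ : G → ℂ) n * conj ((χ : G → ℂ) n)) * (θ 1 * conj (θ 1)) =
      (Nat.card N : ℂ) * ((χ : G → ℂ) 1 * conj ((χ : G → ℂ) 1)) := by
    intro χ hχ
    have h1 := res_eq_smul_of_invariant N hθ hinv χ (Finset.mem_filter.mp hχ).2
    set e := classInner (fun n : N => (χ : G → ℂ) n) θ
    have h3 : ∀ n : N, (χ : G → ℂ) n = e * θ n := fun n => congrFun h1 n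
    have h4 : ∑ n : N, θ n * conj (θ n) = (Nat.card N : ℂ) := by
      have := H12.classInner_irr_self (⟨θ, hθ⟩ : IrrCharacter N)
      rwa [H12.classInner_def, inv_mul_eq_iff_eq_mul₀ hNc, mul_one] at this
    have h5 : (χ : G → ℂ) 1 = e * θ 1 := by simpa using h3 1
    rw [h5, Finset.sum_congr rfl (fun n _ => by rw [h3 n]), map_mul]
    simp only [map_mul]
    rw [show ∑ n : N, e * θ n * (conj e * conj (θ n)) =
        e * conj e * ∑ n : N, θ n * conj (θ n) by
      rw [Finset.mul_sum]; exact Finset.sum_congr rfl fun n _ => by ring, h4]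
    ring
  have hsum : ∑ χ ∈ S, ∑ g : G, (χ : G → ℂ) (g ^ k) * conj ((χ : G → ℂ) g) = (Nat.card G : ℂ) := by
    rw [Finset.sum_comm, ← Finset.sum_filter_add_sum_filter_not Finset.univ (fun g : G => g ∈ N),
      Finset.sum_eq_zero (s := Finset.univ.filter fun g : G => ¬ g ∈ N)
        (fun g hg => hout g (Finset.mem_filter.mp hg).2), add_zero,
      Finset.sum_subtype _ (fun g => by simp) (p := fun g : G => g ∈ N), Finset.sum_comm]
    have hne : θ 1 * conj (θ 1) ≠ 0 := mul_ne_zero hθ1 (by simpa using hθ1)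
    apply mul_right_cancel₀ hne
    rw [Finset.sum_mul, mul_comm (Nat.card G : ℂ), ← hdeg, Finset.mul_sum]
    refine Finset.sum_congr rfl fun χ hχ => ?_
    rw [← hN2 χ hχ]
    congr 1
    exact Finset.sum_congr rfl fun n _ => by rw [hin χ hχ n]
  rw [Finset.sum_congr rfl fun χ _ => hterm χ, ← Finset.sum_filter, Finset.sum_const,
    nsmul_eq_mul, hS, Finset.filter_filter] at hsum
  have : ((Finset.univ.filter fun χ : IrrCharacter G =>
      classInner (fun n : N => (χ : G → ℂ) n) θ ≠ 0 ∧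
        ∀ g, (χ : G → ℂ) (g ^ k) = (χ : G → ℂ) g).card : ℂ) = 1 :=
    mul_right_cancel₀ hG (hsum.trans (one_mul _).symm)
  exact_mod_cast this

/-- The linear twists of a character with irreducible restriction to a normal subgroup with
commutative quotient. -/
theorem sum_lin_classInner [hc : IsMulCommutative (G ⧸ N)] (χ : G → ℂ) :
    ∑ l : IrrCharacter (G ⧸ N), classInner (fun g => χ g * (l : G ⧸ N → ℂ) g) χ =
      (Nat.card G : ℂ)⁻¹ * (N.index : ℂ) * ∑ n : N, χ n * conj (χ n) := by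
  classical
  simp only [H12.classInner_def]
  rw [← Finset.mul_sum, mul_assoc]
  congr 1
  rw [Finset.sum_comm]
  have key : ∀ g : G, ∑ l : IrrCharacter (G ⧸ N), χ g * (l : G ⧸ N → ℂ) g * conj (χ g) =
      if g ∈ N then (N.index : ℂ) * (χ g * conj (χ g)) else 0 := by
    intro g
    have h1 : ∀ l : IrrCharacter (G ⧸ N), χ g * (l : G ⧸ N → ℂ) g * conj (χ g) =
        ((l : G ⧸ N → ℂ) g * conj ((l : G ⧸ N → ℂ) 1)) * (χ g * conj (χ g)) := by
      intro l
      rw [H12.irr_apply_one_of_comm hc.is_comm.comm l, map_one]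
      ring
    haveI : Fintype (G ⧸ N) := Fintype.ofFinite _
    rw [Finset.sum_congr rfl fun l _ => h1 l, ← Finset.sum_mul, H12.column_orthogonality]
    by_cases hg : g ∈ N
    · rw [if_pos hg, if_pos (by rw [(QuotientGroup.eq_one_iff g).mpr hg])]
      congr 1
      have : Subgroup.centralizer ({(g : G ⧸ N)} : Set (G ⧸ N)) = ⊤ := by
        rw [eq_top_iff]; intro z _
        rw [Subgroup.mem_centralizer_singleton_iff]
        exact hc.is_comm.comm _ _
      rw [this, Subgroup.card_top, Subgroup.index_eq_card]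
    · rw [if_neg hg, if_neg (fun h => hg ((QuotientGroup.eq_one_iff g).mp (isConj_one_left.mp h))),
        zero_mul]
  rw [Finset.sum_congr rfl fun g _ => key g, ← Finset.sum_filter, ← Finset.mul_sum,
    Finset.sum_subtype _ (fun g => by simp) (p := fun g : G => g ∈ N)]

theorem lin_norm [hc : IsMulCommutative (G ⧸ N)] (l : IrrCharacter (G ⧸ N)) (g : G) :
    (l : G ⧸ N → ℂ) g * conj ((l : G ⧸ N → ℂ) g) = 1 := by
  obtain ⟨f, hf⟩ := H12.exists_monoidHom_of_apply_one_eq_one (H12.isCharacter_irr l)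
    (H12.irr_apply_one_of_comm hc.is_comm.comm l)
  have hval : ∀ z, (f z : ℂ) = (l : G ⧸ N → ℂ) z := fun z => congrFun hf z
  rw [← H12.irr_inv, ← hval, ← hval, map_inv, Units.mul_inv]

theorem mul_lin_irr [hc : IsMulCommutative (G ⧸ N)] (χ : IrrCharacter G)
    (l : IrrCharacter (G ⧸ N)) :
    IsIrrCharacter G (fun g => (χ : G → ℂ) g * (l : G ⧸ N → ℂ) g) := by
  refine H12.isIrrCharacter_of_classInner_self_eq_one
    (H12.IsCharacter.mul (H12.isCharacter_irr χ)
      (H12.IsCharacter.comp (H12.isCharacter_irr l) (QuotientGroup.mk' N))) ?_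
  rw [← H12.classInner_irr_self χ, H12.classInner_def, H12.classInner_def]
  congr 1
  refine Finset.sum_congr rfl fun g _ => ?_
  rw [map_mul]
  linear_combination ((χ : G → ℂ) g * conj ((χ : G → ℂ) g)) * lin_norm N l g

/-- Over an invariant character of a normal subgroup of prime index all characters are
extensions. -/
theorem res_eq_of_prime_index (hp : N.index.Prime) {θ : N → ℂ} (hθ : IsIrrCharacter N θ)
    (hinv : ∀ g, H13.twist N g θ = θ) (χ : IrrCharacter G)
    (hne : classInner (fun n : N => (χ : G → ℂ) n) θ ≠ 0) :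
    (fun n : N => (χ : G → ℂ) n) = θ := by
  classical
  haveI : Fact (Nat.card (G ⧸ N)).Prime := ⟨by rw [← Subgroup.index_eq_card]; exact hp⟩
  haveI : IsCyclic (G ⧸ N) := isCyclic_of_prime_card rfl
  haveI hc : IsMulCommutative (G ⧸ N) := inferInstance
  have h1 := res_eq_smul_of_invariant N hθ hinv χ hne
  obtain ⟨e, he⟩ := H12.IsCharacter.classInner_nat (H12.IsCharacter.res (H12.isCharacter_irr χ) N)
    (H12.isCharacter_of_isIrrCharacter hθ)
  rw [he] at h1 hne
  have hval : ∀ n : N, (χ : G → ℂ) n = (e : ℂ) * θ n := fun n => congrFun h1 n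
  have hG : (Nat.card G : ℂ) ≠ 0 := by exact_mod_cast Nat.card_pos.ne'
  have hNc : (Nat.card N : ℂ) ≠ 0 := by exact_mod_cast Nat.card_pos.ne'
  have hnorm : ∑ n : N, (χ : G → ℂ) n * conj ((χ : G → ℂ) n) = (e : ℂ) ^ 2 * (Nat.card N : ℂ) := by
    have h4 : ∑ n : N, θ n * conj (θ n) = (Nat.card N : ℂ) := by
      have := H12.classInner_irr_self (⟨θ, hθ⟩ : IrrCharacter N)
      rwa [H12.classInner_def, inv_mul_eq_iff_eq_mul₀ hNc, mul_one] at this
    rw [← h4, Finset.mul_sum]
    refine Finset.sum_congr rfl fun n _ => ?_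
    rw [hval, map_mul, Complex.conj_natCast]
    ring
  have hNG : (N.index : ℂ) * (Nat.card N : ℂ) = (Nat.card G : ℂ) := by
    rw [mul_comm]; exact_mod_cast N.card_mul_index
  have hsum : ((Finset.univ.filter fun l : IrrCharacter (G ⧸ N) =>
      (fun g : G => (χ : G → ℂ) g * (l : G ⧸ N → ℂ) g) = (χ : G → ℂ)).card : ℂ) = (e : ℂ) ^ 2 := by
    have h2 := sum_lin_classInner N (χ : G → ℂ)
    have h3 : ∀ l : IrrCharacter (G ⧸ N),
        classInner (fun g => (χ : G → ℂ) g * (l : G ⧸ N → ℂ) g) (χ : G → ℂ) =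
          if (fun g : G => (χ : G → ℂ) g * (l : G ⧸ N → ℂ) g) = (χ : G → ℂ) then 1 else 0 := by
      intro l
      have := H12.classInner_irr ⟨_, mul_lin_irr N χ l⟩ χ
      exact this.trans (if_congr Subtype.ext_iff rfl rfl)
    rw [Finset.sum_congr rfl fun l _ => h3 l, Finset.sum_boole, hnorm] at h2
    rw [h2]
    field_simp
    linear_combination hNG
  have hcard : Nat.card (IrrCharacter (G ⧸ N)) = N.index := by
    haveI : Fintype (G ⧸ N) := Fintype.ofFinite _
    rw [H12.card_irrCharacter, Subgroup.index_eq_card]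
    exact (Nat.card_eq_of_bijective ConjClasses.mk ⟨fun a b h => by
      obtain ⟨c, hcc⟩ := isConj_iff.mp (ConjClasses.mk_eq_mk_iff_isConj.mp h)
      rw [← hcc, hc.is_comm.comm c a, mul_inv_cancel_right], ConjClasses.mk_surjective⟩).symm
  have he1 : e = 1 := by
    by_contra hne1
    have he0 : e ≠ 0 := by rintro rfl; simp at hne
    have hcard2 : (Finset.univ.filter fun l : IrrCharacter (G ⧸ N) =>
      (fun g : G => (χ : G → ℂ) g * (l : G ⧸ N → ℂ) g) = (χ : G → ℂ)).card = e ^ 2 := by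
      exact_mod_cast hsum
    have h1lt : 1 < (Finset.univ.filter fun l : IrrCharacter (G ⧸ N) =>
      (fun g : G => (χ : G → ℂ) g * (l : G ⧸ N → ℂ) g) = (χ : G → ℂ)).card := by
      rw [hcard2]; exact Nat.one_lt_pow two_ne_zero (by omega)
    obtain ⟨l, hl, hl1⟩ := Finset.exists_mem_ne h1lt (H12.oneIrr (G ⧸ N))
    have hzero : ∀ g : G, g ∉ N → (χ : G → ℂ) g = 0 := by
      intro g hg
      by_contra h0
      have h2 : (χ : G → ℂ) g * (l : G ⧸ N → ℂ) g = (χ : G → ℂ) g :=
        congrFun (Finset.mem_filter.mp hl).2 g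
      have h3 : (l : G ⧸ N → ℂ) g = 1 := (mul_eq_left₀ h0).mp h2
      obtain ⟨f, hf⟩ := H12.exists_monoidHom_of_apply_one_eq_one (H12.isCharacter_irr l)
        (H12.irr_apply_one_of_comm hc.is_comm.comm l)
      apply hl1
      have hfg : f (g : G ⧸ N) = 1 := Units.ext (by rw [Units.val_one, ← h3]; exact congrFun hf _)
      have hker : f.ker = ⊤ := by
        rcases (Subgroup.eq_bot_or_eq_top_of_prime_card f.ker) with h | h
        · exfalso
          have : (g : G ⧸ N) ∈ f.ker := MonoidHom.mem_ker.mpr hfg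
          rw [h, Subgroup.mem_bot, QuotientGroup.eq_one_iff] at this
          exact hg this
        · exact h
      refine Subtype.ext (funext fun z => ?_)
      rw [H12.oneIrr_apply, ← congrFun hf z,
        MonoidHom.mem_ker.mp (hker ▸ Subgroup.mem_top z : z ∈ f.ker), Units.val_one]
    have h5 := H12.classInner_irr_self χ
    rw [H12.classInner_def, ← Finset.sum_filter_add_sum_filter_not Finset.univ (fun g : G => g ∈ N),
      Finset.sum_eq_zero (s := Finset.univ.filter fun g : G => ¬ g ∈ N)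
        (fun g hg => by rw [hzero g (Finset.mem_filter.mp hg).2, zero_mul]), add_zero,
      Finset.sum_subtype _ (fun g => by simp) (p := fun g : G => g ∈ N), hnorm,
      inv_mul_eq_iff_eq_mul₀ hG, mul_one, ← hNG] at h5
    have h6 : e ^ 2 = N.index := by exact_mod_cast mul_right_cancel₀ hNc h5
    rw [← h6] at hp
    exact (Nat.Prime.not_prime_pow le_rfl) hp
  funext n
  rw [hval, he1, Nat.cast_one, one_mul]

/-- The sum over a coset of the squared absolute value of an extension. -/
theorem sum_coset_norm [hc : IsMulCommutative (G ⧸ N)] (η : IrrCharacter G) {θ : N → ℂ}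
    (hθ : IsIrrCharacter N θ) (hres : (fun n : N => (η : G → ℂ) n) = θ) (g : G) :
    ∑ n : N, (η : G → ℂ) (g * n) * conj ((η : G → ℂ) (g * n)) = (Nat.card N : ℂ) := by
  classical
  haveI : Fintype (G ⧸ N) := Fintype.ofFinite _
  have hG : (Nat.card G : ℂ) ≠ 0 := by exact_mod_cast Nat.card_pos.ne'
  have hNc : (Nat.card N : ℂ) ≠ 0 := by exact_mod_cast Nat.card_pos.ne'
  have hidx : (N.index : ℂ) ≠ 0 := by exact_mod_cast Subgroup.index_ne_zero_of_finite
  have hNG : (N.index : ℂ) * (Nat.card N : ℂ) = (Nat.card G : ℂ) := by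
    rw [mul_comm]; exact_mod_cast N.card_mul_index
  have h4 : ∑ n : N, (η : G → ℂ) n * conj ((η : G → ℂ) n) = (Nat.card N : ℂ) := by
    have := H12.classInner_irr_self (⟨θ, hθ⟩ : IrrCharacter N)
    rw [H12.classInner_def, inv_mul_eq_iff_eq_mul₀ hNc, mul_one] at this
    rw [← this]
    refine Finset.sum_congr rfl fun n _ => ?_
    change _ = θ n * conj (θ n)
    rw [← congrFun hres n]
  have hδ : ∀ l : IrrCharacter (G ⧸ N), classInner (fun x => (η : G → ℂ) x * (l : G ⧸ N → ℂ) x)
      (η : G → ℂ) = if l = H12.oneIrr (G ⧸ N) then 1 else 0 := by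
    have hnat : ∀ l : IrrCharacter (G ⧸ N), ∃ m : ℕ,
        classInner (fun x => (η : G → ℂ) x * (l : G ⧸ N → ℂ) x) (η : G → ℂ) = m := fun l =>
      H12.IsCharacter.classInner_nat (H12.isCharacter_of_isIrrCharacter (mul_lin_irr N η l))
        (H12.isCharacter_irr η)
    choose m hm using hnat
    have htot : ∑ l, m l = 1 := by
      have h2 := sum_lin_classInner N (η : G → ℂ)
      rw [h4, mul_assoc, hNG, inv_mul_cancel₀ hG, Finset.sum_congr rfl fun l _ => hm l] at h2
      exact_mod_cast h2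
    have h1 : m (H12.oneIrr (G ⧸ N)) = 1 := by
      have h2 := hm (H12.oneIrr (G ⧸ N))
      simp only [H12.oneIrr_apply, mul_one] at h2
      rw [H12.classInner_irr_self] at h2
      exact_mod_cast h2.symm
    intro l
    rw [hm]
    split_ifs with h
    · rw [h, h1, Nat.cast_one]
    · rw [← Finset.add_sum_erase _ _ (Finset.mem_univ (H12.oneIrr (G ⧸ N))), h1] at htot
      have h2 : ∑ l ∈ Finset.univ.erase (H12.oneIrr (G ⧸ N)), m l = 0 := by omega
      rw [Finset.sum_eq_zero_iff.mp h2 l (Finset.mem_erase.mpr ⟨h, Finset.mem_univ l⟩),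
        Nat.cast_zero]
  have hA : ∑ l : IrrCharacter (G ⧸ N), conj ((l : G ⧸ N → ℂ) g) *
      (∑ x : G, (η : G → ℂ) x * (l : G ⧸ N → ℂ) x * conj ((η : G → ℂ) x)) = (Nat.card G : ℂ) := by
    have hl : ∀ l : IrrCharacter (G ⧸ N),
        ∑ x : G, (η : G → ℂ) x * (l : G ⧸ N → ℂ) x * conj ((η : G → ℂ) x) =
          if l = H12.oneIrr (G ⧸ N) then (Nat.card G : ℂ) else 0 := by
      intro l
      have := hδ l
      rw [H12.classInner_def, inv_mul_eq_iff_eq_mul₀ hG, mul_ite, mul_one, mul_zero] at this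
      exact this
    rw [Finset.sum_congr rfl fun l _ => by rw [hl l], Finset.sum_eq_single (H12.oneIrr (G ⧸ N))]
    · rw [if_pos rfl, H12.oneIrr_apply, map_one, one_mul]
    · intro l _ hl'; rw [if_neg hl', mul_zero]
    · simp
  have hB : ∑ l : IrrCharacter (G ⧸ N), conj ((l : G ⧸ N → ℂ) g) *
      (∑ x : G, (η : G → ℂ) x * (l : G ⧸ N → ℂ) x * conj ((η : G → ℂ) x)) =
      (N.index : ℂ) * ∑ n : N, (η : G → ℂ) (g * n) * conj ((η : G → ℂ) (g * n)) := by
    simp only [Finset.mul_sum]
    rw [Finset.sum_comm]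
    have key : ∀ x : G, ∑ l : IrrCharacter (G ⧸ N),
        conj ((l : G ⧸ N → ℂ) g) * ((η : G → ℂ) x * (l : G ⧸ N → ℂ) x * conj ((η : G → ℂ) x)) =
        if g⁻¹ * x ∈ N then (N.index : ℂ) * ((η : G → ℂ) x * conj ((η : G → ℂ) x)) else 0 := by
      intro x
      rw [Finset.sum_congr rfl (g := fun l : IrrCharacter (G ⧸ N) =>
        ((l : G ⧸ N → ℂ) x * conj ((l : G ⧸ N → ℂ) g)) * ((η : G → ℂ) x * conj ((η : G → ℂ) x)))
        (fun l _ => by ring), ← Finset.sum_mul, H12.column_orthogonality]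
      have hiff : IsConj (x : G ⧸ N) (g : G ⧸ N) ↔ g⁻¹ * x ∈ N := by
        rw [← QuotientGroup.eq]
        constructor
        · intro h
          obtain ⟨c, hcc⟩ := isConj_iff.mp h
          rw [hc.is_comm.comm c, mul_inv_cancel_right] at hcc
          exact hcc.symm
        · rintro h; rw [h]
      by_cases hx : g⁻¹ * x ∈ N
      · rw [if_pos hx, if_pos (hiff.mpr hx)]
        congr 1
        have : Subgroup.centralizer ({(x : G ⧸ N)} : Set (G ⧸ N)) = ⊤ := by
          rw [eq_top_iff]; intro z _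
          rw [Subgroup.mem_centralizer_singleton_iff]
          exact hc.is_comm.comm _ _
        rw [this, Subgroup.card_top, Subgroup.index_eq_card]
      · rw [if_neg hx, if_neg (hiff.not.mpr hx), zero_mul]
    rw [Finset.sum_congr rfl fun x _ => key x, ← Finset.sum_filter]
    refine Finset.sum_bij' (fun x hx => ⟨g⁻¹ * x, (Finset.mem_filter.mp hx).2⟩)
      (fun n _ => g * (n : G)) (fun _ _ => Finset.mem_univ _) (fun n _ => by simp)
      (fun _ _ => by simp) (fun _ _ => by simp) (fun x _ => by simp)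
  exact mul_left_cancel₀ hidx ((hB.symm.trans hA).trans hNG.symm)

end PartA

theorem exists_normal_index_prime (E : Type u) [Group E] [Finite E] [Nontrivial E]
    [Group.IsSolvable E] : ∃ F : Subgroup E, F.Normal ∧ F.index.Prime := by
  have hlt : commutator E < ⊤ := by
    haveI : Fact (1 < Nat.card E) := ⟨Finite.one_lt_card⟩
    have h := Group.IsSolvable.commutator_lt_of_ne_bot (H := (⊤ : Subgroup E)) top_ne_bot
    simpa [commutator_def] using h
  obtain ⟨F, hF, hle⟩ := (eq_top_or_exists_le_coatom (commutator E)).resolve_left hlt.ne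
  have hFn : F.Normal := ⟨fun x hx g => by
    have h1 : ⁅g, x⁆ ∈ F := hle (Subgroup.commutator_mem_commutator (Subgroup.mem_top g) (Subgroup.mem_top x))
    simpa [commutatorElement_def] using F.mul_mem h1 hx⟩
  refine ⟨F, hFn, ?_⟩
  haveI : IsMulCommutative (E ⧸ F) := Subgroup.Normal.quotient_commutative_iff_commutator_le.mpr hle
  haveI : IsSimpleGroup (E ⧸ F) := by
    haveI : Nontrivial (E ⧸ F) := by
      rw [← Finite.one_lt_card_iff_nontrivial, ← Subgroup.index_eq_card]
      exact lt_of_le_of_ne (Nat.one_le_iff_ne_zero.mpr Subgroup.index_ne_zero_of_finite)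
        (fun h => hF.1 (Subgroup.index_eq_one.mp h.symm))
    refine ⟨fun H _ => ?_⟩
    rcases hF.le_iff.mp (le_trans (le_of_eq (QuotientGroup.ker_mk' F).symm)
      (MonoidHom.ker_le_comap _ H)) with h | h
    · right
      rw [← Subgroup.map_comap_eq_self_of_surjective (QuotientGroup.mk'_surjective F) H, h,
        Subgroup.map_top_of_surjective _ (QuotientGroup.mk'_surjective F)]
    · left
      rw [← Subgroup.map_comap_eq_self_of_surjective (QuotientGroup.mk'_surjective F) H, h,
        QuotientGroup.map_mk'_self]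
  rw [Subgroup.index_eq_card]
  letI : CommGroup (E ⧸ F) := { (inferInstance : Group (E ⧸ F)) with
    mul_comm := fun a b => (inferInstance : IsMulCommutative (E ⧸ F)).is_comm.comm a b }
  exact IsSimpleGroup.prime_card

/-- A character with irreducible restriction is irreducible. -/
theorem irr_of_comp_irr {H K : Type u} [Group H] [Group K] [Finite H] [Finite K] (ι : H →* K)
    {r : K → ℂ} (hr : IsCharacter K r) {θ : H → ℂ} (hθ : IsIrrCharacter H θ) (hres : r ∘ ι = θ) :
    IsIrrCharacter K r := by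
  classical
  cases nonempty_fintype H
  cases nonempty_fintype K
  obtain ⟨m, hm⟩ := H12.IsCharacter.exists_mult hr
  have hr1 : r 1 = θ 1 := by rw [← hres]; simp
  have hr0 : r ≠ 0 := fun h => H12.irr_apply_one_ne_zero ⟨θ, hθ⟩ (by
    change θ 1 = 0; rw [← hr1, h]; rfl)
  obtain ⟨φ, hφ⟩ : ∃ φ : IrrCharacter K, classInner r (φ : K → ℂ) ≠ 0 := by
    by_contra h
    push Not at h
    exact hr0 (H12.eq_zero_of_classInner_irr_eq_zero (H12.IsCharacter.isClassFunction hr) h)
  set rest := r - (φ : K → ℂ) with hrest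
  have hrestc : IsCharacter K rest := H13.isCharacter_sub_irr hr φ.2 hφ
  have hφc := H12.IsCharacter.comp (H12.isCharacter_irr φ) ι
  have hrc := H12.IsCharacter.comp hrestc ι
  have hsum : θ = ((φ : K → ℂ) ∘ ι) + (rest ∘ ι) := by
    rw [← hres]; funext z; simp [hrest]
  have key : ∀ ψ : IrrCharacter H, ψ ≠ ⟨θ, hθ⟩ →
      classInner ((φ : K → ℂ) ∘ ι) ψ = 0 ∧ classInner (rest ∘ ι) ψ = 0 := by
    intro ψ hψ
    obtain ⟨a, ha⟩ := H12.IsCharacter.classInner_nat hφc (H12.isCharacter_irr ψ)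
    obtain ⟨b, hb⟩ := H12.IsCharacter.classInner_nat hrc (H12.isCharacter_irr ψ)
    have h0 := H12.classInner_irr_ne hψ.symm
    change classInner θ (ψ : H → ℂ) = 0 at h0
    rw [hsum, H12.classInner_add_left, ha, hb] at h0
    have : a + b = 0 := by exact_mod_cast h0
    rw [ha, hb]
    constructor <;> norm_cast <;> omega
  obtain ⟨a, ha⟩ := H12.IsCharacter.classInner_nat hφc (H12.isCharacter_of_isIrrCharacter hθ)
  obtain ⟨b, hb⟩ := H12.IsCharacter.classInner_nat hrc (H12.isCharacter_of_isIrrCharacter hθ)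
  have hab : a + b = 1 := by
    have h1 := H12.classInner_irr_self (⟨θ, hθ⟩ : IrrCharacter H)
    change classInner θ θ = 1 at h1
    conv_lhs at h1 => arg 1; rw [hsum]
    rw [H12.classInner_add_left, ha, hb] at h1
    exact_mod_cast h1
  have ha0 : a ≠ 0 := by
    intro h0
    have h1 : (φ : K → ℂ) ∘ ι = 0 := H12.eq_zero_of_classInner_irr_eq_zero
      (H12.IsCharacter.isClassFunction hφc) (fun ψ => by
        by_cases h : ψ = ⟨θ, hθ⟩
        · subst h; exact ha.trans (by rw [h0, Nat.cast_zero])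
        · exact (key ψ h).1)
    apply H12.irr_apply_one_ne_zero φ
    have := congrFun h1 1
    simpa using this
  have hb0 : b = 0 := by omega
  have h2 : rest ∘ ι = 0 := H12.eq_zero_of_classInner_irr_eq_zero
    (H12.IsCharacter.isClassFunction hrc) (fun ψ => by
      by_cases h : ψ = ⟨θ, hθ⟩
      · subst h; exact hb.trans (by rw [hb0, Nat.cast_zero])
      · exact (key ψ h).2)
  have h3 : rest = 0 := H13.eq_zero_of_apply_one hrestc (by simpa using congrFun h2 1)
  rw [hrest, sub_eq_zero] at h3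
  rw [h3]
  exact φ.2

end H18
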