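import Mathlib.GroupTheory.Sylow
import Mathlib.GroupTheory.SpecificGroups.Cyclic

set_option autoImplicit false
open scoped Pointwise

namespace H18

variable {G : Type*} [Group G]

theorem mem_conj_smul {g x : G} {P : Subgroup G} :
    x ∈ MulAut.conj g • P ↔ g⁻¹ * x * g ∈ P := by
  rw [Subgroup.mem_pointwise_smul_iff_inv_smul_mem]
  simp [mul_assoc]

theorem mem_normalizer_iff_conj_smul {g : G} {P : Subgroup G} :
    g ∈ Subgroup.normalizer (P : Set G) ↔ MulAut.conj g • P = P := by
  rw [Subgroup.mem_normalizer_iff_map_conj_eq]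
  rfl

theorem inf_normalizes {g : G} {P Q : Subgroup G} (hQ : Q ≤ P)
    (hg : MulAut.conj g • Q ≤ P) : MulAut.conj g • Q ≤ P ⊓ MulAut.conj g • P :=
  le_inf hg (Subgroup.pointwise_smul_le_pointwise_smul_iff.mpr hQ)

theorem conj_smul_card (g : G) (P : Subgroup G) :
    Nat.card ↥(MulAut.conj g • P) = Nat.card P :=
  Nat.card_congr (Subgroup.equivSMul (MulAut.conj g) P).symm.toEquiv

theorem cyclic_subgroup_eq_of_card_eq [Finite G] [IsCyclic G] {A B : Subgroup G}
    (h : Nat.card A = Nat.card B) : A = B := by
  classical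
  cases nonempty_fintype G
  have key : ∀ C : Subgroup G, Nat.card C = Nat.card A →
      (C : Set G).toFinset = ({x | x ^ Nat.card A = 1} : Finset G) := by
    intro C hC
    apply Finset.eq_of_subset_of_card_le
    · intro x hx
      simp only [Set.mem_toFinset, SetLike.mem_coe] at hx
      simp only [Finset.mem_filter, Finset.mem_univ, true_and]
      rw [← hC]
      exact congrArg Subtype.val (pow_card_eq_one' (x := (⟨x, hx⟩ : C)))
    · refine le_trans (IsCyclic.card_pow_eq_one_le Nat.card_pos) (le_of_eq ?_)
      rw [Set.toFinset_card, ← hC, Nat.card_eq_fintype_card]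
      rfl
  exact SetLike.coe_injective (Set.toFinset_inj.mp ((key A rfl).trans (key B h.symm).symm))

end H18
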