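import Cfsg.Agent.H18.RootsIdentity
import Cfsg.Agent.H12.Basic

/-!
Consequences of a quadratic identity for a character of degree `p - 1`: elements of odd prime order
commuting with an involution, and elements of order four, do not occur.
-/

set_option autoImplicit false

open Cfsg

namespace H18

universe u

variable {G : Type u} [Group G] [Finite G]

theorem exists_roots {χ : G → ℂ} (hχ : IsCharacter G χ) (y : G) (N : ℕ) (hy : y ^ N = 1) :
    ∃ (n : ℕ) (z : Fin n → ℂ), (∀ i, z i ^ N = 1) ∧ ∀ k, χ (y ^ k) = ∑ i, z i ^ k := by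
  obtain ⟨n, ρ, rfl⟩ := hχ
  obtain ⟨μ, h1, h2, -⟩ := H12.exists_char_eigenvalues ρ y
  refine ⟨_, μ, fun i => ?_, h2⟩
  obtain ⟨c, hc⟩ := orderOf_dvd_of_pow_eq_one hy
  rw [hc, pow_mul, h1 i, one_pow]

theorem no_odd_commuting {χ : G → ℂ} (hχ : IsCharacter G χ) (m : ℕ) (hm : 3 ≤ m)
    (hd : χ 1 = ((2 * m : ℕ) : ℂ)) (hfaith : ∀ g, χ g = χ 1 → g = 1) (i g : G) (r : ℕ)
    (hr : r.Prime) (hr2 : r ≠ 2) (hi : i * i = 1) (hχi : χ i = 0) (hg : g ^ r = 1)
    (hcomm : g * i = i * g)
    (hid : ∀ k, ¬ r ∣ k → ∀ y, (y = g ^ k ∨ y = i * g ^ k) →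
      χ y * χ y - χ (y * y) = ((2 * m : ℕ) : ℂ) * (χ y - 1)) : g = 1 := by
  classical
  obtain ⟨q, hq⟩ : ∃ q, r = 2 * q + 1 := hr.odd_of_ne_two hr2
  have hc : Commute i g := hcomm.symm
  have hie : ∀ c, i ^ (2 * c) = 1 := fun c => by rw [pow_mul, pow_two, hi, one_pow]
  set y := i * g with hydef
  have hy : y ^ (2 * r) = 1 := by
    rw [hydef, hc.mul_pow, hie, one_mul, mul_comm 2 r, pow_mul, hg, one_pow]
  have hyr : y ^ r = i := by
    rw [hydef, hc.mul_pow, hg, mul_one, hq, pow_succ, hie, one_mul]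
  have hy1 : y ^ (r + 1) = g := by
    rw [hydef, hc.mul_pow, show r + 1 = 2 * (q + 1) by omega, hie, one_mul,
      show 2 * (q + 1) = r + 1 by omega, pow_succ, hg, one_mul]
  obtain ⟨n, z, hz, hzv⟩ := exists_roots hχ y (2 * r) hy
  have hn : n = 2 * m := by
    have h := hzv 0
    simp only [pow_zero, Finset.sum_const, Finset.card_univ, Fintype.card_fin, nsmul_eq_mul,
      mul_one] at h
    rw [hd] at h
    exact_mod_cast h.symm
  have hsgn : ∀ j, z j ^ r = 1 ∨ z j ^ r = -1 := fun j =>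
    mul_self_eq_one_iff.mp (by rw [← pow_add, ← two_mul]; exact hz j)
  have hcnt : Fintype.card {j // z j ^ r = 1} = m ∧ Fintype.card {j // ¬ z j ^ r = 1} = m := by
    have h := hzv r
    rw [hyr, hχi, ← Fintype.sum_subtype_add_sum_subtype (fun j => z j ^ r = 1) (fun j => z j ^ r),
      Finset.sum_congr rfl (fun (j : {j // z j ^ r = 1}) _ => j.2),
      Finset.sum_congr rfl (fun (j : {j // ¬ z j ^ r = 1}) _ => (hsgn j).resolve_left j.2)] at h
    simp only [Finset.sum_const, nsmul_eq_mul, mul_one, mul_neg, Finset.card_univ] at h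
    have h2 := Fintype.card_subtype_compl (fun j => z j ^ r = 1)
    have h3 := Fintype.card_subtype_le (fun j => z j ^ r = 1)
    rw [Fintype.card_fin] at h2 h3
    have h4 : (Fintype.card {j // z j ^ r = 1} : ℂ) =
        (Fintype.card {j // ¬ z j ^ r = 1} : ℂ) := by linear_combination -h
    rw [Nat.cast_inj] at h4
    omega
  have hw : ∀ j : {j // z j ^ r = 1}, z j ^ r = 1 := fun j => j.2
  have hv : ∀ j : {j // ¬ z j ^ r = 1}, (-z j) ^ r = 1 := fun j => by
    rw [Odd.neg_pow ⟨q, hq⟩, (hsgn j).resolve_left j.2, neg_neg]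
  have hev : ∀ (x : ℂ) k, (-x) ^ (k * (r + 1)) = x ^ (k * (r + 1)) := fun x k =>
    Even.neg_pow (Even.mul_left ⟨q + 1, by omega⟩ k) x
  have hred : ∀ x : ℂ, x ^ r = 1 → ∀ k, x ^ (k * (r + 1)) = x ^ k := fun x hx k => by
    rw [mul_comm, pow_mul, pow_succ, hx, one_mul]
  have hval1 : ∀ k, χ (g ^ k) = ∑ j : {j // z j ^ r = 1}, z j ^ k +
      ∑ j : {j // ¬ z j ^ r = 1}, (-z j) ^ k := by
    intro k
    rw [← hy1, ← pow_mul, mul_comm (r + 1), hzv,
      ← Fintype.sum_subtype_add_sum_subtype (fun j => z j ^ r = 1)]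
    refine congrArg₂ _ (Finset.sum_congr rfl fun j _ => hred _ j.2 k)
      (Finset.sum_congr rfl fun j _ => ?_)
    rw [← hev, hred _ (hv j)]
  have hval2 : ∀ k, χ (i * g ^ k) = ∑ j : {j // z j ^ r = 1}, z j ^ k -
      ∑ j : {j // ¬ z j ^ r = 1}, (-z j) ^ k := by
    intro k
    have e : i * g ^ k = y ^ (r + k * (r + 1)) := by
      rw [pow_add, hyr, mul_comm k, pow_mul, hy1]
    rw [e, hzv, ← Fintype.sum_subtype_add_sum_subtype (fun j => z j ^ r = 1), sub_eq_add_neg,
      ← Finset.sum_neg_distrib]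
    refine congrArg₂ _ (Finset.sum_congr rfl fun j _ => ?_)
      (Finset.sum_congr rfl fun j _ => ?_)
    · rw [pow_add, j.2, one_mul, hred _ j.2]
    · rw [pow_add, (hsgn j).resolve_left j.2, neg_one_mul, ← hev, hred _ (hv j)]
  obtain ⟨hw1, hv1⟩ := roots_trivial hr hr2 hm hcnt.1 hcnt.2
    (fun j : {j // z j ^ r = 1} => z j) (fun j : {j // ¬ z j ^ r = 1} => -z j) hw hv
    (fun k hk => by
      have hsq : i * g ^ k * (i * g ^ k) = g ^ (2 * k) := by
        have hck : g ^ k * i = i * g ^ k := (hc.pow_right k).symm.eq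
        rw [two_mul, pow_add, mul_assoc i, ← mul_assoc (g ^ k) i, hck, mul_assoc i, ← mul_assoc i i,
          hi, one_mul]
      refine ⟨?_, ?_⟩
      · have h := hid k hk _ (.inl rfl)
        rw [← pow_add, ← two_mul, hval1, hval1] at h
        push_cast at h
        linear_combination h
      · have h := hid k hk _ (.inr rfl)
        rw [hsq, hval2, hval1] at h
        push_cast at h
        linear_combination h)
  apply hfaith
  have h := hval1 1
  rw [pow_one] at h
  rw [h, hd]
  simp only [pow_one, hw1, hv1, Finset.sum_const, Finset.card_univ, hcnt.1, hcnt.2, nsmul_eq_mul,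
    mul_one]
  push_cast
  ring

theorem no_order_four {χ : G → ℂ} (hχ : IsCharacter G χ) (p : ℕ) (hp : 5 < p) (g : G)
    (hg : g ^ 4 = 1) (hχi : χ (g * g) = 0)
    (hid : χ g * χ g - χ (g * g) = ((p : ℂ) - 1) * (χ g - 1)) : False := by
  obtain ⟨n, z, hz, hzv⟩ := exists_roots hχ g 4 hg
  rw [hχi, sub_zero] at hid
  have ht : χ g = ∑ i, z i := by simpa using hzv 1
  obtain ⟨N, hN⟩ : ∃ N : ℤ, (χ g).re = (N : ℝ) := by
    have h : ∀ i, ∃ N : ℤ, (z i).re = (N : ℝ) := by
      intro i
      have h4 : (z i ^ 2 - 1) * (z i ^ 2 + 1) = 0 := by linear_combination hz i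
      rcases mul_eq_zero.mp h4 with h | h
      · rcases sq_eq_one_iff.mp (sub_eq_zero.mp h) with h' | h'
        · exact ⟨1, by simp [h']⟩
        · exact ⟨-1, by simp [h']⟩
      · have : (z i - Complex.I) * (z i + Complex.I) = 0 := by
          linear_combination h - Complex.I_mul_I
        rcases mul_eq_zero.mp this with h' | h'
        · exact ⟨0, by simp [sub_eq_zero.mp h']⟩
        · exact ⟨0, by simp [eq_neg_of_add_eq_zero_left h']⟩
    choose f hf using h
    exact ⟨∑ i, f i, by rw [ht, Complex.re_sum]; push_cast; exact Finset.sum_congr rfl fun i _ => hf i⟩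
  have hre := congrArg Complex.re hid
  have him := congrArg Complex.im hid
  simp only [Complex.mul_re, Complex.mul_im, Complex.sub_re, Complex.sub_im, Complex.one_re,
    Complex.one_im, Complex.natCast_re, Complex.natCast_im, sub_zero, zero_mul, add_zero] at hre him
  have hp' : (6 : ℝ) ≤ p := by exact_mod_cast hp
  have him0 : (χ g).im = 0 := by
    by_contra hne
    have h1 : 2 * (χ g).re = (p : ℝ) - 1 := mul_right_cancel₀ hne (by linear_combination him)
    nlinarith [mul_self_pos.mpr hne]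
  rw [him0, hN] at hre
  simp only [mul_zero, sub_zero] at hre
  have h2 : N * N = ((p : ℤ) - 1) * (N - 1) := by exact_mod_cast hre
  have h3 : (N - 1) * ((p : ℤ) - 1 - (N + 1)) = 1 := by linear_combination -h2
  rcases Int.eq_one_or_neg_one_of_mul_eq_one h3 with h | h <;> rw [h] at h3 <;> omega

end H18
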