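import Mathlib.GroupTheory.Sylow
import Cfsg.Agent.H18.Basic

/-!
When does a Sylow `p`-subgroup normalize a Sylow `q`-subgroup?
-/

set_option autoImplicit false
open scoped Pointwise

namespace H18

variable {G : Type*} [Group G] [Finite G] {p q : ℕ} [hp : Fact p.Prime] [hq : Fact q.Prime]

theorem exists_sylow_le_of_not_dvd_index (H : Subgroup G) (h : ¬ p ∣ H.index) :
    ∃ P : Sylow p G, (P : Subgroup G) ≤ H := by
  obtain ⟨R⟩ : Nonempty (Sylow p H) := inferInstance
  have hidx : ¬ p ∣ ((R : Subgroup H).map H.subtype).index := by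
    rw [Subgroup.index_map_subtype]
    exact hp.out.not_dvd_mul R.not_dvd_index h
  exact ⟨(R.isPGroup'.map H.subtype).toSylow hidx,
    le_of_eq_of_le (IsPGroup.toSylow_coe _ hidx) (Subgroup.map_subtype_le _)⟩

theorem exists_normalizes_iff :
    (∃ (P : Sylow p G) (Q : Sylow q G),
      (P : Subgroup G) ≤ Subgroup.normalizer ((Q : Subgroup G) : Set G)) ↔
      ¬ p ∣ Nat.card (Sylow q G) := by
  constructor
  · rintro ⟨P, Q, h⟩ hd
    rw [Q.card_eq_index_normalizer] at hd
    exact P.not_dvd_index (hd.trans (Subgroup.index_dvd_of_le h))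
  · intro h
    obtain ⟨Q⟩ : Nonempty (Sylow q G) := inferInstance
    rw [Q.card_eq_index_normalizer] at h
    obtain ⟨P, hP⟩ := exists_sylow_le_of_not_dvd_index (p := p) _ h
    exact ⟨P, Q, hP⟩

/-- Counting Sylow subgroups along a normal subgroup. -/
theorem card_sylow_eq_mul (N : Subgroup G) [N.Normal] (Q : Sylow q G) :
    Nat.card (Sylow q G) = Nat.card (Sylow q (G ⧸ N)) *
      (Subgroup.normalizer ((Q : Subgroup G) : Set G)).relIndex N := by
  set π := QuotientGroup.mk' N
  have hπ : Function.Surjective π := QuotientGroup.mk'_surjective N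
  set M := (Subgroup.normalizer (((Q : Subgroup G).map π : Subgroup (G ⧸ N)) : Set (G ⧸ N))).comap π
    with hM
  set NQ := Subgroup.normalizer ((Q : Subgroup G) : Set G) with hNQ
  have hle : NQ ⊔ N ≤ M := by
    refine sup_le ?_ ?_
    · rw [hM, ← Subgroup.map_le_iff_le_comap]
      exact Subgroup.le_normalizer_map π
    · intro n hn
      rw [hM, Subgroup.mem_comap,
        show π n = 1 from (QuotientGroup.eq_one_iff n).mpr hn]
      exact Subgroup.one_mem _
  have hge : M ≤ NQ ⊔ N := by
    intro g hg
    set K := (Q : Subgroup G) ⊔ N with hK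
    have hcK : ((Q : Subgroup G).map π).comap π = K := by
      rw [Subgroup.comap_map_eq, QuotientGroup.ker_mk']
    have hQK : (Q : Subgroup G) ≤ K := le_sup_left
    have hgQ : MulAut.conj g • (Q : Subgroup G) ≤ K := by
      intro y hy
      rw [mem_conj_smul] at hy
      rw [← hcK, Subgroup.mem_comap]
      rw [hM, Subgroup.mem_comap, Subgroup.mem_normalizer_iff] at hg
      have := (hg (π (g⁻¹ * y * g))).mp ⟨_, hy, rfl⟩
      simpa [mul_assoc] using this
    obtain ⟨k, hk⟩ := MulAction.exists_smul_eq K ((g • Q).subtype hgQ) (Q.subtype hQK)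
    have hmem : ((k : G) * g) ∈ NQ := by
      rw [hNQ, mem_normalizer_iff_conj_smul]
      have h1 : k • ((g • Q).subtype hgQ) = ((k : G) • (g • Q)).subtype
          (by exact (Sylow.smul_le hgQ k)) := Sylow.smul_subtype hgQ k
      rw [h1] at hk
      have h2 := Sylow.subtype_injective hk
      rw [← mul_smul] at h2
      exact congrArg (fun R : Sylow q G => (R : Subgroup G)) h2
    have h3 : g = (k : G)⁻¹ * ((k : G) * g) := by simp
    rw [h3]
    refine Subgroup.mul_mem _ ?_ (Subgroup.mem_sup_left hmem)
    exact sup_le (Subgroup.le_normalizer.trans le_sup_left) le_sup_right (K.inv_mem k.2)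
  have hMeq : M = NQ ⊔ N := le_antisymm hge hle
  rw [Q.card_eq_index_normalizer, (Q.mapSurjective hπ).card_eq_index_normalizer]
  have h4 : (Subgroup.normalizer (((Q : Subgroup G).map π : Subgroup (G ⧸ N)) : Set (G ⧸ N))).index
      = M.index := (Subgroup.index_comap_of_surjective _ hπ).symm
  change NQ.index = (Subgroup.normalizer
    (((Q : Subgroup G).map π : Subgroup (G ⧸ N)) : Set (G ⧸ N))).index * _
  rw [h4, hMeq, ← Subgroup.relIndex_mul_index (le_sup_left : NQ ≤ NQ ⊔ N), mul_comm]
  congr 1
  -- `[NQ N : NQ] = [N : N ∩ NQ]`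
  have e1 := Subgroup.relIndex_mul_relIndex (NQ ⊓ N) NQ (NQ ⊔ N) inf_le_left le_sup_left
  have e2 := Subgroup.relIndex_mul_relIndex (NQ ⊓ N) N (NQ ⊔ N) inf_le_right le_sup_right
  rw [Subgroup.inf_relIndex_left, ← e2, Subgroup.inf_relIndex_right, Subgroup.relIndex_sup_right,
    mul_comm] at e1
  exact mul_right_cancel₀ Subgroup.index_ne_zero_of_finite e1

theorem relIndex_dvd_index_of_normal' (C N : Subgroup G) [N.Normal] :
    C.relIndex N ∣ C.index := by
  have e1 := Subgroup.relIndex_mul_relIndex (C ⊓ N) C (C ⊔ N) inf_le_left le_sup_left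
  have e2 := Subgroup.relIndex_mul_relIndex (C ⊓ N) N (C ⊔ N) inf_le_right le_sup_right
  rw [Subgroup.inf_relIndex_left, ← e2, Subgroup.inf_relIndex_right, Subgroup.relIndex_sup_right,
    mul_comm] at e1
  rw [← mul_right_cancel₀ Subgroup.index_ne_zero_of_finite e1]
  exact Dvd.intro _ (Subgroup.relIndex_mul_index le_sup_left)

/-- If each element of the `q`-group `Q` centralizes a Sylow `p`-subgroup of the normal
`q'`-subgroup `N` then `Q` centralizes one of them. -/
theorem exists_centralized_sylow (N : Subgroup G) [N.Normal] (hN : ¬ q ∣ Nat.card N)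
    (Q : Subgroup G) (hQ : IsPGroup q Q)
    (h : ∀ y ∈ Q, ¬ p ∣ (Subgroup.centralizer ({y} : Set G)).relIndex N) :
    ∃ P0 : Sylow p N, (P0 : Subgroup N).map N.subtype ≤ Subgroup.centralizer (Q : Set G) := by
  letI act : MulDistribMulAction Q N :=
    MulDistribMulAction.compHom N ((ConjAct.toConjAct : G ≃* ConjAct G).toMonoidHom.comp Q.subtype)
  have hndvd : ¬ q ∣ Nat.card (Sylow p N) := by
    obtain ⟨R⟩ : Nonempty (Sylow p N) := inferInstance
    exact fun h' => hN (h'.trans (R.card_eq_index_normalizer ▸ Subgroup.index_dvd_card _))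
  obtain ⟨P0, hP0⟩ := hQ.nonempty_fixed_point_of_prime_not_dvd_card (Sylow p N) hndvd
  refine ⟨P0, ?_⟩
  intro z hz
  rw [Subgroup.mem_centralizer_iff]
  intro y hy
  set C := (Subgroup.centralizer ({y} : Set G)).subgroupOf N with hC
  obtain ⟨P2, hP2⟩ := exists_sylow_le_of_not_dvd_index (p := p) C (h y hy)
  let y' : Q := ⟨y, hy⟩
  let S : SubMulAction (Subgroup.zpowers y') N :=
    { carrier := {c : N | c • P2 = P0}
      smul_mem' := fun g c hc => by
        obtain ⟨g, hg⟩ := g
        change ((g • c : N)) • P2 = P0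
        have hgP : g • P2 = P2 := by
          refine Sylow.ext (Subgroup.eq_of_le_of_card_ge ?_ (le_of_eq ?_))
          · rintro _ ⟨w, hw, rfl⟩
            have hwC := hP2 hw
            rw [hC, Subgroup.mem_subgroupOf, Subgroup.mem_centralizer_singleton_iff] at hwC
            obtain ⟨i, rfl⟩ := hg
            have : (y' ^ i) • w = w := by
              apply Subtype.ext
              change ((y' ^ i : Q) : G) * (w : G) * ((y' ^ i : Q) : G)⁻¹ = (w : G)
              rw [Subgroup.coe_zpow, mul_inv_eq_iff_eq_mul]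
              exact (Commute.zpow_left (show Commute y (w : G) from hwC.symm) i).eq
            change (y' ^ i : Q) • w ∈ (P2 : Subgroup N)
            rw [this]; exact hw
          · exact Nat.card_congr ((Subgroup.equivMapOfInjective _ _
              (MulAction.injective g : Function.Injective (fun a : N => g • a))).toEquiv)
        have hgP0 : g • P0 = P0 := hP0 g
        have key : (g • c : N) • (g • P2) = g • (c • P2) := by
          apply Sylow.ext
          rw [Sylow.coe_subgroup_smul, Sylow.pointwise_smul_def, Sylow.pointwise_smul_def,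
            Sylow.coe_subgroup_smul]
          ext w
          simp only [Subgroup.mem_pointwise_smul_iff_inv_smul_mem, mem_conj_smul]
          simp only [MulAut.smul_def, smul_mul', smul_inv', inv_smul_smul, smul_smul,
            mul_inv_rev]
          simp [MulAut.conj_inv_apply, smul_mul', smul_inv', mul_assoc]
        rw [hgP, hc, hgP0] at key
        exact key }
  have hScard : ¬ q ∣ Nat.card S := by
    obtain ⟨c0, hc0⟩ := MulAction.exists_smul_eq N P2 P0
    have e : S ≃ MulAction.stabilizer N P2 :=
      { toFun := fun c => ⟨c0⁻¹ * (c : N), by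
          rw [MulAction.mem_stabilizer_iff, mul_smul, show (c : N) • P2 = P0 from c.2,
            inv_smul_eq_iff, hc0]⟩
        invFun := fun s => ⟨c0 * (s : N), by
          change (c0 * (s : N)) • P2 = P0
          rw [mul_smul, MulAction.mem_stabilizer_iff.mp s.2, hc0]⟩
        left_inv := fun c => Subtype.ext (mul_inv_cancel_left _ _)
        right_inv := fun s => Subtype.ext (inv_mul_cancel_left _ _) }
    rw [Nat.card_congr e]
    exact fun h' => hN (h'.trans (Subgroup.card_subgroup_dvd_card _))
  obtain ⟨c, hc⟩ :=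
    (hQ.to_subgroup (Subgroup.zpowers y')).nonempty_fixed_point_of_prime_not_dvd_card S hScard
  have hyc : y * ((c : N) : G) * y⁻¹ = ((c : N) : G) :=
    congrArg (fun t : S => ((t : N) : G)) (hc ⟨y', Subgroup.mem_zpowers y'⟩)
  obtain ⟨w, hw, rfl⟩ := hz
  rw [← show (c : N) • P2 = P0 from c.2] at hw
  replace hw : (c : N)⁻¹ * w * (c : N) ∈ (P2 : Subgroup N) := mem_conj_smul.mp hw
  have := hP2 hw
  rw [hC, Subgroup.mem_subgroupOf, Subgroup.mem_centralizer_singleton_iff] at this
  simp only [Subgroup.coe_mul, Subgroup.coe_inv] at this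
  have h1 : Commute y ((c : N) : G) := mul_inv_eq_iff_eq_mul.mp hyc
  have h2 : Commute y (((c : N) : G)⁻¹ * (w : G) * ((c : N) : G)) := this.symm
  have h3 := (h1.mul_right h2).mul_right h1.inv_right
  simpa [mul_assoc] using h3.eq

end H18
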