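import Cfsg.Agent.H1.Cores
import Cfsg.Agent.H5.Burnside
import Mathlib.GroupTheory.SemidirectProduct
import Mathlib.GroupTheory.Sylow
import Mathlib.GroupTheory.SchurZassenhaus

/-!
With Glauberman's theorem on isolated involutions as a hypothesis: automorphisms of 2-power order
centralising an abelian Sylow 2-subgroup are inner when there is no odd normal subgroup.
-/

set_option autoImplicit false
set_option linter.unusedSectionVars false

open scoped commutatorElement

namespace H18

universe u

/-- The isolated involution theorem, as a hypothesis. -/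
def ZStarHyp : Prop :=
  ∀ (G : Type u) [Group G] [Finite G] (P : Sylow 2 G) (t : G), orderOf t = 2 → t ∈ P →
    (∀ g : G, g * t * g⁻¹ ∈ P → g * t * g⁻¹ = t) →
    ∃ N : Subgroup G, N.Normal ∧ Odd (Nat.card N) ∧ ∀ g : G, t * g * t⁻¹ * g⁻¹ ∈ N

theorem eq_of_conj_mem_of_normalizer_fixed {H : Type u} [Group H] [Finite H] (T : Sylow 2 H)
    (hab : IsMulCommutative (T : Subgroup H)) {z : H} (hz : z ∈ T)
    (hN : ∀ n ∈ Subgroup.normalizer ((T : Subgroup H) : Set H), n * z * n⁻¹ = z) (g : H)
    (hg : g * z * g⁻¹ ∈ T) : g * z * g⁻¹ = z := by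
  obtain ⟨k, hk, he⟩ := H5.control_of_commutative T (hc := hab) z hz g hg
  rw [← he]
  exact hN k hk

theorem central_of_normalizer_fixed (hZ : ZStarHyp.{u}) (n : ℕ) :
    ∀ (H : Type u) [Group H] [Finite H], Nat.card H = n →
      (∀ N : Subgroup H, N.Normal → Odd (Nat.card N) → N = ⊥) →
      ∀ (T : Sylow 2 H), IsMulCommutative (T : Subgroup H) → ∀ z ∈ T,
        (∀ m ∈ Subgroup.normalizer ((T : Subgroup H) : Set H), m * z * m⁻¹ = z) →
        z ∈ Subgroup.center H := by
  induction n using Nat.strong_induction_on with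
  | _ n ih =>
  intro H _ _ hn hodd T hab z hz hN
  classical
  rcases eq_or_ne z 1 with rfl | hz1
  · exact one_mem _
  obtain ⟨i, hi⟩ := IsPGroup.iff_orderOf.mp T.2 ⟨z, hz⟩
  rw [← Subgroup.orderOf_coe] at hi
  obtain ⟨j, rfl⟩ : ∃ j, i = j + 1 := ⟨i - 1, by
    have : i ≠ 0 := fun h => hz1 (orderOf_eq_one_iff.mp (by rw [hi, h, pow_zero]))
    omega⟩
  set t := z ^ 2 ^ j with ht
  have hto : orderOf t = 2 := by
    rw [ht, orderOf_pow_of_dvd (by positivity) (hi ▸ pow_dvd_pow 2 (Nat.le_succ j)), hi, pow_succ,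
      Nat.mul_div_cancel_left _ (by positivity)]
  have htT : t ∈ T := (T : Subgroup H).pow_mem hz _
  have htN : ∀ m ∈ Subgroup.normalizer ((T : Subgroup H) : Set H), m * t * m⁻¹ = t := fun m hm => by
    rw [ht, ← conj_pow, hN m hm]
  obtain ⟨N, hNn, hNodd, hNc⟩ := hZ H T t hto htT
    (eq_of_conj_mem_of_normalizer_fixed T hab htT htN)
  have hNbot := hodd N hNn hNodd
  have htc : ∀ g : H, g * t = t * g := fun g => by
    have h := hNc g
    rw [hNbot, Subgroup.mem_bot, mul_inv_eq_one, mul_inv_eq_iff_eq_mul] at h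
    exact h.symm
  set Z := Subgroup.zpowers t with hZdef
  have hZc : ∀ y ∈ Z, ∀ g : H, g * y = y * g := by
    rintro y ⟨k, rfl⟩ g
    exact (Commute.zpow_right (htc g) k).eq
  haveI hZn : Z.Normal := ⟨fun y hy g => by rw [hZc y hy g, mul_inv_cancel_right]; exact hy⟩
  have hZcard : Nat.card Z = 2 := by rw [Nat.card_zpowers, hto]
  have hZT : Z ≤ (T : Subgroup H) := Subgroup.zpowers_le.mpr htT
  let π := QuotientGroup.mk' Z
  let T' : Sylow 2 (H ⧸ Z) := T.mapSurjective (QuotientGroup.mk'_surjective Z)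
  have hT' : (T' : Subgroup (H ⧸ Z)) = (T : Subgroup H).map π := rfl
  have hlt : Nat.card (H ⧸ Z) < n := by
    rw [← hn, ← Subgroup.index_eq_card, ← Z.card_mul_index, hZcard]
    have := Nat.pos_of_ne_zero (Subgroup.index_ne_zero_of_finite (H := Z))
    omega
  have hodd' : ∀ N : Subgroup (H ⧸ Z), N.Normal → Odd (Nat.card N) → N = ⊥ := by
    intro N hN hNo
    haveI := hN
    let M := N.comap π
    haveI : M.Normal := hN.comap π
    have hZM : Z ≤ M := fun y hy => by
      change π y ∈ N
      rw [show π y = 1 from (QuotientGroup.eq_one_iff y).mpr hy]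
      exact N.one_mem
    have hMcard : Nat.card M = 2 * Nat.card N := by
      rw [H1.card_comap_mk', hZcard]
    haveI hZn' : (Z.subgroupOf M).Normal := hZn.subgroupOf M
    have hidx : (Z.subgroupOf M).index = Nat.card N := by
      have h := (Z.subgroupOf M).card_mul_index
      rw [Nat.card_congr (Subgroup.subgroupOfEquivOfLe hZM).toEquiv, hZcard, hMcard] at h
      omega
    obtain ⟨O, hO⟩ := Subgroup.exists_right_complement'_of_coprime (N := Z.subgroupOf M) (by
      rw [hidx, Nat.card_congr (Subgroup.subgroupOfEquivOfLe hZM).toEquiv, hZcard]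
      exact Nat.coprime_two_left.mpr hNo)
    have hOc : Nat.card O = Nat.card N := by rw [← hO.symm.index_eq_card, hidx]
    -- the complement is the set of elements of odd order
    let O' := O.map M.subtype
    have hmem : ∀ y : H, y ∈ O' ↔ y ∈ M ∧ Odd (orderOf y) := by
      intro y
      constructor
      · rintro ⟨o, ho, rfl⟩
        refine ⟨o.2, ?_⟩
        rw [Subgroup.coe_subtype, Subgroup.orderOf_coe]
        exact hNo.of_dvd_nat (hOc ▸ Subgroup.orderOf_dvd_natCard O ho)
      · rintro ⟨hyM, hy⟩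
        obtain ⟨⟨⟨a, ha⟩, o⟩, hao⟩ := hO.2 ⟨y, hyM⟩
        have hval : (a : H) * (o : M) = y := congrArg Subtype.val hao
        have haZ : (a : H) ∈ Z := ha
        have hoo : Odd (orderOf ((o : M) : H)) := by
          rw [Subgroup.orderOf_coe]
          exact hNo.of_dvd_nat (hOc ▸ Subgroup.orderOf_dvd_natCard O o.2)
        have hc : Commute (a : H) ((o : M) : H) := (hZc _ haZ _).symm
        have hda : orderOf (a : H) ∣ 2 := hZcard ▸ Subgroup.orderOf_dvd_natCard Z haZ
        have ha1 : (a : H) = 1 := by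
          rcases Nat.prime_two.eq_one_or_self_of_dvd _ hda with h | h
          · exact orderOf_eq_one_iff.mp h
          · exfalso
            have h2 := Commute.orderOf_mul_eq_mul_orderOf_of_coprime hc
              (h.symm ▸ Nat.coprime_two_left.mpr hoo)
            rw [hval, h] at h2
            exact Nat.not_odd_iff_even.mpr (h2 ▸ even_two_mul _) hy
        exact ⟨(o : M), o.2, by rw [← hval, ha1, one_mul]; rfl⟩
    haveI : O'.Normal := ⟨fun y hy g => by
      rw [hmem] at hy ⊢
      refine ⟨(inferInstance : M.Normal).conj_mem y hy.1 g, ?_⟩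
      rw [show g * y * g⁻¹ = MulAut.conj g y from rfl, MulEquiv.orderOf_eq]
      exact hy.2⟩
    have hO'card : Nat.card O' = Nat.card N := by
      rw [Subgroup.card_map_of_injective M.subtype_injective, hOc]
    have hbot := hodd O' inferInstance (hO'card ▸ hNo)
    rw [hbot, Subgroup.card_bot] at hO'card
    exact Subgroup.eq_bot_of_card_eq _ hO'card.symm
  have hab' : IsMulCommutative (T' : Subgroup (H ⧸ Z)) := ⟨⟨by
    rintro ⟨_, a, ha, rfl⟩ ⟨_, b, hb, rfl⟩
    refine Subtype.ext ?_
    change π a * π b = π b * π a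
    rw [← map_mul, ← map_mul]
    exact congrArg π (congrArg Subtype.val (hab.is_comm.comm ⟨a, ha⟩ ⟨b, hb⟩))⟩⟩
  have hN' : ∀ m ∈ Subgroup.normalizer ((T' : Subgroup (H ⧸ Z)) : Set (H ⧸ Z)),
      m * π z * m⁻¹ = π z := by
    intro m hm
    obtain ⟨g, rfl⟩ := QuotientGroup.mk'_surjective Z m
    have hg : g ∈ Subgroup.normalizer ((T : Subgroup H) : Set H) := by
      rw [hT'] at hm
      have h1 : ((T : Subgroup H).map π).comap π = (T : Subgroup H) := by
        rw [Subgroup.comap_map_eq, QuotientGroup.ker_mk', sup_eq_left.mpr hZT]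
      rw [Subgroup.mem_normalizer_iff] at hm ⊢
      intro y
      rw [← h1, Subgroup.mem_comap, Subgroup.mem_comap, hm (π y)]
      simp [π]
    rw [← map_inv, ← map_mul, ← map_mul, hN g hg]
  have hzc := ih _ hlt (H ⧸ Z) rfl hodd' T' hab' (π z) ⟨z, hz, rfl⟩ hN'
  rw [Subgroup.mem_center_iff]
  intro g
  have h := Subgroup.mem_center_iff.mp hzc (π g)
  have h1 : g * z * g⁻¹ ∈ (T : Subgroup H) := by
    have h2 : π (g * z * g⁻¹) = π z := by rw [map_mul, map_mul, map_inv, h, mul_inv_cancel_right]
    have h3 : z⁻¹ * (g * z * g⁻¹) ∈ Z := QuotientGroup.eq.mp h2.symm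
    simpa using (T : Subgroup H).mul_mem hz (hZT h3)
  exact mul_inv_eq_iff_eq_mul.mp (eq_of_conj_mem_of_normalizer_fixed T hab hz hN g h1)

theorem exists_inner_of_fixes_abelian_sylow (hZ : ZStarHyp.{u}) {G : Type u} [Group G] [Finite G]
    (hcore : ∀ N : Subgroup G, N.Normal → Odd (Nat.card N) → N = ⊥) (P : Sylow 2 G)
    (hab : IsMulCommutative (P : Subgroup G)) (α : MulAut G) (h2 : ∃ j : ℕ, orderOf α = 2 ^ j)
    (hfix : ∀ x ∈ (P : Subgroup G), α x = x) : ∃ g : G, ∀ x : G, α x = g * x * g⁻¹ := by
  classical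
  obtain ⟨j, hj⟩ := h2
  let A := Subgroup.zpowers α
  let φ : A →* MulAut G := A.subtype
  let S := G ⋊[φ] A
  haveI : Finite A := Subtype.finite
  haveI : Finite S := Finite.of_equiv _ SemidirectProduct.equivProd.symm
  have hfixA : ∀ (a : A) (x : G), x ∈ (P : Subgroup G) → φ a x = x := by
    rintro ⟨_, k, rfl⟩ x hx
    have : α ∈ MulAction.stabilizer (MulAut G) x := hfix x hx
    exact Subgroup.zpow_mem _ this k
  let T₀ : Subgroup S :=
    { carrier := {w | w.left ∈ (P : Subgroup G)}
      one_mem' := (P : Subgroup G).one_mem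
      mul_mem' := fun {a b} ha hb => by
        change a.left * φ a.right b.left ∈ (P : Subgroup G)
        rw [hfixA a.right _ hb]; exact (P : Subgroup G).mul_mem ha hb
      inv_mem' := fun {a} ha => by
        change φ a.right⁻¹ a.left⁻¹ ∈ (P : Subgroup G)
        rw [hfixA _ _ ((P : Subgroup G).inv_mem ha)]; exact (P : Subgroup G).inv_mem ha }
  have hT₀mem : ∀ w : S, w ∈ T₀ ↔ w.left ∈ (P : Subgroup G) := fun w => Iff.rfl
  have hcardA : Nat.card A = 2 ^ j := by rw [Nat.card_zpowers, hj]
  have hT₀card : Nat.card T₀ = 2 ^ (Nat.card S).factorization 2 := by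
    have h1 : Nat.card T₀ = Nat.card (P : Subgroup G) * Nat.card A := by
      rw [← Nat.card_prod]
      exact Nat.card_congr
        { toFun := fun w => (⟨(w : S).left, w.2⟩, (w : S).right)
          invFun := fun q => ⟨⟨q.1, q.2⟩, q.1.2⟩
          left_inv := fun w => rfl
          right_inv := fun q => rfl }
    have h3 : Nat.card S = Nat.card G * Nat.card A := SemidirectProduct.card
    rw [h1, h3, P.card_eq_multiplicity, hcardA, ← pow_add,
      Nat.factorization_mul Nat.card_pos.ne' (pow_ne_zero _ two_ne_zero), Finsupp.add_apply,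
      Nat.prime_two.factorization_pow, Finsupp.single_eq_same]
  let T : Sylow 2 S := Sylow.ofCard T₀ hT₀card
  have hTmem : ∀ w : S, w ∈ T ↔ w.left ∈ (P : Subgroup G) := fun w => Iff.rfl
  have hAcomm : ∀ a b : A, a * b = b * a := fun a b =>
    congrArg id ((inferInstance : IsMulCommutative A).is_comm.comm a b)
  have hTab : IsMulCommutative (T : Subgroup S) := ⟨⟨fun a b => Subtype.ext
    (SemidirectProduct.ext (by
      change (a : S).left * φ (a : S).right (b : S).left = (b : S).left * φ (b : S).right (a : S).left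
      rw [hfixA _ _ b.2, hfixA _ _ a.2]
      exact congrArg Subtype.val (hab.is_comm.comm ⟨_, a.2⟩ ⟨_, b.2⟩))
      (hAcomm (a : S).right (b : S).right))⟩⟩
  set K := Subgroup.normalizer ((T : Subgroup S) : Set S) with hK
  have hTK : (T : Subgroup S) ≤ K := Subgroup.le_normalizer
  let Q := K ⧸ (T : Subgroup S).subgroupOf K
  haveI : Fintype Q := Fintype.ofFinite Q
  set m := Nat.card Q with hm
  have hmodd : m.Coprime (2 ^ j) := by
    refine Nat.Coprime.pow_right _ (Nat.Coprime.symm ?_)
    rw [Nat.prime_two.coprime_iff_not_dvd, hm]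
    change ¬ 2 ∣ Nat.card (K ⧸ (T : Subgroup S).subgroupOf K)
    intro hd
    exact (T : Sylow 2 S).not_dvd_index (hd.trans (by
      change (T : Subgroup S).relIndex K ∣ (T : Subgroup S).index
      exact Subgroup.relIndex_dvd_index_of_le hTK))
  let xA : A := ⟨α, Subgroup.mem_zpowers α⟩
  have hxA : orderOf xA = 2 ^ j := by rw [← Subgroup.orderOf_coe]; exact hj
  obtain ⟨s, hs⟩ : ∃ s : ℕ, (xA ^ s) ^ m = xA := by
    obtain ⟨s, hs⟩ := exists_pow_eq_self_of_coprime (x := xA) (n := m) (hxA ▸ hmodd)
    exact ⟨s, by rw [← pow_mul, mul_comm, pow_mul]; exact hs⟩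
  let x : (T : Subgroup S) := ⟨SemidirectProduct.inr (xA ^ s), (P : Subgroup G).one_mem⟩
  letI : CommGroup (T : Subgroup S) :=
    { (inferInstance : Group (T : Subgroup S)) with mul_comm := fun a b => hTab.is_comm.comm a b }
  have hconj : ∀ (k : K) (y : (T : Subgroup S)), (k : S) * y * (k : S)⁻¹ ∈ (T : Subgroup S) :=
    fun k y => (Subgroup.mem_normalizer_iff.mp k.2 _).mp y.2
  let cK : K → ((T : Subgroup S) →* (T : Subgroup S)) := fun k => MonoidHom.mk'
    (fun y => ⟨(k : S) * y * (k : S)⁻¹, hconj k y⟩)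
    (fun a b => Subtype.ext (map_mul (MulAut.conj (k : S)) (a : S) (b : S)))
  let f : Q → (T : Subgroup S) := fun q => cK q.out x
  let z : (T : Subgroup S) := ∏ q, f q
  have hfq : ∀ (k : K) (q : Q), cK k (f q) = f (k • q) := by
    intro k q
    obtain ⟨t, ht⟩ := QuotientGroup.mk_out_eq_mul ((T : Subgroup S).subgroupOf K) (k * q.out)
    have hkq : ((k * q.out : K) : Q) = k • q := by
      conv_rhs => rw [← QuotientGroup.out_eq' q]
      rfl
    refine Subtype.ext ?_
    change (k : S) * ((q.out : K) * (x : S) * ((q.out : K) : S)⁻¹) * (k : S)⁻¹ =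
      ((k • q).out : K) * (x : S) * (((k • q).out : K) : S)⁻¹
    rw [← hkq, ht]
    have htx : ((t : K) : S) * (x : S) = (x : S) * ((t : K) : S) :=
      congrArg Subtype.val (mul_comm (⟨((t : K) : S), t.2⟩ : (T : Subgroup S)) x)
    simp only [Subgroup.coe_mul, mul_inv_rev]
    rw [show (k : S) * ((q.out : K) : S) * ((t : K) : S) * (x : S) =
      (k : S) * ((q.out : K) : S) * (x : S) * ((t : K) : S) by
        rw [mul_assoc ((k : S) * ((q.out : K) : S)), htx, ← mul_assoc]]
    simp only [← mul_assoc]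
    exact congrArg (fun w : S => w * ((q.out : K) : S)⁻¹ * (k : S)⁻¹)
      (mul_inv_cancel_right ((k : S) * ((q.out : K) : S) * (x : S)) ((t : K) : S)).symm
  have hzfix : ∀ k ∈ K, k * (z : S) * k⁻¹ = z := by
    intro k hk
    have : cK ⟨k, hk⟩ z = z := by
      simp only [z, map_prod, hfq]
      exact Fintype.prod_equiv (MulAction.toPerm (⟨k, hk⟩ : K)) _ _ fun q => rfl
    exact congrArg Subtype.val this
  have hzright : (z : S).right = xA := by
    letI : CommGroup A := { (inferInstance : Group A) with mul_comm := hAcomm }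
    let R : (T : Subgroup S) →* A := SemidirectProduct.rightHom.comp (T : Subgroup S).subtype
    change R z = xA
    have hR : ∀ q, R (f q) = xA ^ s := fun q => by
      change SemidirectProduct.rightHom (((q.out : K) : S) * (x : S) * ((q.out : K) : S)⁻¹) = _
      rw [map_mul, map_mul, map_inv, mul_right_comm, mul_inv_cancel, one_mul]
      rfl
    simp only [z, map_prod, hR, Finset.prod_const, Finset.card_univ, ← Nat.card_eq_fintype_card]
    rw [← hm]
    exact hs
  have hodd : ∀ N : Subgroup S, N.Normal → Odd (Nat.card N) → N = ⊥ := by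
    intro N hN hNo
    have h1 : ∀ w ∈ N, w.right = 1 := by
      intro w hw
      have hd1 : orderOf w.right ∣ Nat.card N :=
        (orderOf_map_dvd SemidirectProduct.rightHom w).trans (Subgroup.orderOf_dvd_natCard N hw)
      have hd2 : orderOf w.right ∣ 2 ^ j := hcardA ▸ orderOf_dvd_natCard w.right
      exact orderOf_eq_one_iff.mp (Nat.eq_one_of_dvd_coprimes
        ((Nat.coprime_two_left.mpr hNo).symm.pow_right j) hd1 hd2)
    let M : Subgroup G := N.comap SemidirectProduct.inl
    haveI : M.Normal := hN.comap _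
    have hMN : M.map SemidirectProduct.inl = N := by
      refine le_antisymm (Subgroup.map_comap_le _ _) fun w hw => ?_
      have he : SemidirectProduct.inl w.left = w := SemidirectProduct.ext rfl (h1 w hw).symm
      refine ⟨w.left, ?_, he⟩
      change SemidirectProduct.inl w.left ∈ N
      rwa [he]
    have hc : Nat.card M = Nat.card N := by
      rw [← hMN, Subgroup.card_map_of_injective SemidirectProduct.inl_injective]
    rw [← hMN, hcore M inferInstance (hc ▸ hNo), Subgroup.map_bot]
  have hzc := central_of_normalizer_fixed hZ _ S rfl hodd T hTab z z.2 hzfix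
  refine ⟨(z : S).left⁻¹, fun y => ?_⟩
  have h := Subgroup.mem_center_iff.mp hzc (SemidirectProduct.inl y)
  have h' := congrArg SemidirectProduct.left h
  change y * φ 1 (z : S).left = (z : S).left * φ (z : S).right y at h'
  rw [map_one, MulAut.one_apply, hzright] at h'
  change y * (z : S).left = (z : S).left * α y at h'
  rw [inv_inv, mul_assoc, h', inv_mul_cancel_left]

end H18
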