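import Cfsg.Agent.H18.FourTransitiveIrr
import Cfsg.Agent.H18.FixedExtension
import Mathlib.GroupTheory.Perm.Cycle.PossibleTypes
import Mathlib.GroupTheory.SpecificGroups.Alternating

/-!
Vanishing of small characters of the alternating groups.
-/

set_option autoImplicit false
set_option linter.unusedSectionVars false

open Cfsg MulAction Equiv.Perm
open scoped Pointwise

namespace H18

variable {n : ℕ}

theorem card_fixedBy_perm (σ : Equiv.Perm (Fin n)) :
    Nat.card (fixedBy (Fin n) σ) = n - σ.cycleType.sum := by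
  classical
  have h := Equiv.Perm.card_fixedPoints σ
  rw [Fintype.card_fin] at h
  rw [← h, Nat.card_eq_fintype_card]
  exact Fintype.card_congr (Equiv.refl _)

theorem fixed_of_sq_fixed {σ : Equiv.Perm (Fin n)} (h : ∀ c ∈ σ.cycleType, 3 ≤ c) (a : Fin n)
    (ha : σ (σ a) = a) : σ a = a := by
  by_contra hne
  have hc := isCycle_cycleOf σ hne
  have h1 : (σ.cycleOf a) ^ 2 = 1 := by
    rw [hc.pow_eq_one_iff' (x := a) (by rwa [cycleOf_apply_self])]
    rw [pow_two, Equiv.Perm.mul_apply, cycleOf_apply_self,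
      (SameCycle.refl σ a).apply_right.cycleOf_apply, ha]
  have h2 := orderOf_dvd_of_pow_eq_one h1
  rw [hc.orderOf] at h2
  have h3 : (σ.cycleOf a).support.card ∈ σ.cycleType := by
    rw [cycleType_def]
    exact Multiset.mem_map.mpr ⟨σ.cycleOf a, Finset.mem_val.mpr <|
      cycleOf_mem_cycleFactorsFinset_iff.mpr (Equiv.Perm.mem_support.mpr hne), rfl⟩
  have := Nat.le_of_dvd (by norm_num) h2
  have := h _ h3
  omega

theorem chS_eq_choose {σ : Equiv.Perm (Fin n)} (h : ∀ c ∈ σ.cycleType, 3 ≤ c) :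
    chS (Equiv.Perm (Fin n)) (Fin n) σ = ((n - σ.cycleType.sum).choose 2 : ℂ) := by
  classical
  rw [chS, permChi, ← card_fixedBy_perm σ]
  congr 1
  set F : Finset (Fin n) := Finset.univ.filter fun a => σ a = a with hF
  have hc : Nat.card (fixedBy (Fin n) σ) = F.card := by
    rw [hF, Nat.card_eq_fintype_card, ← Fintype.card_subtype]
    exact Fintype.card_congr (Equiv.refl _)
  rw [hc, ← Finset.card_powersetCard, ← Fintype.card_coe, ← Nat.card_eq_fintype_card]
  have hmem : ∀ s : Set.powersetCard (Fin n) 2, σ • s = s → (s : Finset (Fin n)) ⊆ F := by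
    intro s hs a ha
    have hs' : σ • (s : Finset (Fin n)) = s := by
      conv_rhs => rw [← hs]
      rw [Set.powersetCard.coe_smul]
    have step : ∀ x ∈ (s : Finset (Fin n)), σ x ∈ (s : Finset (Fin n)) := by
      intro x hx
      rw [← hs']
      exact Finset.smul_mem_smul_finset hx
    rw [hF, Finset.mem_filter]
    refine ⟨Finset.mem_univ _, by_contra fun hne => hne (fixed_of_sq_fixed h a ?_)⟩
    obtain ⟨d, hd, he⟩ := exists_eq_pair s.2 ha
    have h1 := step a ha
    rw [he] at h1 step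
    simp only [Finset.mem_insert, Finset.mem_singleton] at h1 step
    rcases h1 with h1 | h1
    · exact absurd h1 hne
    · rw [h1]
      rcases step d (.inr rfl) with h2 | h2
      · exact h2
      · exact absurd (σ.injective (h1.trans h2.symm)) hd
  exact Nat.card_congr
    { toFun := fun s => ⟨(s.1 : Finset (Fin n)), Finset.mem_powersetCard.mpr ⟨hmem s.1 s.2, s.1.2⟩⟩
      invFun := fun t => ⟨⟨t.1, (Finset.mem_powersetCard.mp t.2).2⟩, Subtype.ext (by
        have h1 := (Finset.mem_powersetCard.mp t.2).1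
        have hsm : σ • (t.1 : Finset (Fin n)) = t.1 := by
          calc σ • (t.1 : Finset (Fin n)) = t.1.image (fun a => σ a) := rfl
            _ = t.1.image id := Finset.image_congr fun a ha => (Finset.mem_filter.mp (h1 ha)).2
            _ = t.1 := Finset.image_id
        rw [Set.powersetCard.coe_smul]
        exact hsm)⟩
      left_inv := fun s => rfl
      right_inv := fun t => rfl }

theorem res_chF (x : alternatingGroup (Fin n)) :
    chF (alternatingGroup (Fin n)) (Fin n) x =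
      chF (Equiv.Perm (Fin n)) (Fin n) (x : Equiv.Perm (Fin n)) := rfl

theorem res_chS (x : alternatingGroup (Fin n)) :
    chS (alternatingGroup (Fin n)) (Fin n) x =
      chS (Equiv.Perm (Fin n)) (Fin n) (x : Equiv.Perm (Fin n)) := by
  rw [chS, chS, permChi, permChi]
  exact congrArg Nat.cast (Nat.card_congr (Equiv.subtypeEquivRight fun s => by
    simp only [mem_fixedBy, Subtype.ext_iff, Set.powersetCard.coe_smul]
    rfl))

/-- The data needed for the statement. -/
def GoodChar (n : ℕ) (σ : Equiv.Perm (Fin n)) : Prop :=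
  ∃ χ : IrrCharacter (alternatingGroup (Fin n)), ∃ x : alternatingGroup (Fin n),
    (x : Equiv.Perm (Fin n)) = σ ∧ (χ : alternatingGroup (Fin n) → ℂ) x = 0 ∧
    ∃ ψ : IrrCharacter (Equiv.Perm (Fin n)), ∀ x : alternatingGroup (Fin n),
      (ψ : Equiv.Perm (Fin n) → ℂ) x = (χ : alternatingGroup (Fin n) → ℂ) x

theorem goodChar_of (hn : 6 ≤ n) (σ : Equiv.Perm (Fin n)) (hσ : Equiv.Perm.sign σ = 1)
    (hcase : n - σ.cycleType.sum = 1 ∨
      ((∀ c ∈ σ.cycleType, 3 ≤ c) ∧ (n - σ.cycleType.sum = 2 ∨ n - σ.cycleType.sum = 0))) :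
    GoodChar n σ := by
  have hS4 : IsMultiplyPretransitive (Equiv.Perm (Fin n)) (Fin n) 4 :=
    Equiv.Perm.isMultiplyPretransitive _ 4
  have hA4 : IsMultiplyPretransitive (alternatingGroup (Fin n)) (Fin n) 4 := by
    haveI := alternatingGroup.isMultiplyPretransitive (Fin n)
    refine isMultiplyPretransitive_of_le (n := Nat.card (Fin n) - 2) ?_ ?_ <;>
      simp only [Nat.card_eq_fintype_card, Fintype.card_fin] <;> omega
  obtain ⟨a1, a2, a3⟩ := isIrr_std_pair_wedge (G := alternatingGroup (Fin n)) hA4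
    (by rw [Fintype.card_fin]; omega)
  obtain ⟨b1, b2, b3⟩ := isIrr_std_pair_wedge (G := Equiv.Perm (Fin n)) hS4
    (by rw [Fintype.card_fin]; omega)
  have hF : chF (Equiv.Perm (Fin n)) (Fin n) σ = ((n - σ.cycleType.sum : ℕ) : ℂ) := by
    rw [chF, permChi, card_fixedBy_perm]
  let x : alternatingGroup (Fin n) := ⟨σ, Equiv.Perm.mem_alternatingGroup.mpr hσ⟩
  rcases hcase with h1 | ⟨hc, h2 | h0⟩
  · refine ⟨⟨_, a1⟩, x, rfl, ?_, ⟨_, b1⟩, fun y => ?_⟩
    · change chStd (alternatingGroup (Fin n)) (Fin n) x = 0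
      simp [chStd, res_chF, x, hF, h1]
    · simp [chStd, res_chF]
  · refine ⟨⟨_, a3⟩, x, rfl, ?_, ⟨_, b3⟩, fun y => ?_⟩
    · change chWedge (alternatingGroup (Fin n)) (Fin n) x = 0
      simp [chWedge, chStd, res_chF, res_chS, x, hF, h2, chS_eq_choose hc]
      norm_num
    · simp [chWedge, chStd, res_chF, res_chS]
  · refine ⟨⟨_, a2⟩, x, rfl, ?_, ⟨_, b2⟩, fun y => ?_⟩
    · change chPair (alternatingGroup (Fin n)) (Fin n) x = 0
      simp [chPair, res_chF, res_chS, x, hF, h0, chS_eq_choose hc]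
    · simp [chPair, res_chF, res_chS]

theorem exists_two_element (hn : 7 ≤ n) :
    ∃ σ : Equiv.Perm (Fin n), (∃ j, orderOf σ = 2 ^ j) ∧ Equiv.Perm.sign σ = 1 ∧
      (n - σ.cycleType.sum = 1 ∨
        ((∀ c ∈ σ.cycleType, 3 ≤ c) ∧ (n - σ.cycleType.sum = 2 ∨ n - σ.cycleType.sum = 0))) := by
  obtain ⟨m, hm8, hmsum, hmcard, hcase⟩ : ∃ m : Multiset ℕ,
      (∀ c ∈ m, c = 2 ∨ c = 4 ∨ c = 8) ∧ m.sum ≤ n ∧ Even (m.sum + Multiset.card m) ∧
      (n - m.sum = 1 ∨ ((∀ c ∈ m, 3 ≤ c) ∧ (n - m.sum = 2 ∨ n - m.sum = 0))) := by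
    obtain ⟨k, hk⟩ | ⟨k, hk⟩ := Nat.even_or_odd n
    · -- `n = 2k`: cycles of length four and eight
      set q := k / 2 with hq
      have hq2 : 2 ≤ q := by omega
      have key : ∃ m : Multiset ℕ, (∀ c ∈ m, c = 4 ∨ c = 8) ∧ m.sum = 4 * q ∧
          Even (Multiset.card m) := by
        obtain ⟨r, hr⟩ | ⟨r, hr⟩ := Nat.even_or_odd q
        · exact ⟨Multiset.replicate q 4, fun c hc => .inl (Multiset.eq_of_mem_replicate hc),
            by simp [mul_comm], by simp [hr]⟩
        · refine ⟨8 ::ₘ Multiset.replicate (q - 2) 4, fun c hc => ?_, ?_, ?_⟩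
          · rcases Multiset.mem_cons.mp hc with h | h
            · exact .inr h
            · exact .inl (Multiset.eq_of_mem_replicate h)
          · simp; omega
          · rw [Multiset.card_cons, Multiset.card_replicate]; exact ⟨r, by omega⟩
      obtain ⟨m, h1, h2, ⟨t, h3⟩⟩ := key
      refine ⟨m, fun c hc => .inr (h1 c hc), by omega, ⟨2 * q + t, by omega⟩, .inr ⟨fun c hc => ?_, by omega⟩⟩
      rcases h1 c hc with h | h <;> omega
    · obtain ⟨r, hr⟩ | ⟨r, hr⟩ := Nat.even_or_odd k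
      · refine ⟨Multiset.replicate k 2, fun c hc => .inl (Multiset.eq_of_mem_replicate hc),
          by simp; omega, ⟨k + r, by simp; omega⟩, .inl (by simp; omega)⟩
      · refine ⟨4 ::ₘ Multiset.replicate (k - 2) 2, fun c hc => ?_, by simp; omega,
          ⟨k + r, by simp; omega⟩, .inl (by simp; omega)⟩
        rcases Multiset.mem_cons.mp hc with h | h
        · exact .inr (.inl h)
        · exact .inl (Multiset.eq_of_mem_replicate h)
  obtain ⟨σ, hσ⟩ := (Equiv.Perm.exists_with_cycleType_iff (α := Fin n) (m := m)).mpr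
    ⟨by rwa [Fintype.card_fin], fun c hc => by rcases hm8 c hc with h | h | h <;> omega⟩
  refine ⟨σ, ?_, ?_, hσ ▸ hcase⟩
  · have h : orderOf σ ∣ 2 ^ 3 := by
      rw [← lcm_cycleType, hσ, Multiset.lcm_dvd]
      intro c hc
      rcases hm8 c hc with h | h | h <;> simp [h]
    obtain ⟨j, -, hj⟩ := (Nat.dvd_prime_pow Nat.prime_two).mp h
    exact ⟨j, hj⟩
  · rw [sign_of_cycleType, hσ, hmcard.neg_one_pow]

theorem exists_three_element (hn : 7 ≤ n) :
    ∃ σ : Equiv.Perm (Fin n), orderOf σ = 3 ∧ Equiv.Perm.sign σ = 1 ∧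
      (n - σ.cycleType.sum = 1 ∨
        ((∀ c ∈ σ.cycleType, 3 ≤ c) ∧ (n - σ.cycleType.sum = 2 ∨ n - σ.cycleType.sum = 0))) := by
  obtain ⟨σ, hσ⟩ := (Equiv.Perm.exists_with_cycleType_iff (α := Fin n)
    (m := Multiset.replicate (n / 3) 3)).mpr
    ⟨by simp; omega, fun c hc => by rw [Multiset.eq_of_mem_replicate hc]; norm_num⟩
  have h3 : ∀ c ∈ σ.cycleType, c = 3 := fun c hc => Multiset.eq_of_mem_replicate (hσ ▸ hc)
  refine ⟨σ, ?_, ?_, ?_⟩
  · have h : orderOf σ ∣ 3 := by
      rw [← lcm_cycleType, Multiset.lcm_dvd]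
      intro c hc; rw [h3 c hc]
    rcases Nat.prime_three.eq_one_or_self_of_dvd _ h with h1 | h1
    · rw [orderOf_eq_one_iff] at h1
      rw [h1, cycleType_one] at hσ
      have := congrArg Multiset.card hσ
      simp at this
      omega
    · exact h1
  · rw [sign_of_cycleType, hσ]
    exact Even.neg_one_pow ⟨2 * (n / 3), by simp; ring⟩
  · rcases (show n % 3 = 1 ∨ n % 3 = 0 ∨ n % 3 = 2 by omega) with h | h | h
    · left; simp [hσ]; omega
    · exact .inr ⟨fun c hc => by rw [h3 c hc], .inr (by simp [hσ]; omega)⟩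
    · exact .inr ⟨fun c hc => by rw [h3 c hc], .inl (by simp [hσ]; omega)⟩

end H18
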