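import Mathlib

/-!
The arithmetic behind Brauer's theorem on groups with a Sylow subgroup of prime order.
-/

set_option autoImplicit false

namespace H18.BR

/-- Brauer's exceptional shape of the number `n`, where `1 + n p` is a Sylow number. -/
def IsF (n p : ℕ) : Prop :=
  ∃ h u : ℕ, 0 < h ∧ 0 < u ∧ n * (u + 1) = h * u * p + u ^ 2 + u + h

theorem isF_bound {n p : ℕ} (h : IsF n p) : p + 3 ≤ 2 * n := by
  obtain ⟨h, u, hh, hu, e⟩ := h
  have h1 : u * p ≤ h * u * p := by
    have : 1 * (u * p) ≤ h * (u * p) := Nat.mul_le_mul_right _ hh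
    rw [← mul_assoc h u p] at this
    omega
  nlinarith [Nat.mul_le_mul_right p hu]

theorem isF_of_dvd {n p a : ℕ} (hp : p.Prime) (ha1 : 1 < a) (haM : a < 1 + n * p)
    (hmod : a ≡ 1 [MOD p]) (hdvd : a ∣ (p - 1) * (1 + n * p)) : IsF n p := by
  have hp2 := hp.two_le
  obtain ⟨u, hu⟩ : ∃ u, a = u * p + 1 := by
    obtain ⟨u, hu⟩ := (Nat.modEq_iff_dvd' (by omega)).1 hmod.symm
    exact ⟨u, by rw [mul_comm]; omega⟩
  have hu0 : 0 < u := by
    rcases Nat.eq_zero_or_pos u with rfl | h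
    · omega
    · exact h
  have hun : u < n := by
    by_contra hc
    push Not at hc
    have := Nat.mul_le_mul_right p hc
    omega
  -- `a` divides `(u + 1) (1 + n p)`
  have h1 : (a : ℤ) ∣ ((u : ℤ) + 1) * (1 + (n : ℤ) * p) := by
    have hp1 : ((p - 1 : ℕ) : ℤ) = (p : ℤ) - 1 := by omega
    have hd : (a : ℤ) ∣ ((p : ℤ) - 1) * (1 + (n : ℤ) * p) := by
      have := Int.natCast_dvd_natCast.2 hdvd
      push_cast at this
      rwa [hp1] at this
    have e : ((u : ℤ) + 1) * (1 + (n : ℤ) * p) =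
        (1 + (n : ℤ) * p) * (a : ℤ) - (u : ℤ) * (((p : ℤ) - 1) * (1 + (n : ℤ) * p)) := by
      rw [hu]; push_cast; ring
    rw [e]
    exact dvd_sub (dvd_mul_left _ _) (hd.mul_left _)
  have h2 : a ∣ (u + 1) * (n - u) := by
    have e : ((u : ℤ) + 1) * ((n : ℤ) - u) * p =
        ((u : ℤ) + 1) * (1 + (n : ℤ) * p) - ((u : ℤ) + 1) * (a : ℤ) := by
      rw [hu]; push_cast; ring
    have h3 : (a : ℤ) ∣ ((((u + 1) * (n - u)) * p : ℕ) : ℤ) := by
      push_cast [Nat.cast_sub hun.le]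
      rw [e]
      exact dvd_sub h1 (dvd_mul_left _ _)
    have hco : a.Coprime p := by
      rw [hu, mul_comm, add_comm]
      exact (Nat.coprime_add_mul_left_left 1 p u).2 (Nat.coprime_one_left p)
    exact hco.dvd_of_dvd_mul_right (Int.natCast_dvd_natCast.1 h3)
  obtain ⟨h, hh⟩ := h2
  have hpos : 0 < h := by
    rcases Nat.eq_zero_or_pos h with rfl | h0
    · rw [mul_zero, mul_eq_zero] at hh
      omega
    · exact h0
  refine ⟨h, u, hpos, hu0, ?_⟩
  obtain ⟨j, rfl⟩ : ∃ j, n = u + j := ⟨n - u, by omega⟩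
  rw [Nat.add_sub_cancel_left] at hh
  rw [hu] at hh
  linear_combination hh

/-- Without the exceptional shape there are only two such divisors. -/
theorem div_cases {n p a : ℕ} (hp : p.Prime) (hF : ¬ IsF n p)
    (hmod : a ≡ 1 [MOD p]) (hdvd : a ∣ (p - 1) * (1 + n * p)) : a = 1 ∨ a = 1 + n * p := by
  have hp2 := hp.two_le
  rcases Nat.lt_trichotomy a (1 + n * p) with h | h | h
  · left
    by_contra hne
    have ha0 : 0 < a := by
      refine Nat.pos_of_ne_zero fun h0 => ?_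
      rw [h0, zero_dvd_iff, mul_eq_zero] at hdvd
      omega
    exact hF (isF_of_dvd hp (by omega) h hmod hdvd)
  · exact Or.inr h
  · exfalso
    obtain ⟨c, hc⟩ := hdvd
    have h1 : (c : ℤ) ≡ -1 [ZMOD p] := by
      have ha : (a : ℤ) ≡ 1 [ZMOD p] := by exact_mod_cast Int.natCast_modEq_iff.2 hmod
      have e : (a : ℤ) * c = ((p : ℤ) - 1) * (1 + (n : ℤ) * p) := by
        have := congrArg (fun x : ℕ => (x : ℤ)) hc
        push_cast [Nat.cast_sub (show 1 ≤ p by omega)] at this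
        exact this.symm
      calc (c : ℤ) = 1 * c := (one_mul _).symm
        _ ≡ a * c [ZMOD p] := (ha.mul_right _).symm
        _ = ((p : ℤ) - 1) * (1 + (n : ℤ) * p) := e
        _ ≡ -1 [ZMOD p] := by
          rw [Int.modEq_iff_dvd]
          exact ⟨-((1 : ℤ) + n * p - n), by ring⟩
    obtain ⟨z, hz⟩ := Int.modEq_iff_dvd.1 h1
    have hc0 : p - 1 ≤ c := by
      by_contra hcc
      push Not at hcc
      have hcz : (c : ℤ) + 1 ≤ (p : ℤ) - 1 := by omega
      have hzneg : z ≤ -1 := by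
        by_contra hz0
        push Not at hz0
        have : 0 ≤ (p : ℤ) * z := mul_nonneg (by omega) (by omega)
        omega
      have : (p : ℤ) * z ≤ (p : ℤ) * (-1) := mul_le_mul_of_nonneg_left hzneg (by omega)
      omega
    have h2 : a * (p - 1) ≤ (p - 1) * (1 + n * p) := by
      rw [hc]; exact Nat.mul_le_mul_left _ hc0
    rw [mul_comm a] at h2
    have := Nat.le_of_mul_le_mul_left h2 (by omega)
    omega

theorem modEq_one_of_int {p a : ℕ} (h : (a : ℤ) ≡ 1 [ZMOD p]) : a ≡ 1 [MOD p] :=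
  Int.natCast_modEq_iff.1 (by simpa using h)

/-- Degrees congruent to one. -/
theorem plus_cases {n p e t d : ℕ} (hp : p.Prime) (hF : ¬ IsF n p) (het : e * t = p - 1)
    (hd : (d : ℤ) ≡ 1 [ZMOD p]) (hdvd : d ∣ e * (1 + n * p)) : d = 1 ∨ d = 1 + n * p := by
  refine div_cases hp hF (modEq_one_of_int hd) ?_
  rw [← het, mul_comm e t, mul_assoc]
  exact hdvd.mul_left t

/-- Degrees congruent to minus one. -/
theorem minus_cases {n p e t d : ℕ} (hp : p.Prime) (hF : ¬ IsF n p) (het : e * t = p - 1)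
    (hd : (d : ℤ) ≡ -1 [ZMOD p]) (hdvd : d ∣ e * (1 + n * p)) :
    d = p - 1 ∨ d = (p - 1) * (1 + n * p) := by
  have hp2 := hp.two_le
  obtain ⟨K, hK⟩ := hdvd
  have e1 : d * (K * t) = (p - 1) * (1 + n * p) := by
    rw [← het, ← mul_assoc, ← hK]; ring
  have hmod : ((K * t : ℕ) : ℤ) ≡ 1 [ZMOD p] := by
    have e2 : (d : ℤ) * ((K * t : ℕ) : ℤ) = ((p : ℤ) - 1) * (1 + (n : ℤ) * p) := by
      have := congrArg (fun x : ℕ => (x : ℤ)) e1
      push_cast [Nat.cast_sub (show 1 ≤ p by omega)] at this ⊢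
      exact this
    calc ((K * t : ℕ) : ℤ) = -(-1 * ((K * t : ℕ) : ℤ)) := by ring
      _ ≡ -((d : ℤ) * ((K * t : ℕ) : ℤ)) [ZMOD p] := (hd.symm.mul_right _).neg
      _ = -(((p : ℤ) - 1) * (1 + (n : ℤ) * p)) := by rw [e2]
      _ ≡ 1 [ZMOD p] := by
        rw [Int.modEq_iff_dvd]
        exact ⟨1 - (n : ℤ) + (n : ℤ) * p, by ring⟩
  rcases div_cases hp hF (modEq_one_of_int hmod) (Dvd.intro_left _ e1) with h | h
  · right; rw [← e1, h, mul_one]
  · left
    rw [h] at e1
    exact Nat.eq_of_mul_eq_mul_right (by omega) e1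

/-- Exceptional degrees with positive sign. -/
theorem exc_plus_cases {n p e t d : ℕ} (hp : p.Prime) (hF : ¬ IsF n p) (het : e * t = p - 1)
    (hd : (d : ℤ) ≡ (e : ℤ) [ZMOD p]) (hdvd : d ∣ e * (1 + n * p)) :
    d = e ∨ d = e * (1 + n * p) := by
  have hp2 := hp.two_le
  obtain ⟨K, hK⟩ := hdvd
  have he0 : 0 < e := by
    rcases Nat.eq_zero_or_pos e with rfl | h
    · omega
    · exact h
  have hmod : (K : ℤ) ≡ 1 [ZMOD p] := by
    haveI := Fact.mk hp
    have hez : ((e : ℤ) : ZMod p) ≠ 0 := by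
      rw [Int.cast_natCast, Ne, ZMod.natCast_eq_zero_iff]
      intro hpe
      have := Nat.le_of_dvd he0 hpe
      have := Nat.le_of_dvd (by omega) (Dvd.intro t het)
      omega
    have h1 := congrArg (fun x : ℕ => (x : ZMod p)) hK
    push_cast at h1
    rw [← ZMod.intCast_eq_intCast_iff] at hd ⊢
    push_cast at hd ⊢
    rw [hd, ZMod.natCast_self, mul_zero, add_zero, mul_one] at h1
    exact mul_left_cancel₀ (by simpa using hez) (h1.symm.trans (mul_one _).symm)
  rcases div_cases hp hF (modEq_one_of_int hmod) (by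
      rw [← het, mul_comm e t, mul_assoc, hK]; exact (dvd_mul_left K d).mul_left t) with h | h
  · right; rw [hK, h, mul_one]
  · left
    rw [h] at hK
    exact (Nat.eq_of_mul_eq_mul_right (by omega) hK).symm

/-- Exceptional degrees with negative sign. -/
theorem exc_minus_cases {n p e t d : ℕ} (hp : p.Prime) (hF : ¬ IsF n p) (het : e * t = p - 1)
    (hd : (d : ℤ) ≡ -(e : ℤ) [ZMOD p]) (hdvd : d ∣ e * (1 + n * p)) (hd1 : d ≠ 1) :
    d * t = 1 + n * p := by
  have hp2 := hp.two_le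
  have hmod : ((d * t : ℕ) : ℤ) ≡ 1 [ZMOD p] := by
    push_cast
    calc (d : ℤ) * t ≡ -(e : ℤ) * t [ZMOD p] := hd.mul_right _
      _ = -(((p - 1 : ℕ) : ℤ)) := by rw [← het]; push_cast; ring
      _ ≡ 1 [ZMOD p] := by
        rw [Int.modEq_iff_dvd]
        exact ⟨1, by omega⟩
  rcases div_cases hp hF (modEq_one_of_int hmod) (by
      rw [← het, mul_comm e t, mul_assoc, mul_comm d t]; exact Nat.mul_dvd_mul_left t hdvd) with h | h
  · exact absurd (mul_eq_one.1 h).1 hd1
  · exact h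

end H18.BR
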