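import Cfsg.Agent.H12.Linear

/-!
Expansion of functions on finite abelian groups in linear characters.
-/

set_option autoImplicit false
set_option linter.unusedSectionVars false

open Cfsg
open scoped ComplexConjugate

namespace H18.BR

universe u

variable {A : Type u} [Group A] [Fintype A]

theorem linIrr_bijective (hab : ∀ a b : A, a * b = b * a) :
    Function.Bijective (H12.linIrr (G := A)) := by
  refine ⟨H12.linIrr_injective, fun χ => ?_⟩
  obtain ⟨f, hf⟩ := H12.exists_monoidHom_of_apply_one_eq_one (H12.isCharacter_irr χ)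
    (H12.irr_apply_one_of_comm hab χ)
  exact ⟨f, Subtype.ext hf⟩

theorem lin_expand [Fintype (A →* ℂˣ)] (hab : ∀ a b : A, a * b = b * a) (f : A → ℂ) (a : A) :
    f a = ∑ θ : A →* ℂˣ, classInner f (fun x => (θ x : ℂ)) * (θ a : ℂ) := by
  have hf : IsClassFunction A f := fun g h => by rw [hab h g, mul_inv_cancel_right]
  rw [H12.classFunction_apply_eq_sum hf a]
  exact (Fintype.sum_bijective _ (linIrr_bijective hab) _ _ fun θ => rfl).symm

theorem lin_parseval [Fintype (A →* ℂˣ)] (hab : ∀ a b : A, a * b = b * a) (f : A → ℂ) :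
    ∑ a, f a * conj (f a) = (Nat.card A : ℂ) *
      ∑ θ : A →* ℂˣ, classInner f (fun x => (θ x : ℂ)) * conj (classInner f fun x => (θ x : ℂ)) := by
  have hf : IsClassFunction A f := fun g h => by rw [hab h g, mul_inv_cancel_right]
  rw [H12.sum_mul_conj_eq_card_mul, H12.classInner_eq_sum_mul hf hf]
  congr 1
  exact (Fintype.sum_bijective _ (linIrr_bijective hab) _ _ fun θ => rfl).symm

end H18.BR
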