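import Cfsg.Agent.H18.BrauerData
import Cfsg.Agent.H18.LinExpand
import Cfsg.Agent.H14.Basic

/-!
The characters of the principal block on the normaliser of the Sylow subgroup.
-/

set_option autoImplicit false
set_option linter.unusedSectionVars false

open Cfsg
open scoped ComplexConjugate

namespace H18.BR

universe u

variable {G : Type u} [Group G] [Fintype G] {p : ℕ} [hp : Fact p.Prime] {n : ℕ}

namespace Core

open scoped Classical

variable (D : Core G p n)

local notation "P'" => (D.P : Subgroup G)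
local notation "N'" => Subgroup.normalizer ((D.P : Subgroup G) : Set G)

theorem card_P' : Nat.card P' = p := D.cardP

/-- The sum of the values on the Sylow subgroup. -/
noncomputable def psum (f : G → ℂ) : ℂ := ∑ x : P', f x

/-- The integer `v` with `deg = v p + ε e` for exceptional degrees. -/
noncomputable def v : ℤ := D.exists_v.choose

theorem deg_v {θ : IrrCharacter G} (hθ : θ ∈ D.Y) :
    (H12.degree (θ : G → ℂ) : ℤ) = D.v * p + D.ε * D.e := D.exists_v.choose_spec θ hθ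

theorem ε_eq : D.ε = 1 ∨ D.ε = -1 := D.ε_eq'

theorem εX_eq {χ : IrrCharacter G} (hχ : χ ∈ D.X) : D.εX χ = 1 ∨ D.εX χ = -1 := D.εX_eq' χ hχ

theorem psum_eq (f : G → ℂ) :
    D.psum f = f 1 + ∑ x ∈ (Finset.univ : Finset P').erase 1, f x := by
  rw [psum, ← Finset.add_sum_erase _ _ (Finset.mem_univ (1 : P')), OneMemClass.coe_one]


theorem card_erase :
    ((Finset.univ : Finset P').erase 1).card = p - 1 := by
  rw [Finset.card_erase_of_mem (Finset.mem_univ _), Finset.card_univ, ← Nat.card_eq_fintype_card,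
    D.card_P']

theorem psum_X {χ : IrrCharacter G} (hχ : χ ∈ D.X) :
    D.psum χ = (H12.degree (χ : G → ℂ) : ℂ) + ((p - 1 : ℕ) : ℂ) * (D.εX χ : ℂ) := by
  classical
  rw [D.psum_eq, H12.irr_apply_one, Finset.sum_congr rfl fun (x : P') hx =>
    D.valX χ hχ x x.2 fun e => Finset.ne_of_mem_erase hx (Subtype.ext e), Finset.sum_const,
    D.card_erase, nsmul_eq_mul]

/-- The Sylow subgroup is cyclic, so abelian. -/
theorem P_comm : ∀ a b : P', a * b = b * a := by
  haveI : IsCyclic P' := isCyclic_of_prime_card D.cardP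
  letI := IsCyclic.commGroup (α := P')
  exact mul_comm

/-- The multiplicity of the trivial character on the Sylow subgroup. -/
theorem exists_fix (χ : IrrCharacter G) : ∃ a : ℕ, D.psum χ = (p : ℂ) * a := by
  classical
  obtain ⟨a, ha⟩ := H12.IsCharacter.classInner_nat
    (H12.IsCharacter.comp (H12.isCharacter_irr χ) (P').subtype) (H12.isCharacter_irr (H12.oneIrr P'))
  refine ⟨a, ?_⟩
  rw [H12.classInner_def, D.card_P', inv_mul_eq_iff_eq_mul₀ (Nat.cast_ne_zero.2 hp.out.ne_zero)] at ha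
  rw [← ha, psum]
  exact Finset.sum_congr (by ext; simp) fun x _ => by simp [H12.oneIrr_apply]

set_option maxHeartbeats 800000 in
theorem block_facts :
    (∀ χ, χ ∉ D.X → χ ∉ D.Y → ∀ x : P', x ≠ 1 → (χ : G → ℂ) x = 0) ∧
    ∀ θ ∈ D.Y, D.psum θ = (p : ℂ) * (D.v : ℂ) ∧
      ∑ x : P', (θ : G → ℂ) x * conj ((θ : G → ℂ) x) =
        ((p * D.e : ℕ) : ℂ) + (H12.degree (θ : G → ℂ) : ℂ) ^ 2 - (D.e : ℂ) ^ 2 := by
  haveI : Finite (P' →* ℂˣ) := Nat.finite_of_card_ne_zero (by
    rw [H12.card_monoidHom_units]; exact Subgroup.index_ne_zero_of_finite)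
  letI := Fintype.ofFinite (P' →* ℂˣ)
  have hcardhom : Fintype.card (P' →* ℂˣ) = p := by
    have hbot : commutator P' = ⊥ := by rw [commutator_eq_bot_iff]; exact ⟨⟨D.P_comm⟩⟩
    rw [← Nat.card_eq_fintype_card, H12.card_monoidHom_units, hbot, Subgroup.index_bot, D.card_P']
  have hp2 := hp.out.two_le
  let S : IrrCharacter G → ℂ := fun χ =>
    ∑ x ∈ (Finset.univ : Finset P').erase 1, (χ : G → ℂ) x * conj ((χ : G → ℂ) x)
  have hc : ∀ (χ : IrrCharacter G) (l : P' →* ℂˣ), ∃ a : ℕ,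
      classInner (fun x : P' => (χ : G → ℂ) x) (fun x => (l x : ℂ)) = a := fun χ l =>
    H12.IsCharacter.classInner_nat (H12.IsCharacter.comp (H12.isCharacter_irr χ) (P').subtype)
      (H12.isCharacter_monoidHom l)
  choose c hcs using hc
  have hparse : ∀ χ : IrrCharacter G, (H12.degree (χ : G → ℂ) : ℂ) ^ 2 + S χ =
      (p : ℂ) * ∑ l, ((c χ l : ℕ) : ℂ) ^ 2 := by
    intro χ
    have h := lin_parseval D.P_comm (fun x : P' => (χ : G → ℂ) x)
    rw [← Finset.add_sum_erase _ _ (Finset.mem_univ (1 : P')), OneMemClass.coe_one,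
      H12.irr_apply_one, Complex.conj_natCast, D.card_P'] at h
    rw [sq]
    refine h.trans ?_
    congr 1
    exact Finset.sum_congr rfl fun l _ => by rw [hcs, Complex.conj_natCast, sq]
  have hdeg : ∀ χ : IrrCharacter G, (H12.degree (χ : G → ℂ) : ℤ) = ∑ l, (c χ l : ℤ) := by
    intro χ
    have h := lin_expand D.P_comm (fun x : P' => (χ : G → ℂ) x) 1
    rw [OneMemClass.coe_one, H12.irr_apply_one] at h
    simp only [hcs, map_one, Units.val_one, mul_one] at h
    exact_mod_cast h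
  have hfix : ∀ χ : IrrCharacter G, D.psum χ = (p : ℂ) * (c χ 1 : ℂ) := by
    intro χ
    rw [← hcs, H12.classInner_def, D.card_P', ← mul_assoc,
      mul_inv_cancel₀ (Nat.cast_ne_zero.2 hp.out.ne_zero), one_mul, psum]
    exact Finset.sum_congr (by ext; simp) fun x _ => by simp
  -- the real quantities
  let T : IrrCharacter G → ℤ := fun χ =>
    (p : ℤ) * ∑ l, (c χ l : ℤ) ^ 2 - (H12.degree (χ : G → ℂ) : ℤ) ^ 2
  have hTS : ∀ χ, ((T χ : ℤ) : ℂ) = S χ := fun χ => by
    simp only [T]; push_cast; linear_combination -(hparse χ)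
  have htotal : ∑ χ, T χ = ((p : ℤ) - 1) * p := by
    have h : ((∑ χ, T χ : ℤ) : ℂ) = ((p : ℂ) - 1) * p := by
      push_cast
      simp only [hTS, S]
      rw [Finset.sum_comm, Finset.sum_congr rfl (g := fun _ => (p : ℂ)) fun (x : P') hx => ?_,
        Finset.sum_const, D.card_erase, nsmul_eq_mul, Nat.cast_sub (by omega), Nat.cast_one]
      rw [H12.column_orthogonality, if_pos (IsConj.refl _),
        centralizer_singleton_eq D.cardP x.2 fun e => Finset.ne_of_mem_erase hx (Subtype.ext e),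
        D.cent, D.card_P']
    exact_mod_cast h
  have hTX : ∀ χ ∈ D.X, T χ = (p : ℤ) - 1 := by
    intro χ hχ
    have h : ((T χ : ℤ) : ℂ) = (p : ℂ) - 1 := by
      rw [hTS]
      simp only [S]
      rw [Finset.sum_congr rfl (g := fun _ => (1 : ℂ)) fun (x : P') hx => by
        rw [D.valX χ hχ x x.2 fun e => Finset.ne_of_mem_erase hx (Subtype.ext e), map_intCast]
        rcases D.εX_eq hχ with h | h <;> rw [h] <;> norm_num, Finset.sum_const, D.card_erase,
        nsmul_one, Nat.cast_sub (by omega), Nat.cast_one]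
    exact_mod_cast h
  have hT0 : ∀ χ, 0 ≤ T χ := by
    intro χ
    have h : (0 : ℝ) ≤ (S χ).re := by
      simp only [S, Complex.re_sum]
      exact Finset.sum_nonneg fun x _ => by
        rw [Complex.mul_conj, Complex.ofReal_re]; exact Complex.normSq_nonneg _
    rw [← hTS, Complex.intCast_re] at h
    exact_mod_cast h
  let z : IrrCharacter G → ℤ := fun θ => (c θ 1 : ℤ) - D.v
  let Q : IrrCharacter G → ℤ := fun θ =>
    ∑ l ∈ (Finset.univ : Finset (P' →* ℂˣ)).erase 1, ((c θ l : ℤ) - D.v) ^ 2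
  have hTY : ∀ θ ∈ D.Y, T θ = (p : ℤ) * (z θ ^ 2 + Q θ) - (D.e : ℤ) ^ 2 ∧
      |D.ε * (D.e : ℤ) - z θ| ≤ Q θ := by
    intro θ hθ
    have hd := hdeg θ
    rw [← Finset.add_sum_erase _ _ (Finset.mem_univ (1 : P' →* ℂˣ))] at hd
    have hlin : ∑ l ∈ (Finset.univ : Finset (P' →* ℂˣ)).erase 1, ((c θ l : ℤ) - D.v) =
        D.ε * D.e - z θ := by
      rw [Finset.sum_sub_distrib, Finset.sum_const, Finset.card_erase_of_mem (Finset.mem_univ _),
        Finset.card_univ, hcardhom, nsmul_eq_mul, Nat.cast_sub (by omega), Nat.cast_one]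
      simp only [z]
      linear_combination (D.deg_v hθ) - hd
    refine ⟨?_, ?_⟩
    · have hsq : ∑ l, (c θ l : ℤ) ^ 2 =
          (c θ 1 : ℤ) ^ 2 + Q θ + 2 * D.v * (D.ε * D.e - z θ) + ((p : ℤ) - 1) * D.v ^ 2 := by
        rw [← Finset.add_sum_erase _ _ (Finset.mem_univ (1 : P' →* ℂˣ)), ← hlin, Finset.mul_sum,
          add_assoc ((c θ 1 : ℤ) ^ 2), add_assoc ((c θ 1 : ℤ) ^ 2)]
        congr 1
        simp only [Q]
        rw [show ((p : ℤ) - 1) * D.v ^ 2 =
          ∑ _l ∈ (Finset.univ : Finset (P' →* ℂˣ)).erase 1, D.v ^ 2 by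
            rw [Finset.sum_const, Finset.card_erase_of_mem (Finset.mem_univ _), Finset.card_univ,
              hcardhom, nsmul_eq_mul, Nat.cast_sub (by omega), Nat.cast_one],
          ← Finset.sum_add_distrib, ← Finset.sum_add_distrib]
        exact Finset.sum_congr rfl fun l _ => by ring
      have hεsq : D.ε ^ 2 = 1 := by rcases D.ε_eq with h | h <;> simp [h]
      simp only [T, hsq, D.deg_v hθ, z]
      linear_combination (-(D.e : ℤ) ^ 2) * hεsq
    · rw [← hlin]
      refine (Finset.abs_sum_le_sum_abs _ _).trans (Finset.sum_le_sum fun l _ => ?_)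
      rw [← sq_abs]
      exact Int.le_self_sq _
  have hzsum : ∑ θ ∈ D.Y, z θ = 0 := by
    have h : ∑ θ ∈ D.Y, D.psum θ =
        ((∑ θ ∈ D.Y, (H12.degree (θ : G → ℂ) : ℤ) : ℤ) : ℂ) + ((p - 1 : ℕ) : ℂ) * -(D.ε : ℂ) := by
      simp only [D.psum_eq, H12.irr_apply_one]
      rw [Finset.sum_add_distrib, Finset.sum_comm, Finset.sum_congr rfl fun (x : P') hx =>
        D.ysum x x.2 fun e => Finset.ne_of_mem_erase hx (Subtype.ext e), Finset.sum_const,
        D.card_erase, nsmul_eq_mul]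
      push_cast
      rfl
    simp only [hfix] at h
    have h' : ∑ θ ∈ D.Y, (p : ℤ) * (c θ 1 : ℤ) =
        ∑ θ ∈ D.Y, (H12.degree (θ : G → ℂ) : ℤ) + ((p - 1 : ℕ) : ℤ) * -D.ε := by
      exact_mod_cast h
    rw [Finset.sum_congr rfl (s₁ := D.Y) (f := fun θ : IrrCharacter G =>
      (H12.degree (θ : G → ℂ) : ℤ)) fun θ hθ => D.deg_v hθ,
      Finset.sum_const, D.cardY, nsmul_eq_mul, ← D.et, ← Finset.mul_sum] at h'
    push_cast at h'
    simp only [z, Finset.sum_sub_distrib, Finset.sum_const, D.cardY, nsmul_eq_mul]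
    apply mul_left_cancel₀ (show (p : ℤ) ≠ 0 by exact_mod_cast hp.out.ne_zero)
    rw [mul_zero]
    linear_combination h'
  have hbound : ∀ θ ∈ D.Y, (D.e : ℤ) ≤ z θ ^ 2 + Q θ := by
    intro θ hθ
    obtain ⟨-, h⟩ := hTY θ hθ
    obtain ⟨h1, h2⟩ := abs_le.1 h
    have h3 := Int.le_self_sq (z θ)
    have h4 := Int.le_self_sq (-z θ)
    rw [neg_sq] at h4
    rcases D.ε_eq with hs | hs <;> rw [hs] at h1 h2 <;> linarith
  -- all inequalities are equalities
  have hsplit : ∑ χ, T χ = ∑ χ ∈ D.X, T χ + ∑ θ ∈ D.Y, T θ +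
      ∑ χ ∈ Finset.univ \ (D.X ∪ D.Y), T χ := by
    rw [← Finset.sum_union D.disj, add_comm, Finset.sum_sdiff (Finset.subset_univ _)]
  rw [htotal, Finset.sum_congr rfl hTX, Finset.sum_const, D.cardX, nsmul_eq_mul] at hsplit
  have hlowY : ∀ θ ∈ D.Y, (D.e : ℤ) * ((p : ℤ) - D.e) ≤ T θ := by
    intro θ hθ
    rw [(hTY θ hθ).1]
    have := mul_le_mul_of_nonneg_left (hbound θ hθ) (show (0 : ℤ) ≤ p by positivity)
    linarith
  have hetz : (D.e : ℤ) * D.t = (p : ℤ) - 1 := by
    have := congrArg (fun x : ℕ => (x : ℤ)) D.et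
    push_cast [Nat.cast_sub (show 1 ≤ p by omega)] at this
    exact this
  have hrest : ∑ χ ∈ Finset.univ \ (D.X ∪ D.Y), T χ = 0 ∧
      ∀ θ ∈ D.Y, T θ = (D.e : ℤ) * ((p : ℤ) - D.e) := by
    have h0 : 0 ≤ ∑ χ ∈ Finset.univ \ (D.X ∪ D.Y), T χ := Finset.sum_nonneg fun χ _ => hT0 χ
    have h1 := Finset.sum_le_sum hlowY
    rw [Finset.sum_const, D.cardY, nsmul_eq_mul] at h1
    have h2 : (D.t : ℤ) * ((D.e : ℤ) * ((p : ℤ) - D.e)) + (D.e : ℤ) * ((p : ℤ) - 1) =
        ((p : ℤ) - 1) * p := by linear_combination ((p : ℤ) - D.e) * hetz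
    refine ⟨by linarith, fun θ hθ => ((Finset.sum_eq_sum_iff_of_le hlowY).1 ?_ θ hθ).symm⟩
    rw [Finset.sum_const, D.cardY, nsmul_eq_mul]
    linarith
  obtain ⟨hrest, hYeq⟩ := hrest
  have hz0 : ∀ θ ∈ D.Y, z θ ^ 2 + Q θ = D.e := by
    intro θ hθ
    have h := (hTY θ hθ).1
    rw [hYeq θ hθ] at h
    apply mul_left_cancel₀ (show (p : ℤ) ≠ 0 by exact_mod_cast hp.out.ne_zero)
    linarith
  have hz : ∀ θ ∈ D.Y, z θ = 0 := by
    have h : ∀ θ ∈ D.Y, z θ ^ 2 ≤ D.ε * z θ := by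
      intro θ hθ
      obtain ⟨h1, h2⟩ := abs_le.1 (hTY θ hθ).2
      have h3 := hz0 θ hθ
      rcases D.ε_eq with hs | hs <;> rw [hs] at h1 h2 ⊢ <;> linarith
    have hs0 : ∑ θ ∈ D.Y, z θ ^ 2 ≤ 0 := by
      refine (Finset.sum_le_sum h).trans ?_
      rw [← Finset.mul_sum, hzsum, mul_zero]
    intro θ hθ
    have h1 := Finset.single_le_sum (f := fun θ : IrrCharacter G => z θ ^ 2) (s := D.Y)
      (fun θ _ => sq_nonneg _) hθ
    have h2 : z θ ^ 2 = 0 := le_antisymm (h1.trans hs0) (sq_nonneg _)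
    simpa using h2
  refine ⟨fun χ hX hY x hx => ?_, fun θ hθ => ⟨?_, ?_⟩⟩
  · have h := (Finset.sum_eq_zero_iff_of_nonneg fun χ _ => hT0 χ).1 hrest χ (by simp [hX, hY])
    have h' : S χ = 0 := by rw [← hTS, h, Int.cast_zero]
    have h2 : ∑ y ∈ (Finset.univ : Finset P').erase 1, Complex.normSq ((χ : G → ℂ) y) = 0 := by
      have h3 := congrArg Complex.re h'
      simp only [S, Complex.mul_conj, Complex.re_sum, Complex.ofReal_re, Complex.zero_re] at h3
      exact h3
    exact Complex.normSq_eq_zero.1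
      ((Finset.sum_eq_zero_iff_of_nonneg fun y _ => Complex.normSq_nonneg _).1 h2 x
        (Finset.mem_erase.2 ⟨hx, Finset.mem_univ _⟩))
  · rw [hfix]
    have h := hz θ hθ
    simp only [z, sub_eq_zero] at h
    congr 1
    exact_mod_cast h
  · rw [← Finset.add_sum_erase _ _ (Finset.mem_univ (1 : P')), OneMemClass.coe_one,
      H12.irr_apply_one, Complex.conj_natCast]
    have h := hTS θ
    rw [hYeq θ hθ] at h
    show _ + S θ = _
    rw [← h]
    push_cast
    ring

/-- Complements of the Sylow subgroup in its normaliser. -/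
theorem exists_complement : ∃ E : Subgroup G, E ≤ N' ∧ Nat.card E = D.e ∧
    (∀ x ∈ P', x ∈ E → x = 1) ∧ (∀ g ∈ N', ∃ x ∈ P', ∃ h ∈ E, x * h = g) ∧ IsCyclic E := by
  have hle : P' ≤ N' := Subgroup.le_normalizer
  haveI : ((P').subgroupOf N').Normal := Subgroup.normal_in_normalizer
  have hcP : Nat.card ((P').subgroupOf N') = p := by
    rw [Nat.card_congr (Subgroup.subgroupOfEquivOfLe hle).toEquiv, D.card_P']
  have hidx : ((P').subgroupOf N').index = D.e := by
    have h := ((P').subgroupOf N').card_mul_index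
    rw [hcP, D.normalizer_card] at h
    exact Nat.eq_of_mul_eq_mul_left hp.out.pos h
  have hco : Nat.Coprime (Nat.card ((P').subgroupOf N')) ((P').subgroupOf N').index := by
    rw [hcP, hidx]
    refine (hp.out.coprime_iff_not_dvd).2 fun h => ?_
    have := Nat.le_of_dvd (by have := D.two_le_e; omega) h
    have : D.e ≤ p - 1 := Nat.le_of_dvd (by have := hp.out.two_le; omega) (Dvd.intro D.t D.et)
    have := hp.out.two_le
    omega
  obtain ⟨E₀, hE₀⟩ := Subgroup.exists_right_complement'_of_coprime hco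
  let E := E₀.map (Subgroup.subtype N')
  have hcE : Nat.card E = D.e := by
    rw [Subgroup.card_map_of_injective (Subgroup.subtype_injective _)]
    have h := hE₀.card_mul
    rw [hcP, D.normalizer_card] at h
    exact Nat.eq_of_mul_eq_mul_left hp.out.pos h
  have hEN : E ≤ N' := Subgroup.map_subtype_le _
  have htriv : ∀ x ∈ P', x ∈ E → x = 1 := by
    rintro x hx ⟨y, hy, rfl⟩
    have h : y ∈ (P').subgroupOf N' ⊓ E₀ := ⟨hx, hy⟩
    rw [hE₀.disjoint.eq_bot, Subgroup.mem_bot] at h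
    simp [h]
  refine ⟨E, hEN, hcE, htriv, fun g hg => ?_, ?_⟩
  · obtain ⟨⟨x, h⟩, hxh, -⟩ := hE₀.existsUnique ⟨g, hg⟩
    exact ⟨(x.1 : G), x.2, (h.1 : G), ⟨h.1, h.2, rfl⟩, congrArg Subtype.val hxh⟩
  · haveI : IsCyclic P' := isCyclic_of_prime_card D.cardP
    have hcyc : IsCyclic (MulAut P') := by
      haveI : IsCyclic (ZMod (Nat.card P'))ˣ := by
        rw [D.card_P']; exact ZMod.isCyclic_units_prime hp.out
      exact isCyclic_of_surjective (IsCyclic.mulAutMulEquiv P').symm.toMonoidHom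
        (IsCyclic.mulAutMulEquiv P').symm.surjective
    haveI := hcyc
    refine isCyclic_of_injective ((P').normalizerMonoidHom.comp (Subgroup.inclusion hEN)) ?_
    rw [← MonoidHom.ker_eq_bot_iff, Subgroup.eq_bot_iff_forall]
    intro y hy
    rw [MonoidHom.mem_ker, MonoidHom.comp_apply, ← MonoidHom.mem_ker,
      Subgroup.normalizerMonoidHom_ker, Subgroup.mem_subgroupOf] at hy
    have hy' : (y : G) ∈ P' := by rw [← D.cent]; exact hy
    exact Subtype.ext (htriv _ hy' y.2)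

/-- A complement of the Sylow subgroup in its normaliser. -/
noncomputable def E : Subgroup G := D.exists_complement.choose

theorem E_le : D.E ≤ N' := D.exists_complement.choose_spec.1
theorem card_E : Nat.card D.E = D.e := D.exists_complement.choose_spec.2.1
theorem E_inf {x : G} (hx : x ∈ P') (hxE : x ∈ D.E) : x = 1 :=
  D.exists_complement.choose_spec.2.2.1 x hx hxE
theorem exists_mul {g : G} (hg : g ∈ N') : ∃ x ∈ P', ∃ h ∈ D.E, x * h = g :=
  D.exists_complement.choose_spec.2.2.2.1 g hg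
theorem E_cyclic : IsCyclic D.E := D.exists_complement.choose_spec.2.2.2.2

theorem E_comm : ∀ a b : D.E, a * b = b * a := by
  haveI := D.E_cyclic
  letI := IsCyclic.commGroup (α := D.E)
  exact mul_comm

theorem not_commute {a h : G} (ha : a ∈ P') (ha1 : a ≠ 1) (hh : h ∈ D.E) (hh1 : h ≠ 1) :
    a * h ≠ h * a := by
  intro e
  have hmem : h ∈ Subgroup.centralizer ({a} : Set G) := Subgroup.mem_centralizer_singleton_iff.2 e.symm
  rw [centralizer_singleton_eq D.cardP ha ha1, D.cent] at hmem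
  exact hh1 (D.E_inf hmem hh)

theorem exists_conj {h : G} (hh : h ∈ D.E) (hh1 : h ≠ 1) {x : G} (hx : x ∈ P') :
    ∃ a ∈ P', a * h * a⁻¹ = x * h := by
  have hn : ∀ a : P', (a : G) * h * (a : G)⁻¹ * h⁻¹ ∈ P' := fun a => by
    rw [show (a : G) * h * (a : G)⁻¹ * h⁻¹ = (a : G) * (h * (a : G)⁻¹ * h⁻¹) by group]
    exact mul_mem a.2 ((Subgroup.mem_normalizer_iff.1 (D.E_le hh) _).1 (inv_mem a.2))
  let f : P' → P' := fun a => ⟨_, hn a⟩
  have hf : Function.Injective f := by
    intro a b e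
    have e' : (a : G) * h * (a : G)⁻¹ * h⁻¹ = (b : G) * h * (b : G)⁻¹ * h⁻¹ :=
      congrArg Subtype.val e
    by_contra hne
    refine D.not_commute (mul_mem (inv_mem b.2) a.2)
      (fun h0 => hne (Subtype.ext (inv_mul_eq_one.1 h0).symm)) hh hh1 ?_
    calc (b : G)⁻¹ * a * h = (b : G)⁻¹ * ((a : G) * h * (a : G)⁻¹ * h⁻¹) * h * a := by group
      _ = (b : G)⁻¹ * ((b : G) * h * (b : G)⁻¹ * h⁻¹) * h * a := by rw [e']
      _ = h * ((b : G)⁻¹ * a) := by group
  obtain ⟨a, ha⟩ := (Finite.injective_iff_surjective.1 hf) ⟨x, hx⟩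
  refine ⟨a, a.2, ?_⟩
  have e : (a : G) * h * (a : G)⁻¹ * h⁻¹ = x := congrArg Subtype.val ha
  rw [← e, inv_mul_cancel_right]

theorem val_coset {f : G → ℂ} (hf : IsClassFunction G f) {h : G} (hh : h ∈ D.E) (hh1 : h ≠ 1)
    {x : G} (hx : x ∈ P') : f (x * h) = f h := by
  obtain ⟨a, -, e⟩ := D.exists_conj hh hh1 hx
  rw [← e, hf]

/-- The projection of the normaliser to the complement. -/
theorem exists_proj : ∃ φ : N' →* D.E, ∀ (x : G) (h : D.E) (hxh : x * (h : G) ∈ N'),
    x ∈ P' → φ ⟨x * h, hxh⟩ = h := by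
  haveI : ((P').subgroupOf N').Normal := Subgroup.normal_in_normalizer
  let ψ : D.E →* N' ⧸ (P').subgroupOf N' :=
    (QuotientGroup.mk' _).comp (Subgroup.inclusion D.E_le)
  have hψ : Function.Bijective ψ := by
    constructor
    · rw [← MonoidHom.ker_eq_bot_iff, Subgroup.eq_bot_iff_forall]
      intro y hy
      rw [MonoidHom.mem_ker, MonoidHom.comp_apply, QuotientGroup.mk'_apply,
        QuotientGroup.eq_one_iff, Subgroup.mem_subgroupOf] at hy
      exact Subtype.ext (D.E_inf hy y.2)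
    · intro q
      obtain ⟨g, rfl⟩ := QuotientGroup.mk'_surjective _ q
      obtain ⟨x, hx, h, hh, e⟩ := D.exists_mul g.2
      refine ⟨⟨h, hh⟩, ?_⟩
      refine (QuotientGroup.eq.2 ?_)
      rw [Subgroup.mem_subgroupOf]
      show h⁻¹ * (g : G) ∈ P'
      rw [← e, ← mul_assoc]
      have := (Subgroup.mem_normalizer_iff.1 (inv_mem (D.E_le hh)) x).1 hx
      rwa [inv_inv] at this
  refine ⟨(MulEquiv.ofBijective ψ hψ).symm.toMonoidHom.comp (QuotientGroup.mk' _),
    fun x h hxh hx => ?_⟩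
  show (MulEquiv.ofBijective ψ hψ).symm _ = h
  rw [MulEquiv.symm_apply_eq]
  refine QuotientGroup.eq.2 ?_
  rw [Subgroup.mem_subgroupOf]
  show (x * (h : G))⁻¹ * (h : G) ∈ P'
  have := (Subgroup.mem_normalizer_iff.1 (inv_mem (D.E_le h.2)) x⁻¹).1 (inv_mem hx)
  rw [inv_inv] at this
  rwa [mul_inv_rev]

/-- The projection. -/
noncomputable def proj : N' →* D.E := D.exists_proj.choose

/-- The character of the normaliser induced from a character of the complement. -/
noncomputable def pic (μ : D.E →* ℂˣ) : G → ℂ :=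
  indFun N' fun g => ((μ (D.proj g)) : ℂ)

/-- The average over cosets of the Sylow subgroup. -/
noncomputable def avg (f : G → ℂ) : D.E → ℂ :=
  fun h => (p : ℂ)⁻¹ * ∑ x : P', f ((x : G) * (h : G))

theorem avg_one (f : G → ℂ) : D.avg f 1 = (p : ℂ)⁻¹ * D.psum f := by
  simp [avg, psum]

theorem avg_ne_one {f : G → ℂ} (hf : IsClassFunction G f) {h : D.E} (hh : h ≠ 1) :
    D.avg f h = f h := by
  classical
  have hh1 : (h : G) ≠ 1 := fun e => hh (Subtype.ext e)
  simp only [avg]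
  rw [Finset.sum_congr rfl fun x _ => D.val_coset hf h.2 hh1 x.2, Finset.sum_const,
    Finset.card_univ, ← Nat.card_eq_fintype_card, D.card_P', nsmul_eq_mul, ← mul_assoc,
    inv_mul_cancel₀ (Nat.cast_ne_zero.2 hp.out.ne_zero), one_mul]

theorem classInner_avg {f : G → ℂ} (hf : IsClassFunction G f) (μ : D.E →* ℂˣ) :
    classInner (D.avg f) (fun h => (μ h : ℂ)) = classInner f (D.pic μ) := by
  rw [pic, H12.classInner_indFun_right _ _ hf, H12.classInner_def, H12.classInner_def,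
    D.card_E, D.normalizer_card]
  let e : P' × D.E → N' := fun q => ⟨(q.1 : G) * (q.2 : G),
    mul_mem (Subgroup.le_normalizer q.1.2) (D.E_le q.2.2)⟩
  have he : Function.Bijective e := by
    refine (Nat.bijective_iff_injective_and_card _).mpr ⟨fun q r h => ?_, ?_⟩
    · have hh : (q.1 : G) * (q.2 : G) = (r.1 : G) * (r.2 : G) := congrArg Subtype.val h
      have h1 : (r.1 : G)⁻¹ * (q.1 : G) = (r.2 : G) * (q.2 : G)⁻¹ := by
        rw [inv_mul_eq_iff_eq_mul, ← mul_assoc, ← hh, mul_inv_cancel_right]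
      have h2 := D.E_inf (mul_mem (inv_mem r.1.2) q.1.2)
        (h1 ▸ mul_mem r.2.2 (inv_mem q.2.2))
      rw [h2] at h1
      exact Prod.ext (Subtype.ext (inv_mul_eq_one.1 h2).symm)
        (Subtype.ext (mul_inv_eq_one.1 h1.symm).symm)
    · rw [Nat.card_prod, D.card_P', D.card_E, D.normalizer_card]
  rw [← Fintype.sum_bijective e he _ _ fun q => rfl, Fintype.sum_prod_type_right]
  simp only [avg]
  rw [Nat.cast_mul, mul_inv, mul_comm (p : ℂ)⁻¹, mul_assoc, Finset.mul_sum (a := (p : ℂ)⁻¹)]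
  congr 1
  refine Finset.sum_congr rfl fun h _ => ?_
  rw [mul_assoc, Finset.sum_mul]
  congr 1
  refine Finset.sum_congr rfl fun x _ => ?_
  congr 3
  exact (congrArg μ (D.exists_proj.choose_spec x h _ x.2)).symm

theorem pic_isCharacter (μ : D.E →* ℂˣ) : IsCharacter G (D.pic μ) :=
  H12.IsCharacter.indFun (H12.isCharacter_monoidHom (μ.comp D.proj))

theorem pic_one (μ : D.E →* ℂˣ) : D.pic μ 1 = ((1 + n * p : ℕ) : ℂ) := by
  rw [pic, H12.indFun_one, ← D.sylow, D.P.card_eq_index_normalizer]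
  simp

theorem exists_cf (χ : IrrCharacter G) (μ : D.E →* ℂˣ) :
    ∃ a : ℕ, classInner (χ : G → ℂ) (D.pic μ) = a :=
  H12.IsCharacter.classInner_nat (H12.isCharacter_irr χ) (D.pic_isCharacter μ)

/-- Multiplicities. -/
noncomputable def cf (χ : IrrCharacter G) (μ : D.E →* ℂˣ) : ℕ := (D.exists_cf χ μ).choose

theorem cf_spec (χ : IrrCharacter G) (μ : D.E →* ℂˣ) :
    classInner (χ : G → ℂ) (D.pic μ) = D.cf χ μ := (D.exists_cf χ μ).choose_spec

theorem pic_eq_sum (μ : D.E →* ℂˣ) (g : G) :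
    D.pic μ g = ∑ χ : IrrCharacter G, (D.cf χ μ : ℂ) * (χ : G → ℂ) g := by
  rw [H12.classFunction_apply_eq_sum (f := D.pic μ) (H12.indFun_isClassFunction _ _) g]
  refine Finset.sum_congr rfl fun χ _ => ?_
  rw [← H12.conj_classInner, D.cf_spec, Complex.conj_natCast]

theorem cf_eq (χ : IrrCharacter G) (μ : D.E →* ℂˣ) :
    (D.cf χ μ : ℂ) = classInner (D.avg χ) (fun h => (μ h : ℂ)) := by
  rw [D.classInner_avg (H12.irr_isClassFunction χ), D.cf_spec]

instance : Finite (D.E →* ℂˣ) := Nat.finite_of_card_ne_zero (by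
  rw [H12.card_monoidHom_units]; exact Subgroup.index_ne_zero_of_finite)

noncomputable instance : Fintype (D.E →* ℂˣ) := Fintype.ofFinite _

theorem card_hom : Fintype.card (D.E →* ℂˣ) = D.e := by
  have hbot : commutator D.E = ⊥ := by rw [commutator_eq_bot_iff]; exact ⟨⟨D.E_comm⟩⟩
  rw [← Nat.card_eq_fintype_card, H12.card_monoidHom_units, hbot, Subgroup.index_bot, D.card_E]

theorem avg_expand (χ : IrrCharacter G) (h : D.E) :
    D.avg χ h = ∑ μ : D.E →* ℂˣ, (D.cf χ μ : ℂ) * (μ h : ℂ) := by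
  rw [lin_expand D.E_comm (D.avg χ) h]
  exact Finset.sum_congr rfl fun μ _ => by rw [D.cf_eq]

theorem val_expand (χ : IrrCharacter G) {h : D.E} (hh : h ≠ 1) :
    (χ : G → ℂ) h = ∑ μ : D.E →* ℂˣ, (D.cf χ μ : ℂ) * (μ h : ℂ) := by
  rw [← D.avg_expand, D.avg_ne_one (H12.irr_isClassFunction χ) hh]

theorem sum_cf (χ : IrrCharacter G) :
    (p : ℂ) * ∑ μ : D.E →* ℂˣ, (D.cf χ μ : ℂ) = D.psum χ := by
  have h := D.avg_expand χ 1
  rw [D.avg_one] at h
  simp only [map_one, Units.val_one, mul_one] at h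
  rw [← h, ← mul_assoc, mul_inv_cancel₀ (Nat.cast_ne_zero.2 hp.out.ne_zero), one_mul]

/-- On the complement the block relation picks out every character exactly once. -/
theorem partition {θ : IrrCharacter G} (hθ : θ ∈ D.Y) (μ : D.E →* ℂˣ) :
    ∑ χ ∈ D.X, D.εX χ * (D.cf χ μ : ℤ) - D.ε * (D.cf θ μ : ℤ) = 1 := by
  have hsum : ∀ h : D.E, ∑ χ ∈ D.X, (D.εX χ : ℂ) * D.avg χ h - (D.ε : ℂ) * D.avg θ h =
      if h = 1 then (D.e : ℂ) else 0 := by
    intro h
    by_cases hh : h = 1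
    · subst hh
      rw [if_pos rfl]
      simp only [D.avg_one]
      rw [Finset.sum_congr rfl fun χ hχ => by rw [D.psum_X hχ], (D.block_facts.2 θ hθ).1]
      have hrel : (D.ε : ℂ) * (H12.degree (θ : G → ℂ) : ℂ) =
          ∑ χ ∈ D.X, (D.εX χ : ℂ) * (H12.degree (χ : G → ℂ) : ℂ) := by
        have h := D.rel θ hθ 1 one_not_dvd_orderOf_one
        simpa only [H12.irr_apply_one] using h
      have hsq : ∀ χ ∈ D.X, (D.εX χ : ℂ) * (D.εX χ : ℂ) = 1 := fun χ hχ => by
        rcases D.εX_eq hχ with h | h <;> rw [h] <;> norm_num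
      rw [Finset.sum_congr rfl (g := fun χ : IrrCharacter G =>
          (p : ℂ)⁻¹ * ((D.εX χ : ℂ) * (H12.degree (χ : G → ℂ) : ℂ)) + (p : ℂ)⁻¹ * ((p - 1 : ℕ) : ℂ))
        fun χ hχ => by
          linear_combination ((p : ℂ)⁻¹ * ((p - 1 : ℕ) : ℂ)) * hsq χ hχ,
        Finset.sum_add_distrib, ← Finset.mul_sum, ← hrel, Finset.sum_const, D.cardX, nsmul_eq_mul]
      have hεsq : (D.ε : ℂ) * (D.ε : ℂ) = 1 := by rcases D.ε_eq with h | h <;> rw [h] <;> norm_num
      have hd : (H12.degree (θ : G → ℂ) : ℂ) = (D.v : ℂ) * p + (D.ε : ℂ) * D.e := by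
        exact_mod_cast D.deg_v hθ
      have hpinv : (p : ℂ)⁻¹ * p = 1 := inv_mul_cancel₀ (Nat.cast_ne_zero.2 hp.out.ne_zero)
      rw [hd, Nat.cast_sub hp.out.one_le, Nat.cast_one]
      linear_combination ((p : ℂ)⁻¹ * D.e) * hεsq + (D.e : ℂ) * hpinv
    · rw [if_neg hh]
      have hreg : ¬ p ∣ orderOf (h : G) := by
        intro hd
        have h1 := hd.trans (show orderOf (h : G) ∣ Nat.card D.E by
          rw [Subgroup.orderOf_coe]; exact orderOf_dvd_natCard h)
        rw [D.card_E] at h1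
        have := Nat.le_of_dvd (by have := D.two_le_e; omega) h1
        have : D.e ≤ p - 1 := Nat.le_of_dvd (by have := hp.out.two_le; omega) (Dvd.intro D.t D.et)
        have := hp.out.two_le
        omega
      rw [D.avg_ne_one (H12.irr_isClassFunction θ) hh,
        Finset.sum_congr rfl fun χ _ => by rw [D.avg_ne_one (H12.irr_isClassFunction χ) hh],
        D.rel θ hθ h hreg, sub_self]
  have h := congrArg (fun f : D.E → ℂ => classInner f (fun h => (μ h : ℂ))) (funext hsum)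
  rw [H12.classInner_def, H12.classInner_def, D.card_E,
    Finset.sum_eq_single 1 (f := fun h : D.E => (if h = 1 then (D.e : ℂ) else 0) * conj (μ h : ℂ))
      (fun h _ hh => by rw [if_neg hh, zero_mul]) (by simp), if_pos rfl, map_one, Units.val_one,
    map_one, mul_one, inv_mul_cancel₀ (Nat.cast_ne_zero.2 (by have := D.two_le_e; omega))] at h
  simp only [sub_mul, Finset.sum_sub_distrib, Finset.sum_mul, mul_assoc] at h
  rw [Finset.sum_comm] at h
  simp only [← Finset.mul_sum, mul_sub] at h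
  rw [Finset.mul_sum] at h
  have hcf : ∀ χ : IrrCharacter G, (D.cf χ μ : ℂ) =
      (D.e : ℂ)⁻¹ * ∑ h : D.E, D.avg χ h * conj (μ h : ℂ) := fun χ => by
    rw [D.cf_eq, H12.classInner_def, D.card_E]
  simp only [mul_left_comm (D.e : ℂ)⁻¹, ← hcf] at h
  exact_mod_cast h

end Core

end H18.BR
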