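import Cfsg.Agent.H18.BrauerBlock

/-!
Multiplicities of the induced characters of the normaliser, case by case.
-/

set_option autoImplicit false
set_option linter.unusedSectionVars false

open Cfsg
open scoped ComplexConjugate

namespace H18.BR

universe u

variable {G : Type u} [Group G] [Fintype G] {p : ℕ} [hp : Fact p.Prime] {n : ℕ}

open scoped Classical in
theorem indFun_one_eq_card_fixed (N : Subgroup G) (g : G) :
    indFun N (fun _ => (1 : ℂ)) g = (Nat.card {q : G ⧸ N // g • q = q} : ℂ) := by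
  have hiff : ∀ x : G, x⁻¹ * g * x ∈ N ↔ g • (x : G ⧸ N) = x := by
    intro x
    rw [MulAction.Quotient.smul_mk, QuotientGroup.eq, smul_eq_mul, mul_inv_rev,
      ← N.inv_mem_iff (x := x⁻¹ * g⁻¹ * x)]
    simp [mul_assoc]
  rw [H12.indFun_apply]
  have h : ∀ x : G, extendByZero N (fun _ => (1 : ℂ)) (x⁻¹ * g * x) =
      if g • (x : G ⧸ N) = x then 1 else 0 := fun x => by
    rw [H12.extendByZero_eq_dite]
    by_cases hx : x⁻¹ * g * x ∈ N
    · rw [dif_pos hx, if_pos ((hiff x).1 hx)]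
    · rw [dif_neg hx, if_neg (hx ∘ (hiff x).2)]
  rw [Finset.sum_congr rfl fun x _ => h x, Finset.sum_boole]
  have hc : (Finset.univ.filter fun x : G => g • (x : G ⧸ N) = x).card =
      Nat.card N * Nat.card {q : G ⧸ N // g • q = q} := by
    rw [← Fintype.card_subtype, ← Nat.card_eq_fintype_card, ← Nat.card_prod]
    exact Nat.card_congr (QuotientGroup.preimageMkEquivSubgroupProdSet N {q | g • q = q})
  rw [hc, Nat.cast_mul, ← mul_assoc, inv_mul_cancel₀ (Nat.cast_ne_zero.2 Nat.card_pos.ne'),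
    one_mul]

namespace Core

variable (D : Core G p n)

open scoped Classical

local notation "P'" => (D.P : Subgroup G)
local notation "N'" => Subgroup.normalizer ((D.P : Subgroup G) : Set G)

/-- The characters of the block of degree `1 + n p`. -/
noncomputable def plus : Finset (IrrCharacter G) :=
  D.X.filter fun χ => χ ≠ H12.oneIrr G ∧ D.εX χ = 1

/-- The characters of the block of degree `p - 1`. -/
noncomputable def minus : Finset (IrrCharacter G) :=
  D.X.filter fun χ => χ ≠ H12.oneIrr G ∧ D.εX χ = -1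

theorem X_eq : D.X = insert (H12.oneIrr G) (D.plus ∪ D.minus) := by
  ext χ
  simp only [Finset.mem_insert, Finset.mem_union, plus, minus, Finset.mem_filter]
  refine ⟨fun h => ?_, ?_⟩
  · by_cases h1 : χ = H12.oneIrr G
    · exact .inl h1
    · rcases D.εX_eq h with h2 | h2
      · exact .inr (.inl ⟨h, h1, h2⟩)
      · exact .inr (.inr ⟨h, h1, h2⟩)
  · rintro (rfl | ⟨h, -, -⟩ | ⟨h, -, -⟩)
    · exact D.one_mem
    all_goals exact h

theorem one_notMem : H12.oneIrr G ∉ D.plus ∪ D.minus := by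
  simp [plus, minus]

theorem plus_disj : Disjoint D.plus D.minus :=
  Finset.disjoint_filter.2 fun χ _ h h' => by omega

theorem sum_X {α : Type*} [AddCommMonoid α] (f : IrrCharacter G → α) :
    ∑ χ ∈ D.X, f χ = f (H12.oneIrr G) + (∑ χ ∈ D.plus, f χ + ∑ χ ∈ D.minus, f χ) := by
  rw [D.X_eq, Finset.sum_insert D.one_notMem, Finset.sum_union D.plus_disj]

theorem cf_oneIrr (μ : D.E →* ℂˣ) : D.cf (H12.oneIrr G) μ = if μ = 1 then 1 else 0 := by
  have h : D.avg (H12.oneIrr G : G → ℂ) = fun h => ((1 : D.E →* ℂˣ) h : ℂ) := by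
    funext h
    simp only [avg, H12.oneIrr_apply, MonoidHom.one_apply, Units.val_one, Finset.sum_const,
      Finset.card_univ, nsmul_eq_mul, mul_one, ← Nat.card_eq_fintype_card, D.card_P']
    exact inv_mul_cancel₀ (Nat.cast_ne_zero.2 hp.out.ne_zero)
  have h2 : (D.cf (H12.oneIrr G) μ : ℂ) = if μ = 1 then 1 else 0 := by
    rw [D.cf_eq, h]
    show classInner ((H12.linIrr (1 : D.E →* ℂˣ)) : D.E → ℂ) (H12.linIrr μ : D.E → ℂ) = _
    rw [H12.classInner_irr]
    by_cases hμ : μ = 1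
    · rw [if_pos hμ, if_pos (by rw [hμ])]
    · rw [if_neg hμ, if_neg fun e => hμ (H12.linIrr_injective e).symm]
  split_ifs at h2 ⊢ <;> exact_mod_cast h2

theorem sum_cf_Y {θ : IrrCharacter G} (hθ : θ ∈ D.Y) :
    ∑ μ : D.E →* ℂˣ, (D.cf θ μ : ℤ) = D.v := by
  have h1 := D.sum_cf θ
  rw [(D.block_facts.2 θ hθ).1] at h1
  have h2 := mul_left_cancel₀ (show (p : ℂ) ≠ 0 from Nat.cast_ne_zero.2 hp.out.ne_zero) h1
  exact_mod_cast h2

theorem Y_nonempty : D.Y.Nonempty := Finset.card_pos.1 (by rw [D.cardY]; exact D.t_pos)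

theorem sum_deg (μ : D.E →* ℂˣ) :
    ∑ χ : IrrCharacter G, D.cf χ μ * H12.degree (χ : G → ℂ) = 1 + n * p := by
  have h := D.pic_eq_sum μ 1
  rw [D.pic_one] at h
  simp only [H12.irr_apply_one] at h
  exact_mod_cast h.symm

/-- A set of characters of full degree exhausts an induced character. -/
theorem cf_eq_zero_of_full {μ : D.E →* ℂˣ} {S : Finset (IrrCharacter G)}
    (hS : 1 + n * p ≤ ∑ χ ∈ S, D.cf χ μ * H12.degree (χ : G → ℂ)) {χ : IrrCharacter G}
    (hχ : χ ∉ S) : D.cf χ μ = 0 := by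
  have h := D.sum_deg μ
  rw [← Finset.sum_sdiff (Finset.subset_univ S)] at h
  have h0 : ∑ ψ ∈ Finset.univ \ S, D.cf ψ μ * H12.degree (ψ : G → ℂ) = 0 := by omega
  have h1 := Finset.sum_eq_zero_iff.1 h0 χ (by simp [hχ])
  exact (Nat.mul_eq_zero.1 h1).resolve_right (H12.irr_degree_pos χ).ne'

theorem pic_eq_of_zero {μ : D.E →* ℂˣ} {S : Finset (IrrCharacter G)}
    (h : ∀ χ ∉ S, D.cf χ μ = 0) (g : G) :
    D.pic μ g = ∑ χ ∈ S, (D.cf χ μ : ℂ) * (χ : G → ℂ) g := by
  rw [D.pic_eq_sum]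
  exact (Finset.sum_subset (Finset.subset_univ S) fun χ _ hχ => by simp [h χ hχ]).symm

theorem ne_one_card : ((Finset.univ : Finset (D.E →* ℂˣ)).erase 1).card = D.e - 1 := by
  rw [Finset.card_erase_of_mem (Finset.mem_univ _), Finset.card_univ, D.card_hom]

end Core

namespace Data

variable (D : Data G p n)

open scoped Classical

local notation "P'" => (D.P : Subgroup G)
local notation "N'" => Subgroup.normalizer ((D.P : Subgroup G) : Set G)

theorem plus_spec {χ : IrrCharacter G} (h : χ ∈ D.plus) :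
    χ ∈ D.X ∧ χ ≠ H12.oneIrr G ∧ D.εX χ = 1 ∧ H12.degree (χ : G → ℂ) = 1 + n * p := by
  obtain ⟨hX, h1, h2⟩ := Finset.mem_filter.1 h
  refine ⟨hX, h1, h2, ?_⟩
  rcases D.xcases χ hX with ⟨e, -⟩ | ⟨-, -, e⟩ | ⟨-, e, -⟩
  · exact absurd e h1
  · exact e
  · omega

theorem minus_spec {χ : IrrCharacter G} (h : χ ∈ D.minus) :
    χ ∈ D.X ∧ χ ≠ H12.oneIrr G ∧ D.εX χ = -1 ∧ H12.degree (χ : G → ℂ) = p - 1 := by
  obtain ⟨hX, h1, h2⟩ := Finset.mem_filter.1 h
  refine ⟨hX, h1, h2, ?_⟩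
  rcases D.xcases χ hX with ⟨e, -⟩ | ⟨-, e, -⟩ | ⟨-, -, e⟩
  · exact absurd e h1
  · omega
  · exact e

theorem sum_cf_plus {χ : IrrCharacter G} (h : χ ∈ D.plus) :
    ∑ μ : D.E →* ℂˣ, D.cf χ μ = n + 1 := by
  obtain ⟨hX, -, hε, hd⟩ := D.plus_spec h
  have h1 := D.sum_cf χ
  rw [D.psum_X hX, hε, hd] at h1
  have h2 : ((p * ∑ μ : D.E →* ℂˣ, D.cf χ μ : ℕ) : ℂ) = ((p * (n + 1) : ℕ) : ℂ) := by
    push_cast [Nat.cast_sub hp.out.one_le] at h1 ⊢
    rw [h1]; ring
  exact Nat.eq_of_mul_eq_mul_left hp.out.pos (by exact_mod_cast h2)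

theorem cf_minus {χ : IrrCharacter G} (h : χ ∈ D.minus) (μ : D.E →* ℂˣ) : D.cf χ μ = 0 := by
  obtain ⟨hX, -, hε, hd⟩ := D.minus_spec h
  have h1 := D.sum_cf χ
  rw [D.psum_X hX, hε, hd] at h1
  have h2 : ∑ μ : D.E →* ℂˣ, (D.cf χ μ : ℂ) = 0 := by
    apply mul_left_cancel₀ (show (p : ℂ) ≠ 0 from Nat.cast_ne_zero.2 hp.out.ne_zero)
    rw [h1]; push_cast; ring
  exact (Finset.sum_eq_zero_iff.1 (by exact_mod_cast h2 : ∑ μ : D.E →* ℂˣ, D.cf χ μ = 0)) μ
    (Finset.mem_univ _)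

theorem partition' {θ : IrrCharacter G} (hθ : θ ∈ D.Y) {μ : D.E →* ℂˣ} (hμ : μ ≠ 1) :
    ∑ χ ∈ D.plus, (D.cf χ μ : ℤ) - D.ε * (D.cf θ μ : ℤ) = 1 := by
  have h := D.partition hθ μ
  rw [D.sum_X, D.cf_oneIrr, if_neg hμ, Finset.sum_eq_zero (s := D.minus) fun χ hχ => by
      rw [D.cf_minus hχ]; simp,
    Finset.sum_congr rfl (g := fun χ : IrrCharacter G => (D.cf χ μ : ℤ)) fun χ hχ => by
      rw [(D.plus_spec hχ).2.2.1, one_mul]] at h
  simpa using h

theorem partition_one {θ : IrrCharacter G} (hθ : θ ∈ D.Y) :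
    ∑ χ ∈ D.plus, (D.cf χ 1 : ℤ) - D.ε * (D.cf θ 1 : ℤ) = 0 := by
  have h := D.partition hθ 1
  rw [D.sum_X, D.cf_oneIrr, if_pos rfl, D.εX_one, Finset.sum_eq_zero (s := D.minus) fun χ hχ => by
      rw [D.cf_minus hχ]; simp,
    Finset.sum_congr rfl (g := fun χ : IrrCharacter G => (D.cf χ 1 : ℤ)) fun χ hχ => by
      rw [(D.plus_spec hχ).2.2.1, one_mul]] at h
  push_cast at h
  linarith

theorem pic_plus {μ : D.E →* ℂˣ} {χ : IrrCharacter G} (hχ : χ ∈ D.plus) (h : 1 ≤ D.cf χ μ) :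
    D.cf χ μ = 1 ∧ (∀ ψ, ψ ≠ χ → D.cf ψ μ = 0) ∧ D.pic μ = (χ : G → ℂ) := by
  have hd := (D.plus_spec hχ).2.2.2
  have hle : D.cf χ μ * (1 + n * p) ≤ 1 + n * p := by
    have := Finset.single_le_sum (f := fun ψ : IrrCharacter G =>
      D.cf ψ μ * H12.degree (ψ : G → ℂ)) (fun _ _ => Nat.zero_le _) (Finset.mem_univ χ)
    rw [D.sum_deg] at this
    simpa [hd] using this
  have h1 : D.cf χ μ = 1 := le_antisymm (by
    by_contra hc
    have := Nat.mul_le_mul_right (1 + n * p) (show 2 ≤ D.cf χ μ by omega)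
    omega) h
  have h0 : ∀ ψ, ψ ≠ χ → D.cf ψ μ = 0 := fun ψ hψ =>
    D.cf_eq_zero_of_full (S := {χ}) (by simp [h1, hd]) (by simpa using hψ)
  refine ⟨h1, h0, funext fun g => ?_⟩
  rw [D.pic_eq_of_zero (S := {χ}) (fun ψ hψ => h0 ψ (by simpa using hψ)), Finset.sum_singleton,
    h1, Nat.cast_one, one_mul]

theorem sum_sum_plus (h1 : ∀ χ ∈ D.plus, D.cf χ 1 = 0) :
    ∑ μ ∈ (Finset.univ : Finset (D.E →* ℂˣ)).erase 1, ∑ χ ∈ D.plus, D.cf χ μ =
      D.plus.card * (n + 1) := by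
  rw [Finset.sum_comm, Finset.sum_congr rfl (g := fun _ : IrrCharacter G => n + 1) fun χ hχ => ?_,
    Finset.sum_const, smul_eq_mul]
  rw [← D.sum_cf_plus hχ, ← Finset.add_sum_erase _ _ (Finset.mem_univ (1 : D.E →* ℂˣ)), h1 χ hχ,
    zero_add]

/-- If the exceptional characters have degree `e` then `n = 1`. -/
theorem n_eq_one_of_pos (hε : D.ε = 1) : n = 1 := by
  obtain ⟨θ, hθ⟩ := D.Y_nonempty
  obtain ⟨-, ht2, hdeg⟩ : D.ε = 1 ∧ 2 ≤ D.t ∧ ∀ θ ∈ D.Y, H12.degree (θ : G → ℂ) = D.e := by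
    rcases D.ydeg with h | ⟨h, -⟩
    · exact h
    · omega
  have hp0 : (p : ℤ) ≠ 0 := by exact_mod_cast hp.out.ne_zero
  have hv : D.v = 0 := by
    have h := D.deg_v hθ
    rw [hdeg θ hθ, hε, one_mul] at h
    exact (mul_eq_zero.1 (by linarith : D.v * (p : ℤ) = 0)).resolve_right hp0
  have hθ0 : ∀ μ, D.cf θ μ = 0 := fun μ => by
    have h := D.sum_cf_Y hθ
    rw [hv] at h
    exact Finset.sum_eq_zero_iff.1 (by exact_mod_cast h : ∑ μ : D.E →* ℂˣ, D.cf θ μ = 0) μ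
      (Finset.mem_univ _)
  have hplus1 : ∀ χ ∈ D.plus, D.cf χ 1 = 0 := by
    have h := D.partition_one hθ
    rw [hθ0, Nat.cast_zero, mul_zero, sub_zero] at h
    exact fun χ hχ => Finset.sum_eq_zero_iff.1 (by exact_mod_cast h : ∑ χ ∈ D.plus, D.cf χ 1 = 0)
      χ hχ
  have hone : ∀ μ ≠ 1, ∑ χ ∈ D.plus, D.cf χ μ = 1 := fun μ hμ => by
    have h := D.partition' hθ hμ
    rw [hθ0, Nat.cast_zero, mul_zero, sub_zero] at h
    exact_mod_cast h
  have hk : D.plus.card * (n + 1) = D.e - 1 := by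
    rw [← D.sum_sum_plus hplus1, Finset.sum_congr rfl (g := fun _ : D.E →* ℂˣ => 1) fun μ hμ =>
      hone μ (Finset.ne_of_mem_erase hμ), Finset.sum_const, D.ne_one_card, smul_eq_mul, mul_one]
  let f : G → ℂ := (θ : G → ℂ) * fun g => conj ((θ : G → ℂ) g)
  have hf : IsCharacter G f :=
    H12.IsCharacter.mul (H12.isCharacter_irr θ) (H12.isCharacter_irr (H12.conjIrr θ))
  have hfavg : D.avg f = fun h => if h = 1 then (D.e : ℂ) else 0 := by
    funext h
    by_cases hh : h = 1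
    · subst hh
      rw [if_pos rfl, D.avg_one]
      have hs : D.psum f = ∑ x : P', (θ : G → ℂ) x * conj ((θ : G → ℂ) x) := rfl
      rw [hs, (D.block_facts.2 θ hθ).2, hdeg θ hθ]
      push_cast
      field_simp [hp.out.ne_zero]
      ring
    · rw [if_neg hh, D.avg_ne_one (H12.IsCharacter.isClassFunction hf) hh]
      show (θ : G → ℂ) h * conj ((θ : G → ℂ) h) = 0
      rw [D.val_expand θ hh, Finset.sum_eq_zero fun μ _ => by simp [hθ0 μ], zero_mul]
  have hinner : ∀ μ : D.E →* ℂˣ, classInner f (D.pic μ) = 1 := by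
    intro μ
    rw [← D.classInner_avg (H12.IsCharacter.isClassFunction hf), hfavg, H12.classInner_def, D.card_E,
      Finset.sum_eq_single 1 (fun h _ hh => by rw [if_neg hh, zero_mul]) (by simp), if_pos rfl,
      map_one, Units.val_one, map_one, mul_one,
      inv_mul_cancel₀ (Nat.cast_ne_zero.2 (by have := D.two_le_e; omega))]
  choose m hm using fun χ : IrrCharacter G =>
    H12.IsCharacter.classInner_nat hf (H12.isCharacter_irr χ)
  have hm1 : m (H12.oneIrr G) = 1 := by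
    have h : classInner f (H12.oneIrr G : G → ℂ) = 1 := by
      rw [H12.classInner_def]
      have h := H12.classInner_irr_self θ
      rw [H12.classInner_def] at h
      simpa [f, H12.oneIrr_apply] using h
    exact_mod_cast (hm _).symm.trans h
  have hmp : ∀ χ ∈ D.plus, m χ = 1 := by
    intro χ hχ
    obtain ⟨μ, hμ⟩ : ∃ μ, 1 ≤ D.cf χ μ := by
      by_contra hc
      push Not at hc
      have h := D.sum_cf_plus hχ
      rw [Finset.sum_eq_zero fun μ _ => by have := hc μ; omega] at h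
      omega
    have h := hinner μ
    rw [(D.pic_plus hχ hμ).2.2, hm] at h
    exact_mod_cast h
  have hdegf : ∑ χ : IrrCharacter G, m χ * H12.degree (χ : G → ℂ) = D.e * D.e := by
    have h := H12.classFunction_apply_eq_sum (H12.IsCharacter.isClassFunction hf) 1
    simp only [hm, H12.irr_apply_one] at h
    have h1 : f 1 = ((D.e * D.e : ℕ) : ℂ) := by
      simp [f, H12.irr_apply_one, hdeg θ hθ]
    rw [h1] at h
    exact_mod_cast h.symm
  have hle : 1 + D.plus.card * (1 + n * p) ≤ D.e * D.e := by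
    rw [← hdegf]
    refine le_trans ?_ (Finset.sum_le_sum_of_subset
      (Finset.subset_univ (insert (H12.oneIrr G) D.plus)))
    rw [Finset.sum_insert (fun h => D.one_notMem (Finset.mem_union_left _ h)), hm1,
      degree_one, Finset.sum_congr rfl (g := fun _ : IrrCharacter G => 1 + n * p) fun χ hχ => by
        rw [hmp χ hχ, (D.plus_spec hχ).2.2.2, one_mul], Finset.sum_const, smul_eq_mul, one_mul]
  by_contra hne
  have hn2 : 2 ≤ n := by have := D.n_pos; omega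
  obtain ⟨k, hkdef⟩ : ∃ k, k = D.plus.card := ⟨_, rfl⟩
  rw [← hkdef] at hle hk
  have he := D.two_le_e
  have hket : D.e * D.t = p - 1 := D.et
  have h2e : 2 * D.e ≤ D.e * D.t := by rw [mul_comm 2]; exact Nat.mul_le_mul_left _ ht2
  have hk0 : 0 < k := by
    rcases Nat.eq_zero_or_pos k with h | h
    · rw [h, zero_mul] at hk; omega
    · exact h
  have hp2 := hp.out.two_le
  zify [show 1 ≤ D.e by omega] at hk
  zify at hle
  have e1 : (2 : ℤ) * D.e ≤ (p : ℤ) - 1 := by omega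
  have e2 : (1 : ℤ) + n * p ≤ ((D.e : ℤ) + 1) * (n + 1) := by
    have h3 : ((k : ℤ)) * (1 + n * p) ≤ (k : ℤ) * (((D.e : ℤ) + 1) * (n + 1)) := by
      calc (k : ℤ) * (1 + n * p) ≤ ((D.e : ℤ) - 1) * (D.e + 1) := by linarith
        _ = _ := by rw [← hk]; ring
    exact le_of_mul_le_mul_left h3 (by exact_mod_cast hk0)
  have hn2' : (2 : ℤ) ≤ n := by exact_mod_cast hn2
  nlinarith

end Data

end H18.BR
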