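import Cfsg.Agent.H18.BrauerArith
import Cfsg.Agent.H12.Transport
import Cfsg.Agent.H12.Integral
import Cfsg.Agent.H12.Linear
import Cfsg.Agent.H20.Knorr
import Cfsg.Agent.S4441
import Cfsg.Agent.S0925

/-!
The principal block of a simple group with a Sylow subgroup of prime order whose Sylow number
does not have Brauer's exceptional shape.
-/

set_option autoImplicit false
set_option linter.unusedSectionVars false

open Cfsg
open scoped ComplexConjugate

namespace H18.BR

universe u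

variable {G : Type u} [Group G] [Fintype G] {p : ℕ} [hp : Fact p.Prime]

/-- A character whose values on a subgroup sum to zero sums to zero on all its cosets. -/
theorem sum_coset_eq_zero {χ : G → ℂ} (hχ : IsCharacter G χ) (P : Subgroup G) [Fintype P]
    (h0 : ∑ x : P, χ x = 0) (g : G) : ∑ x : P, χ ((x : G) * g) = 0 := by
  obtain ⟨d, ρ, rfl⟩ := hχ
  let σ : Representation ℂ P (Fin d → ℂ) := ρ.comp P.subtype
  have hinv : Module.finrank ℂ σ.invariants = 0 := by
    have h := Representation.card_inv_mul_sum_char_eq_finrank σ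
    have e : ∑ x : P, σ.character x = 0 := h0
    rw [e, mul_zero] at h
    exact_mod_cast h.symm
  have hbot : σ.invariants = ⊥ := Submodule.finrank_eq_zero.1 hinv
  have hz : σ.averageMap = 0 := LinearMap.ext fun v => by
    have h := σ.averageMap_invariant v
    rw [hbot, Submodule.mem_bot] at h
    exact h
  have hsum : ∑ x : P, σ x = 0 := by
    have h : (⅟(Fintype.card P : ℂ)) • ∑ x : P, σ x = σ.averageMap := by
      simp [Representation.averageMap, GroupAlgebra.average, map_sum, Finset.smul_sum]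
    rw [hz, smul_eq_zero] at h
    exact h.resolve_left (Invertible.ne_zero (⅟(Fintype.card P : ℂ)))
  have e : ∀ x : P, ρ.character ((x : G) * g) = LinearMap.trace ℂ _ (σ x * ρ g) := fun x => by
    show LinearMap.trace ℂ _ (ρ ((x : G) * g)) = _
    rw [map_mul]; rfl
  rw [Finset.sum_congr rfl fun x _ => e x, ← map_sum, ← Finset.sum_mul, hsum, zero_mul, map_zero]

theorem orderOf_mem_eq {P : Sylow p G} (hP : Nat.card P = p) {x : G}
    (hx : x ∈ (P : Subgroup G)) (hx1 : x ≠ 1) : orderOf x = p := by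
  have h := Subgroup.orderOf_dvd_natCard (P : Subgroup G) hx
  rw [show Nat.card (P : Subgroup G) = p from hP] at h
  rcases (Nat.dvd_prime hp.out).1 h with h | h
  · exact absurd (orderOf_eq_one_iff.1 h) hx1
  · exact h

theorem exists_ne_one_mem {P : Sylow p G} (hP : Nat.card P = p) :
    ∃ x ∈ (P : Subgroup G), x ≠ 1 := by
  by_contra h
  push Not at h
  have : (P : Subgroup G) = ⊥ := (Subgroup.eq_bot_iff_forall _).2 h
  have h2 : Nat.card (P : Subgroup G) = 1 := by rw [this]; exact Subgroup.card_bot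
  have := hp.out.one_lt
  rw [show Nat.card (P : Subgroup G) = p from hP] at h2
  omega

theorem zpowers_eq_sylow {P : Sylow p G} (hP : Nat.card P = p) {x : G}
    (hx : x ∈ (P : Subgroup G)) (hx1 : x ≠ 1) : Subgroup.zpowers x = (P : Subgroup G) :=
  Subgroup.eq_of_le_of_card_ge (by simpa using hx) (by
    rw [Nat.card_zpowers, orderOf_mem_eq hP hx hx1]; exact hP.le)

theorem centralizer_singleton_eq {P : Sylow p G} (hP : Nat.card P = p) {x : G}
    (hx : x ∈ (P : Subgroup G)) (hx1 : x ≠ 1) :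
    Subgroup.centralizer ({x} : Set G) = Subgroup.centralizer ((P : Subgroup G) : Set G) := by
  conv_rhs => rw [← zpowers_eq_sylow hP hx hx1, Subgroup.zpowers_eq_closure,
    Subgroup.centralizer_closure]

theorem degree_one : H12.degree (H12.oneIrr G : G → ℂ) = 1 := by
  have h' := H12.irr_apply_one (H12.oneIrr G)
  rw [H12.oneIrr_apply] at h'
  exact_mod_cast h'.symm

theorem linear_eq_one (hperf : commutator G = ⊤) {χ : IrrCharacter G}
    (h : H12.degree (χ : G → ℂ) = 1) : χ = H12.oneIrr G := by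
  obtain ⟨f, hf⟩ := H12.exists_monoidHom_of_apply_one_eq_one (H12.isCharacter_irr χ)
    (by rw [H12.irr_apply_one, h, Nat.cast_one])
  have hf1 : f = 1 := MonoidHom.ext fun g => by
    have : commutator G ≤ f.ker := Abelianization.commutator_subset_ker f
    exact this (hperf ▸ Subgroup.mem_top g)
  refine Subtype.ext (funext fun g => ?_)
  rw [← hf, hf1]
  rfl

/-- The principal block of a simple group with self-centralising Sylow subgroup of order `p`. -/
structure Core (G : Type u) [Group G] [Fintype G] (p : ℕ) [Fact p.Prime] (n : ℕ) where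
  P : Sylow p G
  cardP : Nat.card P = p
  cent : Subgroup.centralizer ((P : Subgroup G) : Set G) = (P : Subgroup G)
  sylow : Nat.card (Sylow p G) = 1 + n * p
  n_pos : 0 < n
  e : ℕ
  t : ℕ
  et : e * t = p - 1
  two_le_e : 2 ≤ e
  t_pos : 0 < t
  normalizer_card : Nat.card (Subgroup.normalizer ((P : Subgroup G) : Set G)) = p * e
  card_G : Nat.card G = p * e * (1 + n * p)
  X : Finset (IrrCharacter G)
  Y : Finset (IrrCharacter G)
  disj : Disjoint X Y
  cardX : X.card = e
  cardY : Y.card = t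
  one_mem : H12.oneIrr G ∈ X
  εX : IrrCharacter G → ℤ
  ε : ℤ
  valX : ∀ χ ∈ X, ∀ x ∈ (P : Subgroup G), x ≠ 1 → (χ : G → ℂ) x = (εX χ : ℂ)
  rel : ∀ θ ∈ Y, ∀ g : G, ¬ p ∣ orderOf g →
    (ε : ℂ) * (θ : G → ℂ) g = ∑ χ ∈ X, (εX χ : ℂ) * (χ : G → ℂ) g
  ysum : ∀ x ∈ (P : Subgroup G), x ≠ 1 → ∑ θ ∈ Y, (θ : G → ℂ) x = -(ε : ℂ)
  εX_eq' : ∀ χ ∈ X, εX χ = 1 ∨ εX χ = -1
  ε_eq' : ε = 1 ∨ ε = -1
  εX_one : εX (H12.oneIrr G) = 1
  exists_v : ∃ v : ℤ, ∀ θ ∈ Y, (H12.degree (θ : G → ℂ) : ℤ) = v * p + ε * e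

/-- The data of the principal block outside the exceptional family. -/
structure Data (G : Type u) [Group G] [Fintype G] (p : ℕ) [Fact p.Prime] (n : ℕ)
    extends Core G p n where
  xcases : ∀ χ ∈ X, (χ = H12.oneIrr G ∧ εX χ = 1) ∨
    (χ ≠ H12.oneIrr G ∧ εX χ = 1 ∧ H12.degree (χ : G → ℂ) = 1 + n * p) ∨
    (χ ≠ H12.oneIrr G ∧ εX χ = -1 ∧ H12.degree (χ : G → ℂ) = p - 1)
  ydeg : (ε = 1 ∧ 2 ≤ t ∧ ∀ θ ∈ Y, H12.degree (θ : G → ℂ) = e) ∨
    (ε = -1 ∧ ∀ θ ∈ Y, H12.degree (θ : G → ℂ) * t = 1 + n * p)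

/-- The data of the principal block before the degrees are known. -/
structure Raw (P : Sylow p G) (e t : ℕ) where
  X : Finset (IrrCharacter G)
  Y : Finset (IrrCharacter G)
  disj : Disjoint X Y
  cardX : X.card = e
  cardY : Y.card = t
  εX : IrrCharacter G → ℤ
  ε : ℤ
  εX_eq : ∀ χ ∈ X, εX χ = 1 ∨ εX χ = -1
  ε_eq : ε = 1 ∨ ε = -1
  valX : ∀ χ ∈ X, ∀ x ∈ (P : Subgroup G), x ≠ 1 →
    ∀ y ∈ Subgroup.centralizer ((P : Subgroup G) : Set G), ¬ p ∣ orderOf y →
      (χ : G → ℂ) (x * y) = (εX χ : ℂ)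
  degX : ∀ χ ∈ X, (H12.degree (χ : G → ℂ) : ℤ) ≡ εX χ [ZMOD p]
  degY : ∀ θ ∈ Y, (H12.degree (θ : G → ℂ) : ℤ) ≡ ε * (e : ℤ) [ZMOD p]
  rel : ∀ θ ∈ Y, ∀ g : G, ¬ p ∣ orderOf g →
    (ε : ℂ) * (θ : G → ℂ) g = ∑ χ ∈ X, (εX χ : ℂ) * (χ : G → ℂ) g
  ysum : ∀ x ∈ (P : Subgroup G), x ≠ 1 → ∑ θ ∈ Y, (θ : G → ℂ) x = -(ε : ℂ)

theorem one_not_dvd_orderOf_one : ¬ p ∣ orderOf (1 : G) := by
  rw [orderOf_one]; exact hp.out.not_dvd_one

open scoped Classical in
/-- With a single exceptional character any member of the block may play its part. -/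
theorem Raw.swap {P : Sylow p G} (hP : Nat.card P = p) {e : ℕ} (he : e = p - 1)
    (R : Raw P e 1) {θ a : IrrCharacter G} (hθ : θ ∈ R.Y) (ha : a ∈ R.X)
    (hval : ∀ x ∈ (P : Subgroup G), x ≠ 1 →
      ∀ y ∈ Subgroup.centralizer ((P : Subgroup G) : Set G), ¬ p ∣ orderOf y →
        (θ : G → ℂ) (x * y) = -(R.ε : ℂ)) :
    ∃ R' : Raw P e 1, R'.X = insert θ (R.X.erase a) ∧ R'.Y = {a} ∧ R'.ε = -R.εX a ∧
      R'.εX θ = -R.ε ∧ ∀ χ ∈ R.X, R'.εX χ = R.εX χ := by
  have hY : R.Y = {θ} := (Finset.eq_of_subset_of_card_le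
    (Finset.singleton_subset_iff.2 hθ) (by rw [R.cardY, Finset.card_singleton])).symm
  have hθX : θ ∉ R.X := fun h => Finset.disjoint_left.1 R.disj h hθ
  have hpe : ((p - 1 : ℕ) : ℤ) ≡ -1 [ZMOD p] := by
    rw [Int.modEq_iff_dvd]
    have := hp.out.two_le
    exact ⟨-1, by omega⟩
  let f : IrrCharacter G → ℤ := fun χ => if χ = θ then -R.ε else R.εX χ
  have hfθ : f θ = -R.ε := if_pos rfl
  have hfX : ∀ χ ∈ R.X, f χ = R.εX χ := fun χ hχ => if_neg fun h : χ = θ => hθX (h ▸ hχ)
  refine ⟨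
    { X := insert θ (R.X.erase a)
      Y := {a}
      disj := ?_
      cardX := ?_
      cardY := Finset.card_singleton _
      εX := f
      ε := -R.εX a
      εX_eq := ?_
      ε_eq := ?_
      valX := ?_
      degX := ?_
      degY := ?_
      rel := ?_
      ysum := ?_ }, rfl, rfl, rfl, hfθ, hfX⟩
  · rw [Finset.disjoint_singleton_right]
    simp only [Finset.mem_insert, Finset.mem_erase, ne_eq, not_or]
    exact ⟨fun h => hθX (h ▸ ha), fun h => h.1 trivial⟩
  · rw [Finset.card_insert_of_notMem (fun h => hθX (Finset.mem_of_mem_erase h)),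
      Finset.card_erase_of_mem ha, R.cardX]
    have := hp.out.two_le
    omega
  · intro χ hχ
    rcases Finset.mem_insert.1 hχ with rfl | h
    · rw [hfθ]; rcases R.ε_eq with h | h <;> simp [h]
    · rw [hfX χ (Finset.mem_of_mem_erase h)]; exact R.εX_eq χ (Finset.mem_of_mem_erase h)
  · rcases R.εX_eq a ha with h | h <;> simp [h]
  · intro χ hχ x hx hx1 y hy hyo
    rcases Finset.mem_insert.1 hχ with rfl | h
    · rw [hfθ, hval x hx hx1 y hy hyo]; push_cast; rfl
    · rw [hfX χ (Finset.mem_of_mem_erase h)]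
      exact R.valX χ (Finset.mem_of_mem_erase h) x hx hx1 y hy hyo
  · intro χ hχ
    rcases Finset.mem_insert.1 hχ with rfl | h
    · rw [hfθ]
      refine (R.degY _ hθ).trans ?_
      rw [show (e : ℤ) = ((p - 1 : ℕ) : ℤ) from congrArg Nat.cast he]
      calc R.ε * ((p - 1 : ℕ) : ℤ) ≡ R.ε * -1 [ZMOD p] := hpe.mul_left _
        _ = -R.ε := by ring
    · rw [hfX χ (Finset.mem_of_mem_erase h)]; exact R.degX χ (Finset.mem_of_mem_erase h)
  · intro χ hχ
    rw [Finset.mem_singleton] at hχ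
    subst hχ
    refine (R.degX _ ha).trans ?_
    rw [show (e : ℤ) = ((p - 1 : ℕ) : ℤ) from congrArg Nat.cast he]
    calc R.εX χ = -R.εX χ * -1 := by ring
      _ ≡ -R.εX χ * ((p - 1 : ℕ) : ℤ) [ZMOD p] := (hpe.mul_left _).symm
  · intro χ hχ g hg
    rw [Finset.mem_singleton] at hχ
    subst hχ
    have h := R.rel θ hθ g hg
    rw [← Finset.add_sum_erase _ _ ha] at h
    rw [Finset.sum_insert (fun h => hθX (Finset.mem_of_mem_erase h)), hfθ,
      Finset.sum_congr rfl (g := fun ψ => (R.εX ψ : ℂ) * (ψ : G → ℂ) g) fun ψ hψ => by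
        rw [hfX ψ (Finset.mem_of_mem_erase hψ)]]
    push_cast
    linear_combination h
  · intro x hx hx1
    rw [Finset.sum_singleton]
    have h := R.valX a ha x hx hx1 1 (one_mem _) one_not_dvd_orderOf_one
    rw [mul_one] at h
    rw [h]
    push_cast
    ring

open scoped Classical in
theorem exists_raw {P : Sylow p G} (hP : Nat.card P = p) (hodd : p ≠ 2) {e : ℕ}
    (he : (Subgroup.centralizer ((P : Subgroup G) : Set G)).relIndex
      (Subgroup.normalizer ((P : Subgroup G) : Set G)) = e) {t : ℕ} (ht : t = (p - 1) / e) :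
    ∃ R : Raw P e t, H12.oneIrr G ∈ R.X ∪ R.Y := by
  subst ht
  obtain ⟨M, hM⟩ := H20.exists_isPModular hp.out
  obtain ⟨X, Y, hB, hdisj, hcX, hcY, εX, ε, hX, hε, hYdeg, hYreg, hrel⟩ :=
    Cfsg.Agent.S4441.result p M hM hodd P hP e he
  have hone : H12.oneIrr G ∈ principalBlock M G := by
    haveI : M.IsPrime := H20.isPrime_of_modular hM
    intro g
    show MemLocalIdeal M (centralChar (fun _ : G => (1 : ℂ)) g -
      centralChar (fun _ : G => (1 : ℂ)) g)
    rw [sub_self]
    exact H20.memIdeal_zero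
  have hvalX : ∀ χ ∈ X.toFinset, ∀ x ∈ (P : Subgroup G), x ≠ 1 →
      (χ : G → ℂ) x = (εX χ : ℂ) := by
    intro χ hχ x hx hx1
    simpa using (hX χ (Set.mem_toFinset.1 hχ)).2.2 x hx hx1 1 (one_mem _) one_not_dvd_orderOf_one
  have hrelF : ∀ θ ∈ Y.toFinset, ∀ g : G, ¬ p ∣ orderOf g →
      (ε : ℂ) * (θ : G → ℂ) g = ∑ χ ∈ X.toFinset, (εX χ : ℂ) * (χ : G → ℂ) g := by
    intro θ hθ g hg
    rw [hrel θ (Set.mem_toFinset.1 hθ) g hg, finsum_mem_eq_toFinset_sum]
  refine ⟨
    { X := X.toFinset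
      Y := Y.toFinset
      disj := by rwa [Set.disjoint_toFinset]
      cardX := by rw [← hcX, Nat.card_eq_card_toFinset]
      cardY := by rw [← hcY, Nat.card_eq_card_toFinset]
      εX := εX
      ε := ε
      εX_eq := fun χ hχ => (hX χ (Set.mem_toFinset.1 hχ)).1
      ε_eq := hε
      valX := fun χ hχ => (hX χ (Set.mem_toFinset.1 hχ)).2.2
      degX := fun χ hχ => (hX χ (Set.mem_toFinset.1 hχ)).2.1
      degY := fun θ hθ => hYdeg θ (Set.mem_toFinset.1 hθ)
      rel := hrelF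
      ysum := ?_ }, ?_⟩
  · intro x hx hx1
    rcases Y.toFinset.eq_empty_or_nonempty with h0 | ⟨θ₀, hθ₀⟩
    · exfalso
      have hecard : e ≤ p - 1 := by
        have h := Subgroup.card_subgroup_dvd_card (H20.autG (P : Subgroup G))
        haveI : IsCyclic (P : Subgroup G) := isCyclic_of_prime_card hP
        rw [H20.card_autG, he, IsCyclic.card_mulAut, show Nat.card (P : Subgroup G) = p from hP,
          Nat.totient_prime hp.out] at h
        exact Nat.le_of_dvd (by have := hp.out.two_le; omega) h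
      have : Y.toFinset.card = (p - 1) / e := by rw [← hcY, Nat.card_eq_card_toFinset]
      rw [h0, Finset.card_empty] at this
      have he0 : 0 < e := by
        rw [← he]; exact Nat.pos_of_ne_zero Subgroup.index_ne_zero_of_finite
      have := Nat.div_pos hecard he0
      omega
    have hox := orderOf_mem_eq hP hx hx1
    have h := (Cfsg.Agent.S0925.result p M hM).2 x 1 x 1
      ⟨1, mul_one x, Commute.one_right x, ⟨1, by rw [hox, pow_one]⟩, one_not_dvd_orderOf_one⟩
      ⟨1, mul_one 1, Commute.one_right 1, ⟨0, by rw [orderOf_one, pow_zero]⟩,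
        one_not_dvd_orderOf_one⟩
      (fun hc => hx1 (isConj_one_left.1 hc)) (principalBlock M G) ⟨H12.oneIrr G, rfl⟩
    have hdeg : ∀ θ ∈ Y.toFinset, (θ : G → ℂ) 1 = (θ₀ : G → ℂ) 1 := fun θ hθ =>
      hYreg θ (Set.mem_toFinset.1 hθ) θ₀ (Set.mem_toFinset.1 hθ₀) 1 one_not_dvd_orderOf_one
    rw [hB, finsum_mem_eq_toFinset_sum, Set.toFinset_union,
      Finset.sum_union (by rwa [Set.disjoint_toFinset]), inv_one,
      Finset.sum_congr rfl (s₁ := X.toFinset) fun χ hχ => by rw [hvalX χ hχ x hx hx1],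
      Finset.sum_congr rfl (s₁ := Y.toFinset) fun θ hθ => by rw [hdeg θ hθ], ← Finset.sum_mul,
      ← hrelF θ₀ hθ₀ 1 one_not_dvd_orderOf_one, ← add_mul] at h
    rcases mul_eq_zero.1 h with h | h
    · exact eq_neg_of_add_eq_zero_right h
    · exact absurd h (H12.irr_apply_one_ne_zero θ₀)
  · rw [hB] at hone
    simpa using hone

theorem exists_v_of_congr {e t : ℕ} (het : e * t = p - 1) {ε : ℤ} {Y : Finset (IrrCharacter G)}
    (h : ∀ θ ∈ Y, (H12.degree (θ : G → ℂ) : ℤ) ≡ ε * (e : ℤ) [ZMOD p])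
    (heq : ∀ θ₁ ∈ Y, ∀ θ₂ ∈ Y, H12.degree (θ₁ : G → ℂ) = H12.degree (θ₂ : G → ℂ)) :
    ∃ v : ℤ, ∀ θ ∈ Y, (H12.degree (θ : G → ℂ) : ℤ) = v * p + ε * e := by
  rcases Y.eq_empty_or_nonempty with rfl | ⟨θ₀, hθ₀⟩
  · exact ⟨0, fun θ hθ => absurd hθ (Finset.notMem_empty θ)⟩
  obtain ⟨w, hw⟩ := Int.modEq_iff_dvd.1 (h θ₀ hθ₀)
  refine ⟨-w, fun θ hθ => ?_⟩
  rw [heq θ hθ θ₀ hθ₀]
  linear_combination -hw

/-- The degrees in the principal block. -/
theorem Raw.degrees {P : Sylow p G} {e t n : ℕ} (hperf : commutator G = ⊤)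
    (R : Raw P e t) (het : e * t = p - 1) (he2 : 2 ≤ e) (hn0 : 0 < n) (hF : ¬ IsF n p)
    (hone : H12.oneIrr G ∈ R.X) {x₀ : G} (hx₀ : x₀ ∈ (P : Subgroup G)) (hx₀1 : x₀ ≠ 1)
    (hidx : (Subgroup.centralizer ({x₀} : Set G)).index = e * (1 + n * p)) :
    R.εX (H12.oneIrr G) = 1 ∧
    (∀ χ ∈ R.X, χ ≠ H12.oneIrr G → (R.εX χ = 1 ∧ H12.degree (χ : G → ℂ) = 1 + n * p) ∨
      (R.εX χ = -1 ∧ H12.degree (χ : G → ℂ) = p - 1)) ∧
    (∃ χ ∈ R.X, R.εX χ = -1) ∧ (R.ε = 1 → ∃ χ ∈ R.X, χ ≠ H12.oneIrr G ∧ R.εX χ = 1) ∧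
    ((R.ε = 1 ∧ ∀ θ ∈ R.Y, H12.degree (θ : G → ℂ) = e) ∨
      (R.ε = -1 ∧ ∀ θ ∈ R.Y, H12.degree (θ : G → ℂ) * t = 1 + n * p)) := by
  classical
  have hp2 := hp.out.two_le
  set Mn := 1 + n * p with hMn
  have hMp : p + 1 ≤ Mn := by
    have : 1 * p ≤ n * p := Nat.mul_le_mul_right _ hn0
    omega
  have hv1 : ∀ χ ∈ R.X, (χ : G → ℂ) x₀ = (R.εX χ : ℂ) := fun χ hχ => by
    simpa using R.valX χ hχ x₀ hx₀ hx₀1 1 (one_mem _) one_not_dvd_orderOf_one
  have hone1 : R.εX (H12.oneIrr G) = 1 := by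
    have h := hv1 _ hone
    rw [H12.oneIrr_apply] at h
    exact_mod_cast h.symm
  have ht0 : 0 < t := by
    rcases Nat.eq_zero_or_pos t with h | h
    · rw [h, mul_zero] at het; omega
    · exact h
  obtain ⟨θ₀, hθ₀⟩ : R.Y.Nonempty := Finset.card_pos.1 (by rw [R.cardY]; exact ht0)
  set D := H12.degree (θ₀ : G → ℂ) with hD
  have hD0 : 0 < D := H12.irr_degree_pos θ₀
  have hrel1 : ∀ θ ∈ R.Y, R.ε * (H12.degree (θ : G → ℂ) : ℤ) =
      ∑ χ ∈ R.X, R.εX χ * (H12.degree (χ : G → ℂ) : ℤ) := by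
    intro θ hθ
    have h := R.rel θ hθ 1 one_not_dvd_orderOf_one
    simp only [H12.irr_apply_one] at h
    exact_mod_cast h
  have hDall : ∀ θ ∈ R.Y, H12.degree (θ : G → ℂ) = D := by
    intro θ hθ
    have h := (hrel1 θ hθ).trans (hrel1 θ₀ hθ₀).symm
    rcases R.ε_eq with hs | hs <;> rw [hs] at h <;> omega
  have hdX : ∀ χ ∈ R.X, H12.degree (χ : G → ℂ) ∣ e * Mn := by
    intro χ hχ
    have h := H20.isIntegral_centralChar χ x₀
    rw [centralChar, hidx, hv1 χ hχ, H12.irr_apply_one] at h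
    refine H12.nat_dvd_of_isIntegral_div (H12.irr_degree_pos χ).ne' ?_
    rcases R.εX_eq χ hχ with hs | hs <;> rw [hs] at h
    · simpa using h
    · have h' := h.neg
      simpa [neg_div] using h'
  have hdY : D ∣ e * Mn := by
    have h : IsIntegral ℤ (∑ θ ∈ R.Y, centralChar (θ : G → ℂ) x₀) :=
      IsIntegral.sum _ fun θ _ => H20.isIntegral_centralChar θ x₀
    rw [Finset.sum_congr rfl fun θ hθ => by
      rw [centralChar, hidx, H12.irr_apply_one, hDall θ hθ], ← Finset.sum_div, ← Finset.mul_sum,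
      R.ysum x₀ hx₀ hx₀1] at h
    refine H12.nat_dvd_of_isIntegral_div hD0.ne' ?_
    rcases R.ε_eq with hs | hs <;> rw [hs] at h
    · have h' := h.neg
      simpa [neg_div] using h'
    · simpa using h
  have hX' : ∀ χ ∈ R.X.erase (H12.oneIrr G), (R.εX χ = 1 ∧ H12.degree (χ : G → ℂ) = Mn) ∨
      (R.εX χ = -1 ∧ (H12.degree (χ : G → ℂ) = p - 1 ∨
        H12.degree (χ : G → ℂ) = (p - 1) * Mn)) := by
    intro χ hχ
    obtain ⟨hne, hχX⟩ := Finset.mem_erase.1 hχ
    have hc := R.degX χ hχX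
    rcases R.εX_eq χ hχX with hs | hs <;> rw [hs] at hc
    · refine .inl ⟨hs, ?_⟩
      rcases plus_cases hp.out hF het hc (hdX χ hχX) with h | h
      · exact absurd (linear_eq_one hperf h) hne
      · exact h
    · exact .inr ⟨hs, minus_cases hp.out hF het hc (hdX χ hχX)⟩
  have hYcase : (R.ε = 1 ∧ (D = e ∨ D = e * Mn)) ∨ (R.ε = -1 ∧ D * t = Mn) := by
    have hc := R.degY θ₀ hθ₀
    rcases R.ε_eq with hs | hs <;> rw [hs] at hc
    · exact .inl ⟨hs, exc_plus_cases hp.out hF het (by simpa using hc) hdY⟩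
    · refine .inr ⟨hs, exc_minus_cases hp.out hF het (by simpa using hc) hdY fun h1 => ?_⟩
      exact Finset.disjoint_left.1 R.disj hone (linear_eq_one hperf h1 ▸ hθ₀)
  -- the relation at the identity
  set S := R.X.erase (H12.oneIrr G) with hS
  set k := (S.filter fun χ => R.εX χ = 1).card with hk
  have hkm : k + (S.filter fun χ => ¬ R.εX χ = 1).card = e - 1 := by
    rw [hk, Finset.card_filter_add_card_filter_not, hS, Finset.card_erase_of_mem hone, R.cardX]
  have hrelD : R.ε * (D : ℤ) = 1 + (k : ℤ) * Mn -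
      ∑ χ ∈ S.filter (fun χ => ¬ R.εX χ = 1), (H12.degree (χ : G → ℂ) : ℤ) := by
    rw [hrel1 θ₀ hθ₀, ← Finset.add_sum_erase _ _ hone, hone1, degree_one, ← hS,
      ← Finset.sum_filter_add_sum_filter_not S (fun χ => R.εX χ = 1),
      Finset.sum_congr rfl (s₁ := S.filter fun χ => R.εX χ = 1) (g := fun _ => (Mn : ℤ))
        fun χ hχ => by
          obtain ⟨hχS, hχ1⟩ := Finset.mem_filter.1 hχ
          rcases hX' χ hχS with h | h
          · rw [hχ1, h.2, one_mul]
          · rw [h.1] at hχ1; omega,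
      Finset.sum_congr rfl (s₁ := S.filter fun χ => ¬ R.εX χ = 1)
        (g := fun χ => -(H12.degree (χ : G → ℂ) : ℤ)) fun χ hχ => by
          obtain ⟨hχS, hχ1⟩ := Finset.mem_filter.1 hχ
          rcases R.εX_eq χ (Finset.mem_of_mem_erase hχS) with h | h
          · exact absurd h hχ1
          · rw [h]; ring,
      Finset.sum_const, Finset.sum_neg_distrib, nsmul_eq_mul, ← hk]
    push_cast
    ring
  set Mi := S.filter fun χ => ¬ R.εX χ = 1 with hMi
  have hsum0 : 0 ≤ ∑ χ ∈ Mi, (H12.degree (χ : G → ℂ) : ℤ) :=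
    Finset.sum_nonneg fun χ _ => Int.natCast_nonneg _
  have hMz : (p : ℤ) + 1 ≤ (Mn : ℤ) := by exact_mod_cast hMp
  have he2z : (2 : ℤ) ≤ e := by exact_mod_cast he2
  have hepz : (e : ℤ) ≤ (p : ℤ) - 1 := by
    have : e ≤ p - 1 := Nat.le_of_dvd (by omega) (Dvd.intro t het)
    omega
  have hDM : R.ε = -1 → (D : ℤ) ≤ Mn := fun hs => by
    rcases hYcase with ⟨h, -⟩ | ⟨-, h⟩
    · omega
    · have : D * 1 ≤ D * t := Nat.mul_le_mul_left _ ht0
      have : D ≤ Mn := by omega
      exact_mod_cast this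
  -- there is a character of negative sign
  have hminus : Mi.Nonempty := by
    by_contra hne
    rw [Finset.not_nonempty_iff_eq_empty] at hne
    rw [hne, Finset.sum_empty, sub_zero] at hrelD
    rw [hne, Finset.card_empty, add_zero] at hkm
    have hkz : (k : ℤ) = (e : ℤ) - 1 := by omega
    rw [hkz] at hrelD
    rcases hYcase with ⟨hs, hD' | hD'⟩ | ⟨hs, -⟩ <;> rw [hs] at hrelD
    · rw [hD'] at hrelD; nlinarith
    · rw [hD'] at hrelD; push_cast at hrelD; nlinarith
    · nlinarith [Int.natCast_nonneg D]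
  have hkle : (k : ℤ) ≤ (e : ℤ) - 2 := by
    have := Finset.card_pos.2 hminus
    omega
  -- no character of negative sign is large
  have hsmall : ∀ χ ∈ Mi, H12.degree (χ : G → ℂ) = p - 1 := by
    intro χ hχ
    obtain ⟨hχS, hχ1⟩ := Finset.mem_filter.1 hχ
    rcases hX' χ hχS with ⟨h, -⟩ | ⟨-, h | h⟩
    · exact absurd h hχ1
    · exact h
    · exfalso
      have hle := Finset.single_le_sum (f := fun χ : IrrCharacter G => (H12.degree (χ : G → ℂ) : ℤ))
        (s := Mi) (fun χ _ => Int.natCast_nonneg _) hχ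
      simp only [h] at hle
      push_cast [Nat.cast_sub (show 1 ≤ p by omega)] at hle
      rcases hYcase with ⟨hs, hD'⟩ | ⟨hs, -⟩
      · rw [hs] at hrelD
        have := Int.natCast_nonneg D
        nlinarith
      · have := hDM hs
        rw [hs] at hrelD
        nlinarith
  have hsumMi : ∑ χ ∈ Mi, (H12.degree (χ : G → ℂ) : ℤ) = (Mi.card : ℤ) * ((p : ℤ) - 1) := by
    rw [Finset.sum_congr rfl fun χ hχ => by rw [hsmall χ hχ], Finset.sum_const, nsmul_eq_mul]
    push_cast [Nat.cast_sub (show 1 ≤ p by omega)]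
    rfl
  refine ⟨hone1, fun χ hχ hne => ?_, ?_, fun hs => ?_, ?_⟩
  · rcases hX' χ (Finset.mem_erase.2 ⟨hne, hχ⟩) with h | ⟨h, hd⟩
    · exact .inl h
    · exact .inr ⟨h, hsmall χ (Finset.mem_filter.2 ⟨Finset.mem_erase.2 ⟨hne, hχ⟩, by omega⟩)⟩
  · obtain ⟨χ, hχ⟩ := hminus
    obtain ⟨hχS, hχ1⟩ := Finset.mem_filter.1 hχ
    exact ⟨χ, Finset.mem_of_mem_erase hχS,
      (R.εX_eq χ (Finset.mem_of_mem_erase hχS)).resolve_left hχ1⟩
  · have hk0 : 0 < k := by
      refine Nat.pos_of_ne_zero fun h0 => ?_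
      rw [hs, hsumMi, h0] at hrelD
      have hm : (1 : ℤ) ≤ (Mi.card : ℤ) := by exact_mod_cast Finset.card_pos.2 hminus
      have : (1 : ℤ) * ((p : ℤ) - 1) ≤ (Mi.card : ℤ) * ((p : ℤ) - 1) :=
        mul_le_mul_of_nonneg_right hm (by omega)
      push_cast at hrelD
      omega
    obtain ⟨χ, hχ⟩ := Finset.card_pos.1 hk0
    obtain ⟨hχS, hχ1⟩ := Finset.mem_filter.1 hχ
    exact ⟨χ, Finset.mem_of_mem_erase hχS, (Finset.mem_erase.1 hχS).1, hχ1⟩
  · rcases hYcase with ⟨hs, hD' | hD'⟩ | ⟨hs, h⟩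
    · exact .inl ⟨hs, fun θ hθ => (hDall θ hθ).trans hD'⟩
    · exfalso
      rw [hs, hD'] at hrelD
      push_cast at hrelD
      have : (k : ℤ) * Mn ≤ ((e : ℤ) - 2) * Mn := mul_le_mul_of_nonneg_right hkle (by omega)
      linarith
    · exact .inr ⟨hs, fun θ hθ => by rw [hDall θ hθ]; exact h⟩

open scoped Classical in
theorem exists_raw_one [IsSimpleGroup G] (hperf : commutator G = ⊤) (P : Sylow p G)
    (hP : Nat.card P = p) {n : ℕ} (hn : Nat.card (Sylow p G) = 1 + n * p) :
    ∃ (e t : ℕ) (R : Raw P e t), H12.oneIrr G ∈ R.X ∧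
      (Subgroup.centralizer ((P : Subgroup G) : Set G)).relIndex
        (Subgroup.normalizer ((P : Subgroup G) : Set G)) = e ∧
      2 ≤ e ∧ e * t = p - 1 ∧ 0 < t ∧ 0 < n ∧
      (Subgroup.normalizer ((P : Subgroup G) : Set G)).index = 1 + n * p ∧
      ∃ x₀ ∈ (P : Subgroup G), x₀ ≠ 1 ∧
        (Subgroup.centralizer ({x₀} : Set G)).index = e * (1 + n * p) := by
  have hp2 := hp.out.two_le
  have hPne : (P : Subgroup G) ≠ ⊥ := fun h => by
    obtain ⟨x, hx, hx1⟩ := exists_ne_one_mem hP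
    rw [h] at hx
    exact hx1 (Subgroup.mem_bot.1 hx)
  have hPtop : (P : Subgroup G) ≠ ⊤ := by
    intro h
    haveI : IsCyclic (P : Subgroup G) := isCyclic_of_prime_card hP
    letI := IsCyclic.commGroup (α := (P : Subgroup G))
    have hall : ∀ a b : G, a * b = b * a := fun a b =>
      congrArg Subtype.val (mul_comm (⟨a, h ▸ Subgroup.mem_top a⟩ : (P : Subgroup G))
        ⟨b, h ▸ Subgroup.mem_top b⟩)
    have : commutator G = ⊥ := by rw [commutator_eq_bot_iff]; exact ⟨⟨hall⟩⟩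
    rw [hperf] at this
    exact top_ne_bot this
  have hburn : ¬ Subgroup.normalizer ((P : Subgroup G) : Set G) ≤
      Subgroup.centralizer ((P : Subgroup G) : Set G) := by
    intro hle
    have hc := MonoidHom.ker_transferSylow_isComplement' P hle
    rcases Subgroup.Normal.eq_bot_or_eq_top
      (inferInstance : (MonoidHom.transferSylow P hle).ker.Normal) with h | h
    · rw [h] at hc
      exact hPtop (Subgroup.isComplement'_bot_left.1 hc)
    · rw [h] at hc
      exact hPne (Subgroup.isComplement'_top_left.1 hc)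
  set C := Subgroup.centralizer ((P : Subgroup G) : Set G) with hCdef
  set N := Subgroup.normalizer ((P : Subgroup G) : Set G) with hNdef
  obtain ⟨e, he⟩ : ∃ e, C.relIndex N = e := ⟨_, rfl⟩
  have hCN : C ≤ N := Subgroup.centralizer_le_normalizer _
  have he2 : 2 ≤ e := by
    have h0 : e ≠ 0 := he ▸ Subgroup.index_ne_zero_of_finite
    have h1 : e ≠ 1 := fun h => hburn (Subgroup.relIndex_eq_one.1 (he.trans h))
    omega
  have hedvd : e ∣ p - 1 := by
    have h := Subgroup.card_subgroup_dvd_card (H20.autG (P : Subgroup G))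
    haveI : IsCyclic (P : Subgroup G) := isCyclic_of_prime_card hP
    rwa [H20.card_autG, he, IsCyclic.card_mulAut, show Nat.card (P : Subgroup G) = p from hP,
      Nat.totient_prime hp.out] at h
  have hodd : p ≠ 2 := by
    intro h2
    have := Nat.le_of_dvd (by omega) hedvd
    omega
  obtain ⟨t, ht⟩ : ∃ t, t = (p - 1) / e := ⟨_, rfl⟩
  have het : e * t = p - 1 := by rw [ht]; exact Nat.mul_div_cancel' hedvd
  have ht0 : 0 < t := by
    rcases Nat.eq_zero_or_pos t with h | h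
    · rw [h, mul_zero] at het; omega
    · exact h
  have hNidx : N.index = 1 + n * p := by rw [← hn]; exact P.card_eq_index_normalizer.symm
  have hn0 : 0 < n := by
    refine Nat.pos_of_ne_zero fun h0 => ?_
    rw [h0, zero_mul, add_zero] at hNidx
    have hnorm : (P : Subgroup G).Normal := Subgroup.normalizer_eq_top_iff.1
      (Subgroup.index_eq_one.1 hNidx)
    rcases hnorm.eq_bot_or_eq_top with h | h
    · exact hPne h
    · exact hPtop h
  have hCidx : C.index = e * (1 + n * p) := by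
    rw [← Subgroup.relIndex_mul_index hCN, he, hNidx]
  obtain ⟨x₀, hx₀, hx₀1⟩ := exists_ne_one_mem hP
  have hidx : (Subgroup.centralizer ({x₀} : Set G)).index = e * (1 + n * p) := by
    rw [centralizer_singleton_eq hP hx₀ hx₀1, ← hCdef, hCidx]
  obtain ⟨R₀, hR₀⟩ := exists_raw (G := G) hP hodd he ht
  -- we may assume the principal character is not exceptional
  obtain ⟨R, hone⟩ : ∃ R : Raw P e t, H12.oneIrr G ∈ R.X := by
    rcases Finset.mem_union.1 hR₀ with h | h
    · exact ⟨R₀, h⟩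
    have hdeg := R₀.degY _ h
    rw [degree_one] at hdeg
    have hle : e ≤ p - 1 := Nat.le_of_dvd (by omega) hedvd
    obtain ⟨z, hz⟩ := Int.modEq_iff_dvd.1 hdeg
    push_cast at hz
    have hε : R₀.ε = -1 := by
      rcases R₀.ε_eq with hs | hs
      · exfalso
        rw [hs] at hz
        rcases lt_trichotomy z 0 with hz0 | hz0 | hz0
        · have : (p : ℤ) * z ≤ (p : ℤ) * (-1) := mul_le_mul_of_nonneg_left (by omega) (by omega)
          omega
        · subst hz0; omega
        · have : (p : ℤ) * 1 ≤ (p : ℤ) * z := mul_le_mul_of_nonneg_left (by omega) (by omega)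
          omega
      · exact hs
    have hep : e = p - 1 := by
      rw [hε] at hz
      have hz1 : z = -1 := by
        rcases lt_trichotomy z (-1) with hz0 | hz0 | hz0
        · have : (p : ℤ) * z ≤ (p : ℤ) * (-2) := mul_le_mul_of_nonneg_left (by omega) (by omega)
          omega
        · exact hz0
        · have : (p : ℤ) * 0 ≤ (p : ℤ) * z := mul_le_mul_of_nonneg_left (by omega) (by omega)
          omega
      subst hz1
      omega
    have ht1 : t = 1 := by rw [ht, hep, Nat.div_self (by omega)]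
    subst ht1
    obtain ⟨a, ha⟩ : R₀.X.Nonempty := Finset.card_pos.1 (by rw [R₀.cardX]; omega)
    obtain ⟨R', hX', -, -, -, -⟩ := R₀.swap hP hep h ha fun x _ _ y _ _ => by
      rw [H12.oneIrr_apply, hε]; norm_num
    exact ⟨R', by rw [hX']; exact Finset.mem_insert_self _ _⟩
  exact ⟨e, t, R, hone, he, he2, het, ht0, hn0, hNidx, x₀, hx₀, hx₀1, hidx⟩

open scoped Classical in
theorem exists_data [IsSimpleGroup G] (hperf : commutator G = ⊤) (P : Sylow p G)
    (hP : Nat.card P = p) {n : ℕ} (hn : Nat.card (Sylow p G) = 1 + n * p) (hF : ¬ IsF n p) :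
    Nonempty (Data G p n) := by
  have hp2 := hp.out.two_le
  obtain ⟨e, t, R, hone, he, he2, het, ht0, hn0, hNidx, x₀, hx₀, hx₀1, hidx⟩ :=
    exists_raw_one hperf P hP hn
  set C := Subgroup.centralizer ((P : Subgroup G) : Set G) with hCdef
  set N := Subgroup.normalizer ((P : Subgroup G) : Set G) with hNdef
  have hCN : C ≤ N := Subgroup.centralizer_le_normalizer _
  obtain ⟨hone1, hXc, ⟨χm, hχm, hχms⟩, -, -⟩ := R.degrees hperf het he2 hn0 hF hone hx₀ hx₀1 hidx
  -- the centraliser is trivial outside the Sylow subgroup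
  have hχm1 : χm ≠ H12.oneIrr G := fun h => by rw [h, hone1] at hχms; omega
  have hdm : H12.degree (χm : G → ℂ) = p - 1 := by
    rcases hXc χm hχm hχm1 with h | h
    · omega
    · exact h.2
  have hreg : ∀ y ∈ C, ¬ p ∣ orderOf y → y = 1 := by
    intro y hy hyo
    haveI := Fintype.ofFinite (P : Subgroup G)
    have hc := H12.isCharacter_irr χm
    have hother : ∀ z ∈ C, ¬ p ∣ orderOf z → ∀ x ∈ (Finset.univ : Finset (P : Subgroup G)).erase 1,
        (χm : G → ℂ) ((x : G) * z) = -1 := fun z hz hzo x hx => by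
      rw [R.valX χm hχm x x.2 (fun e => Finset.ne_of_mem_erase hx (Subtype.ext e)) z hz hzo, hχms]
      norm_num
    have hcount : ∀ z ∈ C, ¬ p ∣ orderOf z → ∑ x : (P : Subgroup G), (χm : G → ℂ) ((x : G) * z) =
        (χm : G → ℂ) z - ((p - 1 : ℕ) : ℂ) := fun z hz hzo => by
      rw [← Finset.add_sum_erase _ _ (Finset.mem_univ (1 : (P : Subgroup G))),
        Finset.sum_congr rfl (hother z hz hzo), Finset.sum_const,
        Finset.card_erase_of_mem (Finset.mem_univ _), Finset.card_univ,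
        ← Nat.card_eq_fintype_card, show Nat.card (P : Subgroup G) = p from hP, OneMemClass.coe_one,
        one_mul, nsmul_eq_mul]
      ring
    have h0 : ∑ x : (P : Subgroup G), (χm : G → ℂ) x = 0 := by
      have h := hcount 1 (one_mem C) one_not_dvd_orderOf_one
      simp only [mul_one] at h
      rw [h, H12.irr_apply_one, hdm, sub_self]
    have h := sum_coset_eq_zero hc _ h0 y
    rw [hcount y hy hyo, sub_eq_zero] at h
    have hker : y ∈ H12.charKer _ hc := by
      rw [H12.mem_charKer, h, H12.irr_apply_one, hdm]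
    haveI := H12.charKer_normal hc
    rcases Subgroup.Normal.eq_bot_or_eq_top (inferInstance : (H12.charKer _ hc).Normal) with
      hk | hk
    · rw [hk] at hker
      exact Subgroup.mem_bot.1 hker
    · exfalso
      have hx : x₀ ∈ H12.charKer _ hc := hk ▸ Subgroup.mem_top _
      rw [H12.mem_charKer, H12.irr_apply_one, hdm] at hx
      have h1 := R.valX χm hχm x₀ hx₀ hx₀1 1 (one_mem _) one_not_dvd_orderOf_one
      rw [mul_one, hx, hχms] at h1
      push_cast [Nat.cast_sub (show 1 ≤ p by omega)] at h1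
      have : (p : ℂ) = 0 := by linear_combination h1
      exact hp.out.ne_zero (by exact_mod_cast this)
  have hCP : C = (P : Subgroup G) := by
    have hPC : (P : Subgroup G) ≤ C := fun a ha x hx => by
      haveI : IsCyclic (P : Subgroup G) := isCyclic_of_prime_card hP
      letI := IsCyclic.commGroup (α := (P : Subgroup G))
      exact congrArg Subtype.val (mul_comm (⟨x, hx⟩ : (P : Subgroup G)) ⟨a, ha⟩)
    have hCp : IsPGroup p C := by
      refine IsPGroup.of_card (n := (Nat.card C).primeFactorsList.length) ?_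
      refine Nat.eq_prime_pow_of_unique_prime_dvd Nat.card_pos.ne' fun {q} hq hdq => ?_
      haveI := Fact.mk hq
      by_contra hqp
      obtain ⟨y, hy⟩ := exists_prime_orderOf_dvd_card' q hdq
      have hy' : orderOf (y : G) = q := by rw [Subgroup.orderOf_coe, hy]
      have h1 := hreg y y.2 (by
        rw [hy']
        exact fun h => hqp ((Nat.prime_dvd_prime_iff_eq hp.out hq).1 h).symm)
      rw [h1, orderOf_one] at hy'
      exact hq.one_lt.ne hy'
    exact (P.is_maximal' hCp hPC)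
  -- a positive exceptional sign with one exceptional character can be avoided
  obtain ⟨R, hone, hsign⟩ : ∃ R : Raw P e t, H12.oneIrr G ∈ R.X ∧ (R.ε = 1 → 2 ≤ t) := by
    by_cases hbad : R.ε = 1 ∧ t = 1
    swap
    · exact ⟨R, hone, fun h => by
        rcases Nat.lt_or_ge t 2 with h2 | h2
        · exact absurd ⟨h, by omega⟩ hbad
        · exact h2⟩
    obtain ⟨hs, ht1⟩ := hbad
    obtain ⟨-, -, -, hplus, -⟩ := R.degrees hperf het he2 hn0 hF hone hx₀ hx₀1 hidx
    obtain ⟨a, ha, ha1, has⟩ := hplus hs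
    obtain ⟨θ, hθ⟩ : R.Y.Nonempty := Finset.card_pos.1 (by rw [R.cardY]; exact ht0)
    subst ht1
    obtain ⟨R', hX', -, hε', -, -⟩ := R.swap hP (by omega) hθ ha fun x hx hx1 y hy hyo => by
      have hy1 : y = 1 := hreg y hy hyo
      have hYs : R.Y = {θ} := (Finset.eq_of_subset_of_card_le
        (Finset.singleton_subset_iff.2 hθ) (by rw [R.cardY, Finset.card_singleton])).symm
      have h := R.ysum x hx hx1
      rw [hYs, Finset.sum_singleton] at h
      rw [hy1, mul_one, h]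
    refine ⟨R', by rw [hX']; simp [hone, Ne.symm ha1], fun h => ?_⟩
    rw [hε', has] at h
    omega
  obtain ⟨hone1, hXc, -, -, hYc⟩ := R.degrees hperf het he2 hn0 hF hone hx₀ hx₀1 hidx
  have hcardN : Nat.card N = p * e := by
    rw [← Subgroup.card_mul_index (C.subgroupOf N),
      Nat.card_congr (Subgroup.subgroupOfEquivOfLe hCN).toEquiv, hCP,
      show Nat.card (P : Subgroup G) = p from hP, ← hCP]
    exact congrArg (p * ·) he
  exact ⟨{
    P := P
    cardP := hP
    cent := hCP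
    sylow := hn
    n_pos := hn0
    e := e
    t := t
    et := het
    two_le_e := he2
    t_pos := ht0
    normalizer_card := hcardN
    card_G := by rw [← Subgroup.card_mul_index N, hcardN, hNidx]
    X := R.X
    Y := R.Y
    disj := R.disj
    cardX := R.cardX
    cardY := R.cardY
    one_mem := hone
    εX := R.εX
    ε := R.ε
    xcases := fun χ hχ => by
      by_cases h : χ = H12.oneIrr G
      · exact .inl ⟨h, h ▸ hone1⟩
      · rcases hXc χ hχ h with h' | h'
        · exact .inr (.inl ⟨h, h'⟩)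
        · exact .inr (.inr ⟨h, h'⟩)
    valX := fun χ hχ x hx hx1 => by
      simpa using R.valX χ hχ x hx hx1 1 (one_mem _) one_not_dvd_orderOf_one
    rel := R.rel
    ydeg := by
      rcases hYc with ⟨h1, h2⟩ | h
      · exact .inl ⟨h1, hsign h1, h2⟩
      · exact .inr h
    ysum := R.ysum
    εX_eq' := R.εX_eq
    ε_eq' := R.ε_eq
    εX_one := hone1
    exists_v := exists_v_of_congr het (fun θ hθ => R.degY θ hθ) (fun θ₁ h₁ θ₂ h₂ => by
      rcases hYc with ⟨-, h⟩ | ⟨-, h⟩
      · rw [h θ₁ h₁, h θ₂ h₂]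
      · exact Nat.eq_of_mul_eq_mul_right ht0 ((h θ₁ h₁).trans (h θ₂ h₂).symm)) }⟩

end H18.BR
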