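import Cfsg.Agent.H18.BrauerCount
import Cfsg.Agent.H24.CharBasic

/-!
The case of exceptional degrees congruent to `-e`.
-/

set_option autoImplicit false
set_option linter.unusedSectionVars false

open Cfsg
open scoped ComplexConjugate

namespace H18.BR

universe u

variable {G : Type u} [Group G] [Fintype G] {p : ℕ} [hp : Fact p.Prime] {n : ℕ}

namespace Core

variable (D : Core G p n)

open scoped Classical

local notation "P'" => (D.P : Subgroup G)
local notation "N'" => Subgroup.normalizer ((D.P : Subgroup G) : Set G)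

/-- The characters outside the block. -/
noncomputable def outs : Finset (IrrCharacter G) := Finset.univ \ (D.X ∪ D.Y)

theorem sum_univ {α : Type*} [AddCommMonoid α] (f : IrrCharacter G → α) :
    ∑ χ : IrrCharacter G, f χ = f (H12.oneIrr G) + (∑ χ ∈ D.plus, f χ + ∑ χ ∈ D.minus, f χ) +
      ∑ θ ∈ D.Y, f θ + ∑ ξ ∈ D.outs, f ξ := by
  rw [← D.sum_X, ← Finset.sum_union D.disj, outs, add_comm,
    Finset.sum_sdiff (Finset.subset_univ _)]

theorem deg_outs {ξ : IrrCharacter G} (hξ : ξ ∈ D.outs) :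
    H12.degree (ξ : G → ℂ) = p * ∑ μ : D.E →* ℂˣ, D.cf ξ μ := by
  obtain ⟨hX, hY⟩ : ξ ∉ D.X ∧ ξ ∉ D.Y := by simpa [Core.outs] using hξ
  have h := D.sum_cf ξ
  rw [D.psum_eq, H12.irr_apply_one, Finset.sum_eq_zero fun (x : P') hx =>
    D.block_facts.1 ξ hX hY x (Finset.ne_of_mem_erase hx), add_zero] at h
  exact_mod_cast h.symm

theorem conj_lin (μ : D.E →* ℂˣ) (h : D.E) : conj (μ h : ℂ) = (μ⁻¹ h : ℂ) := by
  have h1 := H12.irr_inv (H12.linIrr μ) h
  rw [H12.linIrr_apply, H12.linIrr_apply] at h1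
  rw [← h1, map_inv, MonoidHom.inv_apply]

theorem pic_inv (μ : D.E →* ℂˣ) (g : G) : D.pic μ⁻¹ g = conj (D.pic μ g) := by
  simp only [pic, H12.indFun_apply, map_mul, map_inv₀, Complex.conj_natCast, map_sum]
  congr 1
  refine Finset.sum_congr rfl fun x _ => ?_
  rw [H12.extendByZero_eq_dite, H12.extendByZero_eq_dite]
  split_ifs
  · rw [D.conj_lin]
  · rw [map_zero]

theorem norm_pic (μ : D.E →* ℂˣ) :
    classInner (D.pic μ) (D.pic μ) = ∑ χ : IrrCharacter G, (D.cf χ μ : ℂ) ^ 2 := by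
  rw [H12.classInner_eq_sum_mul (f := D.pic μ) (f' := D.pic μ)
    (H12.indFun_isClassFunction _ _) (H12.indFun_isClassFunction _ _)]
  refine Finset.sum_congr rfl fun χ _ => ?_
  rw [← H12.conj_classInner (χ : G → ℂ) (D.pic μ), D.cf_spec, Complex.conj_natCast,
    Complex.conj_natCast, sq]

theorem norm_pic_inv (μ : D.E →* ℂˣ) :
    classInner (D.pic μ⁻¹) (D.pic μ⁻¹) = classInner (D.pic μ) (D.pic μ) := by
  simp only [H12.classInner_def, D.pic_inv, Complex.conj_conj]
  congr 1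
  exact Finset.sum_congr rfl fun x _ => mul_comm _ _

include D in
theorem pow_p_eq_one_of_commute {x g : G} (hx : orderOf x = p) (h : g * x = x * g) :
    g ^ p = 1 := by
  have hle : IsPGroup p (Subgroup.zpowers x) := IsPGroup.of_card (n := 1) (by
    rw [Nat.card_zpowers, hx, pow_one])
  obtain ⟨Q, hQ⟩ := hle.exists_le_sylow
  obtain ⟨c, hc⟩ := MulAction.exists_smul_eq G Q D.P
  have hx' : c * x * c⁻¹ ∈ P' := by
    rw [← hc, Sylow.coe_subgroup_smul, Subgroup.mem_pointwise_smul_iff_inv_smul_mem]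
    simpa [MulAut.smul_def, mul_assoc] using hQ (Subgroup.mem_zpowers x)
  have hx1 : c * x * c⁻¹ ≠ 1 := by
    intro e
    rw [conj_eq_one_iff] at e
    rw [e, orderOf_one] at hx
    exact hp.out.one_lt.ne hx
  have hg : c * g * c⁻¹ ∈ P' := by
    rw [← D.cent, ← centralizer_singleton_eq D.cardP hx' hx1,
      Subgroup.mem_centralizer_singleton_iff]
    calc c * g * c⁻¹ * (c * x * c⁻¹) = c * (g * x) * c⁻¹ := by group
      _ = c * (x * g) * c⁻¹ := by rw [h]
      _ = c * x * c⁻¹ * (c * g * c⁻¹) := by group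
  have h' : (c * g * c⁻¹) ^ p = 1 := by
    have h2 : (⟨_, hg⟩ : P') ^ Nat.card P' = 1 := pow_card_eq_one'
    rw [D.card_P'] at h2
    simpa using congrArg Subtype.val h2
  rwa [conj_pow, conj_eq_one_iff] at h'

theorem _root_.H18.BR.orderOf_inv_mul_mul (a g : G) : orderOf (a⁻¹ * g * a) = orderOf g := by
  rw [← orderOf_injective (MulAut.conj a⁻¹).toMonoidHom (MulEquiv.injective _) g]
  simp

theorem e_lt_p : D.e < p := by
  have := hp.out.two_le
  have : D.e ≤ p - 1 := Nat.le_of_dvd (by omega) (Dvd.intro D.t D.et)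
  omega

end Core

namespace Data

variable (D : Data G p n)

open scoped Classical

local notation "P'" => (D.P : Subgroup G)
local notation "N'" => Subgroup.normalizer ((D.P : Subgroup G) : Set G)

set_option maxHeartbeats 1600000 in
/-- If the exceptional degrees are congruent to `-e`, then `n = 1` or the involution centralisers
are elementary abelian of order `p - 1`. -/
theorem minus_structure (hε : D.ε = -1) : n = 1 ∨
    ∃ s : G, D.e = 2 ∧ D.t = n + 1 ∧ s ≠ 1 ∧ s * s = 1 ∧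
      Nat.card (Subgroup.centralizer ({s} : Set G)) = p - 1 ∧
      ∀ a ∈ Subgroup.centralizer ({s} : Set G), a ≠ 1 → IsConj s a := by
  have hp2 := hp.out.two_le
  have he2 := D.two_le_e
  have het : D.e * D.t = p - 1 := D.et
  have hep := D.e_lt_p
  obtain ⟨θ, hθ⟩ := D.Y_nonempty
  have hdegY : ∀ θ ∈ D.Y, H12.degree (θ : G → ℂ) * D.t = 1 + n * p := by
    rcases D.ydeg with ⟨h, -⟩ | ⟨-, h⟩
    · omega
    · exact h
  -- the integer `v`
  obtain ⟨v, hv⟩ : ∃ v : ℕ, D.v = v := ⟨∑ μ : D.E →* ℂˣ, D.cf θ μ, by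
    rw [← D.sum_cf_Y hθ]; push_cast; rfl⟩
  have hvt : v * D.t = n + 1 := by
    have h := D.deg_v hθ
    rw [hv, hε] at h
    have h1 : ((H12.degree (θ : G → ℂ) * D.t : ℕ) : ℤ) = ((1 + n * p : ℕ) : ℤ) :=
      congrArg _ (hdegY θ hθ)
    have h2 : ((D.e * D.t : ℕ) : ℤ) = (p : ℤ) - 1 := by rw [het]; omega
    push_cast at h1 h2
    rw [h] at h1
    have h3 : ((v : ℤ) * D.t) * p = ((n : ℤ) + 1) * p := by linear_combination h1 + h2
    exact_mod_cast mul_right_cancel₀ (by exact_mod_cast hp.out.ne_zero) h3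
  have hn := D.n_pos
  have hv0 : 0 < v := Nat.pos_of_ne_zero fun h => by rw [h, zero_mul] at hvt; omega
  -- multiplicities
  have hpart : ∀ θ ∈ D.Y, ∀ μ ≠ 1, ∑ χ ∈ D.plus, D.cf χ μ + D.cf θ μ = 1 := by
    intro θ hθ μ hμ
    have h := D.partition' hθ hμ
    rw [hε] at h
    simp only [neg_one_mul, sub_neg_eq_add] at h
    exact_mod_cast h
  have hpart1 : ∀ θ ∈ D.Y, (∀ χ ∈ D.plus, D.cf χ 1 = 0) ∧ D.cf θ 1 = 0 := by
    intro θ hθ
    have h := D.partition_one hθ
    rw [hε] at h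
    simp only [neg_one_mul, sub_neg_eq_add] at h
    have h' : ∑ χ ∈ D.plus, D.cf χ 1 + D.cf θ 1 = 0 := by exact_mod_cast h
    exact ⟨fun χ hχ => Finset.sum_eq_zero_iff.1 (by omega : ∑ χ ∈ D.plus, D.cf χ 1 = 0) χ hχ,
      by omega⟩
  have hplus1 := (hpart1 θ hθ).1
  have hYfull : ∀ μ ≠ 1, D.cf θ μ = 1 → (∀ η ∈ D.Y, D.cf η μ = 1) ∧
      ∀ χ ∉ D.Y, D.cf χ μ = 0 := by
    intro μ hμ h1
    have hall : ∀ η ∈ D.Y, D.cf η μ = 1 := fun η hη => by
      have h2 := hpart θ hθ μ hμ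
      have h3 := hpart η hη μ hμ
      omega
    refine ⟨hall, fun χ hχ => D.cf_eq_zero_of_full (S := D.Y) ?_ hχ⟩
    rw [Finset.sum_congr rfl (g := fun _ : IrrCharacter G => H12.degree (θ : G → ℂ)) fun η hη => by
      rw [hall η hη, one_mul]
      exact Nat.eq_of_mul_eq_mul_right D.t_pos ((hdegY η hη).trans (hdegY θ hθ).symm),
      Finset.sum_const, D.cardY, smul_eq_mul, mul_comm D.t, hdegY θ hθ]
  have hout : ∀ ξ ∈ D.outs, ∀ μ ≠ 1, D.cf ξ μ = 0 := by
    intro ξ hξ μ hμ
    obtain ⟨hX, hY⟩ : ξ ∉ D.X ∧ ξ ∉ D.Y := by simpa [Core.outs] using hξ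
    have h := hpart θ hθ μ hμ
    rcases Nat.eq_zero_or_pos (D.cf θ μ) with h0 | h0
    · obtain ⟨χ, hχ, hc⟩ : ∃ χ ∈ D.plus, 1 ≤ D.cf χ μ := by
        by_contra hc
        push Not at hc
        rw [Finset.sum_eq_zero fun χ hχ => by have := hc χ hχ; omega] at h
        omega
      exact (D.pic_plus hχ hc).2.1 ξ fun e => hX (e ▸ (D.plus_spec hχ).1)
    · exact (hYfull μ hμ (by omega)).2 ξ hY
  have hm : ∀ ξ ∈ D.outs, ∑ μ : D.E →* ℂˣ, D.cf ξ μ = D.cf ξ 1 := fun ξ hξ =>
    Finset.sum_eq_single 1 (fun μ _ hμ => hout ξ hξ μ hμ) (by simp)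
  have hmn : ∑ ξ ∈ D.outs, D.cf ξ 1 * D.cf ξ 1 = n := by
    have h := D.sum_deg 1
    rw [D.sum_univ, D.cf_oneIrr, if_pos rfl, degree_one,
      Finset.sum_eq_zero (s := D.plus) fun χ hχ => by rw [hplus1 χ hχ, zero_mul],
      Finset.sum_eq_zero (s := D.minus) fun χ hχ => by rw [D.cf_minus hχ, zero_mul],
      Finset.sum_eq_zero (s := D.Y) fun η hη => by rw [(hpart1 η hη).2, zero_mul],
      Finset.sum_congr rfl (s₁ := D.outs)
        (g := fun ξ : IrrCharacter G => p * (D.cf ξ 1 * D.cf ξ 1)) fun ξ hξ => by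
          rw [D.deg_outs hξ, hm ξ hξ]; ring,
      ← Finset.mul_sum] at h
    refine Nat.eq_of_mul_eq_mul_left hp.out.pos ?_
    simp only [one_mul, add_zero, Nat.mul_comm n p] at h
    omega
  -- values on the complement
  have hval_out : ∀ ξ ∈ D.outs, ∀ h : D.E, h ≠ 1 → (ξ : G → ℂ) h = (D.cf ξ 1 : ℂ) := by
    intro ξ hξ h hh
    rw [D.val_expand ξ hh, Finset.sum_eq_single 1 (fun μ _ hμ => by simp [hout ξ hξ μ hμ])
      (by simp)]
    simp
  have hval_minus : ∀ χ ∈ D.minus, ∀ h : D.E, h ≠ 1 → (χ : G → ℂ) h = 0 := by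
    intro χ hχ h hh
    rw [D.val_expand χ hh]
    exact Finset.sum_eq_zero fun μ _ => by simp [D.cf_minus hχ μ]
  have hfix : ∀ h : D.E, h ≠ 1 → Nat.card {q : G ⧸ N' // (h : G) • q = q} = n + 1 := by
    intro h hh
    have h1 : D.pic 1 = indFun N' (fun _ => (1 : ℂ)) := by simp [Core.pic]
    have h2 := congrFun h1 (h : G)
    rw [indFun_one_eq_card_fixed, D.pic_eq_sum, D.sum_univ, D.cf_oneIrr, if_pos rfl,
      H12.oneIrr_apply,
      Finset.sum_eq_zero (s := D.plus) fun χ hχ => by simp [hplus1 χ hχ],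
      Finset.sum_eq_zero (s := D.minus) fun χ hχ => by simp [D.cf_minus hχ],
      Finset.sum_eq_zero (s := D.Y) fun η hη => by simp [(hpart1 η hη).2],
      Finset.sum_congr rfl (s₁ := D.outs)
        (g := fun ξ : IrrCharacter G => ((D.cf ξ 1 * D.cf ξ 1 : ℕ) : ℂ)) fun ξ hξ => by
          rw [hval_out ξ hξ h hh]; push_cast; rfl,
      ← Nat.cast_sum, hmn] at h2
    simp only [Nat.cast_one, one_mul, add_zero] at h2
    rw [← Nat.cast_one (R := ℂ), ← Nat.cast_add, Nat.cast_inj] at h2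
    omega
  -- the generator of the complement
  obtain ⟨g, hg⟩ := D.E_cyclic.exists_generator
  have hog : orderOf g = D.e := by
    rw [orderOf_eq_card_of_forall_mem_zpowers hg, D.card_E]
  have hog' : orderOf (g : G) = D.e := by rw [Subgroup.orderOf_coe, hog]
  have hg1 : g ≠ 1 := fun h => by rw [h, orderOf_one] at hog; omega
  have hzp : Subgroup.zpowers (g : G) = D.E :=
    Subgroup.eq_of_le_of_card_ge (by simp) (by rw [Nat.card_zpowers, hog', D.card_E])
  -- the normaliser of the complement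
  let NE := Subgroup.normalizer (D.E : Set G)
  have horb : MulAction.orbit NE ((1 : G) : G ⧸ N') = {q | (g : G) • q = q} := by
    ext q
    constructor
    · rintro ⟨⟨b, hb⟩, rfl⟩
      show (g : G) • (b • ((1 : G) : G ⧸ N')) = b • ((1 : G) : G ⧸ N')
      rw [MulAction.Quotient.smul_mk, MulAction.Quotient.smul_mk, QuotientGroup.eq]
      have h1 : b⁻¹ * (g : G) * b ∈ D.E := by
        have := (Subgroup.mem_normalizer_iff.1 (inv_mem hb) (g : G)).1 g.2
        simpa using this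
      have h2 := inv_mem (D.E_le h1)
      simpa [mul_assoc] using h2
    · intro hq
      obtain ⟨a, rfl⟩ := QuotientGroup.mk_surjective q
      rw [Set.mem_setOf_eq, MulAction.Quotient.smul_mk, QuotientGroup.eq] at hq
      have hmem : a⁻¹ * g * a ∈ N' := by
        have := inv_mem hq
        simpa [mul_assoc] using this
      obtain ⟨x, hx, h, hh, hxh⟩ := D.exists_mul hmem
      have hord : orderOf (a⁻¹ * (g : G) * a) = D.e := by
        rw [← hog', ← orderOf_injective (MulAut.conj a⁻¹).toMonoidHom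
          (MulEquiv.injective _) (g : G)]
        simp
      have hh1 : h ≠ 1 := by
        rintro rfl
        rw [mul_one] at hxh
        have h1 := Subgroup.orderOf_dvd_natCard P' hx
        rw [hxh, hord, D.card_P'] at h1
        rcases (Nat.dvd_prime hp.out).1 h1 with h2 | h2 <;> omega
      obtain ⟨c, hc, hch⟩ := D.exists_conj hh hh1 hx
      rw [hxh] at hch
      have hb : (a * c)⁻¹ * g * (a * c) = h := by
        rw [mul_inv_rev]
        calc c⁻¹ * a⁻¹ * g * (a * c) = c⁻¹ * (a⁻¹ * g * a) * c := by group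
          _ = c⁻¹ * (c * h * c⁻¹) * c := by rw [hch]
          _ = h := by group
      have hzh : Subgroup.zpowers h = D.E :=
        Subgroup.eq_of_le_of_card_ge (by simpa using hh) (by
          rw [Nat.card_zpowers, D.card_E, ← hog', ← hb, orderOf_inv_mul_mul])
      have hNE : a * c ∈ NE := by
        have h1 : (a * c)⁻¹ ∈ NE := by
          rw [Subgroup.mem_normalizer_iff]
          intro y
          conv_lhs => rw [← hzp]
          conv_rhs => rw [← hzh]
          rw [← hb, Subgroup.mem_zpowers_iff, Subgroup.mem_zpowers_iff]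
          refine exists_congr fun i => ?_
          rw [show ((a * c)⁻¹ * (g : G) * (a * c)) ^ i = (a * c)⁻¹ * (g : G) ^ i * (a * c) by
            simpa [MulAut.conj_apply, mul_assoc] using
              (map_zpow (MulAut.conj (a * c)⁻¹).toMonoidHom (g : G) i).symm]
          constructor
          · rintro rfl; group
          · intro e; simpa using e
        simpa using inv_mem h1
      refine ⟨⟨a * c, hNE⟩, ?_⟩
      show (a * c) • ((1 : G) : G ⧸ N') = (a : G ⧸ N')
      rw [MulAction.Quotient.smul_mk, QuotientGroup.eq, smul_eq_mul, mul_one, mul_inv_rev,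
        inv_mul_cancel_right]
      exact inv_mem (Subgroup.le_normalizer hc)
  have hstab : MulAction.stabilizer NE ((1 : G) : G ⧸ N') = D.E.subgroupOf NE := by
    ext ⟨b, hb⟩
    rw [MulAction.mem_stabilizer_iff, Subgroup.mem_subgroupOf]
    show b • ((1 : G) : G ⧸ N') = _ ↔ b ∈ D.E
    rw [MulAction.Quotient.smul_mk, QuotientGroup.eq, smul_eq_mul, mul_one, mul_one,
      inv_mem_iff]
    refine ⟨fun h => ?_, fun h => D.E_le h⟩
    obtain ⟨x, hx, k, hk, rfl⟩ := D.exists_mul h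
    suffices x = 1 by simpa [this] using hk
    have hxE : x ∈ NE := by simpa using mul_mem hb (inv_mem (Subgroup.le_normalizer hk : k ∈ NE))
    by_contra hx1
    refine D.not_commute hx hx1 g.2 (by simpa using hg1) ?_
    have h1 : x * g * x⁻¹ ∈ D.E := (Subgroup.mem_normalizer_iff.1 hxE _).1 g.2
    have h2 : x * g * x⁻¹ * (g : G)⁻¹ ∈ P' := by
      rw [show x * g * x⁻¹ * (g : G)⁻¹ = x * ((g : G) * x⁻¹ * (g : G)⁻¹) by group]
      exact mul_mem hx ((Subgroup.mem_normalizer_iff.1 (D.E_le g.2) _).1 (inv_mem hx))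
    have h3 := D.E_inf h2 (mul_mem h1 (inv_mem g.2))
    rw [mul_inv_eq_one, mul_inv_eq_iff_eq_mul] at h3
    exact h3
  have hNEcard : Nat.card NE = (n + 1) * D.e := by
    rw [← (MulAction.stabilizer NE ((1 : G) : G ⧸ N')).card_mul_index,
      MulAction.index_stabilizer, horb, hstab, Nat.card_congr (Subgroup.subgroupOfEquivOfLe (Subgroup.le_normalizer)).toEquiv,
      D.card_E, ← hfix g hg1, mul_comm]
    rfl
  have hpNE : ¬ p ∣ Nat.card NE := by
    intro hd
    obtain ⟨x, hx⟩ := exists_prime_orderOf_dvd_card' p hd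
    have h1 : orderOf ((D.E).normalizerMonoidHom x) ∣ p := (orderOf_map_dvd _ x).trans hx.dvd
    haveI := D.E_cyclic
    have h2 : orderOf ((D.E).normalizerMonoidHom x) ∣ Nat.card (MulAut D.E) :=
      orderOf_dvd_natCard _
    rw [IsCyclic.card_mulAut, D.card_E] at h2
    have h3 : orderOf ((D.E).normalizerMonoidHom x) = 1 := by
      rcases (Nat.dvd_prime hp.out).1 h1 with h | h
      · exact h
      · rw [h] at h2
        have := Nat.le_of_dvd (Nat.totient_pos.2 (by omega)) h2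
        have := Nat.totient_le D.e
        omega
    rw [orderOf_eq_one_iff, ← MonoidHom.mem_ker, Subgroup.normalizerMonoidHom_ker,
      Subgroup.mem_subgroupOf, Subgroup.mem_centralizer_iff] at h3
    have h4 := D.pow_p_eq_one_of_commute (x := (x : G)) (g := (g : G))
      (by rw [Subgroup.orderOf_coe, hx]) (h3 (g : G) g.2)
    have h5 := orderOf_dvd_of_pow_eq_one h4
    rw [hog'] at h5
    rcases (Nat.dvd_prime hp.out).1 h5 with h | h <;> omega
  have hn1dvd : n + 1 ∣ p - 1 := by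
    have h1 : (n + 1) * D.e ∣ p * D.e * (1 + n * p) := by
      rw [← D.card_G, ← hNEcard]; exact Subgroup.card_subgroup_dvd_card NE
    rw [mul_right_comm] at h1
    have h2 : n + 1 ∣ p * (1 + n * p) := Nat.dvd_of_mul_dvd_mul_right (by omega) h1
    have h3 : Nat.Coprime (n + 1) p := by
      rw [Nat.coprime_comm, hp.out.coprime_iff_not_dvd]
      intro h; apply hpNE; rw [hNEcard]; exact h.mul_right _
    have h4 : n + 1 ∣ 1 + n * p := h3.dvd_of_dvd_mul_left h2
    have h5 : 1 + n * p + (p - 1) = (n + 1) * p := by rw [Nat.add_mul, one_mul]; omega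
    exact (Nat.dvd_add_right h4).1 (h5 ▸ dvd_mul_right _ _)
  have hve : v + D.plus.card * (n + 1) = D.e - 1 := by
    rw [← D.sum_sum_plus hplus1]
    have hv' : ∑ μ ∈ (Finset.univ : Finset (D.E →* ℂˣ)).erase 1, D.cf θ μ = v := by
      have h3 := D.sum_cf_Y hθ
      rw [hv] at h3
      have h4 : ∑ μ : D.E →* ℂˣ, D.cf θ μ = v := by exact_mod_cast h3
      rw [← h4, ← Finset.add_sum_erase _ _ (Finset.mem_univ (1 : D.E →* ℂˣ)),
        (hpart1 θ hθ).2, zero_add]
    rw [← hv', ← Finset.sum_add_distrib,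
      Finset.sum_congr rfl (g := fun _ : D.E →* ℂˣ => 1) fun μ hμ => by
        rw [add_comm]; exact hpart θ hθ μ (Finset.ne_of_mem_erase hμ),
      Finset.sum_const, D.ne_one_card, smul_eq_mul, mul_one]
  have hv_one : v = 1 := by
    have h1 : v ∣ D.e := by
      have h2 : v * D.t ∣ D.e * D.t := by rw [hvt, het]; exact hn1dvd
      exact Nat.dvd_of_mul_dvd_mul_right D.t_pos h2
    have h3 : v ∣ D.e - 1 := by
      rw [← hve, ← hvt]
      exact dvd_add dvd_rfl (Dvd.intro _ (by ring : v * (D.plus.card * D.t) = _))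
    have h4 : v ∣ 1 := by
      have h5 := Nat.dvd_sub h1 h3
      rwa [show D.e - (D.e - 1) = 1 by omega] at h5
    exact Nat.dvd_one.1 h4
  have htn : D.t = n + 1 := by rw [← hvt, hv_one, one_mul]
  have hk : D.plus.card * D.t + 2 = D.e := by
    rw [hv_one, ← htn] at hve
    omega
  -- the exceptional constituent
  obtain ⟨μ0, hμ0, hμ0θ⟩ : ∃ μ0 : D.E →* ℂˣ, μ0 ≠ 1 ∧ D.cf θ μ0 = 1 := by
    by_contra hc
    push Not at hc
    have h := D.sum_cf_Y hθ
    rw [hv, hv_one, Finset.sum_eq_zero fun μ _ => ?_] at h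
    · simp at h
    · by_cases hμ : μ = 1
      · simp [hμ, (hpart1 θ hθ).2]
      · have h1 := hpart θ hθ μ hμ
        have h2 := hc μ hμ
        have h3 : D.cf θ μ = 0 := by omega
        simp [h3]
  have hcfY : ∀ η ∈ D.Y, ∀ μ, D.cf η μ = if μ = μ0 then 1 else 0 := by
    intro η hη μ
    have h1 := (hYfull μ0 hμ0 hμ0θ).1 η hη
    have h2 := D.sum_cf_Y hη
    rw [hv, hv_one] at h2
    have h3 : ∑ μ : D.E →* ℂˣ, D.cf η μ = 1 := by exact_mod_cast h2
    split_ifs with h
    · rw [h]; exact h1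
    · have h4 := Finset.add_sum_erase _ (fun μ : D.E →* ℂˣ => D.cf η μ) (Finset.mem_univ μ0)
      have h5 : ∑ x ∈ (Finset.univ : Finset (D.E →* ℂˣ)).erase μ0, D.cf η x = 0 := by omega
      exact Finset.sum_eq_zero_iff.1 h5 μ (Finset.mem_erase.2 ⟨h, Finset.mem_univ _⟩)
  have hreal : μ0⁻¹ = μ0 := by
    by_contra hne
    have h1 : μ0⁻¹ ≠ 1 := fun h => hμ0 (MonoidHom.ext fun x => by
      simpa using DFunLike.congr_fun h x)
    have h2 := hpart θ hθ μ0⁻¹ h1
    rw [hcfY θ hθ, if_neg hne, add_zero] at h2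
    obtain ⟨χ, hχ, hc⟩ : ∃ χ ∈ D.plus, 1 ≤ D.cf χ μ0⁻¹ := by
      by_contra hc
      push Not at hc
      rw [Finset.sum_eq_zero fun χ hχ => by have := hc χ hχ; omega] at h2
      omega
    have h3 := D.norm_pic_inv μ0
    rw [(D.pic_plus hχ hc).2.2, H12.classInner_irr_self, D.norm_pic,
      ← Finset.sum_subset (Finset.subset_univ D.Y) fun ψ _ hψ => by
        rw [(hYfull μ0 hμ0 hμ0θ).2 ψ hψ]; simp,
      Finset.sum_congr rfl (g := fun _ : IrrCharacter G => (1 : ℂ)) fun η hη => by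
        rw [hcfY η hη, if_pos rfl]; simp,
      Finset.sum_const, D.cardY, nsmul_one] at h3
    have h4 : D.t = 1 := by exact_mod_cast h3.symm
    omega
  have hμ0g : (μ0 g : ℂ) = -1 := by
    have h1 : μ0 g * μ0 g = 1 := by
      conv_lhs => arg 1; rw [← hreal]
      rw [MonoidHom.inv_apply, inv_mul_cancel]
    have h2 : (μ0 g : ℂ) * (μ0 g : ℂ) = 1 := by rw [← Units.val_mul, h1, Units.val_one]
    refine (mul_self_eq_one_iff.1 h2).resolve_left fun h3 => hμ0 (MonoidHom.ext fun h => ?_)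
    obtain ⟨i, rfl⟩ := Subgroup.mem_zpowers_iff.1 (hg h)
    rw [map_zpow, Units.ext (h3.trans Units.val_one.symm), one_zpow, MonoidHom.one_apply]
  have hev : Even D.e := by
    have h1 : (μ0 g : ℂ) ^ D.e = 1 := by
      rw [← Units.val_pow_eq_pow_val, ← map_pow, ← hog, pow_orderOf_eq_one, map_one, Units.val_one]
    rw [hμ0g] at h1
    exact (neg_one_pow_eq_one_iff_even (by norm_num)).1 h1
  obtain ⟨e', he'⟩ := hev
  obtain ⟨s, hs⟩ : ∃ s : D.E, s = g ^ e' := ⟨_, rfl⟩
  have hs1 : s ≠ 1 := by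
    rw [hs]
    exact pow_ne_one_of_lt_orderOf (by omega) (by omega)
  have hss : s * s = 1 := by rw [hs, ← pow_add, ← he', ← hog, pow_orderOf_eq_one]
  have huniq : ∀ h : D.E, h * h = 1 → h = 1 ∨ h = s := by
    intro h hh
    obtain ⟨i, rfl⟩ := Subgroup.mem_zpowers_iff.1 (hg h)
    rw [← zpow_add, ← orderOf_dvd_iff_zpow_eq_one, hog] at hh
    obtain ⟨j, hj⟩ : (e' : ℤ) ∣ i := by
      rw [he'] at hh
      obtain ⟨j, hj⟩ := hh
      exact ⟨j, by push_cast at hj; linarith⟩
    rw [hj, zpow_mul, zpow_natCast, ← hs]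
    rcases Int.even_or_odd j with ⟨q, hq⟩ | ⟨q, hq⟩
    · left; rw [hq, ← two_mul, zpow_mul, zpow_two, hss, one_zpow]
    · right; rw [hq, zpow_add, zpow_mul, zpow_two, hss, one_zpow, one_mul, zpow_one]
  have hreg : ∀ h : D.E, ¬ p ∣ orderOf (h : G) := by
    intro h hd
    have h1 : orderOf (h : G) ∣ Nat.card D.E := by
      rw [Subgroup.orderOf_coe]; exact orderOf_dvd_natCard h
    have h2 := Nat.le_of_dvd (by omega) (D.card_E ▸ hd.trans h1)
    omega
  have hvalY : ∀ η ∈ D.Y, ∀ h : D.E, h ≠ 1 → (η : G → ℂ) h = (μ0 h : ℂ) := by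
    intro η hη h hh
    rw [D.val_expand η hh, Finset.sum_eq_single μ0 (fun μ _ hμ => by simp [hcfY η hη, hμ])
      (by simp), hcfY η hη, if_pos rfl, Nat.cast_one, one_mul]
  have hrel : ∀ h : D.E, h ≠ 1 →
      ∑ χ ∈ D.plus, (χ : G → ℂ) h = -1 - (μ0 h : ℂ) := by
    intro h hh
    have h1 := D.rel θ hθ h (hreg h)
    rw [hε, hvalY θ hθ h hh, D.sum_X, D.εX_one, H12.oneIrr_apply,
      Finset.sum_eq_zero (s := D.minus) fun χ hχ => by rw [hval_minus χ hχ h hh, mul_zero],
      Finset.sum_congr rfl (s₁ := D.plus) (g := fun χ : IrrCharacter G => (χ : G → ℂ) h)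
        fun χ hχ => by rw [(D.plus_spec hχ).2.2.1, Int.cast_one, one_mul]] at h1
    push_cast at h1
    linear_combination -h1
  have hconj0 : ∀ h : D.E, conj (μ0 h : ℂ) = (μ0 h : ℂ) := fun h => by rw [D.conj_lin, hreal]
  -- values at the involution
  let σ : (D.E →* ℂˣ) → ℤ := fun μ => if μ s = 1 then 1 else -1
  have hσ : ∀ μ : D.E →* ℂˣ, (μ s : ℂ) = σ μ := by
    intro μ
    simp only [σ]
    split_ifs with h
    · simp [h]
    · have h2 : (μ s : ℂ) * (μ s : ℂ) = 1 := by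
        rw [← Units.val_mul, ← map_mul, hss, map_one, Units.val_one]
      rw [(mul_self_eq_one_iff.1 h2).resolve_left fun h3 =>
        h (Units.ext (h3.trans Units.val_one.symm))]
      simp
  let r : IrrCharacter G → ℤ := fun χ => ∑ μ : D.E →* ℂˣ, (D.cf χ μ : ℤ) * σ μ
  have hr : ∀ χ : IrrCharacter G, (χ : G → ℂ) s = r χ := fun χ => by
    rw [D.val_expand χ hs1]
    simp only [r, Int.cast_sum, Int.cast_mul, Int.cast_natCast]
    exact Finset.sum_congr rfl fun μ _ => by rw [hσ]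
  have hr2 : ∀ χ ∈ D.plus, r χ ^ 2 ≤ (D.t : ℤ) ^ 2 := by
    intro χ hχ
    have h1 : |r χ| ≤ (D.t : ℤ) := by
      refine (Finset.abs_sum_le_sum_abs _ _).trans ?_
      rw [htn, ← D.sum_cf_plus hχ, Nat.cast_sum]
      refine Finset.sum_le_sum fun μ _ => le_of_eq ?_
      simp only [σ]
      split_ifs <;> simp
    rw [← sq_abs (r χ)]
    exact pow_le_pow_left₀ (abs_nonneg _) h1 2
  let C := Subgroup.centralizer ({(s : G)} : Set G)
  have hCcard : (Nat.card C : ℤ) = 2 * D.t + ∑ χ ∈ D.plus, r χ ^ 2 := by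
    have h1 := H12.column_orthogonality (s : G) (s : G)
    rw [if_pos (IsConj.refl _), D.sum_univ, H12.oneIrr_apply,
      Finset.sum_eq_zero (s := D.minus) fun χ hχ => by rw [hval_minus χ hχ s hs1, zero_mul],
      Finset.sum_congr rfl (s₁ := D.plus) (g := fun χ : IrrCharacter G => ((r χ : ℂ)) ^ 2)
        fun χ _ => by rw [hr, map_intCast, sq],
      Finset.sum_congr rfl (s₁ := D.Y) (g := fun _ : IrrCharacter G => (1 : ℂ))
        fun η hη => by
          rw [hvalY η hη s hs1, hconj0, ← Units.val_mul, ← map_mul, hss, map_one, Units.val_one],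
      Finset.sum_congr rfl (s₁ := D.outs)
        (g := fun ξ : IrrCharacter G => ((D.cf ξ 1 * D.cf ξ 1 : ℕ) : ℂ)) fun ξ hξ => by
          rw [hval_out ξ hξ s hs1, Complex.conj_natCast]; push_cast; rfl,
      ← Nat.cast_sum, hmn, Finset.sum_const, D.cardY, nsmul_one, map_one] at h1
    rw [← Int.cast_inj (α := ℂ), htn]
    rw [htn] at h1
    push_cast at h1 ⊢
    linear_combination -h1
  have hNEC : NE ≤ C := by
    intro b hb
    rw [Subgroup.mem_centralizer_singleton_iff]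
    have h1 : b * (s : G) * b⁻¹ ∈ D.E := (Subgroup.mem_normalizer_iff.1 hb _).1 s.2
    have h2 : (⟨_, h1⟩ : D.E) = s := by
      refine (huniq _ (Subtype.ext ?_)).resolve_left fun h => hs1 (Subtype.ext ?_)
      · show b * (s : G) * b⁻¹ * (b * (s : G) * b⁻¹) = 1
        rw [show b * (s : G) * b⁻¹ * (b * (s : G) * b⁻¹) = b * ((s : G) * s) * b⁻¹ by group,
          show (s : G) * s = 1 from congrArg Subtype.val hss, mul_one, mul_inv_cancel]
      · exact conj_eq_one_iff.1 (congrArg Subtype.val h)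
    exact mul_inv_eq_iff_eq_mul.1 (congrArg Subtype.val h2)
  have hsumle : ∑ χ ∈ D.plus, r χ ^ 2 ≤ ∑ χ ∈ D.plus, (D.t : ℤ) ^ 2 := Finset.sum_le_sum hr2
  have hsumc : ∑ _χ ∈ D.plus, (D.t : ℤ) ^ 2 = (D.t : ℤ) * ((D.e : ℤ) - 2) := by
    rw [Finset.sum_const, nsmul_eq_mul, ← hk]
    push_cast
    ring
  have hle : ((D.t * D.e : ℕ) : ℤ) ≤ Nat.card C := by
    rw [htn, ← hNEcard]
    exact_mod_cast Nat.card_le_card_of_injective _ (Subgroup.inclusion_injective hNEC)
  push_cast at hle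
  have hsumeq : ∑ χ ∈ D.plus, r χ ^ 2 = ∑ χ ∈ D.plus, (D.t : ℤ) ^ 2 := by linarith
  have hrt : ∀ χ ∈ D.plus, r χ ^ 2 = (D.t : ℤ) ^ 2 :=
    (Finset.sum_eq_sum_iff_of_le hr2).1 hsumeq
  have hCt : Nat.card C = D.t * D.e := by
    have h1 : (Nat.card C : ℤ) = ((D.t * D.e : ℕ) : ℤ) := by push_cast; linarith
    exact_mod_cast h1
  have hCNE : NE = C := Subgroup.eq_of_le_of_card_ge hNEC (by rw [hCt, hNEcard, htn])
  have hidx : C.index * D.t = p * (1 + n * p) := by
    have h := C.card_mul_index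
    rw [hCt, D.card_G] at h
    refine Nat.eq_of_mul_eq_mul_right (show 0 < D.e by omega) ?_
    linarith
  -- the class multiplication constants
  have hcm : ∀ h : D.E, h ≠ 1 →
      Nat.card {a : G // IsConj (s : G) a ∧ IsConj (s : G) (a⁻¹ * h)} = n * D.e := by
    intro h hh
    have heq : Nat.card {a : G // IsConj (s : G) a ∧ IsConj (s : G) (a⁻¹ * h)} =
        H24.classMult (s : G) s h := by
      refine Nat.card_congr
        { toFun := fun a => ⟨(a.1, a.1⁻¹ * h), a.2.1, a.2.2, mul_inv_cancel_left _ _⟩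
          invFun := fun ab => ⟨ab.1.1, ab.2.1, by
            rw [inv_mul_eq_iff_eq_mul.2 ab.2.2.2.symm]; exact ab.2.2.1⟩
          left_inv := fun a => rfl
          right_inv := fun ab => Subtype.ext (Prod.ext rfl (by
            show ab.1.1⁻¹ * (h : G) = ab.1.2
            exact inv_mul_eq_iff_eq_mul.2 ab.2.2.2.symm)) }
    rw [heq]
    have hM : ((1 + n * p : ℕ) : ℂ) ≠ 0 := Nat.cast_ne_zero.2 (by omega)
    have hpc : (p : ℂ) ≠ 0 := Nat.cast_ne_zero.2 hp.out.ne_zero
    have h1 := H24.classMult_eq (s : G) (s : G) (h : G)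
    rw [D.sum_univ, H12.oneIrr_apply, H12.oneIrr_apply, H12.oneIrr_apply,
      Finset.sum_eq_zero (s := D.minus) fun χ hχ => by
        rw [hval_minus χ hχ h hh, map_zero, mul_zero, zero_div],
      Finset.sum_congr rfl (s₁ := D.plus) (g := fun χ : IrrCharacter G =>
        (D.t : ℂ) ^ 2 / ((1 + n * p : ℕ) : ℂ) * conj ((χ : G → ℂ) h)) fun χ hχ => by
          rw [hr, H12.irr_apply_one, (D.plus_spec hχ).2.2.2,
            show (r χ : ℂ) * (r χ : ℂ) = (D.t : ℂ) ^ 2 by rw [← sq]; exact_mod_cast hrt χ hχ]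
          ring,
      ← Finset.mul_sum, ← map_sum, hrel h hh, map_sub, map_neg, map_one, hconj0,
      Finset.sum_congr rfl (s₁ := D.Y) (g := fun _ : IrrCharacter G =>
        (μ0 h : ℂ) * ((D.t : ℂ) / ((1 + n * p : ℕ) : ℂ))) fun η hη => by
          rw [hvalY η hη s hs1, hvalY η hη h hh, hconj0, ← Units.val_mul, ← map_mul, hss, map_one,
            Units.val_one, one_mul, H12.irr_apply_one, ← hdegY η hη]
          have : (H12.degree (η : G → ℂ) : ℂ) ≠ 0 := Nat.cast_ne_zero.2 (H12.irr_degree_pos η).ne'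
          have : (D.t : ℂ) ≠ 0 := Nat.cast_ne_zero.2 D.t_pos.ne'
          push_cast
          field_simp,
      Finset.sum_const, D.cardY, nsmul_eq_mul,
      Finset.sum_congr rfl (s₁ := D.outs) (g := fun ξ : IrrCharacter G =>
        ((D.cf ξ 1 * D.cf ξ 1 : ℕ) : ℂ) * (p : ℂ)⁻¹) fun ξ hξ => by
          have hd := D.deg_outs hξ
          rw [hm ξ hξ] at hd
          have : (D.cf ξ 1 : ℂ) ≠ 0 := by
            rw [Nat.cast_ne_zero]; intro h0; rw [h0, mul_zero] at hd
            exact (H12.irr_degree_pos ξ).ne' hd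
          rw [hval_out ξ hξ s hs1, hval_out ξ hξ h hh, Complex.conj_natCast, H12.irr_apply_one, hd]
          push_cast
          field_simp,
      ← Finset.sum_mul, ← Nat.cast_sum, hmn, D.card_G] at h1
    have hidx' : (C.index : ℂ) * (D.t : ℂ) = (p : ℂ) * ((1 + n * p : ℕ) : ℂ) := by
      exact_mod_cast hidx
    have hetc : (D.e : ℂ) * D.t = (p : ℂ) - 1 := by
      have := congrArg (fun x : ℕ => (x : ℂ)) het
      push_cast [Nat.cast_sub (show 1 ≤ p by omega)] at this
      exact this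
    have htc : (D.t : ℂ) = n + 1 := by exact_mod_cast htn
    have htc0 : (D.t : ℂ) ≠ 0 := Nat.cast_ne_zero.2 D.t_pos.ne'
    have hec0 : (D.e : ℂ) ≠ 0 := Nat.cast_ne_zero.2 (by omega)
    have hne : (D.e : ℂ) * D.t ^ 2 * ((p : ℂ) * ((1 + n * p : ℕ) : ℂ)) ≠ 0 := by
      exact mul_ne_zero (mul_ne_zero hec0 (pow_ne_zero 2 htc0)) (mul_ne_zero hpc hM)
    have key : (H24.classMult (s : G) s h : ℂ) *
        ((D.e : ℂ) * D.t ^ 2 * ((p : ℂ) * ((1 + n * p : ℕ) : ℂ))) =
        ((n * D.e : ℕ) : ℂ) * ((D.e : ℂ) * D.t ^ 2 * ((p : ℂ) * ((1 + n * p : ℕ) : ℂ))) := by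
      change (_ : ℂ) = (C.index : ℂ) * (C.index : ℂ) * _ at h1
      simp only [map_one, mul_one, div_one] at h1
      have h2 : (H24.classMult (s : G) s h : ℂ) *
          ((D.e : ℂ) * D.t ^ 2 * ((p : ℂ) * ((1 + n * p : ℕ) : ℂ))) =
          ((p : ℂ) * ((1 + n * p : ℕ) : ℂ)) ^ 2 *
            (1 - (D.t : ℂ) ^ 2 / ((1 + n * p : ℕ) : ℂ) + (n : ℂ) * (p : ℂ)⁻¹) := by
        rw [show ((p : ℂ) * ((1 + n * p : ℕ) : ℂ)) ^ 2 = ((C.index : ℂ) * D.t) ^ 2 by rw [hidx']]
        push_cast at h1 ⊢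
        linear_combination (D.t : ℂ) ^ 2 * h1
      rw [h2]
      obtain ⟨M, hMg⟩ : ∃ M : ℂ, M = ((1 + n * p : ℕ) : ℂ) := ⟨_, rfl⟩
      rw [← hMg] at hM ⊢
      have e1 : ((p : ℂ) * M) ^ 2 * (1 - (D.t : ℂ) ^ 2 / M + (n : ℂ) * (p : ℂ)⁻¹) =
          (p : ℂ) * M * ((p : ℂ) * M - (p : ℂ) * (D.t : ℂ) ^ 2 + (n : ℂ) * M) := by
        field_simp
      have e2 : (p : ℂ) * M - (p : ℂ) * (D.t : ℂ) ^ 2 + (n : ℂ) * M =
          (n : ℂ) * ((D.e : ℂ) * D.t) ^ 2 := by
        rw [hetc, hMg, htc]; push_cast; ring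
      rw [e1, e2]
      push_cast
      ring
    exact_mod_cast mul_right_cancel₀ hne key
  have hinv : ∀ a : G, IsConj (s : G) a → a * a = 1 ∧ a ≠ 1 := by
    intro a ha
    obtain ⟨c, rfl⟩ := isConj_iff.1 ha
    refine ⟨?_, fun h => hs1 (Subtype.ext (conj_eq_one_iff.1 h))⟩
    rw [show c * (s : G) * c⁻¹ * (c * (s : G) * c⁻¹) = c * ((s : G) * s) * c⁻¹ by group,
      show (s : G) * s = 1 from congrArg Subtype.val hss, mul_one, mul_inv_cancel]
  have hflip : ∀ (a : G) (h : D.E), IsConj (s : G) a → IsConj (s : G) (a⁻¹ * h) →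
      a * (h : G) * a⁻¹ = (h : G)⁻¹ := by
    intro a h h1 h2
    have e1 : a⁻¹ = a := inv_eq_of_mul_eq_one_right (hinv a h1).1
    have e2 := inv_eq_of_mul_eq_one_right (hinv _ h2).1
    rw [mul_inv_rev, inv_inv] at e2
    calc a * (h : G) * a⁻¹ = (a⁻¹ * h) * a⁻¹ := by rw [e1]
      _ = ((h : G)⁻¹ * a) * a⁻¹ := by rw [e2]
      _ = (h : G)⁻¹ := by group
  rcases Nat.lt_or_ge 2 D.e with he3 | he3
  · left
    have hcard := hcm g hg1
    obtain ⟨⟨a0, ha0⟩⟩ : Nonempty {a : G // IsConj (s : G) a ∧ IsConj (s : G) (a⁻¹ * g)} :=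
      (Nat.card_pos_iff.1 (by rw [hcard]; exact Nat.mul_pos hn (by omega))).1
    let Cg := Subgroup.centralizer ({(g : G)} : Set G)
    have hmem : ∀ a, IsConj (s : G) a ∧ IsConj (s : G) (a⁻¹ * g) → a0⁻¹ * a ∈ Cg := by
      intro a ha
      have h1 := hflip a g ha.1 ha.2
      rw [← hflip a0 g ha0.1 ha0.2] at h1
      rw [Subgroup.mem_centralizer_singleton_iff]
      calc a0⁻¹ * a * g = a0⁻¹ * (a * g * a⁻¹) * a := by group
        _ = a0⁻¹ * (a0 * g * a0⁻¹) * a := by rw [h1]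
        _ = g * (a0⁻¹ * a) := by group
    have hle2 : n * D.e ≤ Nat.card Cg := by
      rw [← hcard]
      exact Nat.card_le_card_of_injective (fun a => (⟨a0⁻¹ * a.1, hmem a.1 a.2⟩ : Cg))
        fun a b e => Subtype.ext (mul_left_cancel (congrArg Subtype.val e))
    have hCg : Cg ≤ C := by
      intro b hb
      rw [Subgroup.mem_centralizer_singleton_iff] at hb ⊢
      rw [hs, SubmonoidClass.coe_pow]
      exact (Commute.pow_right hb e')
    have hEg : D.E ≤ Cg := fun b hb => Subgroup.mem_centralizer_singleton_iff.2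
      (congrArg Subtype.val (D.E_comm ⟨b, hb⟩ g))
    have ha0C : a0 ∈ C := by
      rw [← hCNE, Subgroup.mem_normalizer_iff]
      intro y
      have h1 := hflip a0 g ha0.1 ha0.2
      rw [← hzp, Subgroup.mem_zpowers_iff, Subgroup.mem_zpowers_iff]
      constructor
      · rintro ⟨i, rfl⟩
        exact ⟨-i, by rw [← conj_zpow, h1, inv_zpow, zpow_neg]⟩
      · rintro ⟨i, hi⟩
        refine ⟨-i, ?_⟩
        have h2 : a0 * ((g : G) ^ (-i)) * a0⁻¹ = a0 * y * a0⁻¹ := by
          rw [← hi, ← conj_zpow, h1, inv_zpow, zpow_neg, inv_inv]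
        exact mul_left_cancel (mul_right_cancel h2)
    have ha0g : a0 ∉ Cg := by
      intro h
      rw [Subgroup.mem_centralizer_singleton_iff] at h
      have h1 := hflip a0 g ha0.1 ha0.2
      rw [h, mul_inv_cancel_right, eq_inv_iff_mul_eq_one, ← sq] at h1
      have h2 := orderOf_dvd_of_pow_eq_one h1
      rw [hog'] at h2
      have := Nat.le_of_dvd (by norm_num) h2
      omega
    obtain ⟨κ, hκ⟩ : D.e ∣ Nat.card Cg := D.card_E ▸ Subgroup.card_dvd_of_le hEg
    obtain ⟨q, hq⟩ : κ ∣ D.t := by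
      have h1 := Subgroup.card_dvd_of_le hCg
      rw [hκ, hCt, mul_comm D.t] at h1
      exact Nat.dvd_of_mul_dvd_mul_left (by omega) h1
    have hq2 : 2 ≤ q := by
      rcases Nat.lt_or_ge q 2 with h | h
      · exfalso
        interval_cases q
        · simp at hq; omega
        · rw [mul_one] at hq
          exact ha0g (Subgroup.eq_of_le_of_card_ge hCg (by rw [hCt, hκ, hq, mul_comm]) ▸ ha0C)
      · exact h
    rw [hκ, mul_comm D.e κ] at hle2
    have h1 : n ≤ κ := Nat.le_of_mul_le_mul_right hle2 (by omega)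
    have h2 : κ * 2 ≤ κ * q := Nat.mul_le_mul_left _ hq2
    omega
  · right
    have he2' : D.e = 2 := by omega
    refine ⟨s, he2', htn, fun h => hs1 (Subtype.ext h), congrArg Subtype.val hss, ?_, ?_⟩
    · show Nat.card C = _
      rw [hCt, mul_comm, het]
    · have hgs : g = s := by rw [hs, show e' = 1 by omega, pow_one]
      have hcard := hcm s hs1
      have hsub : ∀ a, IsConj (s : G) a ∧ IsConj (s : G) (a⁻¹ * s) →
          a ∈ C ∧ a ≠ 1 ∧ a ≠ (s : G) := by
        rintro a ⟨h1, h2⟩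
        have h3 := hflip a s h1 h2
        rw [inv_eq_of_mul_eq_one_right (congrArg Subtype.val hss : (s : G) * s = 1)] at h3
        refine ⟨Subgroup.mem_centralizer_singleton_iff.2 (mul_inv_eq_iff_eq_mul.1 h3),
          (hinv a h1).2, fun h => ?_⟩
        exact (hinv _ h2).2 (by rw [h, inv_mul_cancel])
      have hset : {a : G | IsConj (s : G) a ∧ IsConj (s : G) (a⁻¹ * s)} =
          (C : Set G) \ {1, (s : G)} := by
        refine Set.eq_of_subset_of_ncard_le (fun a ha => ?_) ?_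
        · obtain ⟨h1, h2, h3⟩ := hsub a ha
          exact ⟨h1, by simp [h2, h3]⟩
        · have hS : ({1, (s : G)} : Set G) ⊆ (C : Set G) := by
            rintro a (rfl | rfl)
            · exact Subgroup.one_mem C
            · exact Subgroup.mem_centralizer_singleton_iff.2 rfl
          rw [Set.ncard_diff hS, Set.ncard_pair (show (1 : G) ≠ s from fun h => hs1 (Subtype.ext h.symm))]
          show Nat.card C - 2 ≤ Nat.card {a : G // IsConj (s : G) a ∧ IsConj (s : G) (a⁻¹ * s)}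
          rw [hcard, hCt, he2', htn]
          omega
      intro a ha ha1
      by_cases hae : a = (s : G)
      · rw [hae]
      · have h : a ∈ {a : G | IsConj (s : G) a ∧ IsConj (s : G) (a⁻¹ * s)} := by
          rw [hset]; exact ⟨ha, by simp [ha1, hae]⟩
        exact h.1

end Data

end H18.BR
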