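import Cfsg.Agent.H18.BrauerTuan
import Cfsg.Agent.H65.BrauerFowler
import Cfsg.Agent.H37.SmallIso

/-!
Simple groups of order `p * r * q ^ b`.
-/

set_option autoImplicit false

open Cfsg

namespace H18.BR

universe u

variable {G : Type u} [Group G] [Finite G] [IsSimpleGroup G]

theorem card_mod_four_ne_two (hG : ¬ IsCyclic G) : Nat.card G % 4 ≠ 2 := by
  intro h
  obtain ⟨H, hH⟩ := H65.exists_index_two_of_card_mod_four h
  haveI := Subgroup.normal_of_index_eq_two hH
  rcases (inferInstance : H.Normal).eq_bot_or_eq_top with h' | h'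
  · rw [h', Subgroup.index_bot] at hH
    haveI : Fact (Nat.Prime 2) := ⟨Nat.prime_two⟩
    exact hG (isCyclic_of_prime_card (p := 2) hH)
  · rw [h', Subgroup.index_top] at hH; omega

theorem dvd_three_of_odd {x y b : ℕ} (hx : Odd x) (h : x ∣ 3 * 2 ^ b * y) (hy : y = 1) : x ≤ 3 := by
  rw [hy, mul_one] at h
  exact Nat.le_of_dvd (by norm_num)
    ((Nat.Coprime.pow_right b (Nat.coprime_two_right.2 hx)).dvd_of_dvd_mul_right h)

/-- The main case `r + 1 < p`. -/
theorem prq_large (hG : ¬ IsCyclic G) {p q r b : ℕ} (hp : p.Prime) (hq : q.Prime) (hr : r.Prime)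
    (hpq : p ≠ q) (hqr : q ≠ r) (hcard : Nat.card G = p * r * q ^ b) (hlt : r < p - 1) :
    (∃ (F : Type) (_ : Field F) (_ : Fintype F), Fintype.card F = 5 ∧
      Nonempty (G ≃* Matrix.ProjectiveSpecialLinearGroup (Fin 2) F)) ∨
    (∃ (F : Type) (_ : Field F) (_ : Fintype F), Fintype.card F = 7 ∧
      Nonempty (G ≃* Matrix.ProjectiveSpecialLinearGroup (Fin 2) F)) := by
  haveI : Fact p.Prime := ⟨hp⟩
  have hcard' : Nat.card G = p * q ^ b * r := by rw [hcard]; ring
  obtain ⟨hc, m', hm'⟩ := brauer_tuan hG hq hpq hcard' hlt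
  rcases hc with ⟨F, i1, i2, hF, h3, ⟨e⟩⟩ | ⟨m, F, i1, i2, hF, hpm, h3, ⟨e⟩⟩
  · have h := order_psl2 F
    rw [← Nat.card_congr e.toEquiv, hF, hcard'] at h
    obtain ⟨k, hk⟩ : Odd p := hp.eq_two_or_odd'.resolve_left (by omega)
    rcases d_cases (show 2 ≤ p by omega) with ⟨-, hev⟩ | ⟨hd, -⟩
    · exact absurd ⟨k, hk⟩ (Nat.not_odd_iff_even.2 hev)
    rw [hd] at h
    have hX : 2 * (r * q ^ b) = p * p - 1 := Nat.eq_of_mul_eq_mul_left hp.pos (by linarith)
    have hpp : p * p = 4 * (k * (k + 1)) + 1 := by rw [hk]; ring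
    have h4 : 4 ∣ r * q ^ b := by
      obtain ⟨j, hj⟩ := Nat.even_mul_succ_self k
      exact ⟨j, by omega⟩
    have hq2 : q = 2 := by
      by_contra hne
      have hco : Nat.Coprime 4 (q ^ b) :=
        (((Nat.coprime_primes Nat.prime_two hq).2 (Ne.symm hne)).pow_left 2).pow_right b
      have := hco.dvd_of_dvd_mul_right h4
      rcases (Nat.dvd_prime hr).1 this with h | h
      · omega
      · rw [← h] at hr; exact absurd hr (by norm_num)
    subst q
    have h3d : 3 ∣ r * 2 ^ b := by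
      have hp3 : p % 3 ≠ 0 := fun h0 => by
        rcases (Nat.dvd_prime hp).1 (Nat.dvd_of_mod_eq_zero h0) with h | h <;> omega
      have : 3 ∣ 2 * (r * 2 ^ b) := by
        rw [hX]; apply Nat.dvd_of_mod_eq_zero
        have : p * p % 3 = 1 := by
          rw [Nat.mul_mod]
          rcases (show p % 3 = 1 ∨ p % 3 = 2 by omega) with h | h <;> rw [h]
        omega
      exact (Nat.Coprime.dvd_mul_left (by norm_num : Nat.Coprime 3 2)).1 this
    have hr3 : r = 3 :=
      ((Nat.prime_dvd_prime_iff_eq Nat.prime_three hr).1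
        (((show Nat.Coprime 3 2 by norm_num).pow_right b).dvd_of_dvd_mul_right h3d)).symm
    subst r
    rcases hm' with hm | hm
    · obtain ⟨j, rfl⟩ : ∃ j, m' = j + 2 := ⟨m' - 2, by
        rcases Nat.lt_or_ge m' 2 with h | h
        · interval_cases m' <;> norm_num at hm <;> omega
        · omega⟩
      have hodd : Odd (2 ^ (j + 1) + 1) := ⟨2 ^ j, by rw [pow_succ]; ring⟩
      have hd' : 2 ^ (j + 1) + 1 ∣ 3 * 2 ^ (b + 1) * 1 := by
        refine Dvd.intro_left (2 * 2 ^ (j + 2)) ?_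
        rw [mul_one, show 3 * 2 ^ (b + 1) = 2 * (3 * 2 ^ b) by ring, hX, hm,
          show (2 ^ (j + 2) + 1) * (2 ^ (j + 2) + 1) =
            2 * 2 ^ (j + 2) * (2 ^ (j + 1) + 1) + 1 by ring, Nat.add_sub_cancel]
      have := dvd_three_of_odd hodd hd' rfl
      have h2 : 2 ^ (j + 2) = 2 * 2 ^ (j + 1) := pow_succ' 2 (j + 1)
      exact Or.inl ⟨F, i1, i2, by omega, ⟨e⟩⟩
    · obtain ⟨j, rfl⟩ : ∃ j, m' = j + 3 := ⟨m' - 3, by
        rcases Nat.lt_or_ge m' 3 with h | h
        · interval_cases m' <;> norm_num at hm <;> omega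
        · omega⟩
      obtain ⟨u, hu⟩ : ∃ u, 2 ^ (j + 1) = u + 1 :=
        ⟨2 ^ (j + 1) - 1, by have := Nat.one_le_two_pow (n := j + 1); omega⟩
      have h2 : 2 ^ (j + 3) = 4 * (u + 1) := by rw [← hu]; ring
      have hodd : Odd (2 * u + 1) := ⟨u, rfl⟩
      have hd' : 2 * u + 1 ∣ 3 * 2 ^ (b + 1) * 1 := by
        refine Dvd.intro_left (2 * (4 * (u + 1))) ?_
        rw [mul_one, show 3 * 2 ^ (b + 1) = 2 * (3 * 2 ^ b) by ring, hX,
          show p = 4 * u + 3 by omega,
          show (4 * u + 3) * (4 * u + 3) = 2 * (4 * (u + 1)) * (2 * u + 1) + 1 by ring,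
          Nat.add_sub_cancel]
      have := dvd_three_of_odd hodd hd' rfl
      have h21 : 2 ≤ 2 ^ (j + 1) := by
        calc 2 = 2 ^ 1 := rfl
          _ ≤ _ := Nat.pow_le_pow_right (by norm_num) (by omega)
      exact Or.inr ⟨F, i1, i2, by omega, ⟨e⟩⟩
  · have h := order_psl2 F
    rw [← Nat.card_congr e.toEquiv, hF, hcard'] at h
    obtain ⟨j, rfl⟩ : ∃ j, m = j + 2 := ⟨m - 2, by
      rcases Nat.lt_or_ge m 2 with h' | h'
      · interval_cases m <;> norm_num at hpm <;> omega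
      · omega⟩
    have hev : Even (2 ^ (j + 2)) := ⟨2 ^ (j + 1), by rw [pow_succ]; ring⟩
    rcases d_cases (show 2 ≤ 2 ^ (j + 2) by omega) with ⟨hd, -⟩ | ⟨-, hodd⟩
    swap
    · exact absurd hodd (Nat.not_odd_iff_even.2 hev)
    rw [hd, one_mul] at h
    obtain ⟨u, hu⟩ : ∃ u, 2 ^ (j + 2) = u + 1 := ⟨2 ^ (j + 2) - 1, by omega⟩
    rw [hu, show (u + 1) * (u + 1) - 1 = u * (u + 2) by
      rw [show (u + 1) * (u + 1) = u * (u + 2) + 1 by ring, Nat.add_sub_cancel],
      show p = u + 2 by omega] at h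
    have hX : r * q ^ b = (u + 1) * u :=
      Nat.eq_of_mul_eq_mul_left (show 0 < u + 2 by omega) (by linarith)
    have h4 : 4 ∣ r * q ^ b := by
      rw [hX, ← hu]; exact Dvd.dvd.mul_right ⟨2 ^ j, by ring⟩ _
    have hq2 : q = 2 := by
      by_contra hne
      have hco : Nat.Coprime 4 (q ^ b) :=
        (((Nat.coprime_primes Nat.prime_two hq).2 (Ne.symm hne)).pow_left 2).pow_right b
      have := hco.dvd_of_dvd_mul_right h4
      rcases (Nat.dvd_prime hr).1 this with h | h
      · omega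
      · rw [← h] at hr; exact absurd hr (by norm_num)
    subst q
    have huodd : Odd u := by
      obtain ⟨k, hk⟩ := hev; exact ⟨k - 1, by omega⟩
    have hur : u = r := by
      have hdv : u ∣ r := ((Nat.coprime_two_right.2 huodd).pow_right b).dvd_of_dvd_mul_right
        (hX ▸ Dvd.intro_left (u + 1) rfl)
      rcases (Nat.dvd_prime hr).1 hdv with h | h <;> omega
    have hu3 : u = 3 := by
      rcases (show u % 3 = 0 ∨ (u + 1) % 3 = 0 ∨ (u + 2) % 3 = 0 by omega) with h0 | h0 | h0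
      · exact hur.trans (((Nat.prime_dvd_prime_iff_eq Nat.prime_three hr).1
          (hur ▸ Nat.dvd_of_mod_eq_zero h0)).symm)
      · exfalso
        have h3' : 3 ∣ 2 ^ (j + 2) := hu ▸ Nat.dvd_of_mod_eq_zero h0
        have := Nat.le_of_dvd (by norm_num) (Nat.prime_three.dvd_of_dvd_pow h3')
        omega
      · rcases (Nat.dvd_prime hp).1 (Nat.dvd_of_mod_eq_zero
          (show p % 3 = 0 by omega)) with h | h <;> omega
    have hF4 : Nat.card F = 4 := by rw [Nat.card_eq_fintype_card, hF]; omega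
    haveI : Fact (Nat.Prime 5) := ⟨by norm_num⟩
    obtain ⟨a⟩ := H37.PSL2_four_mulEquiv_alternating (F := F) hF4
    obtain ⟨c⟩ := H37.PSL2_five_mulEquiv_alternating (F := ZMod 5) (ZMod.card 5)
    exact Or.inl ⟨ZMod 5, inferInstance, inferInstance, ZMod.card 5, ⟨e.trans (a.trans c.symm)⟩⟩

theorem prq (hG : ¬ IsCyclic G) {p q r b : ℕ} (hp : p.Prime) (hq : q.Prime) (hr : r.Prime)
    (hpq : p ≠ q) (hpr : p ≠ r) (hqr : q ≠ r) (hcard : Nat.card G = p * r * q ^ b) :
    (∃ (F : Type) (_ : Field F) (_ : Fintype F), Fintype.card F = 5 ∧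
      Nonempty (G ≃* Matrix.ProjectiveSpecialLinearGroup (Fin 2) F)) ∨
    (∃ (F : Type) (_ : Field F) (_ : Fintype F), Fintype.card F = 7 ∧
      Nonempty (G ≃* Matrix.ProjectiveSpecialLinearGroup (Fin 2) F)) := by
  wlog hlt : r < p generalizing p r
  · exact this hr hp hqr.symm hpr.symm hpq.symm (by rw [hcard]; ring) (by omega)
  by_cases h1 : r < p - 1
  · exact prq_large hG hp hq hr hpq hqr hcard h1
  · exfalso
    have hp' : p = r + 1 := by omega
    have hr2 : r = 2 := by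
      rcases hr.eq_two_or_odd with h | h
      · exact h
      · rcases hp.eq_two_or_odd with h' | h'
        · have := hr.two_le; omega
        · omega
    subst r
    have hq2 : q % 2 = 1 := hq.eq_two_or_odd.resolve_left hqr
    have hodd : (3 * q ^ b) % 2 = 1 := by
      simp [Nat.mul_mod, Nat.pow_mod, hq2]
    apply card_mod_four_ne_two hG
    rw [hcard, hp', show (2 + 1) * 2 * q ^ b = 2 * (3 * q ^ b) by ring]
    omega

end H18.BR
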