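import Cfsg.Agent.H18.BrauerSimple
import Cfsg.Agent.H1.Cores
import Cfsg.Agent.S2602

/-!
Perfect groups with a Sylow subgroup of prime order: reduction to the simple case.
-/

set_option autoImplicit false
set_option linter.unusedSectionVars false

open Cfsg

namespace H18.BR

universe u

theorem hom_trivial_of_comm {G A : Type*} [Group G] [Group A] (hperf : commutator G = ⊤)
    (hA : ∀ a b : A, a * b = b * a) (f : G →* A) (g : G) : f g = 1 := by
  letI : CommGroup A := { (inferInstance : Group A) with mul_comm := hA }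
  have : commutator G ≤ f.ker := Abelianization.commutator_subset_ker f
  rw [hperf] at this
  exact this (Subgroup.mem_top g)

variable {G : Type u} [Group G] [Finite G] {p : ℕ} [hp : Fact p.Prime]

theorem sylow_card_factorization {P : Sylow p G} (hP : Nat.card P = p) (Q : Sylow p G) :
    Nat.card Q = p :=
  (Nat.card_congr (Sylow.equiv Q P).toEquiv).trans hP

theorem not_normal_sylow (hperf : commutator G = ⊤) (P : Sylow p G) (hP : Nat.card P = p) :
    ¬ (P : Subgroup G).Normal := by
  intro hN
  haveI : IsCyclic (P : Subgroup G) := isCyclic_of_prime_card hP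
  have hc : Nat.card (MulAut (P : Subgroup G)) ≠ 0 := Nat.card_pos.ne'
  haveI : IsCyclic (ZMod (Nat.card (P : Subgroup G)))ˣ := by
    rw [show Nat.card (P : Subgroup G) = p from hP]; exact ZMod.isCyclic_units_prime hp.out
  let e := IsCyclic.mulAutMulEquiv (P : Subgroup G)
  have hconj : ∀ g : G, (MulAut.conjNormal g : MulAut (P : Subgroup G)) = 1 :=
    hom_trivial_of_comm hperf (fun a b => e.injective (by rw [map_mul, map_mul]; exact mul_comm (e a) (e b)))
      MulAut.conjNormal
  have hle : Subgroup.normalizer ((P : Subgroup G) : Set G) ≤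
      Subgroup.centralizer ((P : Subgroup G) : Set G) := by
    intro g _
    rw [Subgroup.mem_centralizer_iff]
    intro x hx
    have h := congrArg Subtype.val (DFunLike.congr_fun (hconj g) ⟨x, hx⟩)
    rw [MulAut.conjNormal_apply] at h
    exact (mul_inv_eq_iff_eq_mul.1 h).symm
  have hc' := MonoidHom.ker_transferSylow_isComplement' P hle
  have htop : (MonoidHom.transferSylow P hle).ker = ⊤ := by
    rw [eq_top_iff]
    intro g _
    letI := IsCyclic.commGroup (α := (P : Subgroup G))
    exact hom_trivial_of_comm hperf mul_comm (MonoidHom.transferSylow P hle) g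
  rw [htop] at hc'
  letI := Fintype.ofFinite G
  obtain ⟨x, hx, hx1⟩ := exists_ne_one_mem hP
  rw [Subgroup.isComplement'_top_left.1 hc', Subgroup.mem_bot] at hx
  exact hx1 hx

set_option maxHeartbeats 400000 in
/-- With trivial `p'`-core and a Sylow count outside the family, the group is simple. -/
theorem concl_of_core_bot (hperf : commutator G = ⊤) (hcore : Cfsg.pPrimeCore p G = ⊥)
    (P : Sylow p G) (hP : Nat.card P = p) {n : ℕ} (hn : Nat.card (Sylow p G) = 1 + n * p)
    (hF : ¬ IsF n p) : Concl G p := by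
  classical
  have hQ : ∀ Q : Sylow p G, Nat.card Q = p := sylow_card_factorization hP
  -- normal subgroups of order divisible by p contain all Sylow subgroups
  have hall : ∀ L : Subgroup G, L.Normal → p ∣ Nat.card L → ∀ Q : Sylow p G, (Q : Subgroup G) ≤ L := by
    intro L hL hd Q
    obtain ⟨x, hx⟩ := exists_prime_orderOf_dvd_card' p hd
    have hxp : IsPGroup p (Subgroup.zpowers (x : G)) := IsPGroup.of_card (n := 1) (by
      rw [Nat.card_zpowers, Subgroup.orderOf_coe, hx, pow_one])
    obtain ⟨R, hR⟩ := hxp.exists_le_sylow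
    have hRL : (R : Subgroup G) ≤ L := by
      rw [← Subgroup.eq_of_le_of_card_ge hR (by
        rw [Nat.card_zpowers, Subgroup.orderOf_coe, hx]; exact (hQ R).le)]
      exact Subgroup.zpowers_le.2 x.2
    obtain ⟨c, rfl⟩ := MulAction.exists_smul_eq G R Q
    intro y hy
    rw [Sylow.coe_subgroup_smul, Subgroup.mem_pointwise_smul_iff_inv_smul_mem] at hy
    have h := hL.conj_mem _ (hRL hy) c
    simpa [MulAut.smul_def, mul_assoc] using h
  let M := Subgroup.normalClosure ((P : Subgroup G) : Set G)
  haveI hMn : M.Normal := Subgroup.normalClosure_normal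
  have hPM : (P : Subgroup G) ≤ M := Subgroup.le_normalClosure
  have hQM : ∀ Q : Sylow p G, (Q : Subgroup G) ≤ M :=
    hall M hMn (by have h := Subgroup.card_dvd_of_le hPM; rwa [show Nat.card (P : Subgroup G) = p from hP] at h)
  -- the Sylow subgroups of M
  have hcardSylM : ∀ R : Sylow p M, Nat.card R = p := by
    intro R
    have h := sylow_card_factorization (P := P.subtype hPM) ?_ R
    · exact h
    · exact (Nat.card_congr (Subgroup.subgroupOfEquivOfLe hPM).toEquiv).trans hP
  have hsyl : Nat.card (Sylow p M) = Nat.card (Sylow p G) := by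
    have hmap : ∀ R : Sylow p M, ∃ Q : Sylow p G, (Q : Subgroup G) = (R : Subgroup M).map M.subtype := by
      intro R
      have hc : Nat.card ((R : Subgroup M).map M.subtype) = p := by
        rw [Subgroup.card_map_of_injective M.subtype_injective]; exact hcardSylM R
      have hp' : IsPGroup p ((R : Subgroup M).map M.subtype) :=
        IsPGroup.of_card (n := 1) (by rw [hc, pow_one])
      obtain ⟨Q, hle⟩ := hp'.exists_le_sylow
      exact ⟨Q, (Subgroup.eq_of_le_of_card_ge hle ((hQ Q).le.trans hc.ge)).symm⟩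
    choose f hf using hmap
    refine Nat.card_congr (Equiv.ofBijective f ⟨fun R R' h => ?_, fun Q => ?_⟩)
    · apply Sylow.ext
      apply Subgroup.map_injective M.subtype_injective
      rw [← hf R, ← hf R', h]
    · refine ⟨Q.subtype (hQM Q), Sylow.ext ?_⟩
      rw [hf, Sylow.coe_subtype, Subgroup.subgroupOf_map_subtype, inf_eq_left.2 (hQM Q)]
  have hn0 : 0 < n := by
    by_contra h0
    have h1 : Nat.card (Sylow p G) = 1 := by rw [hn, show n = 0 by omega]; simp
    haveI : Subsingleton (Sylow p G) := (Nat.card_eq_one_iff_unique.1 h1).1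
    exact not_normal_sylow hperf P hP P.normal_of_subsingleton
  -- M is simple
  haveI hMnt : Nontrivial M := by
    letI := Fintype.ofFinite G
    obtain ⟨x, hx, hx1⟩ := exists_ne_one_mem hP
    exact ⟨⟨x, hPM hx⟩, 1, fun h => hx1 (congrArg Subtype.val h)⟩
  haveI hMs : IsSimpleGroup M := by
    refine ⟨fun L hL => ?_⟩
    by_cases hd : p ∣ Nat.card L
    · right
      rw [eq_top_iff]
      have hle : (P : Subgroup G) ≤ L.map M.subtype ∧ ∀ Q : Sylow p G, (Q : Subgroup G) ≤ L.map M.subtype := by
        have h2 : ∀ Q : Sylow p G, (Q : Subgroup G) ≤ L.map M.subtype := by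
          intro Q y hy
          obtain ⟨x, hx⟩ := exists_prime_orderOf_dvd_card' p hd
          have hxp : IsPGroup p (Subgroup.zpowers (x : M)) := IsPGroup.of_card (n := 1) (by
            rw [Nat.card_zpowers, Subgroup.orderOf_coe, hx, pow_one])
          obtain ⟨R, hR⟩ := hxp.exists_le_sylow
          have hRL : (R : Subgroup M) ≤ L := by
            rw [← Subgroup.eq_of_le_of_card_ge hR (by
              rw [Nat.card_zpowers, Subgroup.orderOf_coe, hx]; exact (hcardSylM R).le)]
            exact Subgroup.zpowers_le.2 x.2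
          obtain ⟨c, hc⟩ := MulAction.exists_smul_eq M R (Q.subtype (hQM Q))
          have hy' : (⟨y, hQM Q hy⟩ : M) ∈ (Q.subtype (hQM Q) : Subgroup M) := hy
          rw [← hc, Sylow.coe_subgroup_smul, Subgroup.mem_pointwise_smul_iff_inv_smul_mem] at hy'
          have h := hL.conj_mem _ (hRL hy') c
          refine ⟨⟨y, hQM Q hy⟩, ?_, rfl⟩
          simpa [MulAut.smul_def, mul_assoc] using h
        exact ⟨h2 P, h2⟩
      intro x _
      have hcl : M ≤ L.map M.subtype := by
        refine (Subgroup.closure_le _).2 ?_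
        intro z hz
        obtain ⟨a, ha, hza⟩ := Group.mem_conjugatesOfSet_iff.1 hz
        obtain ⟨c, rfl⟩ := isConj_iff.1 hza
        refine hle.2 (c • P) ?_
        rw [Sylow.coe_subgroup_smul, Subgroup.mem_pointwise_smul_iff_inv_smul_mem]
        simpa [MulAut.smul_def, mul_assoc] using SetLike.mem_coe.1 ha
      obtain ⟨y, hy, e⟩ := hcl x.2
      rwa [← Subtype.ext e]
    · left
      haveI := hL
      have h1 : L ≤ Cfsg.pPrimeCore p M :=
        H1.le_pPrimeCore ((hp.out.coprime_iff_not_dvd).2 hd).symm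
      have h2 := H1.pPrimeCore_subgroup_map_eq p M
      rw [hcore, bot_inf_eq, Subgroup.map_eq_bot_iff, Subgroup.ker_subtype] at h2
      exact le_bot_iff.1 (h1.trans h2)
  have hMperf : commutator M = ⊤ := by
    rcases (inferInstance : (commutator M).Normal).eq_bot_or_eq_top with h | h
    · exfalso
      rw [commutator_eq_bot_iff] at h
      have hnorm : ((P.subtype hPM : Sylow p M) : Subgroup M).Normal :=
        ⟨fun a ha g => by rw [h.is_comm.comm g a, mul_inv_cancel_right]; exact ha⟩
      haveI := (P.subtype hPM).unique_of_normal hnorm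
      have h1 := Nat.card_eq_one_iff_unique.2 ⟨(inferInstance : Subsingleton (Sylow p M)), inferInstance⟩
      rw [hsyl, hn] at h1
      have : 0 < n * p := Nat.mul_pos hn0 hp.out.pos
      omega
    · exact h
  have hconcl := simple_main hMperf (P.subtype hPM) (hcardSylM _) (hsyl.trans hn) hF
  -- M is everything
  have hcentM : Subgroup.centralizer (M : Set G) = ⊥ := by
    by_contra hne
    haveI : (Subgroup.centralizer (M : Set G)).Normal := inferInstance
    have hd : p ∣ Nat.card (Subgroup.centralizer (M : Set G)) := by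
      by_contra hd
      exact hne (le_bot_iff.1 (hcore ▸ H1.le_pPrimeCore ((hp.out.coprime_iff_not_dvd).2 hd).symm))
    have hle : M ≤ Subgroup.centralizer (M : Set G) :=
      Subgroup.normalClosure_le_normal (hall _ inferInstance hd P)
    have hcomm : ∀ a b : M, a * b = b * a := fun a b =>
      Subtype.ext (Subgroup.mem_centralizer_iff.1 (hle b.2) a a.2)
    have : commutator M = ⊥ := by rw [commutator_eq_bot_iff]; exact ⟨⟨hcomm⟩⟩
    rw [hMperf] at this
    exact top_ne_bot this
  obtain ⟨F, hFld, hFin, ⟨e⟩, h4⟩ : ∃ (F : Type) (_ : Field F) (_ : Fintype F),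
      Nonempty (M ≃* Matrix.ProjectiveSpecialLinearGroup (Fin 2) F) ∧ 4 ≤ Fintype.card F := by
    rcases hconcl with ⟨F, i, j, hc, h3, he⟩ | ⟨m, F, i, j, hc, hpm, h3, he⟩
    · exact ⟨F, i, j, he, by omega⟩
    · refine ⟨F, i, j, he, ?_⟩
      rcases Nat.eq_zero_or_pos m with h | h
      · subst h; simp at hpm; omega
      · rcases Nat.lt_or_ge m 2 with h' | h'
        · have : m = 1 := by omega
          subst this
          simp at hpm; omega
        · rw [hc]; exact (show 4 = 2 ^ 2 by norm_num) ▸ Nat.pow_le_pow_right two_pos h'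
  obtain ⟨r, hr⟩ := CharP.exists F
  obtain ⟨f, hrp, hcardF⟩ := FiniteField.card F r
  haveI : Fact r.Prime := ⟨hrp⟩
  obtain ⟨φ, -, hker, -⟩ := Cfsg.Agent.S2602.result (F := F) (p := r) (f := (f : ℕ)) f.2 hcardF
    (hcardF ▸ h4)
  let ψ : G →* MulAut (Matrix.ProjectiveSpecialLinearGroup (Fin 2) F) :=
    (MulAut.congr e).toMonoidHom.comp MulAut.conjNormal
  let χ : G →* Cfsg.Out (Matrix.ProjectiveSpecialLinearGroup (Fin 2) F) :=
    (QuotientGroup.mk' _).comp ψ
  have h1 : ∀ g, φ (χ g) = 1 := hom_trivial_of_comm hperf mul_comm (φ.comp χ)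
  have h2 : ∀ g, χ g = 1 := fun g => by
    letI := IsCyclic.commGroup (α := φ.ker)
    exact congrArg Subtype.val
      (hom_trivial_of_comm hperf mul_comm (χ.codRestrict φ.ker h1) g)
  have htop : M = ⊤ := by
    rw [eq_top_iff]
    intro g _
    have h3 : ψ g ∈ Cfsg.Inn (Matrix.ProjectiveSpecialLinearGroup (Fin 2) F) :=
      (QuotientGroup.eq_one_iff _).1 (h2 g)
    obtain ⟨a, ha⟩ := h3
    have h4 : (e.symm a : G)⁻¹ * g ∈ Subgroup.centralizer (M : Set G) := by
      rw [Subgroup.mem_centralizer_iff]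
      intro x hx
      have h5 := DFunLike.congr_fun ha (e ⟨x, hx⟩)
      simp only [ψ, MonoidHom.comp_apply, MulEquiv.coe_toMonoidHom, MulAut.congr_apply,
        MulEquiv.trans_apply, MulEquiv.symm_apply_apply, MulAut.conj_apply] at h5
      have h6 := congrArg (fun z => ((e.symm z : M) : G)) h5
      simp only [map_mul, map_inv, MulEquiv.symm_apply_apply, Subgroup.coe_mul,
        InvMemClass.coe_inv, MulAut.conjNormal_apply] at h6
      calc x * ((e.symm a : G)⁻¹ * g) =
            (e.symm a : G)⁻¹ * ((e.symm a : G) * x * (e.symm a : G)⁻¹) * g := by group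
        _ = (e.symm a : G)⁻¹ * (g * x * g⁻¹) * g := by rw [h6]
        _ = (e.symm a : G)⁻¹ * g * x := by group
    rw [hcentM, Subgroup.mem_bot, inv_mul_eq_one] at h4
    rw [← h4]
    exact (e.symm a).2
  let eM : G ≃* M := (Subgroup.topEquiv.symm).trans (MulEquiv.subgroupCongr htop.symm)
  rcases hconcl with ⟨F, i, j, hc, h3, ⟨e'⟩⟩ | ⟨m, F, i, j, hc, hpm, h3, ⟨e'⟩⟩
  · exact .inl ⟨F, i, j, hc, h3, ⟨eM.trans e'⟩⟩
  · exact .inr ⟨m, F, i, j, hc, hpm, h3, ⟨eM.trans e'⟩⟩

/-- The quotient by the `p'`-core, which normalises every Sylow subgroup. -/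
theorem concl_quot (hperf : commutator G = ⊤) (P : Sylow p G) (hP : Nat.card P = p) {n : ℕ}
    (hn : Nat.card (Sylow p G) = 1 + n * p) (hF : ¬ IsF n p) [(Cfsg.pPrimeCore p G).Normal] :
    Concl (G ⧸ Cfsg.pPrimeCore p G) p ∧
      Cfsg.pPrimeCore p G ≤ Subgroup.normalizer ((P : Subgroup G) : Set G) := by
  classical
  set H := Cfsg.pPrimeCore p G
  set f := QuotientGroup.mk' H with hf
  have hsurj : Function.Surjective f := QuotientGroup.mk'_surjective H
  have hperf' : commutator (G ⧸ H) = ⊤ := by
    have h := Subgroup.map_commutator (⊤ : Subgroup G) ⊤ f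
    rw [Subgroup.map_top_of_surjective f hsurj, ← commutator_def, ← commutator_def, hperf,
      Subgroup.map_top_of_surjective f hsurj] at h
    exact h.symm
  let Q : Sylow p (G ⧸ H) := P.mapSurjective hsurj
  have hQ : Nat.card Q = p := by
    show Nat.card ((P : Subgroup G).map f) = p
    refine le_antisymm (Nat.le_of_dvd hp.out.pos ((Subgroup.card_map_dvd _ _).trans hP.dvd)) ?_
    letI := Fintype.ofFinite G
    obtain ⟨x, hx, hx1⟩ := exists_ne_one_mem hP
    have hne : f x ≠ 1 := fun h => by
      have hxH : x ∈ H := (QuotientGroup.eq_one_iff x).1 h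
      have h1 := Subgroup.orderOf_dvd_natCard H hxH
      rw [orderOf_mem_eq hP hx hx1] at h1
      exact (hp.out.coprime_iff_not_dvd).1 (H1.card_pPrimeCore_coprime p G).symm h1
    rcases (Nat.dvd_prime hp.out).1 ((Subgroup.card_map_dvd (P : Subgroup G) f).trans hP.dvd :
        Nat.card ((P : Subgroup G).map f) ∣ p) with h | h
    · exact absurd (Subgroup.mem_bot.1 ((Subgroup.card_eq_one.1 h) ▸ Subgroup.mem_map_of_mem f hx)) hne
    · exact h.ge
  set N := Subgroup.normalizer ((P : Subgroup G) : Set G) with hN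
  have hNidx : N.index = 1 + n * p := P.card_eq_index_normalizer.symm.trans hn
  have hle : N.map f ≤ Subgroup.normalizer ((Q : Subgroup (G ⧸ H)) : Set (G ⧸ H)) := by
    rw [hN]
    exact Subgroup.le_normalizer_map f
  obtain ⟨n', hn'⟩ : ∃ n', Nat.card (Sylow p (G ⧸ H)) = 1 + n' * p := by
    have h := card_sylow_modEq_one p (G ⧸ H)
    obtain ⟨k, hk⟩ := (Nat.modEq_iff_dvd' Nat.card_pos).1 h.symm
    refine ⟨k, ?_⟩
    have := Nat.card_pos (α := Sylow p (G ⧸ H))
    rw [mul_comm]; omega
  have hdvd : 1 + n' * p ∣ (N ⊔ H).index := by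
    rw [← hn', Q.card_eq_index_normalizer]
    refine (Subgroup.index_dvd_of_le hle).trans ?_
    rw [Subgroup.index_map, MonoidHom.range_eq_top.2 hsurj, Subgroup.index_top, mul_one, QuotientGroup.ker_mk']
  have hdvd2 : (N ⊔ H).index ∣ 1 + n * p := hNidx ▸ Subgroup.index_dvd_of_le le_sup_left
  have hne1 : n' ≠ 0 := fun h => by
    have h1 : Nat.card (Sylow p (G ⧸ H)) = 1 := by rw [hn', h]; simp
    haveI : Subsingleton (Sylow p (G ⧸ H)) := (Nat.card_eq_one_iff_unique.1 h1).1
    exact not_normal_sylow hperf' Q hQ Q.normal_of_subsingleton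
  have hnn : n' = n := by
    have h1 : 1 + n' * p ≤ 1 + n * p := Nat.le_of_dvd (by omega) (hdvd.trans hdvd2)
    by_contra hne
    refine hF (isF_of_dvd hp.out (a := 1 + n' * p) ?_ ?_ ?_ ((hdvd.trans hdvd2).mul_left _))
    · have := Nat.mul_pos (Nat.pos_of_ne_zero hne1) hp.out.pos; omega
    · have : n' * p ≠ n * p := fun h => hne (Nat.eq_of_mul_eq_mul_right hp.out.pos h)
      omega
    · exact (Nat.modEq_iff_dvd' (by omega)).2 (by simp) |>.symm
  refine ⟨concl_of_core_bot hperf' (H1.pPrimeCore_quotient_pPrimeCore p) Q hQ (hnn ▸ hn') hF, ?_⟩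
  have hidx : (N ⊔ H).index = N.index := by
    rw [hNidx]
    exact Nat.dvd_antisymm hdvd2 (hnn ▸ hdvd)
  have hpos : 0 < N.index := Nat.pos_of_ne_zero Subgroup.index_ne_zero_of_finite
  have heq : N ⊔ H = N := by
    refine (Subgroup.eq_of_le_of_card_ge le_sup_left ?_).symm
    have h1 := (N ⊔ H).card_mul_index
    rw [hidx, ← N.card_mul_index] at h1
    exact (Nat.eq_of_mul_eq_mul_right hpos h1).le
  exact heq ▸ le_sup_right

end H18.BR
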