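import Cfsg.Agent.S0340
import Cfsg.Agent.H37.Card

/-!
Zassenhaus groups from a regular normal subgroup of a point stabiliser, and their orders.
-/

set_option autoImplicit false
set_option linter.unusedSectionVars false

open Cfsg

namespace H18.BR

universe u

theorem isZassenhaus_of_ti {G : Type u} [Group G] [Finite G] [IsSimpleGroup G] (P : Subgroup G)
    {r : ℕ} (hP2 : 2 ≤ Nat.card P) (hr : 2 ≤ r) (hco : Nat.Coprime (Nat.card P) r)
    (hK : Nat.card (Subgroup.normalizer (P : Set G)) = Nat.card P * r)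
    (hidx : (Subgroup.normalizer (P : Set G)).index = Nat.card P + 1)
    (hC : ∀ a ∈ P, a ≠ 1 → Subgroup.centralizer ({a} : Set G) = P) :
    Cfsg.IsZassenhausGroup G (G ⧸ Subgroup.normalizer (P : Set G)) := by
  classical
  set K := Subgroup.normalizer (P : Set G) with hKdef
  let α : G ⧸ K := ((1 : G) : G ⧸ K)
  haveI : (P.subgroupOf K).Normal := Subgroup.normal_in_normalizer
  have hcP : Nat.card (P.subgroupOf K) = Nat.card P :=
    Nat.card_congr (Subgroup.subgroupOfEquivOfLe Subgroup.le_normalizer).toEquiv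
  have hiP : (P.subgroupOf K).index = r := by
    have h := (P.subgroupOf K).card_mul_index
    rw [hcP, hK] at h
    exact Nat.eq_of_mul_eq_mul_left (by omega) h
  have hmem : ∀ a ∈ K, a ^ Nat.card P = 1 → a ∈ P := by
    intro a ha h
    have h1 : orderOf ((⟨a, ha⟩ : K) : K ⧸ P.subgroupOf K) ∣ Nat.card P :=
      orderOf_dvd_of_pow_eq_one (by
        rw [← QuotientGroup.mk_pow, show (⟨a, ha⟩ : K) ^ Nat.card P = 1 from Subtype.ext h,
          QuotientGroup.mk_one])
    have h2 : orderOf ((⟨a, ha⟩ : K) : K ⧸ P.subgroupOf K) ∣ r := hiP ▸ orderOf_dvd_natCard _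
    have h3 := orderOf_eq_one_iff.1 (Nat.eq_one_of_dvd_coprimes hco h1 h2)
    rw [QuotientGroup.eq_one_iff] at h3
    exact h3
  have hfixα : ∀ g : G, g • α = α ↔ g ∈ K := by
    intro g
    simp only [α, MulAction.Quotient.smul_mk, QuotientGroup.eq, smul_eq_mul, mul_one, inv_mem_iff]
  have hfree : ∀ a ∈ P, ∀ q : G ⧸ K, q ≠ α → a • q = q → a = 1 := by
    intro a ha q hq hfix
    obtain ⟨g, rfl⟩ := QuotientGroup.mk_surjective q
    by_contra ha1
    rw [MulAction.Quotient.smul_mk, QuotientGroup.eq, smul_eq_mul] at hfix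
    have h1 : g⁻¹ * a * g ∈ K := by simpa [mul_assoc] using inv_mem hfix
    have hpow : a ^ Nat.card P = 1 := by
      exact congrArg Subtype.val (pow_card_eq_one' (x := (⟨a, ha⟩ : P)))
    have h2 : g⁻¹ * a * g ∈ P := hmem _ h1 (by
      have h := conj_pow (i := Nat.card P) (a := g⁻¹) (b := a)
      rw [inv_inv] at h
      rw [h, hpow, mul_one, inv_mul_cancel])
    have h3 : g⁻¹ * a * g ≠ 1 := fun e => ha1 (by
      have h := congrArg (fun x => g * x * g⁻¹) e
      simpa [mul_assoc] using h)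
    apply hq
    rw [QuotientGroup.eq, mul_one]
    apply inv_mem
    rw [hKdef, Subgroup.mem_normalizer_iff]
    intro y
    -- both sides are centralisers
    constructor
    · intro hy
      have h4 : y * (g⁻¹ * a * g) = (g⁻¹ * a * g) * y := by
        rw [← hC _ h2 h3, Subgroup.mem_centralizer_singleton_iff] at hy; exact hy
      rw [← hC a ha ha1, Subgroup.mem_centralizer_singleton_iff]
      calc g * y * g⁻¹ * a = g * (y * (g⁻¹ * a * g)) * g⁻¹ := by group
        _ = g * ((g⁻¹ * a * g) * y) * g⁻¹ := by rw [h4]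
        _ = a * (g * y * g⁻¹) := by group
    · intro hy
      rw [← hC a ha ha1, Subgroup.mem_centralizer_singleton_iff] at hy
      rw [← hC _ h2 h3, Subgroup.mem_centralizer_singleton_iff]
      calc y * (g⁻¹ * a * g) = g⁻¹ * (g * y * g⁻¹ * a) * g := by group
        _ = g⁻¹ * (a * (g * y * g⁻¹)) * g := by rw [hy]
        _ = g⁻¹ * a * g * y := by group
  have hPK : P ≤ K := Subgroup.le_normalizer
  have hne_moves : ∀ a ∈ K, ∀ q : G ⧸ K, q ≠ α → a • q ≠ α := by
    intro a ha q hq h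
    apply hq
    rw [← inv_smul_smul a q, h, (hfixα _).2 (inv_mem ha)]
  have htrans : ∀ q q' : G ⧸ K, q ≠ α → q' ≠ α → ∃ a ∈ P, a • q = q' := by
    intro q q' hq hq'
    let f : P → {x : G ⧸ K // x ≠ α} := fun a =>
      ⟨(a : G) • q, hne_moves a (hPK a.2) q hq⟩
    have hinj : Function.Injective f := by
      intro a b h
      have h' : (a : G) • q = (b : G) • q := congrArg Subtype.val h
      have h1 := hfree ((b : G)⁻¹ * a) (mul_mem (inv_mem b.2) a.2) q hq
        (by rw [mul_smul, h', inv_smul_smul])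
      exact Subtype.ext (inv_mul_eq_one.1 h1).symm
    have hbij : Function.Bijective f := by
      refine (Nat.bijective_iff_injective_and_card f).2 ⟨hinj, ?_⟩
      have h : Nat.card (G ⧸ K) = Nat.card P + 1 := hidx
      rw [show Nat.card {x : G ⧸ K // x ≠ α} = Nat.card (G ⧸ K) - 1 from ?_, h]
      · omega
      · haveI := Fintype.ofFinite (G ⧸ K)
        rw [Nat.card_eq_fintype_card, Nat.card_eq_fintype_card, Fintype.card_subtype_compl,
          Fintype.card_subtype_eq]
    obtain ⟨a, ha⟩ := hbij.2 ⟨q', hq'⟩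
    exact ⟨a, a.2, congrArg Subtype.val ha⟩
  have htr : ∀ q : G ⧸ K, ∃ g : G, g • α = q := fun q => MulAction.exists_smul_eq G α q
  obtain ⟨β, hβ⟩ : ∃ β : G ⧸ K, β ≠ α := by
    haveI : Nontrivial (G ⧸ K) := Finite.one_lt_card_iff_nontrivial.1 (by
      show 1 < K.index
      omega)
    exact exists_ne α
  haveI h2pre : MulAction.IsMultiplyPretransitive G (G ⧸ K) 2 := by
    rw [MulAction.is_two_pretransitive_iff]
    intro a b c d hab hcd
    obtain ⟨g1, hg1⟩ := htr a
    obtain ⟨g2, hg2⟩ := htr c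
    have hb : g1⁻¹ • b ≠ α := fun h => hab (by rw [← hg1, ← h, smul_inv_smul])
    have hd : g2⁻¹ • d ≠ α := fun h => hcd (by rw [← hg2, ← h, smul_inv_smul])
    obtain ⟨x, hx, hx'⟩ := htrans _ _ hb hd
    refine ⟨g2 * x * g1⁻¹, ?_, ?_⟩
    · rw [mul_smul, mul_smul, ← hg1, inv_smul_smul, (hfixα x).2 (hPK hx), hg2]
    · rw [mul_smul, mul_smul, hx', smul_inv_smul]
  have hstab : MulAction.stabilizer G α = K :=
    SetLike.ext fun g => MulAction.mem_stabilizer_iff.trans (hfixα g)
  refine ⟨?_, h2pre, ?_, ?_, ?_⟩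
  · have hker : (MulAction.toPermHom G (G ⧸ K)).ker = ⊥ := by
      rcases (MonoidHom.normal_ker (MulAction.toPermHom G (G ⧸ K))).eq_bot_or_eq_top with h | h
      · exact h
      · exfalso
        obtain ⟨g, hg⟩ := htr β
        have h1 : g ∈ (MulAction.toPermHom G (G ⧸ K)).ker := h ▸ Subgroup.mem_top g
        exact hβ (hg.symm.trans (Equiv.Perm.ext_iff.1 h1 α))
    refine ⟨fun {g g'} h => ?_⟩
    exact (MonoidHom.ker_eq_bot_iff _).1 hker (Equiv.ext h)
  · intro g a b c hab hbc hac ha hb hc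
    obtain ⟨k, hk⟩ := htr a
    suffices h : ∀ g : G, ∀ b c : G ⧸ K, b ≠ α → c ≠ α → b ≠ c → g • α = α → g • b = b →
        g • c = c → g = 1 by
      have := h (k⁻¹ * g * k) (k⁻¹ • b) (k⁻¹ • c)
        (fun e => hab (by rw [← hk, ← e, smul_inv_smul]))
        (fun e => hac (by rw [← hk, ← e, smul_inv_smul]))
        (fun e => hbc (MulAction.injective _ e))
        (by rw [mul_smul, mul_smul, hk, ha, ← hk, inv_smul_smul])
        (by rw [mul_smul, mul_smul, smul_inv_smul, hb])
        (by rw [mul_smul, mul_smul, smul_inv_smul, hc])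
      have h' := congrArg (fun x => k * x * k⁻¹) this
      simpa [mul_assoc] using h'
    intro g b c hb1 hc1 hbc hgα hgb hgc
    have hgK : g ∈ K := (hfixα g).1 hgα
    obtain ⟨a, ha, hab'⟩ := htrans b c hb1 hc1
    have haP : g * a * g⁻¹ ∈ P := (Subgroup.mem_normalizer_iff.1 hgK a).1 ha
    have hgb' : g⁻¹ • b = b := inv_smul_eq_iff.2 hgb.symm
    have h1 : (g * a * g⁻¹) • b = a • b := by
      rw [mul_smul, mul_smul, hgb', hab', hgc]
    have h2 := hfree (a⁻¹ * (g * a * g⁻¹)) (mul_mem (inv_mem ha) haP) b hb1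
      (by rw [mul_smul, h1, inv_smul_smul])
    rw [inv_mul_eq_one] at h2
    have ha1 : a ≠ 1 := fun e => hbc (by rw [← hab', e, one_smul])
    have h3 : g ∈ Subgroup.centralizer ({a} : Set G) :=
      Subgroup.mem_centralizer_singleton_iff.2 (mul_inv_eq_iff_eq_mul.1 h2.symm)
    rw [hC a ha ha1] at h3
    exact hfree g h3 b hb1 hgb
  · have hlt : Nat.card P < Nat.card K := by
      rw [hK]; nlinarith
    obtain ⟨k, hk, hkP⟩ : ∃ k ∈ K, k ∉ P := by
      by_contra hc
      push Not at hc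
      have := Subgroup.card_le_of_le (hc : K ≤ P)
      omega
    obtain ⟨x, hx, hx'⟩ := htrans _ _ (hne_moves k hk β hβ) hβ
    refine ⟨x * k, fun h => hkP ?_, α, β, hβ.symm, ?_, by rw [mul_smul]; exact hx'⟩
    · rw [eq_inv_of_mul_eq_one_right h]; exact inv_mem hx
    · rw [mul_smul, (hfixα k).2 hk, (hfixα x).2 (hPK hx)]
  · intro N hN hNt
    rcases hN.eq_bot_or_eq_top with h | h
    · exfalso
      obtain ⟨⟨m, hm⟩, hm'⟩ := hNt.exists_smul_eq α β
      rw [h, Subgroup.mem_bot] at hm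
      subst hm
      exact hβ (by rw [← hm']; exact (one_smul G α))
    · refine ⟨α, fun h' => ?_⟩
      obtain ⟨x, hx, hx1⟩ : ∃ x ∈ P, x ≠ 1 := P.bot_or_exists_ne_one.resolve_left fun e => by
        rw [e, Subgroup.card_bot] at hP2; omega
      have : (⟨x, h ▸ Subgroup.mem_top x⟩ : N) ∈ MulAction.stabilizer N α :=
        (hfixα x).2 (hPK hx)
      exact hx1 (congrArg Subtype.val (Subgroup.mem_bot.1 (h'.le this)))

end H18.BR
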