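import Cfsg.Agent.H18.BrauerMinus
import Cfsg.Agent.H18.BrauerZass

/-!
Simple groups with a Sylow subgroup of prime order outside the exceptional parametrisation.
-/

set_option autoImplicit false
set_option linter.unusedSectionVars false

open Cfsg

namespace H18.BR

universe u

theorem cube_lt {x y : ℤ} (hx : 1 ≤ x) (hxy : x < y) : x * x * x - x < y * y * y - y := by
  nlinarith [mul_pos (show (0 : ℤ) < y - x by omega)
    (show (0 : ℤ) < x * x + x * y + y * y - 1 by nlinarith)]

theorem bound_e {p e : ℤ} (hp : 0 ≤ p) (he : e ≤ p - 1) : p * e * (p + 1) ≤ p * p * p - p := by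
  nlinarith [mul_le_mul_of_nonneg_left he (show (0 : ℤ) ≤ p * (p + 1) by positivity)]

theorem odd_bound {p q : ℤ} (hp : 0 ≤ p) (hq : 3 ≤ q) (h : 2 * p ≤ q + 1) :
    2 * (p * p * p - p) < q * (q * q - 1) := by
  have h1 : (2 * p) ^ 3 ≤ (q + 1) ^ 3 := pow_le_pow_left₀ (by omega) h 3
  have h2 : (q + 1) * (q + 1) < 4 * q * (q - 1) := by nlinarith
  have h3 : (q + 1) * ((q + 1) * (q + 1)) < (q + 1) * (4 * q * (q - 1)) :=
    mul_lt_mul_of_pos_left h2 (by omega)
  linarith [show (2 * p) ^ 3 = 8 * (p * p * p) by ring,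
    show (q + 1) ^ 3 = (q + 1) * ((q + 1) * (q + 1)) by ring,
    show (q + 1) * (4 * q * (q - 1)) = 4 * (q * (q * q - 1)) by ring]

theorem d_cases {q : ℕ} (hq : 2 ≤ q) :
    (Nat.gcd 2 (q - 1) = 1 ∧ Even q) ∨ (Nat.gcd 2 (q - 1) = 2 ∧ Odd q) := by
  rcases Nat.even_or_odd q with ⟨k, hk⟩ | ⟨k, hk⟩
  · left
    refine ⟨?_, ⟨k, hk⟩⟩
    rw [show q - 1 = 2 * (k - 1) + 1 by omega]
    simp
  · right
    refine ⟨?_, ⟨k, hk⟩⟩
    rw [show q - 1 = 2 * k by omega]
    simp

theorem order_psl2 (F : Type) [Field F] [Fintype F] :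
    Nat.gcd 2 (Fintype.card F - 1) * Nat.card (Matrix.ProjectiveSpecialLinearGroup (Fin 2) F) =
      Fintype.card F * (Fintype.card F * Fintype.card F - 1) := by
  have h := H37.card_PSL_fin (F := F) 2 (by norm_num)
  rw [Nat.card_eq_fintype_card (α := F), Fin.prod_univ_two] at h
  simp only [Fin.val_zero, pow_zero, Fin.val_one, pow_one] at h
  have hq := Fintype.one_lt_card (α := F)
  set q := Fintype.card F
  refine Nat.eq_of_mul_eq_mul_left (show 0 < q - 1 by omega) ?_
  rw [← mul_assoc, mul_comm (q - 1) (Nat.gcd 2 (q - 1)), mul_assoc, h, sq]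
  rw [show q * q - q = q * (q - 1) by rw [Nat.mul_sub, mul_one]]
  ring

theorem prime_dvd_field {p q : ℕ} (hp : p.Prime) (hq : IsPrimePow q) (h : p ∣ q) {A : ℕ}
    (hA : ¬ p * p ∣ A) (hqA : q ∣ A) : q = p := by
  obtain ⟨r, f, hr, hf, rfl⟩ := hq
  have hrp : r.Prime := Nat.prime_iff.2 hr
  have := (Nat.prime_dvd_prime_iff_eq hp hrp).1 (hp.dvd_of_dvd_pow h)
  subst this
  rcases Nat.lt_or_ge f 2 with hf2 | hf2
  · rw [show f = 1 by omega, pow_one]
  · exact absurd ((pow_two p ▸ pow_dvd_pow p hf2).trans hqA) hA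

theorem dvd_factor {p q N : ℕ} (hp : p.Prime) (hq : 1 ≤ q) (h : q * (q * q - 1) = p * N)
    (hpq : ¬ p ∣ q) : p ∣ q - 1 ∨ p ∣ q + 1 := by
  have h1 : q * q - 1 = (q + 1) * (q - 1) := by rw [← Nat.sq_sub_sq, one_pow, sq]
  have h2 : p ∣ q * (q * q - 1) := ⟨N, h⟩
  rw [h1] at h2
  rcases hp.dvd_mul.1 ((hp.dvd_mul.1 h2).resolve_left hpq) with h3 | h3
  · exact .inr h3
  · exact .inl h3

theorem two_mul_le_of_odd {p q : ℕ} (hp : p.Prime) (hp3 : 3 ≤ p) (hq3 : 3 ≤ q) (hqo : Odd q)
    (h : p ∣ q - 1 ∨ p ∣ q + 1) : 2 * p ≤ q + 1 := by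
  obtain ⟨k, hk⟩ := hqo
  have hc : Nat.Coprime p 2 := (Nat.coprime_primes hp Nat.prime_two).2 (by omega)
  rcases h with h | h
  · have h1 := hc.mul_dvd_of_dvd_of_dvd h ⟨k, by omega⟩
    have := Nat.le_of_dvd (by omega) h1
    omega
  · have h1 := hc.mul_dvd_of_dvd_of_dvd h ⟨k + 1, by omega⟩
    have := Nat.le_of_dvd (by omega) h1
    omega

theorem arith_one {p q e : ℕ} (hp : p.Prime) (hp3 : 3 ≤ p) (he2 : 2 ≤ e) (he : e < p)
    (hq : IsPrimePow q)
    (h : Nat.gcd 2 (q - 1) * (p * e * (p + 1)) = q * (q * q - 1)) :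
    (q = p ∧ 3 < p) ∨ (q = 4 ∧ p = 5) := by
  have hq2 : 2 ≤ q := hq.two_le
  have hnp : ∀ d, 0 < d → d < p → ¬ p * p ∣ d * (p * e * (p + 1)) := by
    intro d hd hdp hdvd
    rw [show d * (p * e * (p + 1)) = p * (d * e * (p + 1)) by ring] at hdvd
    have h1 := Nat.dvd_of_mul_dvd_mul_left hp.pos hdvd
    rcases hp.dvd_mul.1 h1 with h2 | h2
    · rcases hp.dvd_mul.1 h2 with h3 | h3
      · exact absurd (Nat.le_of_dvd hd h3) (by omega)
      · exact absurd (Nat.le_of_dvd (by omega) h3) (by omega)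
    · exact absurd (Nat.le_of_dvd (by norm_num) ((Nat.dvd_add_right dvd_rfl).1 h2)) (by omega)
  have hsq : 1 ≤ q * q := Nat.one_le_iff_ne_zero.2 (by simp; omega)
  rcases d_cases hq2 with ⟨hd, hev⟩ | ⟨hd, hodd⟩ <;> rw [hd] at h
  · by_cases hpq : p ∣ q
    · exfalso
      have := prime_dvd_field hp hq hpq (hnp 1 one_pos (by omega)) ⟨_, h⟩
      obtain ⟨k, hk⟩ := hev
      rcases hp.eq_two_or_odd with h2 | h2 <;> omega
    rcases dvd_factor hp (by omega) (N := e * (p + 1)) (by rw [← h]; ring) hpq with h1 | h1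
    · exfalso
      have h2 := Nat.le_of_dvd (by omega) h1
      zify [hsq] at h
      have h2' : (p : ℤ) ≤ (q : ℤ) - 1 := by omega
      have h3 : (e : ℤ) ≤ (p : ℤ) - 1 := by omega
      have h4 : (p : ℤ) * p * p - p < q * q * q - q := cube_lt (by omega) (by omega)
      linarith [bound_e (by omega) h3, show (q : ℤ) * (q * q - 1) = q * q * q - q by ring]
    · obtain ⟨k, hk⟩ := h1
      have hk0 : 0 < k := Nat.pos_of_ne_zero fun h0 => by rw [h0, mul_zero] at hk; omega
      rcases Nat.lt_or_ge k 2 with hk2 | hk2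
      · right
        rw [show k = 1 by omega, mul_one] at hk
        subst hk
        have h5 : e * (q + 2) = q * (q - 1) := by
          refine Nat.eq_of_mul_eq_mul_left (show 0 < q + 1 by omega) ?_
          zify [hsq, show 1 ≤ q by omega] at h ⊢
          linear_combination h
        have h6 : q + 2 ∣ 6 := by
          have h7 : ((q + 2 : ℕ) : ℤ) ∣ ((6 : ℕ) : ℤ) := by
            refine ⟨(e : ℤ) - q + 3, ?_⟩
            zify [show 1 ≤ q by omega] at h5
            push_cast
            linear_combination -h5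
          exact_mod_cast h7
        have h8 := Nat.le_of_dvd (by norm_num) h6
        have h9 : q ≤ 4 := by omega
        interval_cases q <;> first | omega | (norm_num at h6)
      · exfalso
        zify [hsq] at h
        have h2' : 2 * (p : ℤ) ≤ (q : ℤ) + 1 := by
          have : p * 2 ≤ p * k := Nat.mul_le_mul_left _ hk2
          omega
        have h3 : (e : ℤ) ≤ (p : ℤ) - 1 := by omega
        have h4 : (2 : ℤ) ≤ q := by omega
        have h5 : (p : ℤ) * p * p - p < q * q * q - q := cube_lt (by omega) (by omega)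
        linarith [bound_e (by omega) h3, show (q : ℤ) * (q * q - 1) = q * q * q - q by ring]
  · left
    obtain ⟨k, hk⟩ := id hodd
    by_cases hpq : p ∣ q
    · have := prime_dvd_field hp hq hpq (hnp 2 two_pos (by omega)) ⟨_, h⟩
      subst this
      refine ⟨rfl, ?_⟩
      by_contra hc
      have hp3' : q = 3 := by omega
      subst hp3'
      omega
    exfalso
    have h1 := two_mul_le_of_odd hp hp3 (by omega) hodd
      (dvd_factor hp (by omega) (N := 2 * e * (p + 1)) (by rw [← h]; ring) hpq)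
    zify [hsq] at h
    have h2' : 2 * (p : ℤ) ≤ (q : ℤ) + 1 := by omega
    have h3 : (e : ℤ) ≤ (p : ℤ) - 1 := by omega
    have h4 : (3 : ℤ) ≤ q := by omega
    linarith [bound_e (by omega) h3, odd_bound (by omega) h4 h2']

theorem arith_two {p q : ℕ} (hp : p.Prime) (hp5 : 5 ≤ p) (hq : IsPrimePow q)
    (h : Nat.gcd 2 (q - 1) * (p * (p - 1) * (p - 2)) = q * (q * q - 1)) :
    (q = p - 1) ∨ (q = p ∧ 3 < p) := by
  have hq2 : 2 ≤ q := hq.two_le
  have hsq : 1 ≤ q * q := Nat.one_le_iff_ne_zero.2 (by simp; omega)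
  rcases d_cases hq2 with ⟨hd, -⟩ | ⟨hd, hodd⟩ <;> rw [hd] at h
  · left
    zify [hsq, show 1 ≤ p by omega, show 2 ≤ p by omega] at h
    rcases lt_trichotomy q (p - 1) with h1 | h1 | h1
    · exfalso
      have h2 : (q : ℤ) * q * q - q < ((p : ℤ) - 1) * (p - 1) * (p - 1) - (p - 1) :=
        cube_lt (by omega) (by omega)
      linarith [show (q : ℤ) * (q * q - 1) = q * q * q - q by ring,
        show (p : ℤ) * (p - 1) * (p - 2) = (p - 1) * (p - 1) * (p - 1) - (p - 1) by ring]
    · exact h1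
    · exfalso
      have h2 : ((p : ℤ) - 1) * (p - 1) * (p - 1) - (p - 1) < (q : ℤ) * q * q - q :=
        cube_lt (by omega) (by omega)
      linarith [show (q : ℤ) * (q * q - 1) = q * q * q - q by ring,
        show (p : ℤ) * (p - 1) * (p - 2) = (p - 1) * (p - 1) * (p - 1) - (p - 1) by ring]
  · obtain ⟨k, hk⟩ := id hodd
    by_cases hpq : p ∣ q
    · right
      refine ⟨prime_dvd_field hp hq hpq ?_ ⟨_, h⟩, by omega⟩
      intro hdvd
      rw [show 2 * (p * (p - 1) * (p - 2)) = p * (2 * (p - 1) * (p - 2)) by ring] at hdvd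
      have h1 := Nat.dvd_of_mul_dvd_mul_left hp.pos hdvd
      rcases hp.dvd_mul.1 h1 with h2 | h2
      · rcases hp.dvd_mul.1 h2 with h3 | h3
        · exact absurd (Nat.le_of_dvd two_pos h3) (by omega)
        · exact absurd (Nat.le_of_dvd (by omega) h3) (by omega)
      · exact absurd (Nat.le_of_dvd (by omega) h2) (by omega)
    exfalso
    have h1 := two_mul_le_of_odd hp (by omega) (by omega) hodd
      (dvd_factor hp (by omega) (N := 2 * (p - 1) * (p - 2)) (by rw [← h]; ring) hpq)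
    zify [hsq, show 1 ≤ p by omega, show 2 ≤ p by omega] at h
    have h2' : 2 * (p : ℤ) ≤ (q : ℤ) + 1 := by omega
    have h4 : (3 : ℤ) ≤ q := by omega
    have h5 : (p : ℤ) * ((p : ℤ) - 1) * (p - 2) ≤ p * p * p - p := by nlinarith
    linarith [odd_bound (by omega) h4 h2']

theorem not_suzuki {G : Type u} [Group G] {p : ℕ} (hp : p.Prime) (hp3 : 3 ≤ p)
    (hdvd : p ∣ Nat.card G) (hlt : Nat.card G < p ^ 3) : ¬ Cfsg.IsSuzuki G := by
  rintro ⟨-, m, hm, hcard⟩
  obtain ⟨a, ha⟩ : ∃ a, a = 2 ^ m := ⟨_, rfl⟩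
  have hQ : 2 ^ (2 * m + 1) = 2 * (a * a) := by rw [ha, pow_succ, two_mul m, pow_add]; ring
  have ha2 : 2 ≤ a := ha ▸ Nat.le_self_pow (by omega) 2
  rw [hQ] at hcard
  have hfac : (2 * (a * a)) ^ 2 + 1 =
      (2 * (a * a) + 2 * a + 1) * (2 * (a * a) - 2 * a + 1) := by
    have h2 : 2 * a ≤ 2 * (a * a) := Nat.mul_le_mul_left 2 (Nat.le_mul_of_pos_left a (by omega))
    zify [h2]
    ring
  have hple : p ≤ 4 * (a * a) := by
    have haa : 2 * a ≤ a * a := Nat.mul_le_mul_right _ ha2
    rw [hcard] at hdvd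
    rcases hp.dvd_mul.1 hdvd with h | h
    · rcases hp.dvd_mul.1 h with h' | h'
      · have h'' := hp.dvd_of_dvd_pow h'
        rw [← hQ] at h''
        have := (Nat.prime_dvd_prime_iff_eq hp Nat.prime_two).1 (hp.dvd_of_dvd_pow h'')
        omega
      · rw [hfac] at h'
        rcases hp.dvd_mul.1 h' with h3 | h3 <;> have := Nat.le_of_dvd (by omega) h3 <;> omega
    · have := Nat.le_of_dvd (by omega) h
      omega
  have h3 : p ^ 3 ≤ (4 * (a * a)) ^ 3 := Nat.pow_le_pow_left hple 3
  have h4 : (4 * (a * a)) ^ 3 ≤ Nat.card G := by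
    rw [hcard]
    obtain ⟨Q, hQ'⟩ : ∃ Q, Q = 2 * (a * a) := ⟨_, rfl⟩
    have hQ8 : 8 ≤ Q := by
      have : 2 * 2 ≤ a * a := Nat.mul_le_mul ha2 ha2
      omega
    rw [← hQ', show 4 * (a * a) = 2 * Q by omega]
    calc (2 * Q) ^ 3 = Q ^ 3 * 8 := by ring
      _ ≤ Q ^ 3 * Q := Nat.mul_le_mul_left _ hQ8
      _ = Q ^ 2 * Q ^ 2 * 1 := by ring
      _ ≤ _ := Nat.mul_le_mul (Nat.mul_le_mul_left _ (by omega)) (by omega)
  omega

/-- The conclusion of the recognition. -/
def Concl (G : Type u) [Group G] (p : ℕ) : Prop :=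
  (∃ (F : Type) (_ : Field F) (_ : Fintype F), Fintype.card F = p ∧ 3 < p ∧
    Nonempty (G ≃* Matrix.ProjectiveSpecialLinearGroup (Fin 2) F)) ∨
  (∃ (m : ℕ) (F : Type) (_ : Field F) (_ : Fintype F), Fintype.card F = 2 ^ m ∧ p = 2 ^ m + 1 ∧
    3 < p ∧ Nonempty (G ≃* Matrix.ProjectiveSpecialLinearGroup (Fin 2) F))

theorem concl_of_one {G : Type u} [Group G] [Fintype G] [IsSimpleGroup G] {p : ℕ}
    [hp : Fact p.Prime] (D : Data G p 1) : Concl G p := by
  have hp2 := hp.out.two_le
  have he2 := D.two_le_e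
  have hep := D.e_lt_p
  have hG := D.card_G
  rw [one_mul, add_comm 1 p] at hG
  have hZ := isZassenhaus_of_ti (D.P : Subgroup G) (r := D.e) (by rw [D.card_P']; omega) he2
    (by rw [D.card_P']
        exact (hp.out.coprime_iff_not_dvd).2 fun h => by
          have := Nat.le_of_dvd (by omega) h; omega)
    (by rw [D.card_P']; exact D.normalizer_card)
    (by rw [D.card_P']; exact D.P.card_eq_index_normalizer.symm.trans (D.sylow.trans (by ring)))
    (fun a ha ha1 => by rw [centralizer_singleton_eq D.cardP ha ha1, D.cent])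
  rcases Cfsg.Agent.S0340.result hZ with ⟨F, _, _, ⟨f⟩⟩ | hs
  · have hc := order_psl2 F
    rw [← Nat.card_congr f.toEquiv, hG] at hc
    rcases arith_one hp.out (by omega) he2 hep (FiniteField.isPrimePow_card F) hc with
      ⟨hq, h3⟩ | ⟨hq, h5⟩
    · exact .inl ⟨F, inferInstance, inferInstance, hq, h3, ⟨f⟩⟩
    · exact .inr ⟨2, F, inferInstance, inferInstance, by rw [hq]; norm_num, by rw [h5]; norm_num,
        by omega, ⟨f⟩⟩
  · exfalso
    refine not_suzuki hp.out (by omega) ?_ ?_ hs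
    · rw [hG, mul_assoc]; exact Dvd.intro _ rfl
    · rw [hG]
      calc p * D.e * (p + 1) ≤ p * (p - 1) * (p + 1) := by
            exact Nat.mul_le_mul_right _ (Nat.mul_le_mul_left _ (by omega))
        _ < p ^ 3 := by
            obtain ⟨k, rfl⟩ : ∃ k, p = k + 1 := ⟨p - 1, by omega⟩
            rw [Nat.add_sub_cancel]; nlinarith

theorem concl_of_involution {G : Type u} [Group G] [Fintype G] [IsSimpleGroup G] {p n : ℕ}
    [hp : Fact p.Prime] (D : Data G p n) (he : D.e = 2) (ht : D.t = n + 1) {s : G} (hs1 : s ≠ 1)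
    (hss : s * s = 1) (hcard : Nat.card (Subgroup.centralizer ({s} : Set G)) = p - 1)
    (hconj : ∀ a ∈ Subgroup.centralizer ({s} : Set G), a ≠ 1 → IsConj s a) : Concl G p := by
  classical
  have hn := D.n_pos
  have hpn : p = 2 * n + 3 := by
    have h := D.et
    rw [he, ht] at h
    omega
  have hG : Nat.card G = p * (p - 1) * (p - 2) := by
    rw [D.card_G, he, hpn, show 2 * n + 3 - 1 = 2 * n + 2 by omega,
      show 2 * n + 3 - 2 = 2 * n + 1 by omega]
    ring
  set C := Subgroup.centralizer ({s} : Set G) with hCdef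
  have hsq : ∀ a ∈ C, a * a = 1 := by
    intro a ha
    by_cases ha1 : a = 1
    · rw [ha1, mul_one]
    obtain ⟨c, rfl⟩ := isConj_iff.1 (hconj a ha ha1)
    rw [show c * s * c⁻¹ * (c * s * c⁻¹) = c * (s * s) * c⁻¹ by group, hss, mul_one, mul_inv_cancel]
  have hcomm : ∀ a ∈ C, ∀ b ∈ C, a * b = b * a := by
    intro a ha b hb
    have h1 : a * b = (a * b)⁻¹ := (inv_eq_of_mul_eq_one_right (hsq _ (mul_mem ha hb))).symm
    rw [h1, mul_inv_rev, inv_eq_of_mul_eq_one_right (hsq a ha),
      inv_eq_of_mul_eq_one_right (hsq b hb)]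
  have hcent : ∀ a ∈ C, a ≠ 1 → Subgroup.centralizer ({a} : Set G) = C := by
    intro a ha ha1
    symm
    refine Subgroup.eq_of_le_of_card_ge (fun b hb =>
      Subgroup.mem_centralizer_singleton_iff.2 (hcomm b hb a ha)) (le_of_eq ?_)
    obtain ⟨c, hc⟩ := isConj_iff.1 (hconj a ha ha1)
    refine Nat.card_congr ((MulAut.conj c⁻¹).toEquiv.subtypeEquiv fun x => ?_)
    rw [hCdef, Subgroup.mem_centralizer_singleton_iff, Subgroup.mem_centralizer_singleton_iff]
    show _ ↔ c⁻¹ * x * c⁻¹⁻¹ * s = s * (c⁻¹ * x * c⁻¹⁻¹)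
    rw [inv_inv, ← hc]
    constructor
    · intro h
      calc c⁻¹ * x * c * s = c⁻¹ * (x * (c * s * c⁻¹)) * c := by group
        _ = c⁻¹ * ((c * s * c⁻¹) * x) * c := by rw [h]
        _ = s * (c⁻¹ * x * c) := by group
    · intro h
      calc x * (c * s * c⁻¹) = c * (c⁻¹ * x * c * s) * c⁻¹ := by group
        _ = c * (s * (c⁻¹ * x * c)) * c⁻¹ := by rw [h]
        _ = c * s * c⁻¹ * x := by group
  set K := Subgroup.normalizer (C : Set G) with hKdef
  have hsC : s ∈ C := Subgroup.mem_centralizer_singleton_iff.2 rfl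
  have hKcard : Nat.card K = (p - 1) * (p - 2) := by
    have hCK : C ≤ K := Subgroup.le_normalizer
    have hmemK : ∀ g : G, g * s * g⁻¹ ∈ C → g ∈ K := by
      intro g hg
      rw [hKdef, Subgroup.mem_normalizer_iff]
      intro y
      have h1 := hcent _ hg fun e => hs1 (conj_eq_one_iff.1 e)
      show y ∈ C ↔ g * y * g⁻¹ ∈ C
      conv_rhs => rw [← h1, Subgroup.mem_centralizer_singleton_iff]
      rw [hCdef, Subgroup.mem_centralizer_singleton_iff]
      constructor
      · intro h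
        calc g * y * g⁻¹ * (g * s * g⁻¹) = g * (y * s) * g⁻¹ := by group
          _ = g * (s * y) * g⁻¹ := by rw [h]
          _ = _ := by group
      · intro h
        calc y * s = g⁻¹ * (g * y * g⁻¹ * (g * s * g⁻¹)) * g := by group
          _ = g⁻¹ * (g * s * g⁻¹ * (g * y * g⁻¹)) * g := by rw [h]
          _ = _ := by group
    let f : K → {a : C // a ≠ 1} := fun g =>
      ⟨⟨(g : G) * s * (g : G)⁻¹, (Subgroup.mem_normalizer_iff.1 g.2 s).1 hsC⟩,
        fun e => hs1 (conj_eq_one_iff.1 (congrArg Subtype.val e))⟩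
    have hwd : ∀ a b : K, (QuotientGroup.leftRel (C.subgroupOf K)).r a b → f a = f b := by
      intro a b h
      rw [QuotientGroup.leftRel_apply, Subgroup.mem_subgroupOf] at h
      have h' := Subgroup.mem_centralizer_singleton_iff.1 h
      refine Subtype.ext (Subtype.ext ?_)
      show (a : G) * s * (a : G)⁻¹ = (b : G) * s * (b : G)⁻¹
      rw [Subgroup.coe_mul, InvMemClass.coe_inv] at h'
      calc (a : G) * s * (a : G)⁻¹ = (a : G) * (s * ((a : G)⁻¹ * b)) * (b : G)⁻¹ := by group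
        _ = (a : G) * (((a : G)⁻¹ * b) * s) * (b : G)⁻¹ := by rw [h']
        _ = _ := by group
    have hbij : Function.Bijective (Quotient.lift f hwd) := by
      constructor
      · intro x y
        induction x using Quotient.ind with | _ a => ?_
        induction y using Quotient.ind with | _ b => ?_
        intro h
        have h' : (a : G) * s * (a : G)⁻¹ = (b : G) * s * (b : G)⁻¹ :=
          congrArg (fun z : {a : C // a ≠ 1} => ((z : C) : G)) h
        refine Quotient.sound ?_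
        show (QuotientGroup.leftRel (C.subgroupOf K)).r a b
        rw [QuotientGroup.leftRel_apply, Subgroup.mem_subgroupOf, hCdef,
          Subgroup.mem_centralizer_singleton_iff, Subgroup.coe_mul, InvMemClass.coe_inv]
        calc (a : G)⁻¹ * b * s = (a : G)⁻¹ * ((b : G) * s * (b : G)⁻¹) * b := by group
          _ = (a : G)⁻¹ * ((a : G) * s * (a : G)⁻¹) * b := by rw [h']
          _ = s * ((a : G)⁻¹ * b) := by group
      · rintro ⟨⟨a, ha⟩, ha1⟩
        obtain ⟨g, hg⟩ := isConj_iff.1 (hconj a ha fun e => ha1 (Subtype.ext e))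
        exact ⟨Quotient.mk _ ⟨g, hmemK g (hg.symm ▸ ha)⟩, Subtype.ext (Subtype.ext hg)⟩
    have h1 : (C.subgroupOf K).index = p - 2 := by
      rw [Subgroup.index]
      refine (Nat.card_congr (Equiv.ofBijective _ hbij)).trans ?_
      rw [Nat.card_eq_fintype_card, Fintype.card_subtype_compl, Fintype.card_subtype_eq,
        ← Nat.card_eq_fintype_card, hcard]
      omega
    rw [← (C.subgroupOf K).card_mul_index, h1,
      Nat.card_congr (Subgroup.subgroupOfEquivOfLe hCK).toEquiv, hcard]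
  have hKidx : K.index = p := by
    have h := K.card_mul_index
    rw [hKcard, hG] at h
    refine Nat.eq_of_mul_eq_mul_left (show 0 < (p - 1) * (p - 2) from Nat.mul_pos (by omega) (by omega)) ?_
    rw [h]; ring
  have hZ := isZassenhaus_of_ti C (r := p - 2) (by rw [hcard]; omega) (by omega)
    (by rw [hcard, show p - 1 = (p - 2) + 1 by omega, Nat.coprime_self_add_left]; simp)
    (by rw [hcard]; exact hKcard) (by rw [hcard, hKidx]; omega) hcent
  rcases Cfsg.Agent.S0340.result hZ with ⟨F, _, _, ⟨f⟩⟩ | hs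
  · have hc := order_psl2 F
    rw [← Nat.card_congr f.toEquiv, hG] at hc
    rcases arith_two hp.out (by omega) (FiniteField.isPrimePow_card F) hc with hq | ⟨hq, h3⟩
    · have hP2 : IsPGroup 2 C := fun a => ⟨1, Subtype.ext (by
        simpa [sq] using hsq _ a.2)⟩
      obtain ⟨m, hm⟩ := IsPGroup.iff_card.1 hP2
      rw [hcard] at hm
      exact .inr ⟨m, F, inferInstance, inferInstance, hq.trans hm, by omega, by omega, ⟨f⟩⟩
    · exact .inl ⟨F, inferInstance, inferInstance, hq, h3, ⟨f⟩⟩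
  · exfalso
    refine not_suzuki hp.out (by omega) ?_ ?_ hs
    · rw [hG, mul_assoc]; exact Dvd.intro _ rfl
    · rw [hG]
      calc p * (p - 1) * (p - 2) < p * p * p := by
            have h1 : p * (p - 1) * (p - 2) ≤ p * p * (p - 2) :=
              Nat.mul_le_mul_right _ (Nat.mul_le_mul_left _ (by omega))
            have h2 : p * p * (p - 2) < p * p * p :=
              Nat.mul_lt_mul_of_pos_left (by omega) (Nat.mul_pos (by omega) (by omega))
            omega
        _ = p ^ 3 := by ring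

/-- A simple group with a Sylow subgroup of order `p` outside the exceptional family. -/
theorem simple_main {G : Type u} [Group G] [Finite G] [IsSimpleGroup G]
    (hperf : commutator G = ⊤) {p : ℕ} [Fact p.Prime] (P : Sylow p G) (hP : Nat.card P = p)
    {n : ℕ} (hn : Nat.card (Sylow p G) = 1 + n * p) (hF : ¬ IsF n p) : Concl G p := by
  letI := Fintype.ofFinite G
  obtain ⟨D⟩ := exists_data hperf P hP hn hF
  rcases D.ε_eq with hε | hε
  · have h1 := D.n_eq_one_of_pos hε
    subst h1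
    exact concl_of_one D
  · rcases D.minus_structure hε with h1 | ⟨s, he, ht, hs1, hss, hcard, hconj⟩
    · subst h1
      exact concl_of_one D
    · exact concl_of_involution D he ht hs1 hss hcard hconj

end H18.BR
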