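import Cfsg.Agent.H18.BrauerBlock
import Cfsg.Agent.H12.Integral

/-!
Brauer–Tuan: groups of order `p q^b g₀` with `g₀ < p - 1`, first step: a small exceptional degree.
-/

set_option autoImplicit false
set_option linter.unusedSectionVars false

open Cfsg
open scoped ComplexConjugate

namespace H18.BR

universe u

variable {G : Type u} [Group G] [Fintype G] {p : ℕ} [hp : Fact p.Prime]

theorem modEq_small {a b : ℤ} (h : a ≡ b [ZMOD p]) (h1 : -(p : ℤ) < b - a) (h2 : b - a < p) :
    a = b := by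
  have h3 := Int.eq_zero_of_abs_lt_dvd (Int.modEq_iff_dvd.1 h) (abs_lt.2 ⟨h1, h2⟩)
  omega

set_option maxHeartbeats 800000 in
open scoped Classical in
theorem exists_tuan_core [IsSimpleGroup G] (hperf : commutator G = ⊤) (P : Sylow p G)
    (hP : Nat.card P = p) {q b g₀ : ℕ} (hq : q.Prime) (hpq : p ≠ q)
    (hG : Nat.card G = p * q ^ b * g₀) (hg : g₀ < p - 1) :
    ∃ (n : ℕ) (K : Core G p n) (D : ℕ), (∀ θ ∈ K.Y, H12.degree (θ : G → ℂ) = D) ∧ D ∣ g₀ ∧
      2 ≤ K.t ∧ ((K.ε = 1 ∧ D = K.e) ∨ (K.ε = -1 ∧ D + K.e = p)) := by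
  have hp2 := hp.out.two_le
  obtain ⟨n, hn⟩ : ∃ n, Nat.card (Sylow p G) = 1 + n * p := by
    have h := card_sylow_modEq_one p G
    obtain ⟨k, hk⟩ := (Nat.modEq_iff_dvd' Nat.card_pos).1 h.symm
    refine ⟨k, ?_⟩
    have := Nat.card_pos (α := Sylow p G)
    rw [mul_comm]; omega
  obtain ⟨e, t, R, hone, he, he2, het, ht0, hn0, hNidx, x₀, hx₀, hx₀1, hidx⟩ :=
    exists_raw_one hperf P hP hn
  have hg0 : 0 < g₀ := Nat.pos_of_ne_zero fun h => by
    rw [h, mul_zero] at hG; exact Nat.card_pos.ne' hG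
  have hep : e ≤ p - 1 := Nat.le_of_dvd (by omega) (Dvd.intro t het)
  have hv1 : ∀ χ ∈ R.X, ∀ x ∈ (P : Subgroup G), x ≠ 1 → (χ : G → ℂ) x = (R.εX χ : ℂ) :=
    fun χ hχ x hx hx1 => by
      simpa using R.valX χ hχ x hx hx1 1 (one_mem _) one_not_dvd_orderOf_one
  have hone1 : R.εX (H12.oneIrr G) = 1 := by
    have h := hv1 _ hone x₀ hx₀ hx₀1
    rw [H12.oneIrr_apply] at h
    exact_mod_cast h.symm
  obtain ⟨θ₀, hθ₀⟩ : R.Y.Nonempty := Finset.card_pos.1 (by rw [R.cardY]; exact ht0)
  set D := H12.degree (θ₀ : G → ℂ) with hD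
  have hD0 : 0 < D := H12.irr_degree_pos θ₀
  have hrel1 : ∀ θ ∈ R.Y, R.ε * (H12.degree (θ : G → ℂ) : ℤ) =
      ∑ χ ∈ R.X, R.εX χ * (H12.degree (χ : G → ℂ) : ℤ) := by
    intro θ hθ
    have h := R.rel θ hθ 1 one_not_dvd_orderOf_one
    simp only [H12.irr_apply_one] at h
    exact_mod_cast h
  have hDall : ∀ θ ∈ R.Y, H12.degree (θ : G → ℂ) = D := by
    intro θ hθ
    have h := (hrel1 θ hθ).trans (hrel1 θ₀ hθ₀).symm
    rcases R.ε_eq with hs | hs <;> rw [hs] at h <;> omega
  -- degrees prime to `q` are small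
  have hsmall : ∀ χ : IrrCharacter G, ¬ (p : ℤ) ∣ (H12.degree (χ : G → ℂ) : ℤ) →
      ¬ q ∣ H12.degree (χ : G → ℂ) → H12.degree (χ : G → ℂ) ∣ g₀ := by
    intro χ h1 h2
    have h := H12.irr_degree_dvd_card χ
    rw [hG] at h
    have c1 : Nat.Coprime (H12.degree (χ : G → ℂ)) p := by
      rw [Nat.coprime_comm, hp.out.coprime_iff_not_dvd]
      exact fun h => h1 (Int.natCast_dvd_natCast.2 h)
    have c2 : Nat.Coprime (H12.degree (χ : G → ℂ)) (q ^ b) := by
      refine Nat.Coprime.pow_right _ ?_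
      rw [Nat.coprime_comm, hq.coprime_iff_not_dvd]
      exact h2
    rw [mul_assoc] at h
    exact c2.dvd_of_dvd_mul_left (c1.dvd_of_dvd_mul_left h)
  have hqX : ∀ χ ∈ R.X, χ ≠ H12.oneIrr G → q ∣ H12.degree (χ : G → ℂ) := by
    intro χ hχ hne
    by_contra hq'
    have hc := R.degX χ hχ
    have hnp : ¬ (p : ℤ) ∣ (H12.degree (χ : G → ℂ) : ℤ) := fun hd => by
      have h0 : (R.εX χ : ℤ) ≡ 0 [ZMOD p] :=
        hc.symm.trans (Int.modEq_zero_iff_dvd.2 hd)
      have := modEq_small h0 (by rcases R.εX_eq χ hχ with h | h <;> omega)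
        (by rcases R.εX_eq χ hχ with h | h <;> omega)
      rcases R.εX_eq χ hχ with h | h <;> omega
    have hle := Nat.le_of_dvd hg0 (hsmall χ hnp hq')
    have hpos := H12.irr_degree_pos χ
    rcases R.εX_eq χ hχ with hs | hs <;> rw [hs] at hc
    · have := modEq_small hc (by omega) (by omega)
      exact hne (linear_eq_one hperf (by omega))
    · have h1 : (H12.degree (χ : G → ℂ) : ℤ) ≡ (p : ℤ) - 1 [ZMOD p] := by
        refine hc.trans (Int.modEq_iff_dvd.2 ⟨1, by ring⟩)
      have := modEq_small h1 (by omega) (by omega)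
      omega
  have hqD : ¬ q ∣ D := by
    intro hd
    have h := hrel1 θ₀ hθ₀
    rw [← Finset.add_sum_erase _ _ hone, hone1, degree_one] at h
    have h1 : (q : ℤ) ∣ (1 : ℤ) := by
      have h2 : (q : ℤ) ∣ ∑ χ ∈ R.X.erase (H12.oneIrr G), R.εX χ * (H12.degree (χ : G → ℂ) : ℤ) :=
        Finset.dvd_sum fun χ hχ => Dvd.dvd.mul_left (Int.natCast_dvd_natCast.2
          (hqX χ (Finset.mem_of_mem_erase hχ) (Finset.ne_of_mem_erase hχ))) _
      have h3 : (q : ℤ) ∣ R.ε * (D : ℤ) := (Int.natCast_dvd_natCast.2 hd).mul_left _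
      rw [← hD] at h
      have h4 := dvd_sub h3 h2
      rwa [h, Nat.cast_one, mul_one, add_sub_cancel_right] at h4
    have := Int.le_of_dvd one_pos h1
    have := hq.two_le
    omega
  have hDp : ¬ (p : ℤ) ∣ (D : ℤ) := fun hd => by
    have h0 : R.ε * (e : ℤ) ≡ 0 [ZMOD p] :=
      (R.degY θ₀ hθ₀).symm.trans (Int.modEq_zero_iff_dvd.2 hd)
    rcases R.ε_eq with hs | hs <;> rw [hs] at h0 <;>
      have := modEq_small h0 (by omega) (by omega) <;> omega
  have hDg := hsmall θ₀ hDp hqD
  have hDle := Nat.le_of_dvd hg0 hDg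
  have hDe : (R.ε = 1 ∧ D = e) ∨ (R.ε = -1 ∧ D + e = p) := by
    have hc := R.degY θ₀ hθ₀
    rw [← hD] at hc
    rcases R.ε_eq with hs | hs <;> rw [hs] at hc
    · rw [one_mul] at hc
      have := modEq_small hc (by omega) (by omega)
      exact .inl ⟨hs, by omega⟩
    · have h1 : (D : ℤ) ≡ (p : ℤ) - e [ZMOD p] :=
        hc.trans (Int.modEq_iff_dvd.2 ⟨1, by ring⟩)
      have := modEq_small h1 (by omega) (by omega)
      exact .inr ⟨hs, by omega⟩
  have ht2 : 2 ≤ t := by
    by_contra ht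
    have ht1 : t = 1 := by omega
    rw [ht1, mul_one] at het
    rcases hDe with ⟨-, h⟩ | ⟨-, h⟩
    · omega
    · exact Finset.disjoint_left.1 R.disj hone
        (linear_eq_one hperf (χ := θ₀) (by omega) ▸ hθ₀)
  -- the centraliser of the Sylow subgroup
  set C := Subgroup.centralizer ((P : Subgroup G) : Set G) with hCdef
  set N := Subgroup.normalizer ((P : Subgroup G) : Set G) with hNdef
  have hCN : C ≤ N := Subgroup.centralizer_le_normalizer _
  have hreg : ∀ y ∈ C, ¬ p ∣ orderOf y → y = 1 := by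
    intro y hy hyo
    set Z := Subgroup.zpowers y with hZ
    haveI := Fintype.ofFinite (P : Subgroup G)
    haveI := Fintype.ofFinite Z
    have hab : ∀ a c : Z, a * c = c * a := fun a c => mul_comm' a c
    haveI : Finite (Z →* ℂˣ) := Nat.finite_of_card_ne_zero (by
      rw [H12.card_monoidHom_units]; exact Subgroup.index_ne_zero_of_finite)
    letI := Fintype.ofFinite (Z →* ℂˣ)
    have hzC : ∀ z : Z, (z : G) ∈ C := fun z => Subgroup.zpowers_le.2 hy z.2
    have hzo : ∀ z : Z, ¬ p ∣ orderOf (z : G) := fun z h => hyo (h.trans (by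
      have := Subgroup.orderOf_dvd_natCard Z z.2
      rwa [Nat.card_zpowers] at this))
    let f : ↥(P : Subgroup G) × ↥Z →* G :=
      MonoidHom.noncommCoprod (P : Subgroup G).subtype Z.subtype fun x z =>
        (Subgroup.mem_centralizer_iff.1 (hzC z) x x.2)
    have hf : ∀ (x : (P : Subgroup G)) (z : Z), f (x, z) = (x : G) * (z : G) := fun _ _ => rfl
    have hmult : ∀ χ ∈ R.X, ∀ ν : Z →* ℂˣ, ν ≠ 1 → ∃ a : ℕ,
        classInner (fun z : Z => (χ : G → ℂ) z) (fun z => (ν z : ℂ)) = (p : ℂ) * a := by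
      intro χ hχ ν hν
      obtain ⟨a, ha⟩ := H12.IsCharacter.classInner_nat
        (H12.IsCharacter.comp (H12.isCharacter_irr χ) f)
        (H12.isCharacter_monoidHom (ν.comp (MonoidHom.snd (P : Subgroup G) Z)))
      refine ⟨a, ?_⟩
      rw [← ha, H12.classInner_def, H12.classInner_def, Nat.card_prod,
        show Nat.card (P : Subgroup G) = p from hP, Fintype.sum_prod_type_right, Nat.cast_mul,
        mul_inv, ← mul_assoc, ← mul_assoc, mul_inv_cancel₀ (Nat.cast_ne_zero.2 hp.out.ne_zero),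
        one_mul]
      congr 1
      have h0 : ∑ z : Z, conj (ν z : ℂ) = 0 := by
        rw [← map_sum]
        have h1 := H12.classInner_irr (H12.linIrr ν) (H12.linIrr (1 : Z →* ℂˣ))
        rw [if_neg fun e => hν (H12.linIrr_injective e), H12.classInner_def] at h1
        simp only [H12.linIrr_apply, MonoidHom.one_apply, Units.val_one, map_one, mul_one] at h1
        rcases mul_eq_zero.1 h1 with h2 | h2
        · exact absurd h2 (inv_ne_zero (Nat.cast_ne_zero.2 Nat.card_pos.ne'))
        · rw [h2, map_zero]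
      have h2 : ∀ z : Z, ∑ x : (P : Subgroup G), ((χ : G → ℂ) ∘ f) (x, z) * conj ((ν.comp (MonoidHom.snd (P : Subgroup G) Z) (x, z) : ℂ)) =
          (χ : G → ℂ) z * conj (ν z : ℂ) +
            ((p - 1 : ℕ) : ℂ) * (R.εX χ : ℂ) * conj (ν z : ℂ) := by
        intro z
        simp only [MonoidHom.comp_apply, MonoidHom.coe_snd, Function.comp_apply, hf]
        rw [← Finset.add_sum_erase _ _ (Finset.mem_univ (1 : (P : Subgroup G))), OneMemClass.coe_one,
          one_mul, Finset.sum_congr rfl fun x hx => by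
            rw [R.valX χ hχ x x.2 (fun e => Finset.ne_of_mem_erase hx (Subtype.ext e)) z (hzC z)
              (hzo z)], Finset.sum_const, Finset.card_erase_of_mem (Finset.mem_univ _),
          Finset.card_univ, ← Nat.card_eq_fintype_card, show Nat.card (P : Subgroup G) = p from hP,
          nsmul_eq_mul, mul_assoc]
      rw [Finset.sum_congr rfl fun z _ => h2 z, Finset.sum_add_distrib, ← Finset.mul_sum, h0,
        mul_zero, add_zero]
    choose c hc using fun ν : Z →* ℂˣ => H12.IsCharacter.classInner_nat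
      (H12.IsCharacter.comp (H12.isCharacter_irr θ₀) Z.subtype) (H12.isCharacter_monoidHom ν)
    have hsum : ∑ ν, c ν = D := by
      have h := lin_expand hab (fun z : Z => (θ₀ : G → ℂ) z) 1
      rw [OneMemClass.coe_one, H12.irr_apply_one] at h
      simp only [map_one, Units.val_one, mul_one] at h
      have h' : (D : ℂ) = ∑ ν, (c ν : ℂ) := h.trans (Finset.sum_congr rfl fun ν _ => hc ν)
      exact_mod_cast h'.symm
    have hc0 : ∀ ν : Z →* ℂˣ, ν ≠ 1 → c ν = 0 := by
      intro ν hν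
      choose a ha using fun χ : R.X => hmult χ.1 χ.2 ν hν
      have h : (R.ε : ℂ) * (c ν : ℂ) = (p : ℂ) * ∑ χ : R.X, (R.εX χ.1 : ℂ) * (a χ : ℂ) := by
        rw [← hc ν, Finset.mul_sum]
        simp only [mul_left_comm (p : ℂ), ← ha]
        show (R.ε : ℂ) * classInner (fun z : Z => (θ₀ : G → ℂ) z) _ = _
        rw [← H12.classInner_smul_left]
        simp only [← H12.classInner_smul_left]
        rw [← H12.classInner_sum_left]
        congr 1
        funext z
        simp only [Pi.smul_apply, smul_eq_mul, Finset.sum_apply]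
        rw [R.rel θ₀ hθ₀ z (hzo z), ← Finset.sum_coe_sort]
      have h' : R.ε * (c ν : ℤ) = (p : ℤ) * ∑ χ : R.X, R.εX χ.1 * (a χ : ℤ) := by exact_mod_cast h
      have hdvd : (p : ℤ) ∣ (c ν : ℤ) := by
        rcases R.ε_eq with hs | hs <;> rw [hs] at h'
        · exact ⟨∑ χ : R.X, R.εX χ.1 * (a χ : ℤ), by linear_combination h'⟩
        · exact ⟨-∑ χ : R.X, R.εX χ.1 * (a χ : ℤ), by linear_combination -h'⟩
      have hle : c ν ≤ D := hsum ▸ Finset.single_le_sum (fun _ _ => Nat.zero_le _) (Finset.mem_univ ν)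
      have := Int.eq_zero_of_abs_lt_dvd hdvd (abs_lt.2 ⟨by omega, by omega⟩)
      omega
    have hval : (θ₀ : G → ℂ) y = (θ₀ : G → ℂ) 1 := by
      have h := lin_expand hab (fun z : Z => (θ₀ : G → ℂ) z) ⟨y, Subgroup.mem_zpowers y⟩
      have h' := lin_expand hab (fun z : Z => (θ₀ : G → ℂ) z) 1
      rw [OneMemClass.coe_one] at h'
      rw [h']
      refine h.trans (Finset.sum_congr rfl fun ν _ => ?_)
      by_cases hν : ν = 1
      · subst hν; rfl
      · rw [show classInner (fun z : Z => (θ₀ : G → ℂ) z) (fun x => (ν x : ℂ)) = (c ν : ℂ) from hc ν,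
          hc0 ν hν, Nat.cast_zero, zero_mul, zero_mul]
    have hch := H12.isCharacter_irr θ₀
    haveI := H12.charKer_normal hch
    rcases Subgroup.Normal.eq_bot_or_eq_top (inferInstance : (H12.charKer _ hch).Normal) with
      hk | hk
    · have hker : y ∈ H12.charKer _ hch := (H12.mem_charKer hch).2 hval
      rw [hk] at hker
      exact Subgroup.mem_bot.1 hker
    · exfalso
      have hall : ∀ g : G, (θ₀ : G → ℂ) g = (θ₀ : G → ℂ) 1 := fun g =>
        (H12.mem_charKer hch).1 (hk ▸ Subgroup.mem_top g)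
      have h1 := H12.classInner_irr θ₀ (H12.oneIrr G)
      have hne : θ₀ ≠ H12.oneIrr G := fun he' =>
        Finset.disjoint_left.1 R.disj hone (he' ▸ hθ₀)
      rw [if_neg hne, H12.classInner_def] at h1
      simp only [hall, H12.oneIrr_apply, map_one, mul_one, Finset.sum_const, Finset.card_univ,
        nsmul_eq_mul, ← Nat.card_eq_fintype_card, inv_mul_cancel_left₀
          (Nat.cast_ne_zero.2 Nat.card_pos.ne' : (Nat.card G : ℂ) ≠ 0)] at h1
      exact H12.irr_apply_one_ne_zero θ₀ h1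
  have hCP : C = (P : Subgroup G) := by
    have hPC : (P : Subgroup G) ≤ C := fun a ha x hx => by
      haveI : IsCyclic (P : Subgroup G) := isCyclic_of_prime_card hP
      letI := IsCyclic.commGroup (α := (P : Subgroup G))
      exact congrArg Subtype.val (mul_comm (⟨x, hx⟩ : (P : Subgroup G)) ⟨a, ha⟩)
    have hCp : IsPGroup p C := by
      refine IsPGroup.of_card (n := (Nat.card C).primeFactorsList.length) ?_
      refine Nat.eq_prime_pow_of_unique_prime_dvd Nat.card_pos.ne' fun {r} hr hdr => ?_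
      haveI := Fact.mk hr
      by_contra hrp
      obtain ⟨y, hy⟩ := exists_prime_orderOf_dvd_card' r hdr
      have hy' : orderOf (y : G) = r := by rw [Subgroup.orderOf_coe, hy]
      have h1 := hreg y y.2 (by
        rw [hy']
        exact fun h => hrp ((Nat.prime_dvd_prime_iff_eq hp.out hr).1 h).symm)
      rw [h1, orderOf_one] at hy'
      exact hr.one_lt.ne hy'
    exact (P.is_maximal' hCp hPC)
  have hcardN : Nat.card N = p * e := by
    rw [← Subgroup.card_mul_index (C.subgroupOf N),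
      Nat.card_congr (Subgroup.subgroupOfEquivOfLe hCN).toEquiv, hCP,
      show Nat.card (P : Subgroup G) = p from hP, ← hCP]
    exact congrArg (p * ·) he
  exact ⟨n, {
    P := P
    cardP := hP
    cent := hCP
    sylow := hn
    n_pos := hn0
    e := e
    t := t
    et := het
    two_le_e := he2
    t_pos := ht0
    normalizer_card := hcardN
    card_G := by rw [← Subgroup.card_mul_index N, hcardN, hNidx]
    X := R.X
    Y := R.Y
    disj := R.disj
    cardX := R.cardX
    cardY := R.cardY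
    one_mem := hone
    εX := R.εX
    ε := R.ε
    valX := hv1
    rel := R.rel
    ysum := R.ysum
    εX_eq' := R.εX_eq
    ε_eq' := R.ε_eq
    εX_one := hone1
    exists_v := exists_v_of_congr het (fun θ hθ => R.degY θ hθ)
      (fun θ₁ h₁ θ₂ h₂ => (hDall θ₁ h₁).trans (hDall θ₂ h₂).symm) },
    D, hDall, hDg, ht2, hDe⟩

end H18.BR
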