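import Cfsg.Agent.H18.BrauerTuanMinus
import Cfsg.Agent.H18.WedgeChar

/-!
Brauer–Tuan, exceptional degree `e`.
-/

set_option autoImplicit false
set_option linter.unusedSectionVars false

open Cfsg
open scoped ComplexConjugate

namespace H18.BR

universe u

variable {G : Type u} [Group G] [Fintype G] [IsSimpleGroup G] {p : ℕ} [hp : Fact p.Prime] {n : ℕ}
variable {K : Core G p n} {q b D g₀ : ℕ}

open scoped Classical

theorem variance_bound {ι : Type*} [Fintype ι] (F : ι → ℕ) (h : ∃ i j, F i ≠ F j) :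
    Fintype.card ι + (∑ i, F i) ^ 2 ≤ Fintype.card ι * ∑ i, F i ^ 2 + 1 := by
  obtain ⟨i₀, j₀, hij⟩ := h
  obtain ⟨k, -, hk⟩ := Finset.exists_min_image (Finset.univ : Finset ι) F ⟨i₀, Finset.mem_univ _⟩
  obtain ⟨w, hw⟩ : ∃ w : ι → ℕ, ∀ i, F i = F k + w i :=
    ⟨fun i => F i - F k, fun i => by
      show F i = F k + (F i - F k); have := hk i (Finset.mem_univ i); omega⟩
  set S := Finset.univ.filter fun i => w i ≠ 0 with hS
  have hS1 : 1 ≤ S.card := Finset.card_pos.2 (by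
    by_cases h0 : w i₀ = 0
    · refine ⟨j₀, Finset.mem_filter.2 ⟨Finset.mem_univ _, fun h1 => hij ?_⟩⟩
      rw [hw i₀, hw j₀, h0, h1]
    · exact ⟨i₀, Finset.mem_filter.2 ⟨Finset.mem_univ _, h0⟩⟩)
  have hwk : w k = 0 := by have := hw k; omega
  have hS2 : S.card < Fintype.card ι := Finset.card_lt_univ_of_notMem (x := k) (by simp [hS, hwk])
  have hsum : ∑ i, w i = ∑ i ∈ S, w i :=
    (Finset.sum_subset (Finset.subset_univ S) fun i _ hi => by simpa [hS] using hi).symm
  have hsq : ∑ i, w i ^ 2 = ∑ i ∈ S, w i ^ 2 :=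
    (Finset.sum_subset (Finset.subset_univ S) fun i _ hi => by
      have h0 : w i = 0 := by simpa [hS] using hi
      rw [h0]; rfl).symm
  have hcs := sq_sum_le_card_mul_sum_sq (s := S) (f := w)
  rw [← hsum, ← hsq] at hcs
  have hlow : S.card ≤ ∑ i, w i ^ 2 := by
    rw [hsq, Finset.card_eq_sum_ones]
    exact Finset.sum_le_sum fun i hi => Nat.one_le_pow _ _
      (Nat.pos_of_ne_zero (Finset.mem_filter.1 hi).2)
  have hexp : Fintype.card ι * ∑ i, F i ^ 2 + (∑ i, w i) ^ 2 =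
      Fintype.card ι * ∑ i, w i ^ 2 + (∑ i, F i) ^ 2 := by
    have e1 : ∑ i, F i ^ 2 = Fintype.card ι * F k ^ 2 + 2 * F k * ∑ i, w i + ∑ i, w i ^ 2 := by
      rw [Finset.sum_congr rfl (g := fun i => (F k ^ 2 + 2 * F k * w i) + w i ^ 2) fun i _ => by
        rw [hw i]; ring, Finset.sum_add_distrib, Finset.sum_add_distrib, ← Finset.mul_sum]
      simp
    have e2 : ∑ i, F i = Fintype.card ι * F k + ∑ i, w i := by
      rw [Finset.sum_congr rfl fun i _ => hw i, Finset.sum_add_distrib]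
      simp
    rw [e1, e2]; ring
  have h2 : Fintype.card ι + (∑ i, w i) ^ 2 ≤ Fintype.card ι * ∑ i, w i ^ 2 + 1 := by
    obtain ⟨N, hN⟩ : ∃ N, N = Fintype.card ι := ⟨_, rfl⟩
    obtain ⟨W, hW⟩ : ∃ W, W = ∑ i, w i ^ 2 := ⟨_, rfl⟩
    rw [← hN] at hS2 ⊢
    rw [← hW] at hlow hcs ⊢
    obtain ⟨d, hd⟩ : ∃ d, N = S.card + d := ⟨N - S.card, by omega⟩
    subst hd
    nlinarith [Nat.mul_le_mul_left d hlow]
  omega

/-- Mean values on the complement. -/
theorem sum_normSq_val (K : Core G p n) (χ : IrrCharacter G) :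
    ∑ h ∈ (Finset.univ : Finset K.E).erase 1, (χ : G → ℂ) h * conj ((χ : G → ℂ) h) =
      (K.e : ℂ) * ∑ μ : K.E →* ℂˣ, (K.cf χ μ : ℂ) ^ 2 - (K.ktot χ : ℂ) ^ 2 := by
  have h := lin_parseval K.E_comm (K.avg (χ : G → ℂ))
  rw [← Finset.add_sum_erase _ _ (Finset.mem_univ (1 : K.E)), K.card_E] at h
  have h1 : K.avg (χ : G → ℂ) 1 = (K.ktot χ : ℂ) := by
    rw [K.avg_one, ← K.sum_cf χ, ← mul_assoc,
      inv_mul_cancel₀ (Nat.cast_ne_zero.2 hp.out.ne_zero), one_mul, Core.ktot, Nat.cast_sum]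
  rw [h1, Complex.conj_natCast, Finset.sum_congr rfl
      (g := fun h : K.E => (χ : G → ℂ) h * conj ((χ : G → ℂ) h)) fun h hh => by
        rw [K.avg_ne_one (H12.irr_isClassFunction χ) (Finset.ne_of_mem_erase hh)],
    Finset.sum_congr rfl (s₁ := (Finset.univ : Finset (K.E →* ℂˣ)))
      (g := fun μ => (K.cf χ μ : ℂ) ^ 2) fun μ _ => by
        rw [← K.cf_eq, Complex.conj_natCast, sq]] at h
  linear_combination h

theorem plus_prelim (T : Tuan K q b D g₀) (hε : K.ε = 1) (hDe : D = K.e) :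
    K.v = 0 ∧ 2 * K.e ≤ p - 1 ∧ p ≠ 2 := by
  have h2e : 2 * K.e ≤ p - 1 := by
    rw [← K.et, mul_comm 2]; exact Nat.mul_le_mul_left _ T.two_le_t
  refine ⟨?_, h2e, by have := K.two_le_e; omega⟩
  have h := T.v_eq
  rw [hε, hDe, one_mul] at h
  exact (mul_eq_zero.1 (by linarith : K.v * (p : ℤ) = 0)).resolve_right
    (by exact_mod_cast hp.out.ne_zero)

/-- The decomposition of `θ θ̄`. -/
theorem plus_square (T : Tuan K q b D g₀) (hε : K.ε = 1) (hDe : D = K.e)
    {θ : IrrCharacter G} (hθ : θ ∈ K.Y) :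
    K.t = 2 ∧ Odd K.e ∧
    (∃ S : Finset (IrrCharacter G), S ⊆ K.plus ∧ 2 * S.card + 1 = K.e ∧
      ∀ χ ∈ S, K.ktot χ = 2 ∧ H12.degree (χ : G → ℂ) = p + 1 ∧ K.cf χ 1 = 0 ∧
        ∀ μ, K.cf χ μ ≤ 1) ∧
    2 * classInner ((θ : G → ℂ) * fun g => conj ((θ : G → ℂ) g))
        ((θ : G → ℂ) * fun g => conj ((θ : G → ℂ) g)) = (K.e : ℂ) + 1 := by
  obtain ⟨hv, h2e, hp2⟩ := plus_prelim T hε hDe
  subst hDe
  have he2 := K.two_le_e
  have hp1 := hp.out.two_le
  have hkY : ∀ η ∈ K.Y, K.ktot η = 0 := fun η hη => by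
    have := K.ktot_Y hη; rw [hv] at this; exact_mod_cast this
  set f : G → ℂ := (θ : G → ℂ) * fun g => conj ((θ : G → ℂ) g) with hfdef
  have hf : IsCharacter G f :=
    H12.IsCharacter.mul (H12.isCharacter_irr θ) (H12.isCharacter_irr (H12.conjIrr θ))
  have hcls := H12.IsCharacter.isClassFunction hf
  have hfavg : ∀ h : K.E, h ≠ 1 → K.avg f h = 0 := fun h hh => by
    rw [K.avg_ne_one hcls hh]
    show (θ : G → ℂ) h * conj ((θ : G → ℂ) h) = 0
    rw [K.val_ktot_zero (hkY θ hθ) hh, zero_mul]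
  have hfavg1 : K.avg f 1 = (K.e : ℂ) := by
    rw [K.avg_one]
    have hs : K.psum f = ∑ x : (K.P : Subgroup G), (θ : G → ℂ) x * conj ((θ : G → ℂ) x) := rfl
    rw [hs, (K.block_facts.2 θ hθ).2, T.deg θ hθ,
      inv_mul_eq_iff_eq_mul₀ (Nat.cast_ne_zero.2 hp.out.ne_zero)]
    push_cast
    ring
  choose m hm using fun χ : IrrCharacter G =>
    H12.IsCharacter.classInner_nat hf (H12.isCharacter_irr χ)
  have hunit : ∀ μ, ∑ χ : IrrCharacter G, m χ * K.cf χ μ = 1 := by
    intro μ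
    have h1 := K.inner_pic hcls hm μ
    rw [← K.classInner_avg hcls, K.classInner_const hfavg1 hfavg, sub_zero,
      div_self (Nat.cast_ne_zero.2 (by omega)), ite_self, add_zero] at h1
    exact_mod_cast h1.symm
  have hm1 : m (H12.oneIrr G) = 1 := by
    have h := H12.classInner_irr_self θ
    rw [H12.classInner_def] at h
    have h' := hm (H12.oneIrr G)
    rw [H12.classInner_def] at h'
    simp only [hfdef, Pi.mul_apply, H12.oneIrr_apply, map_one, mul_one] at h'
    exact_mod_cast h'.symm.trans h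
  have hdeg : ∑ χ : IrrCharacter G, m χ * H12.degree (χ : G → ℂ) = K.e * K.e := by
    have h := H12.classFunction_apply_eq_sum hcls 1
    simp only [hm, H12.irr_apply_one] at h
    rw [show f 1 = ((K.e * K.e : ℕ) : ℂ) by simp [hfdef, H12.irr_apply_one, T.deg θ hθ]] at h
    exact_mod_cast h.symm
  have hk : ∑ χ : IrrCharacter G, m χ * K.ktot χ = K.e := by
    simp only [Core.ktot, Finset.mul_sum]
    rw [Finset.sum_comm, Finset.sum_congr rfl fun μ _ => hunit μ, Finset.sum_const,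
      Finset.card_univ, K.card_hom, smul_eq_mul, mul_one]
  have hplus2 : ∀ χ ∈ K.plus, 2 ≤ K.ktot χ := by
    intro χ hχ
    obtain ⟨hX, hne, -⟩ := Finset.mem_filter.1 hχ
    have h1 := K.deg_plus hχ
    by_contra hc
    have hd := H12.irr_degree_pos χ
    interval_cases hk' : K.ktot χ
    · omega
    · exact hne (linear_eq_one T.perf (by omega))
  have hdP : ∀ χ ∈ K.plus, 2 * (H12.degree (χ : G → ℂ) : ℤ) =
      ((p : ℤ) + 1) * K.ktot χ + ((p : ℤ) - 1) * ((K.ktot χ : ℤ) - 2) := fun χ hχ => by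
    have h := congrArg (fun x : ℕ => (x : ℤ)) (K.deg_plus hχ)
    push_cast at h
    linear_combination 2 * h
  have hdM : ∀ χ ∈ K.minus, 2 * (H12.degree (χ : G → ℂ) : ℤ) =
      ((p : ℤ) + 1) * K.ktot χ + ((p : ℤ) - 1) * ((K.ktot χ : ℤ) + 2) := fun χ hχ => by
    have h := congrArg (fun x : ℕ => (x : ℤ)) (K.deg_minus hχ)
    push_cast at h
    linear_combination 2 * h
  have hdO : ∀ χ ∈ K.outs, 2 * (H12.degree (χ : G → ℂ) : ℤ) =
      ((p : ℤ) + 1) * K.ktot χ + ((p : ℤ) - 1) * (K.ktot χ : ℤ) := fun χ hχ => by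
    rw [K.deg_outs' hχ]; push_cast; ring
  have hslack : ((p : ℤ) + 1 - 2 * ((K.e : ℤ) + 1)) * ((K.e : ℤ) - 1) +
      (∑ χ ∈ K.plus, (m χ : ℤ) * (((p : ℤ) - 1) * ((K.ktot χ : ℤ) - 2)) +
        ∑ χ ∈ K.minus, (m χ : ℤ) * (((p : ℤ) - 1) * ((K.ktot χ : ℤ) + 2))) +
      ∑ χ ∈ K.Y, (m χ : ℤ) * (2 * K.e) +
      ∑ χ ∈ K.outs, (m χ : ℤ) * (((p : ℤ) - 1) * (K.ktot χ : ℤ)) = 0 := by
    have h1 := congrArg (fun x : ℕ => 2 * (x : ℤ)) hdeg
    have h2 := congrArg (fun x : ℕ => (x : ℤ)) hk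
    rw [K.sum_univ, hm1, degree_one] at h1
    rw [K.sum_univ, hm1, K.ktot_one, Finset.sum_eq_zero (s := K.Y) fun χ hχ => by
      rw [hkY χ hχ, mul_zero]] at h2
    push_cast at h1 h2
    simp only [mul_add, Finset.mul_sum, mul_left_comm (2 : ℤ)] at h1
    rw [Finset.sum_congr rfl (s₁ := K.plus) fun χ hχ => by rw [hdP χ hχ, mul_add],
      Finset.sum_congr rfl (s₁ := K.minus) fun χ hχ => by rw [hdM χ hχ, mul_add],
      Finset.sum_congr rfl (s₁ := K.outs) fun χ hχ => by rw [hdO χ hχ, mul_add],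
      Finset.sum_congr rfl (s₁ := K.Y)
        (g := fun χ : IrrCharacter G => (m χ : ℤ) * (2 * (K.e : ℤ))) fun χ hχ => by
        rw [T.deg χ hχ]] at h1
    simp only [Finset.sum_add_distrib, mul_left_comm _ ((p : ℤ) + 1), ← Finset.mul_sum] at h1 ⊢
    linear_combination h1 - ((p : ℤ) + 1) * h2
  have hez : (2 : ℤ) ≤ K.e := by exact_mod_cast he2
  have hpz : (3 : ℤ) ≤ p := by omega
  have h0 : 0 ≤ ((p : ℤ) + 1 - 2 * ((K.e : ℤ) + 1)) * ((K.e : ℤ) - 1) :=
    mul_nonneg (by omega) (by omega)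
  have hP0 : ∀ χ ∈ K.plus, 0 ≤ (m χ : ℤ) * (((p : ℤ) - 1) * ((K.ktot χ : ℤ) - 2)) := fun χ hχ => by
    have := hplus2 χ hχ
    exact mul_nonneg (Int.natCast_nonneg _) (mul_nonneg (by omega) (by omega))
  have hM0 : ∀ χ ∈ K.minus, 0 ≤ (m χ : ℤ) * (((p : ℤ) - 1) * ((K.ktot χ : ℤ) + 2)) := fun χ _ =>
    mul_nonneg (Int.natCast_nonneg _) (mul_nonneg (by omega) (by omega))
  have hY0 : ∀ χ ∈ K.Y, 0 ≤ (m χ : ℤ) * (2 * (K.e : ℤ)) := fun χ _ => by positivity
  have hO0 : ∀ χ ∈ K.outs, 0 ≤ (m χ : ℤ) * (((p : ℤ) - 1) * (K.ktot χ : ℤ)) := fun χ _ =>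
    mul_nonneg (Int.natCast_nonneg _) (mul_nonneg (by omega) (by omega))
  have hs1 := Finset.sum_nonneg hP0
  have hs2 := Finset.sum_nonneg hM0
  have hs3 := Finset.sum_nonneg hY0
  have hs4 := Finset.sum_nonneg hO0
  have hzP := (Finset.sum_eq_zero_iff_of_nonneg hP0).1 (by linarith)
  have hzM := (Finset.sum_eq_zero_iff_of_nonneg hM0).1 (by linarith)
  have hzY := (Finset.sum_eq_zero_iff_of_nonneg hY0).1 (by linarith)
  have hzO := (Finset.sum_eq_zero_iff_of_nonneg hO0).1 (by linarith)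
  have hpe : p = 2 * K.e + 1 := by
    have h : ((p : ℤ) + 1 - 2 * ((K.e : ℤ) + 1)) * ((K.e : ℤ) - 1) = 0 := by linarith
    rcases mul_eq_zero.1 h with h | h <;> omega
  have ht : K.t = 2 := by
    have h := K.et
    rw [show p - 1 = K.e * 2 by omega] at h
    exact Nat.eq_of_mul_eq_mul_left (by omega) h
  have hmM : ∀ χ ∈ K.minus, m χ = 0 := fun χ hχ => by
    rcases mul_eq_zero.1 (hzM χ hχ) with h | h
    · exact_mod_cast h
    · rcases mul_eq_zero.1 h with h | h <;> omega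
  have hmY : ∀ χ ∈ K.Y, m χ = 0 := fun χ hχ => by
    rcases mul_eq_zero.1 (hzY χ hχ) with h | h
    · exact_mod_cast h
    · omega
  have hmO : ∀ χ ∈ K.outs, m χ = 0 := fun χ hχ => by
    rcases mul_eq_zero.1 (hzO χ hχ) with h | h
    · exact_mod_cast h
    · rcases mul_eq_zero.1 h with h | h
      · omega
      · exfalso
        have := K.deg_outs' hχ
        rw [show K.ktot χ = 0 by exact_mod_cast h, mul_zero] at this
        exact (H12.irr_degree_pos χ).ne' this
  have hmP : ∀ χ ∈ K.plus, m χ ≠ 0 → K.ktot χ = 2 := fun χ hχ hm0 => by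
    rcases mul_eq_zero.1 (hzP χ hχ) with h | h
    · exact absurd (by exact_mod_cast h) hm0
    · rcases mul_eq_zero.1 h with h | h <;> omega
  have hunit' : ∀ μ, (if μ = 1 then 1 else 0) + ∑ χ ∈ K.plus, m χ * K.cf χ μ = 1 := by
    intro μ
    have h := hunit μ
    rw [K.sum_univ, hm1, one_mul, K.cf_oneIrr,
      Finset.sum_eq_zero (s := K.minus) fun χ hχ => by rw [hmM χ hχ, zero_mul],
      Finset.sum_eq_zero (s := K.Y) fun χ hχ => by rw [hmY χ hχ, zero_mul],
      Finset.sum_eq_zero (s := K.outs) fun χ hχ => by rw [hmO χ hχ, zero_mul]] at h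
    simpa using h
  have hmcf : ∀ χ ∈ K.plus, ∀ μ, m χ * K.cf χ μ ≤ 1 := fun χ hχ μ => by
    have h1 := Finset.single_le_sum (f := fun χ : IrrCharacter G => m χ * K.cf χ μ)
      (fun _ _ => Nat.zero_le _) hχ
    have h2 := hunit' μ
    split_ifs at h2 <;> omega
  have hmP1 : ∀ χ ∈ K.plus, m χ ≤ 1 := fun χ hχ => by
    obtain ⟨μ, hμ⟩ : ∃ μ, 1 ≤ K.cf χ μ := by
      by_contra hc'
      push Not at hc'
      have := hplus2 χ hχ
      rw [Core.ktot, Finset.sum_eq_zero fun μ _ => by have := hc' μ; omega] at this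
      omega
    exact le_trans (Nat.le_mul_of_pos_right _ hμ) (hmcf χ hχ μ)
  set S := K.plus.filter fun χ => m χ ≠ 0 with hSdef
  have hcard : ∑ χ ∈ K.plus, m χ = S.card := by
    rw [hSdef, Finset.card_filter]
    exact Finset.sum_congr rfl fun χ hχ => by have := hmP1 χ hχ; split_ifs <;> omega
  have h2S : 2 * S.card + 1 = K.e := by
    have h := hk
    rw [K.sum_univ, hm1, K.ktot_one, Finset.sum_eq_zero (s := K.minus) fun χ hχ => by
        rw [hmM χ hχ, zero_mul],
      Finset.sum_eq_zero (s := K.Y) fun χ hχ => by rw [hmY χ hχ, zero_mul],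
      Finset.sum_eq_zero (s := K.outs) fun χ hχ => by rw [hmO χ hχ, zero_mul],
      Finset.sum_congr rfl (s₁ := K.plus) (g := fun χ => 2 * m χ) fun χ hχ => by
        rcases Nat.eq_zero_or_pos (m χ) with h0 | h0
        · rw [h0]; simp
        · rw [hmP χ hχ h0.ne', mul_comm],
      ← Finset.mul_sum, hcard] at h
    omega
  refine ⟨ht, ⟨S.card, by omega⟩, ⟨S, Finset.filter_subset _ _, h2S, fun χ hχ => ?_⟩, ?_⟩
  · obtain ⟨hχ', hm0⟩ := Finset.mem_filter.1 hχ
    have hk2 := hmP χ hχ' hm0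
    have hd := K.deg_plus hχ'
    rw [hk2] at hd
    have hm1' : m χ = 1 := by have := hmP1 χ hχ'; omega
    refine ⟨hk2, by omega, ?_, fun μ => by have := hmcf χ hχ' μ; rwa [hm1', one_mul] at this⟩
    have h1 := Finset.single_le_sum (f := fun χ : IrrCharacter G => m χ * K.cf χ 1)
      (fun _ _ => Nat.zero_le _) hχ'
    have h2 := hunit' 1
    rw [if_pos rfl] at h2
    simp only [hm1', one_mul] at h1
    omega
  · have hsq : 2 * ∑ χ : IrrCharacter G, m χ * m χ = K.e + 1 := by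
      rw [K.sum_univ, hm1, Finset.sum_eq_zero (s := K.minus) fun χ hχ => by rw [hmM χ hχ, zero_mul],
        Finset.sum_eq_zero (s := K.Y) fun χ hχ => by rw [hmY χ hχ, zero_mul],
        Finset.sum_eq_zero (s := K.outs) fun χ hχ => by rw [hmO χ hχ, zero_mul],
        Finset.sum_congr rfl (s₁ := K.plus) (g := fun χ => m χ) fun χ hχ => by
          have := hmP1 χ hχ; interval_cases m χ <;> rfl, hcard]
      omega
    rw [H12.classInner_eq_sum_mul hcls hcls]
    simp only [hm, Complex.conj_natCast]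
    exact_mod_cast hsq

/-- With exceptional degree `e` the group has `p + 1` Sylow subgroups and `p + 1` is a power of
two. -/
theorem plus_main (T : Tuan K q b D g₀) (hε : K.ε = 1) (hDe : D = K.e) :
    n = 1 ∧ ∃ m, p + 1 = 2 ^ m := by
  obtain ⟨θ, hθ⟩ := K.Y_nonempty
  obtain ⟨hv, h2e, hp2⟩ := plus_prelim T hε hDe
  obtain ⟨ht, hodd, ⟨S, hS, hScard, hSk⟩, hnorm⟩ := plus_square T hε hDe hθ
  subst hDe
  have he2 := K.two_le_e
  have hpe : p = 2 * K.e + 1 := by
    have h := K.et; rw [ht] at h; have := hp.out.two_le; omega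
  have hkY : ∀ η ∈ K.Y, K.ktot η = 0 := fun η hη => by
    have := K.ktot_Y hη; rw [hv] at this; exact_mod_cast this
  obtain ⟨χ0, hχ0⟩ : S.Nonempty := Finset.card_pos.1 (by omega)
  have hg : g₀ = K.e := by
    obtain ⟨k, hk⟩ := T.dvd
    have hsm := T.small
    have hg0 : g₀ ≠ 0 := fun h => by
      have := T.card; rw [h, mul_zero] at this; exact Nat.card_pos.ne' this
    rcases Nat.lt_or_ge k 2 with h | h
    · interval_cases k <;> omega
    · have := Nat.mul_le_mul_left K.e h; omega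
  subst g₀
  have hdvd : p + 1 ∣ q ^ b := by
    have h := H12.irr_degree_dvd_card χ0
    rw [(hSk χ0 hχ0).2.1, T.card, mul_assoc] at h
    have c1 : Nat.Coprime (p + 1) p := by simp
    have h1 := c1.dvd_of_dvd_mul_left h
    have c2 : Nat.Coprime (p + 1) K.e := by
      rw [show p + 1 = 2 * (K.e + 1) by omega]
      exact Nat.Coprime.mul_left ((Nat.coprime_two_left).2 hodd) (by simp)
    exact c2.dvd_of_dvd_mul_right h1
  obtain ⟨c, hcb, hc⟩ := (Nat.dvd_prime_pow T.prime_q).1 hdvd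
  have hq : q = 2 := by
    refine ((Nat.prime_dvd_prime_iff_eq Nat.prime_two T.prime_q).1
      (Nat.prime_two.dvd_of_dvd_pow (n := c) ?_)).symm
    rw [← hc]; exact ⟨K.e + 1, by omega⟩
  subst q
  have hc0 : 0 < c := Nat.pos_of_ne_zero fun h => by rw [h, pow_zero] at hc; omega
  -- the conjugate exceptional character
  have hrel0 : ∀ η ∈ K.Y, ∀ h : K.E, h ≠ 1 → (η : G → ℂ) h = 0 := fun η hη h hh =>
    K.val_ktot_zero (hkY η hη) hh
  have hconjY : H12.conjIrr θ ∈ K.Y := by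
    have hdeg : H12.degree (H12.conjIrr θ : G → ℂ) = K.e := by
      have h1 : ((H12.degree (H12.conjIrr θ : G → ℂ) : ℕ) : ℂ) = (K.e : ℂ) := by
        rw [← H12.irr_apply_one, H12.conjIrr_apply, H12.irr_apply_one, Complex.conj_natCast,
          T.deg θ hθ]
      exact_mod_cast h1
    by_contra hY
    by_cases hX : H12.conjIrr θ ∈ K.X
    · by_cases hone : H12.conjIrr θ = H12.oneIrr G
      · rw [hone, degree_one] at hdeg; omega
      · have h2 := T.q_dvd_deg hX hone
        rw [hdeg] at h2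
        exact Nat.not_even_iff_odd.2 hodd (even_iff_two_dvd.2 h2)
    · have h := K.deg_outs' (χ := H12.conjIrr θ) (by simp [Core.outs, hX, hY])
      rw [hdeg] at h
      rcases Nat.eq_zero_or_pos (K.ktot (H12.conjIrr θ)) with h0 | h0
      · rw [h0, mul_zero] at h; omega
      · have := Nat.le_mul_of_pos_right p h0; omega
  have hne : H12.conjIrr θ ≠ θ := by
    intro heq
    have hreal : ∀ g, conj ((θ : G → ℂ) g) = (θ : G → ℂ) g := fun g => by
      rw [← H12.conjIrr_apply, heq]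
    set L : G → ℂ := fun g => ((θ : G → ℂ) g * (θ : G → ℂ) g - (θ : G → ℂ) (g * g)) / 2 with hLdef
    have hL : IsCharacter G L := isCharacter_wedge (H12.isCharacter_irr θ)
    have hcls := H12.IsCharacter.isClassFunction hL
    have havg : ∀ h : K.E, h ≠ 1 → K.avg L h = 0 := by
      intro h hh
      rw [K.avg_ne_one hcls hh]
      show ((θ : G → ℂ) h * (θ : G → ℂ) h - (θ : G → ℂ) ((h : G) * h)) / 2 = 0
      have hh2 : h * h ≠ 1 := fun e => by
        have h1 : orderOf h ∣ 2 := orderOf_dvd_of_pow_eq_one (by rw [pow_two]; exact e)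
        have h2 : orderOf h ∣ K.e := K.card_E ▸ orderOf_dvd_natCard h
        have h3 := Nat.dvd_gcd h1 h2
        rw [((Nat.coprime_two_left).2 hodd).gcd_eq_one, Nat.dvd_one, orderOf_eq_one_iff] at h3
        exact hh h3
      rw [show (h : G) * h = ((h * h : K.E) : G) from rfl, hrel0 θ hθ _ hh, hrel0 θ hθ _ hh2]
      ring
    have havg1 : K.avg L 1 = (K.e : ℂ) / 2 := by
      haveI : IsCyclic (K.P : Subgroup G) := isCyclic_of_prime_card K.cardP
      letI := IsCyclic.commGroup (α := (K.P : Subgroup G))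
      have hco : (Nat.card (K.P : Subgroup G)).Coprime 2 := by
        rw [K.card_P']; exact (Nat.coprime_primes hp.out Nat.prime_two).2 hp2
      have hpsq : ∑ x : (K.P : Subgroup G), (θ : G → ℂ) ((x : G) * x) = K.psum θ := by
        refine Eq.trans ?_ (Fintype.sum_bijective (powCoprime hco) (powCoprime hco).bijective
          (fun x => (θ : G → ℂ) ((x : G) * x)) (fun x => (θ : G → ℂ) x) fun x => ?_)
        · rfl
        · show _ = (θ : G → ℂ) ((x ^ 2 : (K.P : Subgroup G)) : G)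
          rw [SubmonoidClass.coe_pow, pow_two]
      rw [K.avg_one]
      have hs : K.psum L = ((∑ x : (K.P : Subgroup G), (θ : G → ℂ) x * conj ((θ : G → ℂ) x)) -
          ∑ x : (K.P : Subgroup G), (θ : G → ℂ) ((x : G) * x)) / 2 := by
        rw [← Finset.sum_sub_distrib, Finset.sum_div]
        refine Finset.sum_congr rfl fun x _ => ?_
        rw [hreal]
      rw [hs, (K.block_facts.2 θ hθ).2, hpsq, (K.block_facts.2 θ hθ).1, T.deg θ hθ, hv,
        inv_mul_eq_iff_eq_mul₀ (Nat.cast_ne_zero.2 hp.out.ne_zero)]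
      push_cast
      ring
    choose m hm using fun χ : IrrCharacter G =>
      H12.IsCharacter.classInner_nat hL (H12.isCharacter_irr χ)
    have h1 := K.inner_pic hcls hm 1
    rw [← K.classInner_avg hcls, K.classInner_const havg1 havg, sub_zero, if_pos rfl, add_zero,
      div_div, mul_comm, ← div_div, div_self (Nat.cast_ne_zero.2 (by omega))] at h1
    have h2 : ((1 : ℕ) : ℂ) = ((2 * ∑ χ : IrrCharacter G, m χ * K.cf χ 1 : ℕ) : ℂ) := by
      rw [Nat.cast_mul, ← h1]; norm_num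
    have := Nat.cast_injective h2
    omega
  have hYeq : K.Y = {θ, H12.conjIrr θ} :=
    (Finset.eq_of_subset_of_card_le (Finset.insert_subset hθ (Finset.singleton_subset_iff.2 hconjY))
      (by rw [K.cardY, ht, Finset.card_pair (Ne.symm hne)])).symm
  -- the square of an exceptional character
  set g : G → ℂ := (θ : G → ℂ) * (θ : G → ℂ) with hgdef
  have hgc : IsCharacter G g := H12.IsCharacter.mul (H12.isCharacter_irr θ) (H12.isCharacter_irr θ)
  have hcls := H12.IsCharacter.isClassFunction hgc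
  have hgavg : ∀ h : K.E, h ≠ 1 → K.avg g h = 0 := fun h hh => by
    rw [K.avg_ne_one hcls hh]
    show (θ : G → ℂ) h * (θ : G → ℂ) h = 0
    rw [hrel0 θ hθ h hh, zero_mul]
  have hgavg1 : K.avg g 1 = 0 := by
    rw [K.avg_one, K.psum_eq]
    have hrew : ∀ x ∈ (Finset.univ : Finset (K.P : Subgroup G)).erase 1,
        g x = -(θ : G → ℂ) x - (θ : G → ℂ) x * conj ((θ : G → ℂ) x) := fun x hx => by
      have h := K.ysum x x.2 fun e => Finset.ne_of_mem_erase hx (Subtype.ext e)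
      rw [hYeq, Finset.sum_pair (Ne.symm hne), hε, H12.conjIrr_apply] at h
      show (θ : G → ℂ) x * (θ : G → ℂ) x = _
      push_cast at h
      linear_combination ((θ : G → ℂ) x) * h
    rw [Finset.sum_congr rfl hrew, Finset.sum_sub_distrib, Finset.sum_neg_distrib]
    have h1 := (K.block_facts.2 θ hθ).1
    have h2 := (K.block_facts.2 θ hθ).2
    rw [← Finset.add_sum_erase _ _ (Finset.mem_univ (1 : (K.P : Subgroup G)))] at h2
    rw [K.psum_eq] at h1
    simp only [OneMemClass.coe_one, H12.irr_apply_one, Complex.conj_natCast, T.deg θ hθ, hv,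
      Int.cast_zero, mul_zero] at h1 h2
    have hg1 : g 1 = (K.e : ℂ) * (K.e : ℂ) := by simp [hgdef, H12.irr_apply_one, T.deg θ hθ]
    rw [hg1, mul_eq_zero]
    right
    push_cast at h2
    have hpe' : (p : ℂ) = 2 * K.e + 1 := by exact_mod_cast hpe
    rw [hpe'] at h2
    linear_combination -h2 - h1
  choose M hM using fun χ : IrrCharacter G =>
    H12.IsCharacter.classInner_nat hgc (H12.isCharacter_irr χ)
  have hMk : ∀ χ, M χ = 0 ∨ K.ktot χ = 0 := fun χ => by
    by_contra hc'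
    push Not at hc'
    obtain ⟨μ, hμ⟩ : ∃ μ, 1 ≤ K.cf χ μ := by
      by_contra hc''
      push Not at hc''
      exact hc'.2 (by rw [Core.ktot, Finset.sum_eq_zero fun μ _ => by have := hc'' μ; omega])
    have h1 := K.inner_pic hcls hM μ
    rw [← K.classInner_avg hcls, K.classInner_const hgavg1 hgavg, sub_zero, zero_div, ite_self,
      add_zero] at h1
    have h2 : ∑ χ : IrrCharacter G, M χ * K.cf χ μ = 0 := by exact_mod_cast h1.symm
    have h3 := Finset.sum_eq_zero_iff.1 h2 χ (Finset.mem_univ _)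
    rcases Nat.mul_eq_zero.1 h3 with h | h
    · exact hc'.1 h
    · omega
  have hMP : ∀ χ ∈ K.plus, M χ = 0 := fun χ hχ => (hMk χ).resolve_right fun h0 => by
    have := K.deg_plus hχ; rw [h0] at this; have := H12.irr_degree_pos χ; omega
  have hMO : ∀ χ ∈ K.outs, M χ = 0 := fun χ hχ => (hMk χ).resolve_right fun h0 => by
    have := K.deg_outs' hχ; rw [h0, mul_zero] at this; exact (H12.irr_degree_pos χ).ne' this
  have hMone : M (H12.oneIrr G) = 0 := (hMk _).resolve_right (by rw [K.ktot_one]; omega)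
  set W := K.minus.filter fun χ => M χ ≠ 0 with hW
  have hWd : ∀ χ ∈ W, K.ktot χ = 0 ∧ H12.degree (χ : G → ℂ) = 2 * K.e := by
    intro χ hχ
    obtain ⟨hm, h2⟩ := Finset.mem_filter.1 hχ
    have h0 := (hMk χ).resolve_left h2
    have h := K.deg_minus hm
    rw [h0, zero_add, one_mul] at h
    exact ⟨h0, by omega⟩
  have hA : ∑ η ∈ K.Y, M η + 2 * ∑ χ ∈ W, M χ = K.e := by
    have h := H12.classFunction_apply_eq_sum hcls 1
    simp only [hM, H12.irr_apply_one] at h
    rw [show g 1 = ((K.e * K.e : ℕ) : ℂ) by simp [hgdef, H12.irr_apply_one, T.deg θ hθ]] at h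
    have h' : ∑ χ : IrrCharacter G, M χ * H12.degree (χ : G → ℂ) = K.e * K.e := by
      exact_mod_cast h.symm
    rw [K.sum_univ, hMone, zero_mul, Finset.sum_eq_zero (s := K.plus) fun χ hχ => by
        rw [hMP χ hχ, zero_mul],
      Finset.sum_eq_zero (s := K.outs) fun χ hχ => by rw [hMO χ hχ, zero_mul],
      ← Finset.sum_filter_of_ne (s := K.minus) (p := fun χ => M χ ≠ 0) fun χ _ h0 hM0 =>
        h0 (by rw [hM0, zero_mul]), ← hW,
      Finset.sum_congr rfl (s₁ := W) fun χ hχ => by rw [(hWd χ hχ).2],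
      Finset.sum_congr rfl (s₁ := K.Y) fun χ hχ => by rw [T.deg χ hχ],
      ← Finset.sum_mul, ← Finset.sum_mul] at h'
    refine Nat.eq_of_mul_eq_mul_right (show 0 < K.e by omega) ?_
    linarith
  have hB : 2 * (∑ η ∈ K.Y, M η * M η + ∑ χ ∈ W, M χ * M χ) = K.e + 1 := by
    have h1 : classInner g g = ((∑ χ : IrrCharacter G, M χ * M χ : ℕ) : ℂ) := by
      rw [H12.classInner_eq_sum_mul hcls hcls]
      simp only [hM, Complex.conj_natCast]
      push_cast
      rfl
    have h2 : classInner g g = classInner ((θ : G → ℂ) * fun x => conj ((θ : G → ℂ) x))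
        ((θ : G → ℂ) * fun x => conj ((θ : G → ℂ) x)) := by
      rw [H12.classInner_def, H12.classInner_def]
      congr 1
      refine Finset.sum_congr rfl fun x _ => ?_
      simp only [hgdef, Pi.mul_apply, map_mul, Complex.conj_conj]
      ring
    have h3 : (2 : ℂ) * ((∑ χ : IrrCharacter G, M χ * M χ : ℕ) : ℂ) = (K.e : ℂ) + 1 := by
      rw [← h1, h2]; exact hnorm
    have h4 : 2 * ∑ χ : IrrCharacter G, M χ * M χ = K.e + 1 := by exact_mod_cast h3
    rw [K.sum_univ, hMone, mul_zero, Finset.sum_eq_zero (s := K.plus) fun χ hχ => by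
        rw [hMP χ hχ, zero_mul],
      Finset.sum_eq_zero (s := K.outs) fun χ hχ => by rw [hMO χ hχ, zero_mul],
      ← Finset.sum_filter_of_ne (s := K.minus) (p := fun χ => M χ ≠ 0) fun χ _ h0 hM0 =>
        h0 (by rw [hM0, zero_mul]), ← hW] at h4
    omega
  have hY2 : ∑ η ∈ K.Y, M η ≤ ∑ η ∈ K.Y, M η * M η :=
    Finset.sum_le_sum fun η _ => Nat.le_mul_self _
  have hW2 : ∑ χ ∈ W, M χ ≤ ∑ χ ∈ W, M χ * M χ := Finset.sum_le_sum fun χ _ => Nat.le_mul_self _
  obtain ⟨e', he'⟩ := id hodd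
  have hWcard : W.card = e' := by
    have h1 : ∀ χ ∈ W, M χ = 1 := by
      intro χ hχ
      have hpos : M χ ≠ 0 := (Finset.mem_filter.1 hχ).2
      by_contra hc'
      have h2 : ∑ ψ ∈ W, M ψ + 2 ≤ ∑ ψ ∈ W, M ψ * M ψ := by
        rw [← Finset.add_sum_erase _ _ hχ, ← Finset.add_sum_erase _ _ hχ]
        have := Finset.sum_le_sum (s := W.erase χ) fun ψ _ => Nat.le_mul_self (M ψ)
        have := Nat.mul_le_mul_right (M χ) (show 2 ≤ M χ by omega)
        omega
      omega
    have h2 : ∑ χ ∈ W, M χ = e' := by omega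
    rw [← h2, Finset.sum_congr rfl h1]
    simp
  have hXcard : K.plus.card + K.minus.card + 1 = K.e := by
    have h := K.sum_X (fun _ => (1 : ℕ))
    simp only [Finset.sum_const, smul_eq_mul, mul_one, K.cardX] at h
    omega
  have hWle := Finset.card_le_card (Finset.filter_subset (fun χ => M χ ≠ 0) K.minus)
  have hSle := Finset.card_le_card hS
  rw [← hW] at hWle
  have hpS : S = K.plus := Finset.eq_of_subset_of_card_le hS (by omega)
  have hmW : W = K.minus := Finset.eq_of_subset_of_card_le (Finset.filter_subset _ _) (by omega)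
  -- values on the complement
  have hmin0 : ∀ χ ∈ K.minus, ∀ h : K.E, h ≠ 1 → (χ : G → ℂ) h = 0 := fun χ hχ h hh =>
    K.val_ktot_zero (hWd χ (hmW ▸ hχ)).1 hh
  have hrel : ∀ h : K.E, h ≠ 1 → ∑ χ ∈ K.plus, (χ : G → ℂ) h = -1 := by
    intro h hh
    have h1 := K.rel θ hθ h (K.reg_of_mem_E h.2)
    rw [hrel0 θ hθ h hh, K.sum_X, K.εX_one, H12.oneIrr_apply,
      Finset.sum_eq_zero (s := K.minus) fun χ hχ => by rw [hmin0 χ hχ h hh, mul_zero],
      Finset.sum_congr rfl (s₁ := K.plus) (g := fun χ : IrrCharacter G => (χ : G → ℂ) h)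
        fun χ hχ => by rw [(Finset.mem_filter.1 hχ).2.2, Int.cast_one, one_mul]] at h1
    push_cast at h1
    linear_combination -h1
  have hkξ : ∀ h : K.E, h ≠ 1 → ∑ ξ ∈ K.outs, (K.ktot ξ : ℂ) * (ξ : G → ℂ) h = 1 := by
    intro h hh
    have h1 := H12.column_orthogonality (h : G) 1
    rw [if_neg fun e => hh (Subtype.ext (isConj_one_left.1 e)), K.sum_univ, H12.oneIrr_apply,
      H12.oneIrr_apply, map_one, mul_one,
      Finset.sum_eq_zero (s := K.minus) fun χ hχ => by rw [hmin0 χ hχ h hh, zero_mul],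
      Finset.sum_eq_zero (s := K.Y) fun χ hχ => by rw [hrel0 χ hχ h hh, zero_mul],
      Finset.sum_congr rfl (s₁ := K.plus)
        (g := fun χ : IrrCharacter G => ((p : ℂ) + 1) * (χ : G → ℂ) h) fun χ hχ => by
          rw [H12.irr_apply_one, Complex.conj_natCast, (hSk χ (hpS ▸ hχ)).2.1]; push_cast; ring,
      ← Finset.mul_sum, hrel h hh,
      Finset.sum_congr rfl (s₁ := K.outs)
        (g := fun χ : IrrCharacter G => (p : ℂ) * ((K.ktot χ : ℂ) * (χ : G → ℂ) h)) fun χ hχ => by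
          rw [H12.irr_apply_one, Complex.conj_natCast, K.deg_outs' hχ]; push_cast; ring,
      ← Finset.mul_sum] at h1
    apply mul_left_cancel₀ (show (p : ℂ) ≠ 0 from Nat.cast_ne_zero.2 hp.out.ne_zero)
    linear_combination h1
  -- the central involution and the centralisers in the complement
  haveI : Fact (Nat.Prime 2) := ⟨Nat.prime_two⟩
  obtain ⟨z, hz, hzC⟩ := exists_sylow_central (G := G) (q := 2) (show 0 < b by omega)
    (by rw [T.card]; exact Dvd.intro (p * K.e) (by ring))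
  have hz1 : z ≠ 1 := fun h => by rw [h, orderOf_one] at hz; omega
  have hzreg : ¬ p ∣ orderOf z := by
    rw [hz]; exact fun h => hp2 ((Nat.prime_dvd_prime_iff_eq hp.out Nat.prime_two).1 h)
  have hplusz : ∀ χ ∈ K.plus, (χ : G → ℂ) z = 0 := fun χ hχ =>
    burnside_zero T.perf (Finset.mem_filter.1 hχ).2.1 hz1
      (((hSk χ (hpS ▸ hχ)).2.1.trans hc) ▸ coprime_centralizer_index T hodd hzC)
  obtain ⟨x, hx, hx1⟩ := exists_ne_one_mem K.cardP
  obtain ⟨cz, hcz⟩ := hzC
  set iz := (Subgroup.centralizer ({z} : Set G)).index with hiz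
  have hciz : 2 ^ b * cz * iz = Nat.card G := by
    rw [← hcz]; exact Subgroup.card_mul_index _
  have hcz0 : 0 < cz := Nat.pos_of_ne_zero fun h => by
    rw [h, mul_zero] at hcz; exact Nat.card_pos.ne' hcz
  have hG0 : (Nat.card G : ℂ) ≠ 0 := Nat.cast_ne_zero.2 Nat.card_pos.ne'
  have hCh : ∀ h : K.E, h ≠ 1 →
      Nat.card (Subgroup.centralizer ({(h : G)} : Set G)) = K.e := by
    intro h hh
    have hh1 : (h : G) ≠ 1 := fun e => hh (Subtype.ext e)
    have h1 := K.classMult_sylow hθ hzreg (K.reg_of_mem_E h.2) hx hx1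
    rw [K.sum_X, K.εX_one, H12.oneIrr_apply, H12.oneIrr_apply, degree_one,
      Finset.sum_eq_zero (s := K.plus) fun χ hχ => by rw [hplusz χ hχ]; simp,
      Finset.sum_eq_zero (s := K.minus) fun χ hχ => by rw [hmin0 χ hχ h hh]; simp,
      hrel0 θ hθ h hh] at h1
    simp only [mul_zero, zero_div, sub_zero, add_zero, Int.cast_one, Nat.cast_one, mul_one,
      div_one] at h1
    set cm := H24.classMult z (h : G) x
    set ih := (Subgroup.centralizer ({(h : G)} : Set G)).index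
    obtain ⟨w, hw⟩ : K.e ∣ Nat.card (Subgroup.centralizer ({(h : G)} : Set G)) := by
      rw [← K.card_E]
      exact Subgroup.card_dvd_of_le fun a ha => Subgroup.mem_centralizer_singleton_iff.2
        (congrArg Subtype.val (K.E_comm ⟨a, ha⟩ h))
    have hcih : K.e * w * ih = Nat.card G := by rw [← hw]; exact Subgroup.card_mul_index _
    have h2 : cm * Nat.card G = iz * ih := by exact_mod_cast h1
    have h3 : cm * (2 ^ b * cz) * (K.e * w) = Nat.card G := by
      refine Nat.eq_of_mul_eq_mul_left (Nat.card_pos (α := G)) ?_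
      calc Nat.card G * (cm * (2 ^ b * cz) * (K.e * w))
          = cm * Nat.card G * ((2 ^ b * cz) * (K.e * w)) := by ring
        _ = iz * ih * ((2 ^ b * cz) * (K.e * w)) := by rw [h2]
        _ = (2 ^ b * cz * iz) * (K.e * w * ih) := by ring
        _ = _ := by rw [hciz, hcih]
    rw [T.card, show cm * (2 ^ b * cz) * (K.e * w) = (2 ^ b * K.e) * (cm * cz * w) by ring,
      show p * 2 ^ b * K.e = (2 ^ b * K.e) * p by ring] at h3
    have h4 : cm * cz * w = p :=
      Nat.eq_of_mul_eq_mul_left (Nat.mul_pos (Nat.two_pow_pos b) (by omega)) h3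
    rcases (Nat.dvd_prime hp.out).1 (Dvd.intro_left _ h4) with hw1 | hw1
    · rw [hw, hw1, mul_one]
    · exfalso
      exact K.not_dvd_card_centralizer hh1 (K.reg_of_mem_E h.2) (hw ▸ hw1 ▸ dvd_mul_left w K.e)
  -- mean square of the characters outside the block
  let V : IrrCharacter G → ℤ := fun ξ =>
    (K.e : ℤ) * ∑ μ : K.E →* ℂˣ, (K.cf ξ μ : ℤ) ^ 2 - (K.ktot ξ : ℤ) ^ 2
  have hVval : ∀ ξ : IrrCharacter G,
      ∑ h ∈ (Finset.univ : Finset K.E).erase 1, (ξ : G → ℂ) h * conj ((ξ : G → ℂ) h) = (V ξ : ℂ) :=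
    fun ξ => by rw [sum_normSq_val]; simp only [V]; push_cast; rfl
  have hVsum : ∑ ξ ∈ K.outs, V ξ = (K.e : ℤ) - 1 := by
    have h : ∀ h ∈ (Finset.univ : Finset K.E).erase 1,
        ∑ χ : IrrCharacter G, (χ : G → ℂ) h * conj ((χ : G → ℂ) h) = (K.e : ℂ) := fun h hh => by
      rw [H12.column_orthogonality, if_pos (IsConj.refl _), hCh h (Finset.ne_of_mem_erase hh)]
    have h' := Finset.sum_congr rfl h
    rw [Finset.sum_comm, Finset.sum_const, Finset.card_erase_of_mem (Finset.mem_univ _),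
      Finset.card_univ, ← Nat.card_eq_fintype_card, K.card_E, nsmul_eq_mul] at h'
    simp only [hVval] at h'
    have h'' : ∑ χ : IrrCharacter G, V χ = ((K.e : ℤ) - 1) * K.e := by
      have h3 : ((∑ χ : IrrCharacter G, V χ : ℤ) : ℂ) = ((((K.e : ℤ) - 1) * K.e : ℤ) : ℂ) := by
        push_cast
        rw [h', Nat.cast_sub (by omega), Nat.cast_one]
      exact_mod_cast h3
    have hV1 : V (H12.oneIrr G) = (K.e : ℤ) - 1 := by
      simp [V, K.ktot_one, K.cf_oneIrr]
    have hVp : ∀ χ ∈ K.plus, V χ = 2 * (K.e : ℤ) - 4 := fun χ hχ => by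
      obtain ⟨hk2, -, -, hle⟩ := hSk χ (hpS ▸ hχ)
      have h2 : ∑ μ : K.E →* ℂˣ, (K.cf χ μ : ℤ) ^ 2 = 2 := by
        have h3 : ∀ μ : K.E →* ℂˣ, (K.cf χ μ : ℤ) ^ 2 = (K.cf χ μ : ℤ) := fun μ => by
          have := hle μ; interval_cases K.cf χ μ <;> norm_num
        rw [Finset.sum_congr rfl fun μ _ => h3 μ, ← Nat.cast_sum]
        exact congrArg Nat.cast hk2
      simp only [V, h2, hk2]
      push_cast; ring
    have hV0 : ∀ χ, K.ktot χ = 0 → V χ = 0 := fun χ h0 => by
      have : ∀ μ, K.cf χ μ = 0 := fun μ => Finset.sum_eq_zero_iff.1 h0 μ (Finset.mem_univ _)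
      simp [V, h0, this]
    rw [K.sum_univ, hV1, Finset.sum_congr rfl hVp, Finset.sum_const, nsmul_eq_mul,
      Finset.sum_eq_zero (s := K.minus) fun χ hχ => hV0 χ (hWd χ (hmW ▸ hχ)).1,
      Finset.sum_eq_zero (s := K.Y) fun χ hχ => hV0 χ (hkY χ hχ), ← hpS] at h''
    have hSc : 2 * (S.card : ℤ) = (K.e : ℤ) - 1 := by omega
    linear_combination h'' - ((K.e : ℤ) - 2) * hSc
  have hV0 : ∀ ξ ∈ K.outs, 0 ≤ V ξ ∧ (V ξ < (K.e : ℤ) - 1 → ∀ h : K.E, h ≠ 1 →
      (ξ : G → ℂ) h = 0) := by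
    intro ξ _
    have hnn : (0 : ℤ) ≤ V ξ := by
      have h1 : (0 : ℝ) ≤ ((V ξ : ℤ) : ℂ).re := by
        rw [← hVval, Complex.re_sum]
        exact Finset.sum_nonneg fun h _ => by
          rw [Complex.mul_conj, Complex.ofReal_re]; exact Complex.normSq_nonneg _
      rw [Complex.intCast_re] at h1
      exact_mod_cast h1
    refine ⟨hnn, fun hlt h hh => ?_⟩
    by_cases hconst : ∃ μ ν, K.cf ξ μ ≠ K.cf ξ ν
    · exfalso
      have h1 := variance_bound (K.cf ξ) hconst
      rw [K.card_hom] at h1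
      zify at h1
      simp only [V] at hlt
      simp only [Core.ktot] at hlt
      push_cast at hlt
      omega
    · push Not at hconst
      rw [K.val_expand ξ hh, Finset.sum_congr rfl fun μ _ => by rw [hconst μ 1], ← Finset.mul_sum]
      have h0 : ∑ μ : K.E →* ℂˣ, (μ h : ℂ) = 0 := by
        have h1 := K.avg_expand (H12.oneIrr G) h
        have h2 := lin_expand K.E_comm (fun a : K.E => if a = 1 then (K.e : ℂ) else 0) h
        rw [if_neg hh] at h2
        rw [h2]
        refine Finset.sum_congr rfl fun μ _ => ?_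
        rw [H12.classInner_def, K.card_E, Finset.sum_eq_single 1 (fun a _ ha => by
          rw [if_neg ha, zero_mul]) (by simp), if_pos rfl, map_one, Units.val_one, map_one, mul_one,
          inv_mul_cancel₀ (Nat.cast_ne_zero.2 (by omega)), one_mul]
      rw [h0, mul_zero]
  obtain ⟨g0, hg0⟩ : ∃ h : K.E, h ≠ 1 := by
    haveI : Nontrivial K.E := Finite.one_lt_card_iff_nontrivial.1 (by rw [K.card_E]; omega)
    exact exists_ne 1
  obtain ⟨ξ0, hξ0, hξ0n⟩ : ∃ ξ ∈ K.outs, (K.e : ℤ) - 1 ≤ V ξ := by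
    by_contra hc'
    push Not at hc'
    have h := hkξ g0 hg0
    rw [Finset.sum_eq_zero fun ξ hξ => by rw [(hV0 ξ hξ).2 (hc' ξ hξ) g0 hg0, mul_zero]] at h
    exact zero_ne_one h
  have hother : ∀ ξ ∈ K.outs, ξ ≠ ξ0 → ∀ h : K.E, h ≠ 1 → (ξ : G → ℂ) h = 0 := by
    intro ξ hξ hne h hh
    refine (hV0 ξ hξ).2 ?_ h hh
    have h1 := Finset.add_le_sum (f := V) (fun χ hχ => (hV0 χ hχ).1) hξ hξ0 hne
    rw [hVsum] at h1
    have : (2 : ℤ) ≤ K.e := by omega
    omega
  have hξval : ∀ h : K.E, h ≠ 1 → (K.ktot ξ0 : ℂ) * (ξ0 : G → ℂ) h = 1 := fun h hh => by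
    rw [← hkξ h hh, Finset.sum_eq_single ξ0 (fun ξ hξ hne => by rw [hother ξ hξ hne h hh, mul_zero])
      (fun h => absurd hξ0 h)]
  have hk1 : K.ktot ξ0 = 1 := by
    have h1 : ((K.ktot ξ0 : ℂ)) ^ 2 * (V ξ0 : ℂ) = ((K.e - 1 : ℕ) : ℂ) := by
      rw [← hVval, Finset.mul_sum, Finset.sum_congr rfl (g := fun _ => (1 : ℂ)) fun h hh => ?_,
        Finset.sum_const, Finset.card_erase_of_mem (Finset.mem_univ _), Finset.card_univ,
        ← Nat.card_eq_fintype_card, K.card_E, nsmul_one]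
      have h2 := hξval h (Finset.ne_of_mem_erase hh)
      have h3 := congrArg conj h2
      rw [map_mul, Complex.conj_natCast, map_one] at h3
      linear_combination h2 + ((K.ktot ξ0 : ℂ) * (ξ0 : G → ℂ) h) * h3
    have hVle := Finset.single_le_sum (f := V) (fun χ hχ => (hV0 χ hχ).1) hξ0
    rw [hVsum] at hVle
    have hV : V ξ0 = (K.e : ℤ) - 1 := by omega
    have h1' : (K.ktot ξ0 : ℤ) ^ 2 * V ξ0 = ((K.e - 1 : ℕ) : ℤ) := by exact_mod_cast h1
    rw [hV, Nat.cast_sub (by omega), Nat.cast_one] at h1'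
    have h2 : (K.ktot ξ0 : ℤ) ^ 2 = 1 :=
      mul_right_cancel₀ (show (K.e : ℤ) - 1 ≠ 0 by omega) (h1'.trans (one_mul _).symm)
    have h3 : K.ktot ξ0 ^ 2 = 1 := by exact_mod_cast h2
    exact (Nat.pow_eq_one.1 h3).resolve_right (by norm_num)
  have hξh : ∀ h : K.E, h ≠ 1 → (ξ0 : G → ℂ) h = 1 := fun h hh => by
    have := hξval h hh; rwa [hk1, Nat.cast_one, one_mul] at this
  have hξd : H12.degree (ξ0 : G → ℂ) = p := by rw [K.deg_outs' hξ0, hk1, mul_one]
  have hzh : ¬ IsConj z (g0 : G) := by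
    intro hc'
    obtain ⟨d, hd⟩ := isConj_iff.1 hc'
    have h1 : orderOf (g0 : G) = 2 := by
      rw [← hd, ← hz, ← orderOf_injective (MulAut.conj d).toMonoidHom (MulEquiv.injective _) z]
      rfl
    have h2 : orderOf (g0 : G) ∣ K.e := K.card_E ▸ Subgroup.orderOf_dvd_natCard _ g0.2
    rw [h1] at h2
    exact Nat.not_even_iff_odd.2 hodd (even_iff_two_dvd.2 h2)
  have hξz : (ξ0 : G → ℂ) z = -1 := by
    have h1 := H12.column_orthogonality z (g0 : G)
    rw [if_neg hzh, K.sum_univ, H12.oneIrr_apply, H12.oneIrr_apply, map_one, mul_one,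
      Finset.sum_eq_zero (s := K.plus) fun χ hχ => by rw [hplusz χ hχ, zero_mul],
      Finset.sum_eq_zero (s := K.minus) fun χ hχ => by rw [hmin0 χ hχ g0 hg0, map_zero, mul_zero],
      Finset.sum_eq_zero (s := K.Y) fun χ hχ => by rw [hrel0 χ hχ g0 hg0, map_zero, mul_zero],
      Finset.sum_eq_single ξ0 (fun ξ hξ hne => by rw [hother ξ hξ hne g0 hg0, map_zero, mul_zero])
        (fun h => absurd hξ0 h), hξh g0 hg0, map_one, mul_one] at h1
    linear_combination h1
  -- the count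
  have h1 := H24.classMult_eq z z (g0 : G)
  rw [K.sum_univ, H12.oneIrr_apply, H12.oneIrr_apply, H12.oneIrr_apply,
    Finset.sum_eq_zero (s := K.plus) fun χ hχ => by rw [hplusz χ hχ]; simp,
    Finset.sum_eq_zero (s := K.minus) fun χ hχ => by rw [hmin0 χ hχ g0 hg0]; simp,
    Finset.sum_eq_zero (s := K.Y) fun χ hχ => by rw [hrel0 χ hχ g0 hg0]; simp,
    Finset.sum_eq_single ξ0 (fun ξ hξ hne => by rw [hother ξ hξ hne g0 hg0]; simp)
      (fun h => absurd hξ0 h), hξh g0 hg0, hξz, H12.irr_apply_one, hξd, ← hiz] at h1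
  simp only [map_one, mul_one, div_one, add_zero, neg_mul, neg_neg, one_mul] at h1
  set cm := H24.classMult z z (g0 : G)
  have hpc : (p : ℂ) ≠ 0 := Nat.cast_ne_zero.2 hp.out.ne_zero
  have h2 : cm * Nat.card G * p = iz * iz * (p + 1) := by
    have h2' : ((cm * Nat.card G * p : ℕ) : ℂ) = ((iz * iz * (p + 1) : ℕ) : ℂ) := by
      push_cast
      rw [h1]
      field_simp
    exact_mod_cast h2'
  have h3 : cm * (2 ^ b * cz) * (2 ^ b * cz) * p = Nat.card G * (p + 1) := by
    refine Nat.eq_of_mul_eq_mul_left (Nat.card_pos (α := G)) ?_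
    calc Nat.card G * (cm * (2 ^ b * cz) * (2 ^ b * cz) * p)
        = cm * Nat.card G * p * ((2 ^ b * cz) * (2 ^ b * cz)) := by ring
      _ = iz * iz * (p + 1) * ((2 ^ b * cz) * (2 ^ b * cz)) := by rw [h2]
      _ = (2 ^ b * cz * iz) * (2 ^ b * cz * iz) * (p + 1) := by ring
      _ = _ := by rw [hciz]; ring
  rw [T.card] at h3
  have h4 : 2 ^ b * (cm * cz * cz) = K.e * 2 ^ c := by
    refine Nat.eq_of_mul_eq_mul_left (Nat.mul_pos hp.out.pos (Nat.two_pow_pos b)) ?_
    rw [← hc]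
    linarith
  have hbc : 2 ^ b ∣ 2 ^ c :=
    ((Nat.Coprime.pow_left _ ((Nat.coprime_two_left).2 hodd))).dvd_of_dvd_mul_left
      (h4 ▸ dvd_mul_right _ _)
  have hbeq : b = c := le_antisymm ((Nat.pow_dvd_pow_iff_le_right (by norm_num)).1 hbc) hcb
  refine ⟨?_, c, hc⟩
  have h5 := T.card_eq
  rw [hbeq, ← hc, mul_comm] at h5
  have h6 := Nat.eq_of_mul_eq_mul_left (show 0 < K.e by omega) h5
  have h7 : n * p = 1 * p := by omega
  exact Nat.eq_of_mul_eq_mul_right hp.out.pos h7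

end H18.BR
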