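import Cfsg.Agent.H18.BrauerTuanLarge
import Cfsg.Agent.H18.BrauerTuanPlus
import Cfsg.Agent.H18.BrauerTuanData
import Cfsg.Agent.H18.BrauerApply

/-!
Brauer–Tuan: simple groups of order `p * q ^ b * g₀` with `g₀ < p - 1`.
-/

set_option autoImplicit false

open Cfsg

namespace H18.BR

universe u

variable {G : Type u} [Group G] [Finite G] [IsSimpleGroup G]

theorem perfect_of_noncyclic (hG : ¬ IsCyclic G) : commutator G = ⊤ := by
  rcases (inferInstance : (commutator G).Normal).eq_bot_or_eq_top with h | h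
  · exfalso
    rw [commutator_eq_bot_iff] at h
    letI : CommGroup G := { (inferInstance : Group G) with mul_comm := h.is_comm.comm }
    exact hG (isCyclic_of_prime_card (α := G) (hp := ⟨IsSimpleGroup.prime_card⟩) rfl)
  · exact h

/-- Brauer–Tuan. -/
theorem brauer_tuan (hG : ¬ IsCyclic G) {p q b g₀ : ℕ} [hp : Fact p.Prime] (hq : q.Prime)
    (hpq : p ≠ q) (hcard : Nat.card G = p * q ^ b * g₀) (hg : g₀ < p - 1) :
    Concl G p ∧ ∃ m, p = 2 ^ m + 1 ∨ p + 1 = 2 ^ m := by
  have hperf := perfect_of_noncyclic hG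
  obtain ⟨P⟩ : Nonempty (Sylow p G) := inferInstance
  have hg0 : 0 < g₀ := Nat.pos_of_ne_zero fun h => by
    rw [h, mul_zero] at hcard; exact Nat.card_pos.ne' hcard
  have hnd : ¬ p ∣ q ^ b * g₀ := by
    intro h
    rcases hp.out.dvd_mul.1 h with h | h
    · exact hpq ((Nat.prime_dvd_prime_iff_eq hp.out hq).1 (hp.out.dvd_of_dvd_pow h))
    · have := Nat.le_of_dvd hg0 h; omega
  have hP : Nat.card P = p := by
    rw [P.card_eq_multiplicity, hcard, mul_assoc]
    have hz : (q ^ b * g₀).factorization p = 0 := Nat.factorization_eq_zero_of_not_dvd hnd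
    rw [Nat.factorization_mul hp.out.ne_zero (by
      intro h; exact hnd (h ▸ dvd_zero p)), Finsupp.add_apply, hz,
      hp.out.factorization_self, pow_one]
  letI := Fintype.ofFinite G
  obtain ⟨n, K, D, hdeg, hdvd, ht, hε⟩ := exists_tuan_core hperf P hP hq hpq hcard hg
  have T : Tuan K q b D g₀ := ⟨hperf, hq, hpq, hcard, hg, hdeg, hdvd, ht⟩
  have key : 2 * n < p + 3 ∧ ∃ m, p = 2 ^ m + 1 ∨ p + 1 = 2 ^ m := by
    rcases hε with ⟨he, hDe⟩ | ⟨he, hDe⟩
    · obtain ⟨hn, m, hm⟩ := plus_main T he hDe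
      have := hp.out.two_le
      exact ⟨by omega, m, Or.inr hm⟩
    · obtain ⟨-, -, -, a, ha0, hea, -⟩ := minus_prelim T he hDe
      have := hp.out.two_le
      by_cases ha : a = 1
      · obtain ⟨h1, m, hm⟩ := minus_two T he hDe (by rw [hea, ha]; rfl)
        exact ⟨by omega, m, Or.inl hm⟩
      · by_cases ht2 : K.t = 2
        · obtain ⟨h1, m, hm⟩ := minus_two_t T he hDe ht2
          exact ⟨by omega, m, Or.inl hm⟩
        · exact (minus_large T he hDe (hea ▸ pow_dvd_pow 2 (show 2 ≤ a by omega))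
            (by omega)).elim
  have hsyl : Nat.card (Sylow p G) = 1 + n * p := K.sylow
  exact ⟨simple_main hperf P hP hsyl fun h => by have := isF_bound h; omega, key.2⟩

end H18.BR
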