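import Cfsg.Agent.H18.BrauerTuanLemmas
import Cfsg.Agent.H18.BrauerTuanData

/-!
Common facts for the two cases of the Brauer–Tuan theorem.
-/

set_option autoImplicit false
set_option linter.unusedSectionVars false

open Cfsg
open scoped ComplexConjugate

namespace H18.BR

universe u

variable {G : Type u} [Group G] [Fintype G] {p : ℕ} [hp : Fact p.Prime] {n : ℕ}

/-- The hypotheses reached after the first step. -/
structure Tuan (K : Core G p n) (q b D g₀ : ℕ) : Prop where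
  perf : commutator G = ⊤
  prime_q : q.Prime
  ne : p ≠ q
  card : Nat.card G = p * q ^ b * g₀
  small : g₀ < p - 1
  deg : ∀ θ ∈ K.Y, H12.degree (θ : G → ℂ) = D
  dvd : D ∣ g₀
  two_le_t : 2 ≤ K.t

theorem card_centralizer_eq_of_isConj {a b : G} (h : IsConj a b) :
    Nat.card (Subgroup.centralizer ({a} : Set G)) = Nat.card (Subgroup.centralizer ({b} : Set G)) := by
  obtain ⟨c, hc⟩ := isConj_iff.1 h
  refine Nat.card_congr ((MulAut.conj c).toEquiv.subtypeEquiv fun x => ?_)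
  rw [Subgroup.mem_centralizer_singleton_iff, Subgroup.mem_centralizer_singleton_iff, ← hc]
  show _ ↔ c * x * c⁻¹ * (c * a * c⁻¹) = c * a * c⁻¹ * (c * x * c⁻¹)
  constructor
  · intro h
    calc c * x * c⁻¹ * (c * a * c⁻¹) = c * (x * a) * c⁻¹ := by group
      _ = c * (a * x) * c⁻¹ := by rw [h]
      _ = _ := by group
  · intro h
    calc x * a = c⁻¹ * (c * x * c⁻¹ * (c * a * c⁻¹)) * c := by group
      _ = c⁻¹ * (c * a * c⁻¹ * (c * x * c⁻¹)) * c := by rw [h]
      _ = _ := by group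

open scoped Classical in
theorem sum_hom_val {A : Type u} [Group A] [Fintype A] (μ : A →* ℂˣ) :
    ∑ a : A, conj (μ a : ℂ) = if μ = 1 then (Nat.card A : ℂ) else 0 := by
  split_ifs with h
  · subst h
    simp [Nat.card_eq_fintype_card]
  · have h1 := H12.classInner_irr (H12.linIrr (1 : A →* ℂˣ)) (H12.linIrr μ)
    rw [if_neg fun e => h (H12.linIrr_injective e).symm, H12.classInner_def] at h1
    simp only [H12.linIrr_apply, MonoidHom.one_apply, Units.val_one, one_mul] at h1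
    rcases mul_eq_zero.1 h1 with h2 | h2
    · exact absurd h2 (inv_ne_zero (Nat.cast_ne_zero.2 Nat.card_pos.ne'))
    · exact h2

namespace Core

variable (K : Core G p n)

open scoped Classical

local notation "P'" => (K.P : Subgroup G)
local notation "N'" => Subgroup.normalizer ((K.P : Subgroup G) : Set G)

/-- The sum of the multiplicities. -/
noncomputable def ktot (χ : IrrCharacter G) : ℕ := ∑ μ : K.E →* ℂˣ, K.cf χ μ

theorem deg_plus {χ : IrrCharacter G} (h : χ ∈ K.plus) :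
    H12.degree (χ : G → ℂ) + p = K.ktot χ * p + 1 := by
  obtain ⟨hX, -, hε⟩ := Finset.mem_filter.1 h
  have h1 := K.sum_cf χ
  rw [K.psum_X hX, hε] at h1
  have h2 : (((H12.degree (χ : G → ℂ) + p : ℕ)) : ℂ) = ((K.ktot χ * p + 1 : ℕ) : ℂ) := by
    simp only [ktot]
    push_cast [Nat.cast_sub hp.out.one_le] at h1 ⊢
    linear_combination -h1
  exact_mod_cast h2

theorem deg_minus {χ : IrrCharacter G} (h : χ ∈ K.minus) :
    H12.degree (χ : G → ℂ) + 1 = (K.ktot χ + 1) * p := by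
  obtain ⟨hX, -, hε⟩ := Finset.mem_filter.1 h
  have h1 := K.sum_cf χ
  rw [K.psum_X hX, hε] at h1
  have h2 : (((H12.degree (χ : G → ℂ) + 1 : ℕ)) : ℂ) = (((K.ktot χ + 1) * p : ℕ) : ℂ) := by
    simp only [ktot]
    push_cast [Nat.cast_sub hp.out.one_le] at h1 ⊢
    linear_combination -h1
  exact_mod_cast h2

theorem deg_outs' {χ : IrrCharacter G} (h : χ ∈ K.outs) :
    H12.degree (χ : G → ℂ) = p * K.ktot χ := K.deg_outs h

theorem ktot_Y {θ : IrrCharacter G} (hθ : θ ∈ K.Y) : (K.ktot θ : ℤ) = K.v := by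
  rw [ktot, Nat.cast_sum]; exact K.sum_cf_Y hθ

theorem ktot_one : K.ktot (H12.oneIrr G) = 1 := by
  simp [ktot, K.cf_oneIrr]

theorem val_ktot_zero {χ : IrrCharacter G} (h0 : K.ktot χ = 0) {h : K.E} (hh : h ≠ 1) :
    (χ : G → ℂ) h = 0 := by
  rw [K.val_expand χ hh]
  refine Finset.sum_eq_zero fun μ _ => ?_
  rw [Finset.sum_eq_zero_iff.1 h0 μ (Finset.mem_univ _)]
  simp

/-- Inner products with the induced characters. -/
theorem inner_pic {f : G → ℂ} (hf : IsClassFunction G f) {m : IrrCharacter G → ℕ}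
    (hm : ∀ χ : IrrCharacter G, classInner f (χ : G → ℂ) = m χ) (μ : K.E →* ℂˣ) :
    classInner f (K.pic μ) = ((∑ χ : IrrCharacter G, m χ * K.cf χ μ : ℕ) : ℂ) := by
  rw [H12.classInner_eq_sum_mul (f' := K.pic μ) hf (H12.indFun_isClassFunction _ _)]
  push_cast
  refine Finset.sum_congr rfl fun χ _ => ?_
  rw [hm, ← H12.conj_classInner, K.cf_spec, Complex.conj_natCast, Complex.conj_natCast]

/-- A function constant on the nontrivial elements of the complement. -/
theorem classInner_const {F : K.E → ℂ} {A c : ℂ} (h1 : F 1 = A) (hc : ∀ h ≠ 1, F h = c)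
    (μ : K.E →* ℂˣ) :
    classInner F (fun h => (μ h : ℂ)) = (A - c) / K.e + (if μ = 1 then c else 0) := by
  have he : (K.e : ℂ) ≠ 0 := Nat.cast_ne_zero.2 (by have := K.two_le_e; omega)
  rw [H12.classInner_def, K.card_E]
  have : ∀ h : K.E, F h * conj (μ h : ℂ) =
      (if h = 1 then A - c else 0) + c * conj (μ h : ℂ) := fun h => by
    split_ifs with hh
    · subst hh; rw [h1, map_one, Units.val_one, map_one]; ring
    · rw [hc h hh, zero_add]
  rw [Finset.sum_congr rfl fun h _ => this h, Finset.sum_add_distrib, Finset.sum_ite_eq',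
    if_pos (Finset.mem_univ _), ← Finset.mul_sum, sum_hom_val, K.card_E]
  split_ifs
  · field_simp
  · field_simp; ring

theorem exists_involution (he : Even K.e) :
    ∃ s : K.E, s ≠ 1 ∧ s * s = 1 ∧ ∀ h : K.E, h * h = 1 → h = 1 ∨ h = s := by
  obtain ⟨s, hs⟩ := exists_prime_orderOf_dvd_card' (G := K.E) 2 (by
    rw [K.card_E]; exact he.two_dvd)
  have hs1 : s ≠ 1 := fun h => by rw [h, orderOf_one] at hs; omega
  have hss : s * s = 1 := by rw [← pow_two, ← hs, pow_orderOf_eq_one]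
  refine ⟨s, hs1, hss, fun h hh => ?_⟩
  by_contra hc
  push Not at hc
  haveI := K.E_cyclic
  have hcard := IsCyclic.card_pow_eq_one_le (α := K.E) (show 0 < 2 by norm_num)
  have hsub : ({1, h, s} : Finset K.E) ⊆ Finset.univ.filter fun a => a ^ 2 = 1 := by
    intro a ha
    simp only [Finset.mem_insert, Finset.mem_singleton] at ha
    rw [Finset.mem_filter, pow_two]
    rcases ha with rfl | rfl | rfl <;> simp [hh, hss]
  have h3 : ({1, h, s} : Finset K.E).card = 3 :=
    Finset.card_eq_three.2 ⟨1, h, s, Ne.symm hc.1, Ne.symm hs1, hc.2, rfl⟩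
  have := Finset.card_le_card hsub
  omega

theorem invert_involution {s : K.E} (hs1 : s ≠ 1) (hss : s * s = 1) {x : G} (hx : x ∈ P') :
    (s : G) * x * (s : G)⁻¹ = x⁻¹ := by
  have hs : (s : G) * s = 1 := congrArg Subtype.val hss
  have hsi : (s : G)⁻¹ = s := inv_eq_of_mul_eq_one_right hs
  have hmem : (s : G) * x * (s : G)⁻¹ ∈ P' :=
    (Subgroup.mem_normalizer_iff.1 (K.E_le s.2) x).1 hx
  have hcomm : (s : G) * x * (s : G)⁻¹ * x = x * ((s : G) * x * (s : G)⁻¹) :=
    congrArg Subtype.val (K.P_comm ⟨_, hmem⟩ ⟨x, hx⟩)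
  by_contra hne
  refine K.not_commute (mul_mem hmem hx) (fun e => hne (eq_inv_of_mul_eq_one_left e)) s.2
    (fun e => hs1 (Subtype.ext e)) ?_
  conv_rhs => rw [hcomm]
  rw [hsi]
  calc (s : G) * x * s * x * s = (s : G) * x * (s * x * s) := by group
    _ = (s : G) * (x * ((s : G) * x * (s : G))) := by group

theorem conj_sP {s : K.E} (hs1 : s ≠ 1) {x : G} (hx : x ∈ P') : IsConj (s : G) (x * s) := by
  obtain ⟨a, -, e⟩ := K.exists_conj s.2 (fun e => hs1 (Subtype.ext e)) hx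
  exact isConj_iff.2 ⟨a, e⟩

theorem le_classMult_involution {s : K.E} (hs1 : s ≠ 1) (hss : s * s = 1) {x : G}
    (hx : x ∈ P') : p ≤ H24.classMult (s : G) s x := by
  refine K.card_P'.ge.trans ?_
  rw [H24.classMult]
  have hsi : (s : G)⁻¹ = s := inv_eq_of_mul_eq_one_right (congrArg Subtype.val hss)
  refine Nat.card_le_card_of_injective (fun y : P' => ⟨((y : G) * s, ((y : G) * s)⁻¹ * x),
    K.conj_sP hs1 y.2, ?_, mul_inv_cancel_left _ _⟩) fun y z e => ?_
  · rw [mul_inv_rev, hsi]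
    have hmem : (s : G) * ((y : G)⁻¹ * x) * (s : G)⁻¹ ∈ P' :=
      (Subgroup.mem_normalizer_iff.1 (K.E_le s.2) _).1 (mul_mem (inv_mem y.2) hx)
    have h := K.conj_sP hs1 hmem
    rwa [show (s : G) * ((y : G)⁻¹ * x) * (s : G)⁻¹ * s = (s : G) * (y : G)⁻¹ * x by group] at h
  · exact Subtype.ext (mul_right_cancel (congrArg Prod.fst (congrArg Subtype.val e)))

theorem conj_of_classMult_pos {s : K.E} (hs : ∀ h : K.E, h * h = 1 → h = 1 ∨ h = s) (hp2 : p ≠ 2)
    {z : G} (hz : orderOf z = 2) {x : G} (hx : x ∈ P') (hx1 : x ≠ 1)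
    (h : H24.classMult z z x ≠ 0) : IsConj (s : G) z := by
  obtain ⟨⟨⟨a, c⟩, ha, hc, hac⟩⟩ : Nonempty {ab : G × G // IsConj z ab.1 ∧ IsConj z ab.2 ∧
      ab.1 * ab.2 = x} := (Nat.card_pos_iff.1 (Nat.pos_of_ne_zero h)).1
  dsimp only at ha hc hac
  have hsq : ∀ w : G, IsConj z w → w * w = 1 := by
    intro w hw
    obtain ⟨d, rfl⟩ := isConj_iff.1 hw
    have hzz : z * z = 1 := by rw [← pow_two, ← hz, pow_orderOf_eq_one]
    rw [show d * z * d⁻¹ * (d * z * d⁻¹) = d * (z * z) * d⁻¹ by group, hzz, mul_one, mul_inv_cancel]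
  have hinv : a * x * a⁻¹ = x⁻¹ := by
    rw [← hac, mul_inv_rev, inv_eq_of_mul_eq_one_right (hsq c hc),
      show a * (a * c) * a⁻¹ = (a * a) * c * a⁻¹ by group, hsq a ha, one_mul]
  have hzp := zpowers_eq_sylow K.cardP hx hx1
  have haN : a ∈ N' := by
    rw [Subgroup.mem_normalizer_iff]
    intro y
    rw [← hzp, Subgroup.mem_zpowers_iff, Subgroup.mem_zpowers_iff]
    constructor
    · rintro ⟨i, rfl⟩
      exact ⟨-i, by rw [← conj_zpow, hinv, inv_zpow, zpow_neg]⟩
    · rintro ⟨i, hi⟩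
      refine ⟨-i, ?_⟩
      have h2 : a * (x ^ (-i)) * a⁻¹ = a * y * a⁻¹ := by
        rw [← hi, ← conj_zpow, hinv, inv_zpow, zpow_neg, inv_inv]
      exact mul_left_cancel (mul_right_cancel h2)
  obtain ⟨w, hw, k, hk, hwk⟩ := K.exists_mul haN
  have hφ := K.exists_proj.choose_spec w ⟨k, hk⟩ (show w * k ∈ N' by rw [hwk]; exact haN) hw
  have hkk : (⟨k, hk⟩ : K.E) * ⟨k, hk⟩ = 1 := by
    conv_lhs => rw [← hφ]
    rw [← map_mul]
    convert map_one K.exists_proj.choose
    exact Subtype.ext (by show w * k * (w * k) = 1; rw [hwk]; exact hsq a ha)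
  rcases hs _ hkk with hk1 | hk1
  · exfalso
    rw [show k = 1 from congrArg Subtype.val hk1, mul_one] at hwk
    have haP : a ∈ P' := hwk ▸ hw
    have h2 : orderOf a = 2 := by
      obtain ⟨d, rfl⟩ := isConj_iff.1 ha
      rw [← hz, ← orderOf_injective (MulAut.conj d).toMonoidHom (MulEquiv.injective _) z]
      rfl
    have h3 := Subgroup.orderOf_dvd_natCard P' haP
    rw [h2, K.card_P'] at h3
    exact hp2 ((Nat.prime_dvd_prime_iff_eq Nat.prime_two hp.out).1 h3).symm
  · have hs1 : s ≠ 1 := fun e => by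
      rw [e] at hk1
      have hk' : k = 1 := congrArg Subtype.val hk1
      rw [hk', mul_one] at hwk
      have h3 := Subgroup.orderOf_dvd_natCard P' (hwk ▸ hw : a ∈ P')
      obtain ⟨d, rfl⟩ := isConj_iff.1 ha
      rw [K.card_P', show orderOf (d * z * d⁻¹) = 2 by
        rw [← hz, ← orderOf_injective (MulAut.conj d).toMonoidHom (MulEquiv.injective _) z]; rfl] at h3
      exact hp2 ((Nat.prime_dvd_prime_iff_eq Nat.prime_two hp.out).1 h3).symm
    have hks : k = (s : G) := congrArg Subtype.val hk1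
    refine (K.conj_sP hs1 hw).trans (ha.trans ?_).symm
    rw [← hwk, hks]

variable {K} {q b D g₀ : ℕ}

theorem _root_.H18.BR.Tuan.card_eq (T : Tuan K q b D g₀) : q ^ b * g₀ = K.e * (1 + n * p) := by
  refine Nat.eq_of_mul_eq_mul_left hp.out.pos ?_
  rw [← mul_assoc, ← T.card, K.card_G, mul_assoc]

theorem _root_.H18.BR.Tuan.D_lt (T : Tuan K q b D g₀) : D < p - 1 := by
  have hg : 0 < g₀ := Nat.pos_of_ne_zero fun h => by
    have := T.card; rw [h, mul_zero] at this; exact Nat.card_pos.ne' this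
  exact lt_of_le_of_lt (Nat.le_of_dvd hg T.dvd) T.small

theorem _root_.H18.BR.Tuan.q_dvd_deg (T : Tuan K q b D g₀) {χ : IrrCharacter G}
    (hX : χ ∈ K.X) (hne : χ ≠ H12.oneIrr G) : q ∣ H12.degree (χ : G → ℂ) := by
  by_contra hq
  set d := H12.degree (χ : G → ℂ) with hd
  have hpd : ¬ p ∣ d := by
    intro h
    rcases K.εX_eq hX with hs | hs
    · have h1 := K.deg_plus (Finset.mem_filter.2 ⟨hX, hne, hs⟩)
      have : p ∣ K.ktot χ * p + 1 := h1 ▸ dvd_add h dvd_rfl
      have := (Nat.dvd_add_right (dvd_mul_left p (K.ktot χ))).1 this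
      exact hp.out.not_dvd_one this
    · have h1 := K.deg_minus (Finset.mem_filter.2 ⟨hX, hne, hs⟩)
      have : p ∣ d + 1 := h1 ▸ dvd_mul_left _ _
      exact hp.out.not_dvd_one ((Nat.dvd_add_right h).1 this)
  have h := H12.irr_degree_dvd_card χ
  rw [← hd, T.card, mul_assoc] at h
  have c1 : Nat.Coprime d p := by rwa [Nat.coprime_comm, hp.out.coprime_iff_not_dvd]
  have c2 : Nat.Coprime d (q ^ b) := Nat.Coprime.pow_right _ (by
    rwa [Nat.coprime_comm, T.prime_q.coprime_iff_not_dvd])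
  have hle : d ≤ g₀ := Nat.le_of_dvd
    (Nat.pos_of_ne_zero fun h0 => by
      have := T.card; rw [h0, mul_zero] at this; exact Nat.card_pos.ne' this)
    (c2.dvd_of_dvd_mul_left (c1.dvd_of_dvd_mul_left h))
  have hsm := T.small
  rcases K.εX_eq hX with hs | hs
  · have h1 := K.deg_plus (Finset.mem_filter.2 ⟨hX, hne, hs⟩)
    have hd1 : d = 1 := by
      rw [← hd] at h1
      rcases Nat.lt_or_ge (K.ktot χ) 2 with hk | hk
      · interval_cases hk' : K.ktot χ <;> omega
      · have := Nat.mul_le_mul_right p hk; omega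
    exact hne (linear_eq_one T.perf hd1)
  · have h1 := K.deg_minus (Finset.mem_filter.2 ⟨hX, hne, hs⟩)
    have := Nat.le_mul_of_pos_left p (show 0 < K.ktot χ + 1 by omega)
    omega

theorem _root_.H18.BR.Tuan.v_eq (T : Tuan K q b D g₀) : (D : ℤ) = K.v * p + K.ε * K.e := by
  obtain ⟨θ, hθ⟩ := K.Y_nonempty
  rw [← T.deg θ hθ]; exact K.deg_v hθ

/-- The relation at the identity. -/
theorem _root_.H18.BR.Tuan.rel_one (T : Tuan K q b D g₀) :
    K.ε * (D : ℤ) = 1 + (∑ χ ∈ K.plus, (H12.degree (χ : G → ℂ) : ℤ) -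
      ∑ χ ∈ K.minus, (H12.degree (χ : G → ℂ) : ℤ)) := by
  obtain ⟨θ, hθ⟩ := K.Y_nonempty
  have h := K.rel θ hθ 1 one_not_dvd_orderOf_one
  simp only [H12.irr_apply_one] at h
  rw [T.deg θ hθ] at h
  have h' : K.ε * (D : ℤ) = ∑ χ ∈ K.X, K.εX χ * (H12.degree (χ : G → ℂ) : ℤ) := by exact_mod_cast h
  rw [h', K.sum_X, K.εX_one, degree_one,
    Finset.sum_congr rfl (s₁ := K.plus) (g := fun χ : IrrCharacter G => (H12.degree (χ : G → ℂ) : ℤ))
      fun χ hχ => by rw [(Finset.mem_filter.1 hχ).2.2, one_mul],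
    Finset.sum_congr rfl (s₁ := K.minus)
      (g := fun χ : IrrCharacter G => -(H12.degree (χ : G → ℂ) : ℤ))
      fun χ hχ => by rw [(Finset.mem_filter.1 hχ).2.2]; ring,
    Finset.sum_neg_distrib]
  push_cast
  ring

end Core

end H18.BR
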