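import Cfsg.Agent.H18.BrauerTuanMinus
import Cfsg.Agent.H18.WedgeChar

/-!
Brauer–Tuan, exceptional degree `p - e`: at most two exceptional characters unless `e = 2`.
-/

set_option autoImplicit false
set_option linter.unusedSectionVars false

open Cfsg
open scoped ComplexConjugate

namespace H18.BR

universe u

variable {G : Type u} [Group G] [Fintype G] [IsSimpleGroup G] {p : ℕ} [hp : Fact p.Prime] {n : ℕ}
variable {K : Core G p n} {q b D g₀ : ℕ}

open scoped Classical

/-- A prime `2 ^ R + 1` with a divisor relation between the parts of `p - 1`. -/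
theorem two_pow_e_eq_one {a j : ℕ} (hp' : Nat.Prime (2 ^ (a + j) + 1)) (ha : 2 ≤ a) (hj : j < a) :
    ∃ k, 2 ^ a = 2 * (a + j) * k := by
  obtain ⟨r, hr⟩ := Nat.pow_of_pow_add_prime (show 1 < 2 by norm_num) (show a + j ≠ 0 by omega) hp'
  have hra : r + 1 ≤ a := by
    by_contra hc
    have h1 : 2 * r ≤ 2 ^ r := by
      clear hr hc
      induction r with
      | zero => simp
      | succ m ih =>
        rw [pow_succ]
        rcases Nat.eq_zero_or_pos m with h | h
        · subst h; simp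
        · omega
    omega
  exact ⟨2 ^ (a - (r + 1)), by rw [hr, ← pow_succ', ← pow_add, Nat.add_sub_cancel' hra]⟩

/-- Squaring on the Sylow subgroup is induced by the normaliser. -/
theorem exists_square_conj (K : Core G p n) (hp2 : p ≠ 2) (h2e : (2 : ZMod p) ^ K.e = 1) :
    ∃ h : K.E, ∀ x : (K.P : Subgroup G), (h : G) * x * (h : G)⁻¹ = (x : G) * x := by
  haveI : IsCyclic (K.P : Subgroup G) := isCyclic_of_prime_card K.cardP
  letI := IsCyclic.commGroup (α := (K.P : Subgroup G))
  have hco : (Nat.card (K.P : Subgroup G)).Coprime 2 := by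
    rw [K.card_P']; exact (Nat.coprime_primes hp.out Nat.prime_two).2 hp2
  let φ : MulAut (K.P : Subgroup G) :=
    MulEquiv.ofBijective (powMonoidHom 2) (powCoprime hco).bijective
  have hφ : ∀ (k : ℕ) (x : (K.P : Subgroup G)), (φ ^ k) x = x ^ (2 ^ k) := by
    intro k
    induction k with
    | zero => intro x; simp
    | succ m ih =>
      intro x
      rw [pow_succ, MulAut.mul_apply, ih, show φ x = x ^ 2 from rfl, ← pow_mul, ← pow_succ']
  have hφe : φ ^ K.e = 1 := by
    refine MulEquiv.ext fun x => ?_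
    rw [hφ, MulAut.one_apply]
    have hm : (2 ^ K.e : ℕ) ≡ 1 [MOD p] := by
      rw [← ZMod.natCast_eq_natCast_iff]; push_cast; exact h2e
    have h1 : x ^ (2 ^ K.e) = x ^ 1 := by
      rw [pow_eq_pow_iff_modEq]
      refine Nat.ModEq.of_dvd ?_ hm
      have := orderOf_dvd_natCard x
      rwa [K.card_P'] at this
    rwa [pow_one] at h1
  haveI : IsCyclic (MulAut (K.P : Subgroup G)) := by
    haveI : IsCyclic (ZMod (Nat.card (K.P : Subgroup G)))ˣ := by
      rw [K.card_P']; exact ZMod.isCyclic_units_prime hp.out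
    exact isCyclic_of_surjective (IsCyclic.mulAutMulEquiv (K.P : Subgroup G)).symm.toMonoidHom
      (IsCyclic.mulAutMulEquiv (K.P : Subgroup G)).symm.surjective
  let ψ := (K.P : Subgroup G).normalizerMonoidHom.comp (Subgroup.inclusion K.E_le)
  have hψ : Function.Injective ψ := by
    rw [← MonoidHom.ker_eq_bot_iff, Subgroup.eq_bot_iff_forall]
    intro y hy
    rw [MonoidHom.mem_ker, MonoidHom.comp_apply, ← MonoidHom.mem_ker,
      Subgroup.normalizerMonoidHom_ker, Subgroup.mem_subgroupOf] at hy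
    have hy' : (y : G) ∈ (K.P : Subgroup G) := by rw [← K.cent]; exact hy
    exact Subtype.ext (K.E_inf hy' y.2)
  haveI : Fintype (MulAut (K.P : Subgroup G)) := Fintype.ofFinite _
  have hsub : Finset.univ.image ψ ⊆ Finset.univ.filter fun u => u ^ K.e = 1 := by
    intro u hu
    obtain ⟨y, -, rfl⟩ := Finset.mem_image.1 hu
    rw [Finset.mem_filter]
    refine ⟨Finset.mem_univ _, ?_⟩
    rw [← map_pow, ← K.card_E, pow_card_eq_one', map_one]
  have heq := Finset.eq_of_subset_of_card_le hsub (by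
    rw [Finset.card_image_of_injective _ hψ, Finset.card_univ, ← Nat.card_eq_fintype_card, K.card_E]
    exact IsCyclic.card_pow_eq_one_le (by have := K.two_le_e; omega))
  have hmem : φ ∈ Finset.univ.filter fun u : MulAut (K.P : Subgroup G) => u ^ K.e = 1 :=
    Finset.mem_filter.2 ⟨Finset.mem_univ _, hφe⟩
  rw [← heq, Finset.mem_image] at hmem
  obtain ⟨h, -, hh⟩ := hmem
  refine ⟨h, fun x => ?_⟩
  have h1 := congrArg Subtype.val (DFunLike.congr_fun hh x)
  refine Eq.trans h1 ?_
  show ((x ^ 2 : (K.P : Subgroup G)) : G) = _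
  rw [SubmonoidClass.coe_pow, pow_two]

/-- Values of the exceptional characters satisfy a common quadratic equation, and at most two
exceptional characters remain. -/
theorem finish_quadratic (K : Core G p n) (hε : K.ε = -1) (hD : ∀ θ ∈ K.Y,
      H12.degree (θ : G → ℂ) = D) (hDe : D + K.e = p) (ht : 3 ≤ K.t) (C : ℤ)
    {x : G} (hx : x ∈ (K.P : Subgroup G)) (hx1 : x ≠ 1)
    (hquad : ∀ η ∈ K.Y, (η : G → ℂ) x * (η : G → ℂ) x - (η : G → ℂ) x = (C : ℂ)) : False := by
  obtain ⟨θ, hθ⟩ := K.Y_nonempty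
  set r0 := (θ : G → ℂ) x with hr0
  have hor : orderOf x = p := orderOf_mem_eq K.cardP hx hx1
  have hroot : ∀ η ∈ K.Y, (η : G → ℂ) x = r0 ∨ (η : G → ℂ) x = 1 - r0 := fun η hη => by
    have h : ((η : G → ℂ) x - r0) * ((η : G → ℂ) x + r0 - 1) = 0 := by
      linear_combination hquad η hη - hquad θ hθ
    rcases mul_eq_zero.1 h with h | h
    · exact .inl (sub_eq_zero.1 h)
    · exact .inr (by linear_combination h)
  set k := (K.Y.filter fun η : IrrCharacter G => (η : G → ℂ) x = r0).card with hk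
  set l := (K.Y.filter fun η : IrrCharacter G => ¬ (η : G → ℂ) x = r0).card with hl
  have hkl : k + l = K.t := by
    rw [hk, hl, Finset.card_filter_add_card_filter_not, K.cardY]
  have hsum : (k : ℂ) * r0 + (l : ℂ) * (1 - r0) = 1 := by
    have h := K.ysum x hx hx1
    rw [hε, ← Finset.sum_filter_add_sum_filter_not K.Y fun η : IrrCharacter G => (η : G → ℂ) x = r0,
      Finset.sum_congr rfl fun η hη => (Finset.mem_filter.1 hη).2,
      Finset.sum_congr rfl (s₁ := K.Y.filter fun η : IrrCharacter G => ¬ (η : G → ℂ) x = r0)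
        (g := fun _ => 1 - r0) fun η hη =>
          (hroot η (Finset.mem_filter.1 hη).1).resolve_left (Finset.mem_filter.1 hη).2,
      Finset.sum_const, Finset.sum_const, ← hk, ← hl, nsmul_eq_mul, nsmul_eq_mul] at h
    push_cast at h
    linear_combination h
  have hkne : k ≠ l := by
    intro h
    rw [h] at hsum
    have hl1 : (l : ℂ) = 1 := by linear_combination hsum
    have : l = 1 := by exact_mod_cast hl1
    omega
  obtain ⟨N, hN⟩ : ∃ N : ℤ, r0 = (N : ℂ) := by
    have hint : IsIntegral ℤ r0 := H12.IsCharacter.isIntegral (H12.isCharacter_irr θ) x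
    have hq : r0 = (((1 - (l : ℚ)) / ((k : ℚ) - l) : ℚ) : ℂ) := by
      push_cast
      rw [eq_div_iff (sub_ne_zero.2 (by exact_mod_cast hkne))]
      linear_combination hsum
    rw [hq] at hint ⊢
    obtain ⟨z, hz⟩ := H12.exists_int_of_isIntegral_rat hint
    exact ⟨z, by rw [← hz]; norm_cast⟩
  have hθN := int_val_congr (H12.isCharacter_irr θ) hor (hr0 ▸ hN : (θ : G → ℂ) x = (N : ℂ))
  rw [hD θ hθ] at hθN
  rcases Nat.eq_zero_or_pos l with hl0 | hl0
  · rw [hl0] at hsum hkl
    have h1 : ((K.t : ℤ) * N : ℂ) = 1 := by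
      rw [hN] at hsum
      have hkt : (k : ℂ) = (K.t : ℂ) := by rw [show k = K.t by omega]
      push_cast at hsum ⊢
      rw [← hkt]; linear_combination hsum
    have h1' : (K.t : ℤ) * N = 1 := by exact_mod_cast h1
    have := Int.eq_one_of_mul_eq_one_right (Int.natCast_nonneg _) h1'
    omega
  · obtain ⟨η, hη⟩ := Finset.card_pos.1 hl0
    obtain ⟨hηY, hne⟩ := Finset.mem_filter.1 hη
    have hv : (η : G → ℂ) x = ((1 - N : ℤ) : ℂ) := by
      rw [(hroot η hηY).resolve_left hne, hN]; push_cast; rfl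
    have hηN := int_val_congr (H12.isCharacter_irr η) hor hv
    rw [hD η hηY] at hηN
    have h2 : (1 : ℤ) ≡ (D : ℤ) + D [ZMOD p] := by
      have := hθN.add hηN
      rwa [show N + (1 - N) = 1 by ring] at this
    have h3 : (p : ℤ) ∣ 2 * (K.e : ℤ) + 1 := by
      have h4 := Int.modEq_iff_dvd.1 h2
      have h5 : (D : ℤ) + K.e = p := by exact_mod_cast hDe
      rw [show (2 * (K.e : ℤ) + 1) = (2 : ℤ) * p - ((D : ℤ) + D - 1) by rw [← h5]; ring]
      exact dvd_sub (dvd_mul_left _ _) h4
    have h6 := Int.le_of_dvd (by positivity) h3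
    have h7 : 3 * K.e ≤ K.e * K.t := by rw [mul_comm 3]; exact Nat.mul_le_mul_left _ ht
    rw [K.et] at h7
    have := K.two_le_e
    omega

/-- More than two exceptional characters force `e = 2`. -/
theorem minus_large (T : Tuan K q b D g₀) (hε : K.ε = -1) (hDe : D + K.e = p) (he4 : 4 ∣ K.e)
    (ht : 3 ≤ K.t) : False := by
  obtain ⟨hgD, hv, hq, a, ha0, hea, hab, -, hc, hD, hp2⟩ := minus_prelim T hε hDe
  subst g₀ q
  have he2 := K.two_le_e
  have hetn : K.e * K.t = p - 1 := K.et
  obtain ⟨θ₀, hθ₀⟩ := K.Y_nonempty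
  obtain ⟨s, hs1, hss, hsu⟩ := K.exists_involution (even_iff_two_dvd.2 ((show 2 ∣ 4 by norm_num).trans he4))
  have hkY : ∀ η ∈ K.Y, K.ktot η = 1 := fun η hη => by
    have := K.ktot_Y hη; rw [hv] at this; exact_mod_cast this
  obtain ⟨μ0, hμ0⟩ : ∃ μ, 1 ≤ K.cf θ₀ μ := by
    by_contra hc
    push Not at hc
    have := hkY θ₀ hθ₀
    rw [Core.ktot, Finset.sum_eq_zero fun μ _ => by have := hc μ; omega] at this
    omega
  have hηθ : ∀ η ∈ K.Y, ∀ μ, K.cf η μ = K.cf θ₀ μ := fun η hη μ => by
    have h1 := K.partition hθ₀ μ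
    have h2 := K.partition hη μ
    rw [hε] at h1 h2
    push_cast at h1 h2
    omega
  have hθ1 : K.cf θ₀ μ0 = 1 := by
    have h1 := Finset.single_le_sum (f := K.cf θ₀) (fun _ _ => Nat.zero_le _) (Finset.mem_univ μ0)
    have h2 := hkY θ₀ hθ₀
    simp only [Core.ktot] at h2
    omega
  have hval : ∀ η ∈ K.Y, ∀ h : K.E, h ≠ 1 → (η : G → ℂ) h = (μ0 h : ℂ) := by
    intro η hη h hh
    rw [K.val_expand η hh, Finset.sum_eq_single μ0 (fun μ _ hμ => ?_) (by simp), hηθ η hη, hθ1,
      Nat.cast_one, one_mul]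
    have h1 := Finset.add_le_sum (f := K.cf θ₀) (fun _ _ => Nat.zero_le _) (Finset.mem_univ μ)
      (Finset.mem_univ μ0) hμ
    have h2 := hkY θ₀ hθ₀
    simp only [Core.ktot] at h2
    have h0 : K.cf θ₀ μ = 0 := by omega
    rw [hηθ η hη μ, h0]; simp
  -- real values on the Sylow subgroup
  have hrealP : ∀ η : IrrCharacter G, ∀ x ∈ (K.P : Subgroup G),
      conj ((η : G → ℂ) x) = (η : G → ℂ) x := fun η x hx => by
    rw [← H12.irr_inv, ← K.invert_involution hs1 hss hx]
    exact H12.irr_isClassFunction η _ _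
  have hconjY : ∀ η ∈ K.Y, H12.conjIrr η ∈ K.Y := by
    intro η hη
    have hdeg : H12.degree (H12.conjIrr η : G → ℂ) = D := by
      have h1 : ((H12.degree (H12.conjIrr η : G → ℂ) : ℕ) : ℂ) = (D : ℂ) := by
        rw [← H12.irr_apply_one, H12.conjIrr_apply, H12.irr_apply_one, Complex.conj_natCast,
          T.deg η hη]
      exact_mod_cast h1
    by_contra hY
    by_cases hX : H12.conjIrr η ∈ K.X
    · by_cases hone : H12.conjIrr η = H12.oneIrr G
      · have h1 : H12.conjIrr (H12.conjIrr η) = H12.oneIrr G := by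
          rw [hone]
          exact Subtype.ext (funext fun g => by rw [H12.conjIrr_apply, H12.oneIrr_apply, map_one])
        rw [H12.conjIrr_conjIrr] at h1
        exact Finset.disjoint_left.1 K.disj K.one_mem (h1 ▸ hη)
      · have h2 := T.q_dvd_deg hX hone
        rw [hdeg] at h2
        exact Nat.not_even_iff_odd.2 hD (even_iff_two_dvd.2 h2)
    · have h := K.deg_outs' (χ := H12.conjIrr η) (by simp [Core.outs, hX, hY])
      rw [hdeg] at h
      have := T.D_lt
      rcases Nat.eq_zero_or_pos (K.ktot (H12.conjIrr η)) with h0 | h0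
      · rw [h0, mul_zero] at h; rw [h] at hD; exact Nat.not_odd_zero hD
      · have := Nat.le_mul_of_pos_right p h0; omega
  have hμreal : ∀ h : K.E, (μ0 h : ℂ) * (μ0 h : ℂ) = 1 := by
    intro h
    by_cases hh : h = 1
    · subst hh; simp
    have h1 := hval _ (hconjY θ₀ hθ₀) h hh
    rw [H12.conjIrr_apply, hval θ₀ hθ₀ h hh, K.conj_lin] at h1
    conv_lhs => arg 1; rw [← h1]
    rw [MonoidHom.inv_apply, ← Units.val_mul, inv_mul_cancel, Units.val_one]
  have hμs : (μ0 s : ℂ) = 1 := by
    obtain ⟨g, hg⟩ := K.E_cyclic.exists_generator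
    have hog : orderOf g = K.e := by
      rw [orderOf_eq_card_of_forall_mem_zpowers hg, K.card_E]
    obtain ⟨c, hc'⟩ := he4
    set w := g ^ c with hw
    have hww : (w * w) * (w * w) = 1 := by
      rw [hw, ← pow_add, ← pow_add, show c + c + (c + c) = K.e by omega, ← hog, pow_orderOf_eq_one]
    have hw1 : w * w ≠ 1 := by
      rw [hw, ← pow_add]
      exact pow_ne_one_of_lt_orderOf (by omega) (by omega)
    rw [← (hsu _ hww).resolve_left hw1, map_mul, Units.val_mul]
    exact hμreal w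
  -- the alternating square of an exceptional character is constant on the Sylow subgroup
  have hC : ∀ η ∈ K.Y, ∃ C : ℤ, ∀ x ∈ (K.P : Subgroup G), x ≠ 1 →
      (η : G → ℂ) x * (η : G → ℂ) x - (η : G → ℂ) (x * x) = (2 * C : ℤ) := by
    intro η hη
    set L : G → ℂ := fun g => ((η : G → ℂ) g * (η : G → ℂ) g - (η : G → ℂ) (g * g)) / 2 with hLdef
    have hL : IsCharacter G L := isCharacter_wedge (H12.isCharacter_irr η)
    have hcls := H12.IsCharacter.isClassFunction hL
    have havg : ∀ h : K.E, h ≠ 1 → K.avg L h = if h = s then ((1 : ℂ) - D) / 2 else 0 := by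
      intro h hh
      rw [K.avg_ne_one hcls hh]
      show ((η : G → ℂ) h * (η : G → ℂ) h - (η : G → ℂ) ((h : G) * h)) / 2 = _
      rw [hval η hη h hh, hμreal]
      by_cases hh2 : h * h = 1
      · rw [if_pos ((hsu h hh2).resolve_left hh), show (h : G) * h = 1 from congrArg Subtype.val hh2,
          H12.irr_apply_one, T.deg η hη]
      · have hne' : h ≠ s := fun e' => hh2 (by rw [e']; exact hss)
        rw [if_neg hne', show (h : G) * h = ((h * h : K.E) : G) from rfl,
          hval η hη _ hh2, map_mul, Units.val_mul, hμreal, sub_self, zero_div]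
    have hpsq : ∑ x : (K.P : Subgroup G), (η : G → ℂ) ((x : G) * x) = K.psum η := by
      haveI : IsCyclic (K.P : Subgroup G) := isCyclic_of_prime_card K.cardP
      letI := IsCyclic.commGroup (α := (K.P : Subgroup G))
      have hco : (Nat.card (K.P : Subgroup G)).Coprime 2 := by
        rw [K.card_P']; exact (Nat.coprime_primes hp.out Nat.prime_two).2 hp2
      refine Eq.trans ?_ (Fintype.sum_bijective (powCoprime hco) (powCoprime hco).bijective
        (fun x => (η : G → ℂ) ((x : G) * x)) (fun x => (η : G → ℂ) x) fun x => ?_)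
      · rfl
      · show _ = (η : G → ℂ) ((x ^ 2 : (K.P : Subgroup G)) : G)
        rw [SubmonoidClass.coe_pow, pow_two]
    have havg1 : K.avg L 1 = ((D : ℂ) - 1) / 2 := by
      rw [K.avg_one]
      have hs : K.psum L = ((∑ x : (K.P : Subgroup G), (η : G → ℂ) x * conj ((η : G → ℂ) x)) -
          ∑ x : (K.P : Subgroup G), (η : G → ℂ) ((x : G) * x)) / 2 := by
        rw [← Finset.sum_sub_distrib, Finset.sum_div]
        refine Finset.sum_congr rfl fun x _ => ?_
        rw [hrealP η x x.2]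
      rw [hs, (K.block_facts.2 η hη).2, hpsq, (K.block_facts.2 η hη).1, T.deg η hη, hv]
      push_cast
      have hpc : (p : ℂ) ≠ 0 := Nat.cast_ne_zero.2 hp.out.ne_zero
      rw [inv_mul_eq_iff_eq_mul₀ hpc]
      have hpe : (p : ℂ) = (D : ℂ) + K.e := by exact_mod_cast hDe.symm
      rw [hpe]; ring
    have hzero : classInner L (K.pic μ0) = 0 := by
      rw [← K.classInner_avg hcls, H12.classInner_def,
        ← Finset.add_sum_erase _ _ (Finset.mem_univ (1 : K.E)), havg1, map_one, Units.val_one,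
        map_one, mul_one,
        Finset.sum_eq_single s (fun h hh hhs => by
          rw [havg h (Finset.ne_of_mem_erase hh), if_neg hhs, zero_mul])
          (fun h => absurd (Finset.mem_erase.2 ⟨hs1, Finset.mem_univ _⟩) h),
        havg s hs1, if_pos rfl, hμs, map_one, mul_one]
      ring
    choose m hm using fun χ : IrrCharacter G =>
      H12.IsCharacter.classInner_nat hL (H12.isCharacter_irr χ)
    have hmY : ∀ ζ ∈ K.Y, m ζ = 0 := fun ζ hζ => by
      have h := K.inner_pic hcls hm μ0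
      rw [hzero] at h
      have h' : ∑ χ : IrrCharacter G, m χ * K.cf χ μ0 = 0 := by exact_mod_cast h.symm
      have := Finset.sum_eq_zero_iff.1 h' ζ (Finset.mem_univ _)
      rwa [hηθ ζ hζ, hθ1, mul_one] at this
    refine ⟨∑ χ ∈ K.X, (m χ : ℤ) * K.εX χ, fun x hx hx1 => ?_⟩
    have h := H12.classFunction_apply_eq_sum hcls x
    simp only [hm] at h
    rw [← Finset.sum_sdiff (Finset.subset_univ (K.X ∪ K.Y)), Finset.sum_union K.disj,
      Finset.sum_eq_zero (s := Finset.univ \ (K.X ∪ K.Y)) fun χ hχ => by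
        obtain ⟨hX, hY⟩ : χ ∉ K.X ∧ χ ∉ K.Y := by simpa using hχ
        rw [K.block_facts.1 χ hX hY ⟨x, hx⟩ fun e => hx1 (congrArg Subtype.val e), mul_zero],
      Finset.sum_eq_zero (s := K.Y) fun χ hχ => by rw [hmY χ hχ, Nat.cast_zero, zero_mul],
      Finset.sum_congr rfl (s₁ := K.X)
        (g := fun χ : IrrCharacter G => (((m χ : ℤ) * K.εX χ : ℤ) : ℂ)) fun χ hχ => by
          rw [K.valX χ hχ x hx hx1]; push_cast; rfl,
      zero_add, add_zero, ← Int.cast_sum] at h
    rw [hLdef] at h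
    push_cast
    push_cast at h
    linear_combination (2 : ℂ) * h
  choose! C hC using hC
  have hCt : ∀ η ∈ K.Y, 2 * C η * (K.t : ℤ) = (K.e : ℤ) * K.t - K.e := by
    intro η hη
    have h1 : ∑ x ∈ (Finset.univ : Finset (K.P : Subgroup G)).erase 1,
        ((η : G → ℂ) x * (η : G → ℂ) x - (η : G → ℂ) ((x : G) * x)) =
        ((p - 1 : ℕ) : ℂ) * ((2 * C η : ℤ) : ℂ) := by
      rw [Finset.sum_congr rfl fun (x : (K.P : Subgroup G)) hx =>
        hC η hη x x.2 fun e => Finset.ne_of_mem_erase hx (Subtype.ext e), Finset.sum_const,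
        K.card_erase, nsmul_eq_mul]
    haveI : IsCyclic (K.P : Subgroup G) := isCyclic_of_prime_card K.cardP
    letI := IsCyclic.commGroup (α := (K.P : Subgroup G))
    have hco : (Nat.card (K.P : Subgroup G)).Coprime 2 := by
      rw [K.card_P']; exact (Nat.coprime_primes hp.out Nat.prime_two).2 hp2
    have hpsq : ∑ x : (K.P : Subgroup G), (η : G → ℂ) ((x : G) * x) = K.psum η := by
      refine Eq.trans ?_ (Fintype.sum_bijective (powCoprime hco) (powCoprime hco).bijective
        (fun x => (η : G → ℂ) ((x : G) * x)) (fun x => (η : G → ℂ) x) fun x => ?_)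
      · rfl
      · show _ = (η : G → ℂ) ((x ^ 2 : (K.P : Subgroup G)) : G)
        rw [SubmonoidClass.coe_pow, pow_two]
    have hsq : ∑ x : (K.P : Subgroup G), (η : G → ℂ) x * (η : G → ℂ) x =
        ((p * K.e : ℕ) : ℂ) + (D : ℂ) ^ 2 - (K.e : ℂ) ^ 2 := by
      have h := (K.block_facts.2 η hη).2
      rw [T.deg η hη] at h
      rw [← h]
      exact Finset.sum_congr rfl fun x _ => by rw [hrealP η x x.2]
    rw [← Finset.add_sum_erase _ _ (Finset.mem_univ (1 : (K.P : Subgroup G)))] at hsq hpsq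
    rw [OneMemClass.coe_one, H12.irr_apply_one, T.deg η hη] at hsq
    rw [OneMemClass.coe_one, mul_one, H12.irr_apply_one, T.deg η hη, (K.block_facts.2 η hη).1,
      hv] at hpsq
    rw [Finset.sum_sub_distrib] at h1
    have hetc : (K.e : ℂ) * K.t = (p : ℂ) - 1 := by
      rw [← Nat.cast_mul, K.et, Nat.cast_sub hp.out.one_le, Nat.cast_one]
    have hpe : (D : ℂ) + K.e = (p : ℂ) := by exact_mod_cast hDe
    have hec : (K.e : ℂ) ≠ 0 := Nat.cast_ne_zero.2 (by omega)
    rw [Nat.cast_sub hp.out.one_le] at h1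
    push_cast at h1 hsq hpsq
    have h2 : ((2 * C η * (K.t : ℤ) : ℤ) : ℂ) = (((K.e : ℤ) * K.t - K.e : ℤ) : ℂ) := by
      push_cast
      apply mul_left_cancel₀ hec
      linear_combination -h1 + hsq - hpsq + ((2 : ℂ) * (C η : ℂ) - (K.e : ℂ)) * hetc + hpe
    exact_mod_cast h2
  -- the arithmetic of `p = 2 ^ (a + j) + 1`
  obtain ⟨j, hja, hj⟩ := (Nat.dvd_prime_pow Nat.prime_two).1 (show K.t ∣ 2 ^ a by
    rw [← hea]
    have h : (K.t : ℤ) ∣ (K.e : ℤ) := ⟨(K.e : ℤ) - 2 * C θ₀, by
      linear_combination hCt θ₀ hθ₀⟩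
    exact Int.natCast_dvd_natCast.1 h)
  have hja' : j < a := by
    refine lt_of_le_of_ne hja fun h => ?_
    subst h
    have h1 := hCt θ₀ hθ₀
    rw [hj, ← hea] at h1
    have h2 : (K.e : ℤ) - 1 = 2 * C θ₀ :=
      mul_left_cancel₀ (show (K.e : ℤ) ≠ 0 by omega) (by linear_combination -h1)
    have h3 : (2 : ℤ) ∣ (K.e : ℤ) := by
      rw [hea, Nat.cast_pow]; exact dvd_pow_self _ (by omega)
    omega
  have hp1 : p = 2 ^ (a + j) + 1 := by
    rw [pow_add, ← hea, ← hj, hetn]; have := hp.out.two_le; omega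
  have ha2 : 2 ≤ a := by
    rcases Nat.lt_or_ge a 2 with h | h
    · exfalso
      rw [hea] at he4
      interval_cases a
      norm_num at he4
    · exact h
  obtain ⟨k, hk⟩ := two_pow_e_eq_one (hp1 ▸ hp.out) ha2 hja'
  have h2e : (2 : ZMod p) ^ K.e = 1 := by
    have h1 : (2 : ZMod p) ^ (a + j) = -1 := by
      refine eq_neg_of_add_eq_zero_left ?_
      have h : ((2 ^ (a + j) + 1 : ℕ) : ZMod p) = ((p : ℕ) : ZMod p) := congrArg _ hp1.symm
      rw [ZMod.natCast_self] at h
      push_cast at h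
      exact h
    rw [hea, hk, pow_mul, mul_comm 2, pow_mul, h1]
    simp
  obtain ⟨h, hh⟩ := exists_square_conj K hp2 h2e
  obtain ⟨x, hx, hx1⟩ := exists_ne_one_mem K.cardP
  refine finish_quadratic K hε T.deg hDe ht (2 * C θ₀) hx hx1 fun η hη => ?_
  have hxx : (η : G → ℂ) (x * x) = (η : G → ℂ) x := by
    rw [← hh ⟨x, hx⟩]
    exact H12.irr_isClassFunction η _ _
  have h1 := hC η hη x hx hx1
  rw [hxx] at h1
  have hCC : C η = C θ₀ := by
    have e1 := (hCt η hη).trans (hCt θ₀ hθ₀).symm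
    have e2 := mul_right_cancel₀ (show (K.t : ℤ) ≠ 0 by omega) e1
    omega
  rwa [hCC] at h1

end H18.BR
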