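import Cfsg.Agent.H18.BrauerMinus
import Cfsg.Agent.H12.Integral

/-!
Tools for the Brauer–Tuan theorem.
-/

set_option autoImplicit false
set_option linter.unusedSectionVars false

open Cfsg
open scoped ComplexConjugate

namespace H18.BR

universe u

variable {G : Type u} [Group G] [Fintype G] {p : ℕ} [hp : Fact p.Prime] {n : ℕ}

theorem center_eq_bot_of_perfect [IsSimpleGroup G] (hperf : commutator G = ⊤) :
    Subgroup.center G = ⊥ := by
  rcases (inferInstance : (Subgroup.center G).Normal).eq_bot_or_eq_top with h | h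
  · exact h
  · exfalso
    have hc : commutator G = ⊥ := by
      rw [commutator_eq_bot_iff]
      exact ⟨⟨fun a b => (Subgroup.mem_center_iff.1 (h ▸ Subgroup.mem_top b) a)⟩⟩
    rw [hperf] at hc
    exact top_ne_bot hc

/-- A nontrivial character vanishes where the class size is prime to the degree. -/
theorem burnside_zero [IsSimpleGroup G] (hperf : commutator G = ⊤) {χ : IrrCharacter G}
    (hχ : χ ≠ H12.oneIrr G) {g : G} (hg : g ≠ 1)
    (hcop : Nat.Coprime (H12.degree (χ : G → ℂ)) (Subgroup.centralizer ({g} : Set G)).index) :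
    (χ : G → ℂ) g = 0 := by
  obtain ⟨d, ρ, hρ, hc⟩ := χ.2
  haveI := hρ
  rw [← hc, H12.degree_character] at hcop
  rw [← hc]
  refine (H12.character_eq_zero_or_norm_eq ρ g hcop).resolve_right fun hn => hg ?_
  obtain ⟨ω, hω⟩ := H12.exists_scalar_of_norm_eq ρ g hn
  have hker : ρ.ker = ⊥ := by
    rcases (MonoidHom.normal_ker ρ).eq_bot_or_eq_top with h | h
    · exact h
    · exfalso
      refine hχ (linear_eq_one hperf ?_)
      have hall : ∀ x, ρ x = 1 := fun x => MonoidHom.mem_ker.1 (h ▸ Subgroup.mem_top x)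
      have h1 := H12.classInner_irr_self χ
      rw [H12.classInner_def, ← hc] at h1
      have hval : ∀ x, ρ.character x = (d : ℂ) := fun x => by
        show LinearMap.trace ℂ _ (ρ x) = _
        rw [hall x, LinearMap.trace_one, Module.finrank_fin_fun]
      simp only [hval, Finset.sum_const, Finset.card_univ, nsmul_eq_mul,
        ← Nat.card_eq_fintype_card, Complex.conj_natCast] at h1
      rw [inv_mul_cancel_left₀ (Nat.cast_ne_zero.2 Nat.card_pos.ne')] at h1
      rw [← hc, H12.degree_character, Module.finrank_fin_fun]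
      exact Nat.eq_one_of_mul_eq_one_right (by exact_mod_cast h1 : d * d = 1)
  have hmem : g ∈ Subgroup.center G := by
    rw [Subgroup.mem_center_iff]
    intro x
    apply (MonoidHom.ker_eq_bot_iff _).1 hker
    rw [map_mul, map_mul, hω]
    apply LinearMap.ext
    intro v
    show (ρ x) (ω • v) = ω • (ρ x) v
    rw [map_smul]
  rwa [center_eq_bot_of_perfect hperf, Subgroup.mem_bot] at hmem

theorem sum_pow_prime {R : Type*} [CommRing R] {ι : Type*} (s : Finset ι) (f : ι → R) :
    ∃ r : R, (∑ i ∈ s, f i) ^ p = ∑ i ∈ s, f i ^ p + (p : R) * r := by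
  classical
  induction s using Finset.induction_on with
  | empty => exact ⟨0, by simp [zero_pow hp.out.ne_zero]⟩
  | insert a s ha ih =>
    obtain ⟨r, hr⟩ := ih
    obtain ⟨r', hr'⟩ := exists_add_pow_prime_eq hp.out (f a) (∑ i ∈ s, f i)
    refine ⟨r + f a * (∑ i ∈ s, f i) * r', ?_⟩
    rw [Finset.sum_insert ha, Finset.sum_insert ha, hr', hr]
    ring

/-- Integral values at elements of order `p` are congruent to the degree. -/
theorem int_val_congr {χ : G → ℂ} (hχ : IsCharacter G χ) {x : G} (hx : orderOf x = p) {r : ℤ}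
    (hr : χ x = (r : ℂ)) : r ≡ (H12.degree χ : ℤ) [ZMOD p] := by
  obtain ⟨d, ρ, rfl⟩ := hχ
  obtain ⟨μ, h1, h2, -⟩ := H12.exists_char_eigenvalues ρ x
  have hsum : ρ.character x = ∑ i, μ i := by simpa using h2 1
  rw [hr] at hsum
  rw [hx] at h1
  have hd : Module.finrank ℂ (Fin d → ℂ) = d := Module.finrank_fin_fun _
  rw [H12.degree_character, hd]
  let R := integralClosure ℤ ℂ
  let μR : Fin (Module.finrank ℂ (Fin d → ℂ)) → R := fun i =>
    ⟨μ i, IsIntegral.of_pow hp.out.pos (by rw [h1 i]; exact isIntegral_one)⟩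
  obtain ⟨e, he⟩ := sum_pow_prime (p := p) Finset.univ μR
  have he' : (∑ i, μ i) ^ p = ∑ i, μ i ^ p + (p : ℂ) * (e : ℂ) := by
    have h := congrArg (fun z : R => (z : ℂ)) he
    simpa [μR] using h
  rw [← hsum, Finset.sum_congr rfl fun i _ => h1 i, Finset.sum_const, Finset.card_univ,
    Fintype.card_fin, hd, nsmul_one] at he'
  have hint : IsIntegral ℤ (((r ^ p - (d : ℤ) : ℤ) : ℂ) / (p : ℂ)) := by
    rw [show ((r ^ p - (d : ℤ) : ℤ) : ℂ) / (p : ℂ) = (e : ℂ) by
      rw [div_eq_iff (Nat.cast_ne_zero.2 hp.out.ne_zero)]; push_cast; linear_combination he']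
    exact e.2
  have hdvd : (p : ℤ) ∣ r ^ p - (d : ℤ) := by
    rcases le_or_gt 0 (r ^ p - (d : ℤ)) with h0 | h0
    · obtain ⟨a, ha⟩ := Int.eq_ofNat_of_zero_le h0
      rw [ha] at hint ⊢
      exact Int.natCast_dvd_natCast.2 (H12.nat_dvd_of_isIntegral_div hp.out.ne_zero
        (by simpa using hint))
    · obtain ⟨a, ha⟩ := Int.eq_ofNat_of_zero_le (show 0 ≤ -(r ^ p - (d : ℤ)) by omega)
      rw [← dvd_neg, ha]
      refine Int.natCast_dvd_natCast.2 (H12.nat_dvd_of_isIntegral_div hp.out.ne_zero ?_)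
      have := hint.neg
      rw [← neg_div, ← Int.cast_neg, ha] at this
      simpa using this
  rw [← ZMod.intCast_eq_intCast_iff]
  have h := (ZMod.intCast_zmod_eq_zero_iff_dvd _ p).2 hdvd
  push_cast at h
  rw [ZMod.pow_card, sub_eq_zero] at h
  simpa using h

namespace Core

variable (K : Core G p n)

open scoped Classical

local notation "P'" => (K.P : Subgroup G)

include K in
theorem not_dvd_card_centralizer {g : G} (hg : g ≠ 1) (hgp : ¬ p ∣ orderOf g) :
    ¬ p ∣ Nat.card (Subgroup.centralizer ({g} : Set G)) := by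
  intro hd
  obtain ⟨x, hx⟩ := exists_prime_orderOf_dvd_card' p hd
  have h1 := K.pow_p_eq_one_of_commute (x := (x : G)) (g := g) (by rw [Subgroup.orderOf_coe, hx])
    (Subgroup.mem_centralizer_singleton_iff.1 x.2).symm
  rcases (Nat.dvd_prime hp.out).1 (orderOf_dvd_of_pow_eq_one h1) with h | h
  · exact hg (orderOf_eq_one_iff.1 h)
  · exact hgp (h ▸ dvd_rfl)

theorem reg_of_mem_E {h : G} (hh : h ∈ K.E) : ¬ p ∣ orderOf h := by
  intro hd
  have h2 := Nat.le_of_dvd (by have := K.two_le_e; omega)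
    (K.card_E ▸ hd.trans (Subgroup.orderOf_dvd_natCard _ hh))
  have := K.e_lt_p
  omega

/-- Exceptional characters agree off the `p`-singular elements. -/
theorem Y_eq {θ η : IrrCharacter G} (hθ : θ ∈ K.Y) (hη : η ∈ K.Y) {g : G} (hg : ¬ p ∣ orderOf g) :
    (η : G → ℂ) g = (θ : G → ℂ) g := by
  have h := (K.rel η hη g hg).trans (K.rel θ hθ g hg).symm
  refine mul_left_cancel₀ ?_ h
  rcases K.ε_eq with h | h <;> rw [h] <;> norm_num

/-- Class multiplication constants at an element of the Sylow subgroup. -/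
theorem classMult_sylow {θ : IrrCharacter G} (hθ : θ ∈ K.Y) {a b x : G} (ha : ¬ p ∣ orderOf a)
    (hb : ¬ p ∣ orderOf b) (hx : x ∈ P') (hx1 : x ≠ 1) :
    (H24.classMult a b x : ℂ) * (Nat.card G : ℂ) =
      ((Subgroup.centralizer ({a} : Set G)).index : ℂ) *
        ((Subgroup.centralizer ({b} : Set G)).index : ℂ) *
        (∑ χ ∈ K.X, (K.εX χ : ℂ) * ((χ : G → ℂ) a * (χ : G → ℂ) b /
            (H12.degree (χ : G → ℂ) : ℂ)) -
          (K.ε : ℂ) * ((θ : G → ℂ) a * (θ : G → ℂ) b / (H12.degree (θ : G → ℂ) : ℂ))) := by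
  rw [H24.classMult_eq]
  congr 1
  rw [← Finset.sum_sdiff (Finset.subset_univ (K.X ∪ K.Y)), Finset.sum_union K.disj,
    Finset.sum_eq_zero (s := Finset.univ \ (K.X ∪ K.Y)) fun χ hχ => ?_, zero_add, sub_eq_add_neg]
  · congr 1
    · refine Finset.sum_congr rfl fun χ hχ => ?_
      rw [K.valX χ hχ x hx hx1, map_intCast, H12.irr_apply_one]
      ring
    · have hd : ∀ η ∈ K.Y, (η : G → ℂ) a * (η : G → ℂ) b * conj ((η : G → ℂ) x) / (η : G → ℂ) 1 =
          (θ : G → ℂ) a * (θ : G → ℂ) b / (H12.degree (θ : G → ℂ) : ℂ) *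
            conj ((η : G → ℂ) x) := fun η hη => by
        rw [K.Y_eq hθ hη ha, K.Y_eq hθ hη hb, K.Y_eq hθ hη one_not_dvd_orderOf_one,
          H12.irr_apply_one]
        ring
      rw [Finset.sum_congr rfl hd, ← Finset.mul_sum, ← map_sum, K.ysum x hx hx1, map_neg,
        map_intCast]
      ring
  · obtain ⟨hX, hY⟩ : χ ∉ K.X ∧ χ ∉ K.Y := by simpa using hχ
    rw [K.block_facts.1 χ hX hY ⟨x, hx⟩ fun e => hx1 (congrArg Subtype.val e), map_zero, mul_zero,
      zero_div]

end Core

/-- A nontrivial element central in a Sylow subgroup. -/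
theorem exists_sylow_central {q b : ℕ} [hq : Fact q.Prime] (hb : 0 < b)
    (h : q ^ b ∣ Nat.card G) :
    ∃ z : G, orderOf z = q ∧ q ^ b ∣ Nat.card (Subgroup.centralizer ({z} : Set G)) := by
  obtain ⟨S⟩ : Nonempty (Sylow q G) := inferInstance
  have hS : q ^ b ∣ Nat.card (S : Subgroup G) := by
    rw [S.card_eq_multiplicity]
    exact pow_dvd_pow q ((hq.out.pow_dvd_iff_le_factorization Nat.card_pos.ne').1 h)
  haveI : Nontrivial (S : Subgroup G) := Finite.one_lt_card_iff_nontrivial.1 (by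
    have := Nat.le_of_dvd Nat.card_pos hS
    have : q ^ 1 ≤ q ^ b := Nat.pow_le_pow_right hq.out.pos hb
    have := hq.out.two_le
    rw [pow_one] at *
    omega)
  haveI := S.isPGroup'.center_nontrivial
  have hpg : IsPGroup q (Subgroup.center (S : Subgroup G)) := S.isPGroup'.to_subgroup _
  obtain ⟨k, hk, hk'⟩ := hpg.nontrivial_iff_card.1 inferInstance
  obtain ⟨z, hz⟩ := exists_prime_orderOf_dvd_card' q (hk' ▸ dvd_pow_self q hk.ne' :
    q ∣ Nat.card (Subgroup.center (S : Subgroup G)))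
  refine ⟨((z : (S : Subgroup G)) : G), by rw [Subgroup.orderOf_coe, Subgroup.orderOf_coe, hz],
    hS.trans (Subgroup.card_dvd_of_le fun s hs => Subgroup.mem_centralizer_singleton_iff.2
      (congrArg Subtype.val (Subgroup.mem_center_iff.1 z.2 ⟨s, hs⟩)))⟩

end H18.BR
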