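import Cfsg.Agent.H18.BrauerTuanBasic

/-!
Brauer–Tuan, exceptional degree `p - e`.
-/

set_option autoImplicit false
set_option linter.unusedSectionVars false

open Cfsg
open scoped ComplexConjugate

namespace H18.BR

universe u

variable {G : Type u} [Group G] [Fintype G] [IsSimpleGroup G] {p : ℕ} [hp : Fact p.Prime] {n : ℕ}
variable {K : Core G p n} {q b D g₀ : ℕ}

open scoped Classical

theorem minus_prelim (T : Tuan K q b D g₀) (hε : K.ε = -1) (hDe : D + K.e = p) :
    g₀ = D ∧ K.v = 1 ∧ q = 2 ∧ ∃ a, 0 < a ∧ K.e = 2 ^ a ∧ a ≤ b ∧ D ∣ 1 + n * p ∧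
      2 ^ b * D = K.e * (1 + n * p) ∧ Odd D ∧ p ≠ 2 := by
  have hp2 := hp.out.two_le
  have he2 := K.two_le_e
  have het := K.et
  have hg : 0 < g₀ := Nat.pos_of_ne_zero fun h => by
    have := T.card; rw [h, mul_zero] at this; exact Nat.card_pos.ne' this
  have h2e : 2 * K.e ≤ p - 1 := by
    rw [← het, mul_comm 2]; exact Nat.mul_le_mul_left _ T.two_le_t
  have hgD : g₀ = D := by
    obtain ⟨k, hk⟩ := T.dvd
    have hsm := T.small
    rcases Nat.lt_or_ge k 2 with h | h
    · interval_cases k <;> simp at hk <;> omega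
    · have := Nat.mul_le_mul_left D h; omega
  have hv : K.v = 1 := by
    have h := T.v_eq
    rw [hε] at h
    have h1 : (D : ℤ) + K.e = p := by exact_mod_cast hDe
    have h2 : (K.v - 1) * (p : ℤ) = 0 := by linear_combination h1 - h
    rcases mul_eq_zero.1 h2 with h | h
    · omega
    · exact absurd h (by exact_mod_cast hp.out.ne_zero)
  have hep : K.e < p := by omega
  have hcop : Nat.Coprime D K.e := by
    have h1 : Nat.Coprime p K.e := (hp.out.coprime_iff_not_dvd).2 fun h => by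
      have := Nat.le_of_dvd (by omega) h; omega
    have h2 : Nat.Coprime (D + K.e) K.e := by rw [hDe]; exact h1
    exact (Nat.coprime_add_self_left).1 h2
  have hc := T.card_eq
  rw [hgD] at hc
  obtain ⟨a, hab, ha⟩ := (Nat.dvd_prime_pow T.prime_q).1
    (hcop.symm.dvd_of_dvd_mul_right (hc ▸ dvd_mul_right _ _ : K.e ∣ q ^ b * D))
  have ha0 : 0 < a := Nat.pos_of_ne_zero fun h => by rw [h, pow_zero] at ha; omega
  have hqe : q ∣ K.e := ha ▸ dvd_pow_self q ha0.ne'
  have hqD1 : q ∣ D + 1 := by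
    have h := T.rel_one
    rw [hε] at h
    have h1 : (q : ℤ) ∣ ∑ χ ∈ K.plus, (H12.degree (χ : G → ℂ) : ℤ) -
        ∑ χ ∈ K.minus, (H12.degree (χ : G → ℂ) : ℤ) := by
      refine dvd_sub (Finset.dvd_sum fun χ hχ => ?_) (Finset.dvd_sum fun χ hχ => ?_) <;>
        exact Int.natCast_dvd_natCast.2
          (T.q_dvd_deg (Finset.mem_filter.1 hχ).1 (Finset.mem_filter.1 hχ).2.1)
    have h2 : (q : ℤ) ∣ ((D + 1 : ℕ) : ℤ) := by
      have e : ((D + 1 : ℕ) : ℤ) = -(∑ χ ∈ K.plus, (H12.degree (χ : G → ℂ) : ℤ) -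
          ∑ χ ∈ K.minus, (H12.degree (χ : G → ℂ) : ℤ)) := by push_cast; linarith
      rw [e]; exact dvd_neg.2 h1
    exact Int.natCast_dvd_natCast.1 h2
  have hq2 : q = 2 := by
    have h1 : q ∣ p + 1 := by
      rw [← hDe, show D + K.e + 1 = (D + 1) + K.e by ring]; exact dvd_add hqD1 hqe
    have h2 : q ∣ p - 1 := het ▸ hqe.mul_right K.t
    have h3 : q ∣ 2 := by
      have := Nat.dvd_sub h1 h2
      rwa [show p + 1 - (p - 1) = 2 by omega] at this
    exact (Nat.prime_dvd_prime_iff_eq T.prime_q Nat.prime_two).1 h3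
  subst hq2
  refine ⟨hgD, hv, rfl, a, ha0, ha, hab, hcop.dvd_of_dvd_mul_left (hc ▸ dvd_mul_left D _), hc,
    ?_, Ne.symm ?_⟩
  · have h2e : 2 ∣ K.e := hqe
    rcases Nat.even_or_odd D with h | h
    · exact absurd (Nat.dvd_gcd h.two_dvd h2e) (by rw [hcop.gcd_eq_one]; norm_num)
    · exact h
  · exact T.ne.symm

/-- A class central in a Sylow `2`-subgroup has odd size. -/
theorem coprime_centralizer_index (T : Tuan K 2 b D D) (hD : Odd D) {z : G}
    (hz : 2 ^ b ∣ Nat.card (Subgroup.centralizer ({z} : Set G))) {j : ℕ} :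
    Nat.Coprime (2 ^ j) (Subgroup.centralizer ({z} : Set G)).index := by
  refine Nat.Coprime.pow_left _ ?_
  rw [Nat.prime_two.coprime_iff_not_dvd]
  intro h2
  have h := (Subgroup.centralizer ({z} : Set G)).card_mul_index
  rw [T.card] at h
  have h1 : 2 ^ b * 2 ∣ p * 2 ^ b * D := h ▸ mul_dvd_mul hz h2
  rw [show p * 2 ^ b * D = 2 ^ b * (p * D) by ring] at h1
  rcases Nat.prime_two.dvd_mul.1 (Nat.dvd_of_mul_dvd_mul_left (Nat.two_pow_pos b) h1) with h3 | h3
  · exact T.ne ((Nat.prime_dvd_prime_iff_eq Nat.prime_two hp.out).1 h3).symm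
  · exact absurd hD (Nat.not_odd_iff_even.2 (even_iff_two_dvd.2 h3))

/-- Values at an involution of the complement. -/
theorem val_involution {s : K.E} (hs1 : s ≠ 1) (hss : s * s = 1) (χ : IrrCharacter G) :
    ∃ r : ℤ, (χ : G → ℂ) s = r ∧ |r| ≤ K.ktot χ := by
  have hσ : ∀ μ : K.E →* ℂˣ, ∃ σ : ℤ, (μ s : ℂ) = σ ∧ |σ| = 1 := by
    intro μ
    have h2 : (μ s : ℂ) * (μ s : ℂ) = 1 := by
      rw [← Units.val_mul, ← map_mul, hss, map_one, Units.val_one]
    rcases mul_self_eq_one_iff.1 h2 with h | h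
    · exact ⟨1, by rw [h]; norm_num, by norm_num⟩
    · exact ⟨-1, by rw [h]; norm_num, by norm_num⟩
  choose σ hσ1 hσ2 using hσ
  refine ⟨∑ μ : K.E →* ℂˣ, (K.cf χ μ : ℤ) * σ μ, ?_, ?_⟩
  · rw [K.val_expand χ hs1]
    push_cast
    exact Finset.sum_congr rfl fun μ _ => by rw [hσ1]
  · refine (Finset.abs_sum_le_sum_abs _ _).trans (le_of_eq ?_)
    simp only [Core.ktot, Nat.cast_sum]
    refine Finset.sum_congr rfl fun μ _ => ?_
    rw [abs_mul, hσ2, mul_one, Nat.abs_cast]

/-- The order bound from a pair of involutions. -/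
theorem two_pow_bound (T : Tuan K 2 b D D) (hε : K.ε = -1) (hv : K.v = 1) (hD : Odd D)
    (hp2 : p ≠ 2) (hb : 0 < b) (he : Even K.e)
    (hminus : ∀ χ ∈ K.minus, K.ktot χ = 0 ∧ ∃ j, H12.degree (χ : G → ℂ) = 2 ^ j)
    {N : ℕ} (hplus : ∀ χ ∈ K.plus, K.ktot χ = 2 ∧ H12.degree (χ : G → ℂ) = 2 * D)
    (hN : 2 * D + 4 * K.plus.card + 2 ≤ 2 * N) : 2 ^ b ≤ N := by
  haveI : Fact (Nat.Prime 2) := ⟨Nat.prime_two⟩
  obtain ⟨θ, hθ⟩ := K.Y_nonempty
  obtain ⟨s, hs1, hss, hsu⟩ := K.exists_involution he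
  obtain ⟨z, hz, hzC⟩ := exists_sylow_central (G := G) (q := 2) hb
    (by rw [T.card]; exact Dvd.intro (p * D) (by ring))
  obtain ⟨x, hx, hx1⟩ := exists_ne_one_mem K.cardP
  have hzreg : ¬ p ∣ orderOf z := by
    rw [hz]; exact fun h => hp2 ((Nat.prime_dvd_prime_iff_eq hp.out Nat.prime_two).1 h)
  have hz1 : z ≠ 1 := fun h => by rw [h, orderOf_one] at hz; omega
  have hDc : (D : ℂ) ≠ 0 := Nat.cast_ne_zero.2 fun h => by
    have h' := hD; rw [h] at h'; exact (Nat.not_odd_zero h').elim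
  have hzinv : z⁻¹ = z := inv_eq_of_mul_eq_one_right (by rw [← pow_two, ← hz, pow_orderOf_eq_one])
  -- the central involution is conjugate to the one in the complement
  have hne : H24.classMult z z x ≠ 0 := by
    intro h0
    have h := K.classMult_sylow hθ hzreg hzreg hx hx1
    rw [h0, Nat.cast_zero, zero_mul] at h
    have hS := (mul_eq_zero.1 h.symm).resolve_left (mul_ne_zero
      (Nat.cast_ne_zero.2 Subgroup.index_ne_zero_of_finite)
      (Nat.cast_ne_zero.2 Subgroup.index_ne_zero_of_finite))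
    rw [K.sum_X, K.εX_one, H12.oneIrr_apply, degree_one, hε,
      Finset.sum_eq_zero (s := K.minus) fun χ hχ => by
        obtain ⟨-, j, hj⟩ := hminus χ hχ
        rw [burnside_zero T.perf (Finset.mem_filter.1 hχ).2.1 hz1
          (hj ▸ coprime_centralizer_index T hD hzC)]
        simp] at hS
    have hre := congrArg Complex.re hS
    have hnn : ∀ χ : IrrCharacter G,
        0 ≤ ((χ : G → ℂ) z * (χ : G → ℂ) z / (H12.degree (χ : G → ℂ) : ℂ)).re := fun χ => by
      have hreal : conj ((χ : G → ℂ) z) = (χ : G → ℂ) z := by rw [← H12.irr_inv, hzinv]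
      nth_rw 2 [← hreal]
      rw [Complex.mul_conj, Complex.div_natCast_re, Complex.ofReal_re]
      exact div_nonneg (Complex.normSq_nonneg _) (Nat.cast_nonneg _)
    have hpl : (0 : ℝ) ≤ (∑ χ ∈ K.plus, (K.εX χ : ℂ) * ((χ : G → ℂ) z * (χ : G → ℂ) z /
        (H12.degree (χ : G → ℂ) : ℂ))).re := by
      rw [Complex.re_sum]
      exact Finset.sum_nonneg fun χ hχ => by
        rw [(Finset.mem_filter.1 hχ).2.2, Int.cast_one, one_mul]; exact hnn χ
    simp only [Nat.cast_one, Int.cast_one, mul_one, div_one, add_zero, Int.cast_neg,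
      neg_mul, one_mul, sub_neg_eq_add, Complex.add_re, Complex.one_re, Complex.zero_re] at hre
    linarith [hnn θ]
  have hconj := K.conj_of_classMult_pos hsu hp2 hz hx hx1 hne
  -- the count at the involution of the complement
  have hsreg := K.reg_of_mem_E s.2
  choose r hr hrk using fun χ : IrrCharacter G => val_involution hs1 hss χ
  set c := Nat.card (Subgroup.centralizer ({(s : G)} : Set G)) with hcdef
  set i := (Subgroup.centralizer ({(s : G)} : Set G)).index with hidef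
  have hci : c * i = Nat.card G := Subgroup.card_mul_index _
  have h := K.classMult_sylow hθ hsreg hsreg hx hx1
  have hθs : (θ : G → ℂ) s * (θ : G → ℂ) s = 1 := by
    obtain ⟨μ, hμ⟩ : ∃ μ : K.E →* ℂˣ, (θ : G → ℂ) s = (μ s : ℂ) := by
      have hk := K.ktot_Y hθ
      rw [hv] at hk
      obtain ⟨μ, hμ⟩ : ∃ μ, K.cf θ μ = 1 := by
        by_contra hc
        push Not at hc
        have h0 : ∀ μ, K.cf θ μ = 0 := fun μ => by
          have := Finset.single_le_sum (f := K.cf θ) (fun _ _ => Nat.zero_le _) (Finset.mem_univ μ)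
          have := hc μ
          simp only [Core.ktot] at hk
          omega
        simp [Core.ktot, h0] at hk
      refine ⟨μ, ?_⟩
      rw [K.val_expand θ hs1, Finset.sum_eq_single μ (fun ν _ hν => ?_) (by simp), hμ, Nat.cast_one,
        one_mul]
      have := Finset.add_le_sum (f := K.cf θ) (fun _ _ => Nat.zero_le _) (Finset.mem_univ μ)
        (Finset.mem_univ ν) hν.symm
      simp only [Core.ktot] at hk
      have h0 : K.cf θ ν = 0 := by omega
      simp [h0]
    rw [hμ, ← Units.val_mul, ← map_mul, hss, map_one, Units.val_one]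
  rw [← hidef, K.sum_X, K.εX_one, H12.oneIrr_apply, degree_one, hε,
    Finset.sum_eq_zero (s := K.minus) fun χ hχ => by
      rw [K.val_ktot_zero (hminus χ hχ).1 hs1]; simp,
    Finset.sum_congr rfl (s₁ := K.plus) (g := fun χ : IrrCharacter G =>
      ((r χ ^ 2 : ℤ) : ℂ) / (2 * (D : ℂ))) fun χ hχ => by
        rw [(Finset.mem_filter.1 hχ).2.2, (hplus χ hχ).2, hr]
        push_cast; ring,
    hθs, T.deg θ hθ] at h
  set cm := H24.classMult (s : G) s x with hcmdef
  have key : ((cm * c * c * (2 * D) : ℕ) : ℂ) =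
      (((Nat.card G : ℤ) * (2 * D + 2 + ∑ χ ∈ K.plus, r χ ^ 2) : ℤ) : ℂ) := by
    rw [← Finset.sum_div] at h
    have hi : ((c : ℂ) * (i : ℂ)) = (Nat.card G : ℂ) := by rw [← Nat.cast_mul, hci]
    have hG0 : (Nat.card G : ℂ) ≠ 0 := Nat.cast_ne_zero.2 Nat.card_pos.ne'
    apply mul_left_cancel₀ hG0
    push_cast
    push_cast at h
    field_simp at h
    linear_combination (c : ℂ) ^ 2 * h +
      ((c : ℂ) * i + (Nat.card G : ℂ)) * (2 * (D : ℂ) + 2 + ∑ χ ∈ K.plus, (r χ : ℂ) ^ 2) * hi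
  have key' : ((cm * c * c * (2 * D) : ℕ) : ℤ) =
      (Nat.card G : ℤ) * (2 * D + 2 + ∑ χ ∈ K.plus, r χ ^ 2) := by exact_mod_cast key
  have hsum : ∑ χ ∈ K.plus, r χ ^ 2 ≤ 4 * (K.plus.card : ℤ) := by
    refine (Finset.sum_le_card_nsmul _ _ (4 : ℤ) fun χ hχ => ?_).trans (by rw [nsmul_eq_mul]; linarith)
    have h1 : |r χ| ≤ 2 := by have := hrk χ; rw [(hplus χ hχ).1] at this; exact_mod_cast this
    rw [← sq_abs]
    nlinarith [abs_nonneg (r χ)]
  have hcm : p ≤ cm := K.le_classMult_involution hs1 hss hx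
  have hc : 2 ^ b ≤ c := by
    rw [hcdef, card_centralizer_eq_of_isConj hconj]; exact Nat.le_of_dvd Nat.card_pos hzC
  have h1 : p * 2 ^ b * 2 ^ b * (2 * D) ≤ cm * c * c * (2 * D) :=
    Nat.mul_le_mul_right _ (Nat.mul_le_mul (Nat.mul_le_mul hcm hc) hc)
  rw [T.card] at key'
  zify at h1 hN
  push_cast at key' h1
  have hpos : (0 : ℤ) < (p : ℤ) * 2 ^ b * D := by
    have : 0 < D := hD.pos
    have := hp.out.pos
    positivity
  have h2 : (p : ℤ) * 2 ^ b * D * (2 * 2 ^ b) ≤ (p : ℤ) * 2 ^ b * D * (2 * N) := by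
    have h3 : (p : ℤ) * 2 ^ b * D * (2 * D + 2 + ∑ χ ∈ K.plus, r χ ^ 2) ≤
        (p : ℤ) * 2 ^ b * D * (2 * N) := mul_le_mul_of_nonneg_left (by linarith) hpos.le
    linarith
  have h4 := le_of_mul_le_mul_left h2 hpos
  exact_mod_cast (by linarith : (2 : ℤ) ^ b ≤ N)

/-- The case `e = 2`. -/
theorem minus_two (T : Tuan K q b D g₀) (hε : K.ε = -1) (hDe : D + K.e = p) (he : K.e = 2) :
    2 * n + 3 ≤ p ∧ ∃ m, p = 2 ^ m + 1 := by
  obtain ⟨hgD, hv, hq, a, ha0, hea, hab, -, hc, hD, hp2⟩ := minus_prelim T hε hDe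
  subst g₀ q
  have hX : K.plus.card + K.minus.card = 1 := by
    have h := K.sum_X (fun _ => (1 : ℕ))
    simp only [Finset.sum_const, smul_eq_mul, mul_one, K.cardX, he] at h
    omega
  have hrel := T.rel_one
  rw [hε] at hrel
  have hminus0 : K.plus = ∅ := by
    by_contra hne
    have h1 : K.minus = ∅ := Finset.card_eq_zero.1 (by
      have := Finset.card_pos.2 (Finset.nonempty_iff_ne_empty.2 hne); omega)
    rw [h1, Finset.sum_empty, sub_zero] at hrel
    have := Finset.sum_nonneg (s := K.plus)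
      (f := fun χ : IrrCharacter G => (H12.degree (χ : G → ℂ) : ℤ)) fun χ _ => Int.natCast_nonneg _
    omega
  obtain ⟨χ, hχ⟩ := Finset.card_eq_one.1 (by rw [hminus0] at hX; simpa using hX : K.minus.card = 1)
  rw [hminus0, hχ, Finset.sum_empty, Finset.sum_singleton] at hrel
  have hχm : χ ∈ K.minus := hχ ▸ Finset.mem_singleton_self χ
  have hd : H12.degree (χ : G → ℂ) = D + 1 := by omega
  have hk : K.ktot χ = 0 := by
    have h1 := K.deg_minus hχm
    rw [hd] at h1
    by_contra hk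
    have := Nat.mul_le_mul_right p (show 2 ≤ K.ktot χ + 1 by omega)
    omega
  obtain ⟨j, hjb, hj⟩ := (Nat.dvd_prime_pow Nat.prime_two).1 (show D + 1 ∣ 2 ^ b by
    have h := H12.irr_degree_dvd_card χ
    rw [hd, T.card, mul_assoc] at h
    have c1 : Nat.Coprime (D + 1) p := by
      rw [Nat.coprime_comm, hp.out.coprime_iff_not_dvd]
      intro h; have := Nat.le_of_dvd (by omega) h; omega
    exact (show Nat.Coprime (D + 1) D by simp).dvd_of_dvd_mul_right (c1.dvd_of_dvd_mul_left h))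
  have hb : 2 ^ b ≤ D + 1 := two_pow_bound T hε hv hD hp2 (by omega) ⟨1, he⟩
    (fun ψ hψ => by
      rw [hχ, Finset.mem_singleton] at hψ; subst hψ; exact ⟨hk, j, hd.trans hj⟩)
    (fun ψ hψ => by simp [hminus0] at hψ) (by rw [hminus0]; simp; omega)
  refine ⟨?_, j, by omega⟩
  rw [he] at hc
  have h1 : 2 * (1 + n * p) ≤ (D + 1) * D := hc ▸ Nat.mul_le_mul_right D hb
  by_contra hlt
  have h2 : (p - 2) * p ≤ 2 * n * p := Nat.mul_le_mul_right p (by omega)
  rw [show D = p - 2 by omega] at h1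
  obtain ⟨r, hr⟩ : ∃ r, p = r + 2 := ⟨p - 2, by omega⟩
  subst hr
  simp only [Nat.add_sub_cancel] at h1 h2
  nlinarith

/-- The norm and constituents of `θ θ̄` when `t = 2`. -/
theorem minus_two_t_square (T : Tuan K q b D g₀) (hε : K.ε = -1) (hDe : D + K.e = p)
    (ht : K.t = 2) {θ : IrrCharacter G} (hθ : θ ∈ K.Y) :
    (∃ S : Finset (IrrCharacter G), S ⊆ K.plus ∧ 2 * S.card + 2 = K.e ∧
      ∀ χ ∈ S, K.ktot χ = 2 ∧ H12.degree (χ : G → ℂ) = 2 * D) ∧
    2 * classInner ((θ : G → ℂ) * fun g => conj ((θ : G → ℂ) g))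
        ((θ : G → ℂ) * fun g => conj ((θ : G → ℂ) g)) = (K.e : ℂ) + 4 := by
  obtain ⟨hgD, hv, hq, a, ha0, hea, hab, -, hc, hD, hp2⟩ := minus_prelim T hε hDe
  subst g₀ q
  have he2 := K.two_le_e
  have hpe : p = 2 * K.e + 1 := by have := K.et; rw [ht] at this; omega
  have hDe1 : D = K.e + 1 := by omega
  have hkY : ∀ η ∈ K.Y, K.ktot η = 1 := fun η hη => by
    have := K.ktot_Y hη; rw [hv] at this; exact_mod_cast this
  set f : G → ℂ := (θ : G → ℂ) * fun g => conj ((θ : G → ℂ) g) with hfdef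
  have hf : IsCharacter G f :=
    H12.IsCharacter.mul (H12.isCharacter_irr θ) (H12.isCharacter_irr (H12.conjIrr θ))
  obtain ⟨μ0, hμ0⟩ : ∃ μ, 1 ≤ K.cf θ μ := by
    by_contra hc
    push Not at hc
    have := hkY θ hθ
    rw [Core.ktot, Finset.sum_eq_zero fun μ _ => by have := hc μ; omega] at this
    omega
  have hθ0 : ∀ μ, μ ≠ μ0 → K.cf θ μ = 0 := fun μ hμ => by
    have h1 := Finset.add_le_sum (f := K.cf θ) (fun _ _ => Nat.zero_le _) (Finset.mem_univ μ)
      (Finset.mem_univ μ0) hμ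
    have h2 := hkY θ hθ
    simp only [Core.ktot] at h2
    omega
  have hθ1 : K.cf θ μ0 = 1 := by
    have h1 := Finset.single_le_sum (f := K.cf θ) (fun _ _ => Nat.zero_le _) (Finset.mem_univ μ0)
    have h2 := hkY θ hθ
    simp only [Core.ktot] at h2
    omega
  have hηθ : ∀ η ∈ K.Y, ∀ μ, K.cf η μ = K.cf θ μ := fun η hη μ => by
    have h1 := K.partition hθ μ
    have h2 := K.partition hη μ
    rw [hε] at h1 h2
    push_cast at h1 h2
    omega
  have hθval : ∀ h : K.E, h ≠ 1 → (θ : G → ℂ) h = (μ0 h : ℂ) := fun h hh => by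
    rw [K.val_expand θ hh, Finset.sum_eq_single μ0 (fun μ _ hμ => by simp [hθ0 μ hμ]) (by simp),
      hθ1, Nat.cast_one, one_mul]
  have hfavg : ∀ h : K.E, h ≠ 1 → K.avg f h = 1 := fun h hh => by
    rw [K.avg_ne_one (H12.IsCharacter.isClassFunction hf) hh]
    show (θ : G → ℂ) h * conj ((θ : G → ℂ) h) = 1
    rw [hθval h hh, K.conj_lin, MonoidHom.inv_apply, ← Units.val_mul, mul_inv_cancel,
      Units.val_one]
  have hfavg1 : K.avg f 1 = (D : ℂ) := by
    rw [K.avg_one]
    have hs : K.psum f = ∑ x : (K.P : Subgroup G), (θ : G → ℂ) x * conj ((θ : G → ℂ) x) := rfl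
    rw [hs, (K.block_facts.2 θ hθ).2, T.deg θ hθ, hDe1]
    have : (K.e : ℂ) * 2 + 1 ≠ 0 := by exact_mod_cast (Nat.succ_ne_zero (K.e * 2))
    push_cast
    rw [show (p : ℂ) = 2 * K.e + 1 by exact_mod_cast hpe,
      inv_mul_eq_iff_eq_mul₀ (show (2 : ℂ) * K.e + 1 ≠ 0 by rwa [mul_comm])]
    ring
  choose m hm using fun χ : IrrCharacter G =>
    H12.IsCharacter.classInner_nat hf (H12.isCharacter_irr χ)
  have hcls := H12.IsCharacter.isClassFunction hf
  have hunit : ∀ μ, ∑ χ : IrrCharacter G, m χ * K.cf χ μ = if μ = 1 then 2 else 1 := by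
    intro μ
    have h1 := K.inner_pic hcls hm μ
    rw [← K.classInner_avg hcls, K.classInner_const hfavg1 hfavg, hDe1, Nat.cast_add, Nat.cast_one,
      add_sub_cancel_right, div_self (Nat.cast_ne_zero.2 (by omega))] at h1
    by_cases hμ : μ = 1
    · rw [if_pos hμ] at h1 ⊢; exact_mod_cast (h1.symm.trans (by norm_num : (1 : ℂ) + 1 = ((2 : ℕ) : ℂ)))
    · rw [if_neg hμ] at h1 ⊢; exact_mod_cast (h1.symm.trans (by norm_num : (1 : ℂ) + 0 = ((1 : ℕ) : ℂ)))
  have hm1 : m (H12.oneIrr G) = 1 := by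
    have h := H12.classInner_irr_self θ
    rw [H12.classInner_def] at h
    have h' := hm (H12.oneIrr G)
    rw [H12.classInner_def] at h'
    simp only [hfdef, Pi.mul_apply, H12.oneIrr_apply, map_one, mul_one] at h'
    exact_mod_cast h'.symm.trans h
  have hdeg : ∑ χ : IrrCharacter G, m χ * H12.degree (χ : G → ℂ) = D * D := by
    have h := H12.classFunction_apply_eq_sum hcls 1
    simp only [hm, H12.irr_apply_one] at h
    rw [show f 1 = ((D * D : ℕ) : ℂ) by simp [hfdef, H12.irr_apply_one, T.deg θ hθ]] at h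
    exact_mod_cast h.symm
  have hk : ∑ χ : IrrCharacter G, m χ * K.ktot χ = K.e + 1 := by
    simp only [Core.ktot, Finset.mul_sum]
    rw [Finset.sum_comm, Finset.sum_congr rfl fun μ _ => hunit μ,
      ← Finset.add_sum_erase _ _ (Finset.mem_univ (1 : K.E →* ℂˣ)), if_pos rfl,
      Finset.sum_congr rfl (g := fun _ => (1 : ℕ)) fun μ hμ => if_neg (Finset.ne_of_mem_erase hμ),
      Finset.sum_const, K.ne_one_card, smul_eq_mul, mul_one]
    omega
  -- degrees against multiplicities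
  have hplus2 : ∀ χ ∈ K.plus, 2 ≤ K.ktot χ ∧ Even (K.ktot χ) := by
    intro χ hχ
    obtain ⟨hX, hne, -⟩ := Finset.mem_filter.1 hχ
    have h1 := K.deg_plus hχ
    have h2 := T.q_dvd_deg hX hne
    have hk0 : K.ktot χ ≠ 0 := fun h0 => by
      rw [h0] at h1; have := H12.irr_degree_pos χ; omega
    have hev : Even (K.ktot χ) := by
      rcases Nat.even_or_odd (K.ktot χ) with h | h
      · exact h
      · exfalso
        have hpo : Odd p := hp.out.odd_of_ne_two hp2
        obtain ⟨u, hu⟩ := h.mul hpo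
        obtain ⟨w, hw⟩ := h2
        obtain ⟨y, hy⟩ := hpo
        omega
    obtain ⟨u, hu⟩ := hev
    exact ⟨by omega, u, hu⟩
  have hplusd : ∀ χ ∈ K.plus, (H12.degree (χ : G → ℂ) : ℤ) =
      ((K.e : ℤ) + 1) * K.ktot χ + K.e * ((K.ktot χ : ℤ) - 2) := fun χ hχ => by
    have h := congrArg (fun x : ℕ => (x : ℤ)) (K.deg_plus hχ)
    push_cast [hpe] at h
    linear_combination h
  have hminusd : ∀ χ ∈ K.minus, (H12.degree (χ : G → ℂ) : ℤ) =
      ((K.e : ℤ) + 1) * K.ktot χ + (K.e * (K.ktot χ : ℤ) + 2 * K.e) := fun χ hχ => by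
    have h := congrArg (fun x : ℕ => (x : ℤ)) (K.deg_minus hχ)
    push_cast [hpe] at h
    linear_combination h
  have houtd : ∀ χ ∈ K.outs, (H12.degree (χ : G → ℂ) : ℤ) =
      ((K.e : ℤ) + 1) * K.ktot χ + K.e * (K.ktot χ : ℤ) := fun χ hχ => by
    rw [K.deg_outs' hχ]; push_cast; rw [show (p : ℤ) = 2 * K.e + 1 by omega]; ring
  have hslack : ∑ χ ∈ K.plus, (m χ : ℤ) * (K.e * ((K.ktot χ : ℤ) - 2)) +
      ∑ χ ∈ K.minus, (m χ : ℤ) * (K.e * (K.ktot χ : ℤ) + 2 * K.e) +
      ∑ χ ∈ K.outs, (m χ : ℤ) * (K.e * (K.ktot χ : ℤ)) = K.e := by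
    have h1 := congrArg (fun x : ℕ => (x : ℤ)) hdeg
    have h2 := congrArg (fun x : ℕ => (x : ℤ)) hk
    rw [K.sum_univ, hm1, degree_one] at h1
    rw [K.sum_univ, hm1, K.ktot_one] at h2
    push_cast at h1 h2
    rw [Finset.sum_congr rfl (s₁ := K.plus) fun χ hχ => by rw [hplusd χ hχ, mul_add],
      Finset.sum_congr rfl (s₁ := K.minus) fun χ hχ => by rw [hminusd χ hχ, mul_add],
      Finset.sum_congr rfl (s₁ := K.outs) fun χ hχ => by rw [houtd χ hχ, mul_add],
      Finset.sum_congr rfl (s₁ := K.Y)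
        (g := fun χ : IrrCharacter G => (m χ : ℤ) * (((K.e : ℤ) + 1) * K.ktot χ)) fun χ hχ => by
        rw [hkY χ hχ, T.deg χ hχ, hDe1]; push_cast; ring] at h1
    simp only [Finset.sum_add_distrib, mul_left_comm _ ((K.e : ℤ) + 1), ← Finset.mul_sum] at h1
    rw [hDe1] at h1
    push_cast at h1
    linear_combination h1 - ((K.e : ℤ) + 1) * h2
  have hP0 : ∀ χ ∈ K.plus, 0 ≤ (m χ : ℤ) * (K.e * ((K.ktot χ : ℤ) - 2)) := fun χ hχ => by
    have := (hplus2 χ hχ).1
    exact mul_nonneg (Int.natCast_nonneg _) (mul_nonneg (Int.natCast_nonneg _) (by omega))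
  have hM0 : ∀ χ ∈ K.minus, 0 ≤ (m χ : ℤ) * (K.e * (K.ktot χ : ℤ) + 2 * K.e) := fun χ _ => by
    positivity
  have hO0 : ∀ χ ∈ K.outs, 0 ≤ (m χ : ℤ) * (K.e * (K.ktot χ : ℤ)) := fun χ _ => by positivity
  have hez : (2 : ℤ) ≤ K.e := by exact_mod_cast he2
  have hmM : ∀ χ ∈ K.minus, m χ = 0 := by
    intro χ hχ
    by_contra h0
    have h1 := Finset.single_le_sum hM0 hχ
    have h2 := Finset.sum_nonneg hP0
    have h3 := Finset.sum_nonneg hO0
    have h4 : (1 : ℤ) * (2 * K.e) ≤ (m χ : ℤ) * (K.e * (K.ktot χ : ℤ) + 2 * K.e) :=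
      mul_le_mul (by omega) (le_add_of_nonneg_left (by positivity)) (by positivity) (by positivity)
    omega
  have hmP : ∀ χ ∈ K.plus, m χ ≠ 0 → K.ktot χ = 2 := by
    intro χ hχ h0
    by_contra hk2
    obtain ⟨hk1, u, hu⟩ := hplus2 χ hχ
    have h1 := Finset.single_le_sum hP0 hχ
    have h2 := Finset.sum_nonneg hM0
    have h3 := Finset.sum_nonneg hO0
    have h4 : (1 : ℤ) * ((K.e : ℤ) * 2) ≤ (m χ : ℤ) * (K.e * ((K.ktot χ : ℤ) - 2)) :=
      mul_le_mul (by omega) (mul_le_mul_of_nonneg_left (by omega) (by positivity)) (by positivity)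
        (by positivity)
    omega
  have hO1 : ∑ χ ∈ K.outs, m χ * K.ktot χ = 1 := by
    rw [Finset.sum_eq_zero (s := K.plus) fun χ hχ => ?_,
      Finset.sum_eq_zero (s := K.minus) fun χ hχ => ?_, zero_add, zero_add] at hslack
    · simp only [mul_left_comm _ (K.e : ℤ), ← Finset.mul_sum] at hslack
      have : ∑ χ ∈ K.outs, (m χ : ℤ) * (K.ktot χ : ℤ) = 1 :=
        mul_left_cancel₀ (show (K.e : ℤ) ≠ 0 by omega) (by linarith)
      exact_mod_cast this
    · rw [hmM χ hχ, Nat.cast_zero, zero_mul]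
    · rcases Nat.eq_zero_or_pos (m χ) with h0 | h0
      · rw [h0, Nat.cast_zero, zero_mul]
      · rw [hmP χ hχ h0.ne']; norm_num
  have hmP1 : ∀ χ ∈ K.plus, m χ ≤ 1 := by
    intro χ hχ
    by_contra hc
    obtain ⟨μ, hμ⟩ : ∃ μ, 1 ≤ K.cf χ μ := by
      by_contra hc'
      push Not at hc'
      have := (hplus2 χ hχ).1
      rw [Core.ktot, Finset.sum_eq_zero fun μ _ => by have := hc' μ; omega] at this
      omega
    have h1 := hunit μ
    rw [K.sum_univ, hm1, K.cf_oneIrr] at h1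
    have h2 := Finset.single_le_sum (f := fun χ : IrrCharacter G => m χ * K.cf χ μ)
      (fun _ _ => Nat.zero_le _) hχ
    have h3 := Nat.mul_le_mul (show 2 ≤ m χ by omega) hμ
    split_ifs at h1 <;> omega
  have hY1 : ∑ η ∈ K.Y, m η ≤ 1 := by
    have h1 := hunit μ0
    rw [K.sum_univ, hm1, K.cf_oneIrr, Finset.sum_congr rfl (s₁ := K.Y) (g := fun η => m η) fun η hη => by
      rw [hηθ η hη, hθ1, mul_one]] at h1
    split_ifs at h1 <;> omega
  have hsumk : 2 * ∑ χ ∈ K.plus, m χ + ∑ η ∈ K.Y, m η + 1 = K.e := by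
    have h := hk
    rw [K.sum_univ, hm1, K.ktot_one, Finset.sum_eq_zero (s := K.minus) fun χ hχ => by
        rw [hmM χ hχ, zero_mul],
      Finset.sum_congr rfl (s₁ := K.plus) (g := fun χ => 2 * m χ) fun χ hχ => by
        rcases Nat.eq_zero_or_pos (m χ) with h0 | h0
        · rw [h0]; simp
        · rw [hmP χ hχ h0.ne', mul_comm],
      Finset.sum_congr rfl (s₁ := K.Y) (g := fun η => m η) fun χ hχ => by rw [hkY χ hχ, mul_one],
      hO1, ← Finset.mul_sum] at h
    omega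
  obtain ⟨e', he'⟩ : Even K.e := by rw [hea, Nat.even_pow]; exact ⟨even_two, ha0.ne'⟩
  have hY1' : ∑ η ∈ K.Y, m η = 1 := by omega
  refine ⟨⟨K.plus.filter fun χ => m χ ≠ 0, Finset.filter_subset _ _, ?_, fun χ hχ => ?_⟩, ?_⟩
  · have hcard : ∑ χ ∈ K.plus, m χ = (K.plus.filter fun χ => m χ ≠ 0).card := by
      rw [Finset.card_filter]
      exact Finset.sum_congr rfl fun χ hχ => by have := hmP1 χ hχ; split_ifs <;> omega
    omega
  · obtain ⟨hχ', h0⟩ := Finset.mem_filter.1 hχ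
    refine ⟨hmP χ hχ' h0, ?_⟩
    have h1 := K.deg_plus hχ'
    rw [hmP χ hχ' h0] at h1
    omega
  · have h01 : ∀ (S : Finset (IrrCharacter G)), ∑ χ ∈ S, m χ ≤ 1 →
        ∑ χ ∈ S, m χ * m χ = ∑ χ ∈ S, m χ := fun S hS => Finset.sum_congr rfl fun χ hχ => by
      have := (Finset.single_le_sum (fun _ _ => Nat.zero_le _) hχ).trans hS
      interval_cases m χ <;> rfl
    have hOm : ∑ χ ∈ K.outs, m χ = 1 := by
      refine Eq.trans (Finset.sum_congr rfl fun χ hχ => ?_) hO1
      have h1 : 0 < K.ktot χ := Nat.pos_of_ne_zero fun h0 => by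
        have := K.deg_outs' hχ; rw [h0, mul_zero] at this; exact (H12.irr_degree_pos χ).ne' this
      have h2 := (Finset.single_le_sum (f := fun χ : IrrCharacter G => m χ * K.ktot χ)
        (fun _ _ => Nat.zero_le _) hχ).trans hO1.le
      rcases Nat.eq_zero_or_pos (m χ) with h0 | h0
      · rw [h0, zero_mul]
      · have h3 : m χ * K.ktot χ ≤ 1 := h2
        have := Nat.le_mul_of_pos_left (K.ktot χ) h0
        rw [show K.ktot χ = 1 by omega, mul_one]
    have hsq : 2 * ∑ χ : IrrCharacter G, m χ * m χ = K.e + 4 := by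
      rw [K.sum_univ, hm1, Finset.sum_eq_zero (s := K.minus) fun χ hχ => by rw [hmM χ hχ, zero_mul],
        Finset.sum_congr rfl (s₁ := K.plus) (g := fun χ => m χ) fun χ hχ => by
          have := hmP1 χ hχ; interval_cases m χ <;> rfl,
        h01 K.Y hY1, h01 K.outs hOm.le, hY1', hOm]
      omega
    rw [H12.classInner_eq_sum_mul hcls hcls]
    simp only [hm, Complex.conj_natCast]
    exact_mod_cast hsq

/-- The case `t = 2`. -/
theorem minus_two_t (T : Tuan K q b D g₀) (hε : K.ε = -1) (hDe : D + K.e = p) (ht : K.t = 2) :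
    n = 1 ∧ ∃ m, p = 2 ^ m + 1 := by
  obtain ⟨hgD, hv, hq, a, ha0, hea, hab, -, hc, hD, hp2⟩ := minus_prelim T hε hDe
  subst g₀ q
  have he2 := K.two_le_e
  have hpe : p = 2 * K.e + 1 := by have := K.et; rw [ht] at this; omega
  have hDe1 : D = K.e + 1 := by omega
  obtain ⟨θ, η, hne, hY⟩ := Finset.card_eq_two.1 (K.cardY.trans ht)
  have hθ : θ ∈ K.Y := hY ▸ Finset.mem_insert_self _ _
  have hη : η ∈ K.Y := hY ▸ Finset.mem_insert_of_mem (Finset.mem_singleton_self _)
  obtain ⟨⟨S, hS, hScard, hSk⟩, hnθ⟩ := minus_two_t_square T hε hDe ht hθ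
  obtain ⟨-, hnη⟩ := minus_two_t_square T hε hDe ht hη
  set g : G → ℂ := (θ : G → ℂ) * fun x => conj ((η : G → ℂ) x) with hgdef
  have hg : IsCharacter G g :=
    H12.IsCharacter.mul (H12.isCharacter_irr θ) (H12.isCharacter_irr (H12.conjIrr η))
  have hcls := H12.IsCharacter.isClassFunction hg
  have hgavg : ∀ h : K.E, h ≠ 1 → K.avg g h = 1 := fun h hh => by
    rw [K.avg_ne_one hcls hh]
    show (θ : G → ℂ) h * conj ((η : G → ℂ) h) = 1
    rw [K.Y_eq hθ hη (K.reg_of_mem_E h.2)]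
    have hk := K.ktot_Y hθ
    rw [hv] at hk
    obtain ⟨μ, hμ⟩ : ∃ μ, 1 ≤ K.cf θ μ := by
      by_contra hc
      push Not at hc
      rw [Core.ktot, Finset.sum_eq_zero fun μ _ => by have := hc μ; omega] at hk
      omega
    have h1 := Finset.single_le_sum (f := K.cf θ) (fun _ _ => Nat.zero_le _) (Finset.mem_univ μ)
    simp only [Core.ktot] at hk
    rw [K.val_expand θ hh, Finset.sum_eq_single μ (fun ν _ hν => by
        have := Finset.add_le_sum (f := K.cf θ) (fun _ _ => Nat.zero_le _) (Finset.mem_univ μ)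
          (Finset.mem_univ ν) hν.symm
        have h0 : K.cf θ ν = 0 := by omega
        simp [h0]) (by simp), show K.cf θ μ = 1 by omega, Nat.cast_one, one_mul, K.conj_lin,
      MonoidHom.inv_apply, ← Units.val_mul, mul_inv_cancel, Units.val_one]
  have hgavg1 : K.avg g 1 = 1 := by
    rw [K.avg_one, K.psum_eq]
    have hrew : ∀ x ∈ (Finset.univ : Finset (K.P : Subgroup G)).erase 1,
        g x = (θ : G → ℂ) x - (θ : G → ℂ) x * conj ((θ : G → ℂ) x) := fun x hx => by
      have h := K.ysum x x.2 fun e => Finset.ne_of_mem_erase hx (Subtype.ext e)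
      rw [hY, Finset.sum_pair hne, hε] at h
      show (θ : G → ℂ) x * conj ((η : G → ℂ) x) = _
      rw [show (η : G → ℂ) x = 1 - (θ : G → ℂ) x by push_cast at h; linear_combination h, map_sub,
        map_one]
      ring
    rw [Finset.sum_congr rfl hrew, Finset.sum_sub_distrib]
    have h1 := (K.block_facts.2 θ hθ).1
    have h2 := (K.block_facts.2 θ hθ).2
    rw [← Finset.add_sum_erase _ _ (Finset.mem_univ (1 : (K.P : Subgroup G)))] at h2
    rw [K.psum_eq] at h1
    simp only [OneMemClass.coe_one, H12.irr_apply_one, Complex.conj_natCast, T.deg θ hθ, hv,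
      Int.cast_one, mul_one] at h1 h2
    have hg1 : g 1 = (D : ℂ) * (D : ℂ) := by
      simp [hgdef, H12.irr_apply_one, T.deg θ hθ, T.deg η hη]
    rw [hg1]
    have hpc : (p : ℂ) ≠ 0 := Nat.cast_ne_zero.2 hp.out.ne_zero
    rw [inv_mul_eq_one₀ hpc]
    push_cast at h2
    have hpe' : (p : ℂ) = 2 * K.e + 1 := by exact_mod_cast hpe
    have hD' : (D : ℂ) = K.e + 1 := by exact_mod_cast hDe1
    rw [hpe', hD'] at h1 h2 ⊢
    linear_combination h2 - h1
  choose M hM using fun χ : IrrCharacter G =>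
    H12.IsCharacter.classInner_nat hg (H12.isCharacter_irr χ)
  have hunit : ∀ μ, ∑ χ : IrrCharacter G, M χ * K.cf χ μ = if μ = 1 then 1 else 0 := by
    intro μ
    have h1 := K.inner_pic hcls hM μ
    rw [← K.classInner_avg hcls, K.classInner_const hgavg1 hgavg, sub_self, zero_div, zero_add] at h1
    split_ifs at h1 ⊢ with hμ <;> exact_mod_cast h1.symm
  have hM1 : M (H12.oneIrr G) = 0 := by
    have h := H12.classInner_irr θ η
    rw [if_neg hne, H12.classInner_def] at h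
    have h' := hM (H12.oneIrr G)
    rw [H12.classInner_def] at h'
    simp only [hgdef, Pi.mul_apply, H12.oneIrr_apply, map_one, mul_one] at h'
    exact_mod_cast h'.symm.trans h
  have hk : ∑ χ : IrrCharacter G, M χ * K.ktot χ = 1 := by
    simp only [Core.ktot, Finset.mul_sum]
    rw [Finset.sum_comm, Finset.sum_congr rfl fun μ _ => hunit μ, Finset.sum_ite_eq' _ 1,
      if_pos (Finset.mem_univ _)]
  obtain ⟨χ1, hχ1⟩ : ∃ χ, 0 < M χ * K.ktot χ := by
    by_contra hc
    push Not at hc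
    rw [Finset.sum_eq_zero fun χ _ => Nat.le_zero.1 (hc χ)] at hk
    omega
  have h11 := (Finset.single_le_sum (f := fun χ : IrrCharacter G => M χ * K.ktot χ)
    (fun _ _ => Nat.zero_le _) (Finset.mem_univ χ1)).trans hk.le
  have hMχ1 : M χ1 * K.ktot χ1 = 1 := le_antisymm h11 hχ1
  have hMa : M χ1 = 1 := Nat.eq_one_of_mul_eq_one_right hMχ1
  have hka : K.ktot χ1 = 1 := Nat.eq_one_of_mul_eq_one_left hMχ1
  have hrest : ∀ χ ≠ χ1, M χ = 0 ∨ K.ktot χ = 0 := fun χ hχ => by
    have h := Finset.add_le_sum (f := fun χ : IrrCharacter G => M χ * K.ktot χ)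
      (fun _ _ => Nat.zero_le _) (Finset.mem_univ χ) (Finset.mem_univ χ1) hχ
    rw [hk, hMχ1] at h
    exact Nat.mul_eq_zero.1 (by omega)
  have hrest' : ∀ χ ≠ χ1, χ ∉ K.minus → M χ = 0 := by
    intro χ hχ hmin
    refine (hrest χ hχ).resolve_right fun h0 => ?_
    by_cases hone : χ = H12.oneIrr G
    · rw [hone, K.ktot_one] at h0; omega
    · by_cases hX : χ ∈ K.X
      · rcases K.εX_eq hX with hs | hs
        · have h := K.deg_plus (Finset.mem_filter.2 ⟨hX, hone, hs⟩)
          rw [h0] at h; have := H12.irr_degree_pos χ; omega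
        · exact hmin (Finset.mem_filter.2 ⟨hX, hone, hs⟩)
      · by_cases hY' : χ ∈ K.Y
        · have := K.ktot_Y hY'; rw [h0, hv] at this; omega
        · have := K.deg_outs' (χ := χ) (by simp [Core.outs, hX, hY'])
          rw [h0, mul_zero] at this; exact (H12.irr_degree_pos χ).ne' this
  have hd1 : H12.degree (χ1 : G → ℂ) = p ∨ H12.degree (χ1 : G → ℂ) = D := by
    by_cases hone : χ1 = H12.oneIrr G
    · rw [hone, hM1] at hMa; omega
    by_cases hX : χ1 ∈ K.X
    · exfalso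
      have h2 := T.q_dvd_deg hX hone
      rcases K.εX_eq hX with hs | hs
      · have h := K.deg_plus (Finset.mem_filter.2 ⟨hX, hone, hs⟩)
        rw [hka, one_mul] at h
        exact hone (linear_eq_one T.perf (by omega))
      · have h := K.deg_minus (Finset.mem_filter.2 ⟨hX, hone, hs⟩)
        rw [hka] at h
        omega
    · by_cases hY' : χ1 ∈ K.Y
      · exact .inr (T.deg χ1 hY')
      · exact .inl (by rw [K.deg_outs' (χ := χ1) (by simp [Core.outs, hX, hY']), hka, mul_one])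
  -- the characters of negative sign of smallest degree
  set W := K.minus.filter fun χ => χ ≠ χ1 ∧ M χ ≠ 0 with hW
  have hWd : ∀ χ ∈ W, K.ktot χ = 0 ∧ H12.degree (χ : G → ℂ) = p - 1 := by
    intro χ hχ
    obtain ⟨hm, h1, h2⟩ := Finset.mem_filter.1 hχ
    have h0 := (hrest χ h1).resolve_left h2
    have h := K.deg_minus hm
    rw [h0, zero_add, one_mul] at h
    exact ⟨h0, by omega⟩
  have hz : ∀ (F : ℕ → ℕ → ℕ), (∀ d, F 0 d = 0) →
      ∑ χ : IrrCharacter G, F (M χ) (H12.degree (χ : G → ℂ)) =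
        F 1 (H12.degree (χ1 : G → ℂ)) + ∑ χ ∈ W, F (M χ) (p - 1) := by
    intro F hF
    rw [← Finset.add_sum_erase _ _ (Finset.mem_univ χ1), hMa]
    congr 1
    rw [← Finset.sum_subset (s₁ := W) (fun χ hχ => Finset.mem_erase.2
      ⟨(Finset.mem_filter.1 hχ).2.1, Finset.mem_univ _⟩) fun χ hχ hW' => ?_]
    · exact Finset.sum_congr rfl fun χ hχ => by rw [(hWd χ hχ).2]
    · have h1 := Finset.ne_of_mem_erase hχ
      suffices M χ = 0 by rw [this, hF]
      by_contra h0
      by_cases hmin : χ ∈ K.minus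
      · exact hW' (Finset.mem_filter.2 ⟨hmin, h1, h0⟩)
      · exact h0 (hrest' χ h1 hmin)
  have hdeg : H12.degree (χ1 : G → ℂ) + (p - 1) * ∑ χ ∈ W, M χ = D * D := by
    have h := H12.classFunction_apply_eq_sum hcls 1
    simp only [hM, H12.irr_apply_one] at h
    rw [show g 1 = ((D * D : ℕ) : ℂ) by
      simp [hgdef, H12.irr_apply_one, T.deg θ hθ, T.deg η hη]] at h
    have h' : ∑ χ : IrrCharacter G, M χ * H12.degree (χ : G → ℂ) = D * D := by exact_mod_cast h.symm
    rw [hz (fun a d => a * d) (fun d => zero_mul d), one_mul, ← Finset.sum_mul, mul_comm _ (p - 1)] at h'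
    exact h'
  obtain ⟨e', he'⟩ : Even K.e := by rw [hea, Nat.even_pow]; exact ⟨even_two, ha0.ne'⟩
  have hWsum : ∑ χ ∈ W, M χ = e' := by
    obtain ⟨T0, hT0⟩ : ∃ T0, T0 = ∑ χ ∈ W, M χ := ⟨_, rfl⟩
    rw [← hT0] at hdeg ⊢
    rw [show p - 1 = 4 * e' by omega, hDe1, he'] at hdeg
    rcases hd1 with h | h <;> rw [h] at hdeg
    · have h5 : 4 * e' * T0 = 4 * e' * e' := by
        rw [hpe, he'] at hdeg; linarith
      exact Nat.eq_of_mul_eq_mul_left (by omega) h5
    · exfalso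
      rw [hDe1, he'] at hdeg
      have h5 : (2 * T0) * (2 * e') = (2 * e' + 1) * (2 * e') := by linarith
      have := Nat.eq_of_mul_eq_mul_right (by omega) h5
      omega
  have hnorm : 2 * (1 + ∑ χ ∈ W, M χ * M χ) ≤ K.e + 4 := by
    have h1 : classInner g g = ((1 + ∑ χ ∈ W, M χ * M χ : ℕ) : ℂ) := by
      rw [H12.classInner_eq_sum_mul hcls hcls]
      simp only [hM, Complex.conj_natCast, ← Nat.cast_mul, ← Nat.cast_sum]
      rw [hz (fun a _ => a * a) (fun d => zero_mul _)]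
    set fθ : G → ℂ := (θ : G → ℂ) * fun x => conj ((θ : G → ℂ) x)
    set fη : G → ℂ := (η : G → ℂ) * fun x => conj ((η : G → ℂ) x)
    have h2 : 2 * (classInner g g).re ≤ (classInner fθ fθ).re + (classInner fη fη).re := by
      simp only [H12.classInner_def, ← Complex.ofReal_natCast, ← Complex.ofReal_inv,
        Complex.re_ofReal_mul, Complex.re_sum, ← mul_add, ← Finset.sum_add_distrib]
      rw [← mul_left_comm, Finset.mul_sum]
      refine mul_le_mul_of_nonneg_left (Finset.sum_le_sum fun x _ => ?_) (by positivity)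
      simp only [hgdef, fθ, fη, Pi.mul_apply, map_mul, Complex.conj_conj]
      rw [show (θ : G → ℂ) x * conj ((η : G → ℂ) x) * (conj ((θ : G → ℂ) x) * (η : G → ℂ) x) =
          ((θ : G → ℂ) x * conj ((θ : G → ℂ) x)) * ((η : G → ℂ) x * conj ((η : G → ℂ) x)) by ring,
        show (θ : G → ℂ) x * conj ((θ : G → ℂ) x) * (conj ((θ : G → ℂ) x) * (θ : G → ℂ) x) =
          ((θ : G → ℂ) x * conj ((θ : G → ℂ) x)) * ((θ : G → ℂ) x * conj ((θ : G → ℂ) x)) by ring,
        show (η : G → ℂ) x * conj ((η : G → ℂ) x) * (conj ((η : G → ℂ) x) * (η : G → ℂ) x) =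
          ((η : G → ℂ) x * conj ((η : G → ℂ) x)) * ((η : G → ℂ) x * conj ((η : G → ℂ) x)) by ring,
        Complex.mul_conj, Complex.mul_conj, ← Complex.ofReal_mul, ← Complex.ofReal_mul,
        ← Complex.ofReal_mul, Complex.ofReal_re, Complex.ofReal_re, Complex.ofReal_re]
      nlinarith [sq_nonneg (Complex.normSq ((θ : G → ℂ) x) - Complex.normSq ((η : G → ℂ) x))]
    have h3 := congrArg Complex.re hnθ
    have h4 := congrArg Complex.re hnη
    simp only [Complex.mul_re, Complex.re_ofNat, Complex.im_ofNat, zero_mul, sub_zero,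
      Complex.add_re, Complex.natCast_re] at h3 h4
    rw [h1, Complex.natCast_re] at h2
    have h5 : (2 : ℝ) * ((1 + ∑ χ ∈ W, M χ * M χ : ℕ) : ℝ) ≤ ((K.e + 4 : ℕ) : ℝ) := by
      push_cast at h2 ⊢
      linarith
    exact_mod_cast h5
  have hWcard : W.card = e' := by
    have h1 : ∀ χ ∈ W, M χ = 1 := by
      intro χ hχ
      have hpos : M χ ≠ 0 := (Finset.mem_filter.1 hχ).2.2
      by_contra hc
      have h2 : ∑ ψ ∈ W, M ψ + 2 ≤ ∑ ψ ∈ W, M ψ * M ψ := by
        rw [← Finset.add_sum_erase _ _ hχ, ← Finset.add_sum_erase _ _ hχ]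
        have := Finset.sum_le_sum (s := W.erase χ) fun ψ _ => Nat.le_mul_self (M ψ)
        have := Nat.mul_le_mul_right (M χ) (show 2 ≤ M χ by omega)
        omega
      omega
    rw [← hWsum, Finset.sum_congr rfl h1]
    simp
  have hX : K.plus.card + K.minus.card + 1 = K.e := by
    have h := K.sum_X (fun _ => (1 : ℕ))
    simp only [Finset.sum_const, smul_eq_mul, mul_one, K.cardX] at h
    omega
  have hWle := Finset.card_le_card (Finset.filter_subset (fun χ => χ ≠ χ1 ∧ M χ ≠ 0) K.minus)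
  have hSle := Finset.card_le_card hS
  rw [← hW] at hWle
  have hpS : S = K.plus := Finset.eq_of_subset_of_card_le hS (by omega)
  have hmW : W = K.minus :=
    Finset.eq_of_subset_of_card_le (Finset.filter_subset _ _) (by omega)
  have hpow : p - 1 = 2 ^ (a + 1) := by rw [pow_succ, ← hea]; omega
  have hb : 2 ^ b ≤ 2 * K.e := two_pow_bound T hε hv hD hp2 (by omega) ⟨e', he'⟩
    (fun χ hχ => ⟨(hWd χ (hmW ▸ hχ)).1, a + 1, (hWd χ (hmW ▸ hχ)).2.trans hpow⟩)
    (fun χ hχ => hSk χ (hpS ▸ hχ)) (by omega)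
  refine ⟨?_, a + 1, by omega⟩
  have h1 : K.e * (1 + n * p) ≤ K.e * (p + 1) := by
    rw [← hc, show K.e * (p + 1) = 2 * K.e * D by
      rw [show p + 1 = 2 * (K.e + 1) by omega, hDe1]; ring]
    exact Nat.mul_le_mul_right D hb
  have h2 := Nat.le_of_mul_le_mul_left h1 (by omega)
  by_contra hn1
  have := K.n_pos
  have := Nat.mul_le_mul_right p (show 2 ≤ n by omega)
  omega

end H18.BR
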