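import Cfsg.Agent.S4468
import Cfsg.Agent.S4470
import Cfsg.Agent.S0143
import Cfsg.Agent.S0144
import Cfsg.Agent.S0985
import Cfsg.Agent.H19.PrimeDegrees
import Cfsg.Agent.H65.JordanBound
import Cfsg.Agent.H65.BrauerFowler
import Cfsg.Agent.H10.PSolvable
import Cfsg.Agent.H1.Wielandt
import Cfsg.Agent.H16.PF10Central
import Cfsg.Agent.H62.Basic

/-!
Simple groups with a character of degree three: bounds on Sylow subgroups.
-/

set_option autoImplicit false

open Cfsg

namespace H18.SC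

universe u

variable {G : Type u} [Group G] [Finite G] [IsSimpleGroup G]

theorem faithful_irr (χ : IrrCharacter G) (hχ : (χ : G → ℂ) ≠ fun _ => 1) :
    ∀ g : G, (χ : G → ℂ) g = (χ : G → ℂ) 1 → g = 1 := fun g h => by
  letI := Fintype.ofFinite G
  exact H19.PrimeDeg.eq_one_of_eq_degree χ (fun e => hχ (by rw [e]; rfl)) h

theorem abelian_card_le (hG : ¬ IsMulCommutative G) (χ : IrrCharacter G)
    (hχ : (χ : G → ℂ) ≠ fun _ => 1) (h3 : charDegree (χ : G → ℂ) = 3) (H : Subgroup G)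
    (hH : ∀ x ∈ H, ∀ y ∈ H, x * y = y * x) : Nat.card H ≤ 12 ^ 3 := by
  obtain ⟨A, hA, hAab, hb⟩ := Cfsg.Agent.S4470.result (χ : G → ℂ) (H12.isCharacter_irr χ)
    (faithful_irr χ hχ) 3 h3
  have hA0 : A = ⊥ := hA.eq_bot_or_eq_top.resolve_right fun h => hG
    ⟨⟨fun a b => hAab a (h ▸ Subgroup.mem_top a) b (h ▸ Subgroup.mem_top b)⟩⟩
  have h := hb H hH
  rw [hA0, Subgroup.bot_subgroupOf, Subgroup.index_bot] at h
  exact h

theorem sylow_bound (hG : ¬ IsMulCommutative G) (χ : IrrCharacter G)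
    (hχ : (χ : G → ℂ) ≠ fun _ => 1) (h3 : charDegree (χ : G → ℂ) = 3) {r : ℕ} [hr : Fact r.Prime]
    (P : Sylow r G) : Nat.card P ≤ r * 12 ^ 3 := by
  haveI : Group.IsNilpotent (P : Subgroup G) := P.isPGroup'.isNilpotent
  obtain ⟨D, hD, hi⟩ := H65.JB_abelian_index (n := 3)
    (H12.IsCharacter.res (H12.isCharacter_irr χ) (P : Subgroup G))
    (fun g hg => Subtype.ext (faithful_irr χ hχ g hg)) (le_of_eq h3)
  obtain ⟨k, hk⟩ := P.isPGroup'.index D
  have hDc : Nat.card D ≤ 12 ^ 3 := by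
    rw [Nat.card_congr (Subgroup.equivMapOfInjective D _ (P : Subgroup G).subtype_injective).toEquiv]
    refine abelian_card_le hG χ hχ h3 _ ?_
    rintro _ ⟨x, hx, rfl⟩ _ ⟨y, hy, rfl⟩
    exact congrArg (P : Subgroup G).subtype (hD x hx y hy)
  have hk1 : r ^ k ≤ r := by
    rw [hk, show Nat.factorial 3 = 2 * 3 from rfl] at hi
    obtain ⟨a, c, ha, hc, hac⟩ := Nat.dvd_mul.1 hi
    rcases Nat.lt_or_ge k 2 with h | h
    · calc r ^ k ≤ r ^ 1 := Nat.pow_le_pow_right hr.out.pos (by omega)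
        _ = r := pow_one r
    · exfalso
      have h2 : r ^ 2 ∣ 2 * 3 := (pow_dvd_pow r h).trans hi
      have h6 : r ^ 2 ≤ 2 * 3 := Nat.le_of_dvd (by norm_num) h2
      have := hr.out.two_le
      have : r < 3 := by
        by_contra hh
        have := Nat.pow_le_pow_left (not_lt.1 hh) 2
        omega
      interval_cases r
      norm_num at h2
  calc Nat.card P = Nat.card D * D.index := (Subgroup.card_mul_index D).symm
    _ ≤ 12 ^ 3 * r := Nat.mul_le_mul hDc (hk ▸ hk1)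
    _ = r * 12 ^ 3 := mul_comm _ _

theorem abelian_sylow_five_le (χ : IrrCharacter G)
    (hχ : (χ : G → ℂ) ≠ fun _ => 1) (h3 : charDegree (χ : G → ℂ) = 3) {r : ℕ} [hr : Fact r.Prime]
    (h5 : 5 ≤ r) (P : Sylow r G) : ∀ x ∈ (P : Subgroup G), ∀ y ∈ (P : Subgroup G), x * y = y * x :=
  H65.BH_abelian_subgroup (H65.BH_sep_of_faithful (H12.isCharacter_irr χ) (faithful_irr χ hχ)
    (le_of_eq h3)) _ fun q hq hqd => by
    obtain ⟨k, hk⟩ := IsPGroup.iff_card.1 P.isPGroup'
    rw [hk] at hqd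
    have := (Nat.prime_dvd_prime_iff_eq hq hr.out).1 (hq.dvd_of_dvd_pow hqd)
    omega

/-- A Sylow `3`-subgroup is abelian. -/
theorem abelian_sylow_three (hG : ¬ IsMulCommutative G) (χ : IrrCharacter G)
    (hχ : (χ : G → ℂ) ≠ fun _ => 1) (h3 : charDegree (χ : G → ℂ) = 3) (P : Sylow 3 G) :
    ∀ x ∈ (P : Subgroup G), ∀ y ∈ (P : Subgroup G), x * y = y * x := by
  classical
  intro x hx y hy
  letI := Fintype.ofFinite G
  haveI : Fact (Nat.Prime 3) := ⟨Nat.prime_three⟩
  have hφ : IsCharacter (P : Subgroup G) (fun z : (P : Subgroup G) => (χ : G → ℂ) z) :=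
    H12.IsCharacter.res (H12.isCharacter_irr χ) (P : Subgroup G)
  obtain ⟨m, hm⟩ := H12.IsCharacter.exists_mult hφ
  have hdeg : ∑ ψ, m ψ * H12.degree (ψ : ↥(P : Subgroup G) → ℂ) = 3 :=
    (H65.BH_degree_le_of_mult hφ m hm).trans h3
  by_cases hlin : ∀ ψ : IrrCharacter (P : Subgroup G), m ψ ≠ 0 →
      H12.degree (ψ : ↥(P : Subgroup G) → ℂ) = 1
  · set a : (P : Subgroup G) := ⟨x, hx⟩
    set c : (P : Subgroup G) := ⟨y, hy⟩
    have h1 := H65.BH_apply_eq_of_mult hφ m hm (g := a * c * a⁻¹ * c⁻¹) fun ψ hψ => by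
      have hl : (ψ : ↥(P : Subgroup G) → ℂ) 1 = 1 := by
        rw [H12.irr_apply_one, hlin ψ hψ, Nat.cast_one]
      rw [H13.linear_commutator (H12.isCharacter_irr ψ) hl, hl]
    have h2 := faithful_irr χ hχ ((a * c * a⁻¹ * c⁻¹ : (P : Subgroup G)) : G) h1
    simp only [Subgroup.coe_mul, Subgroup.coe_inv, a, c] at h2
    rwa [mul_inv_eq_one, mul_inv_eq_iff_eq_mul] at h2
  · exfalso
    push Not at hlin
    obtain ⟨ψ, hψ, hne⟩ := hlin
    obtain ⟨k, hk⟩ := IsPGroup.iff_card.1 P.isPGroup'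
    obtain ⟨j, -, hj⟩ := (Nat.dvd_prime_pow Nat.prime_three).1
      ((H12.irr_degree_dvd_card ψ).trans hk.dvd)
    have hle : m ψ * H12.degree (ψ : ↥(P : Subgroup G) → ℂ) ≤ 3 :=
      (Finset.single_le_sum (f := fun ψ => m ψ * H12.degree (ψ : ↥(P : Subgroup G) → ℂ))
        (fun _ _ => Nat.zero_le _) (Finset.mem_univ ψ)).trans hdeg.le
    have hj1 : j = 1 := by
      rcases Nat.lt_trichotomy j 1 with h | h | h
      · exact absurd (hj.trans (by rw [show j = 0 by omega, pow_zero])) hne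
      · exact h
      · exfalso
        have h9 : 3 ^ 2 ≤ 3 ^ j := Nat.pow_le_pow_right (by norm_num) h
        have := Nat.le_mul_of_pos_left (H12.degree (ψ : ↥(P : Subgroup G) → ℂ))
          (Nat.pos_of_ne_zero hψ)
        omega
    rw [hj1, pow_one] at hj
    have hm1 : m ψ = 1 := by
      rw [hj] at hle; have := Nat.pos_of_ne_zero hψ; omega
    have hrest : ∀ θ, θ ≠ ψ → m θ = 0 := by
      intro θ hθ
      rw [← Finset.add_sum_erase _ _ (Finset.mem_univ ψ), hm1, hj, one_mul] at hdeg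
      have := Finset.single_le_sum (f := fun ψ => m ψ * H12.degree (ψ : ↥(P : Subgroup G) → ℂ))
        (fun _ _ => Nat.zero_le _) (Finset.mem_erase.2 ⟨hθ, Finset.mem_univ θ⟩)
      have h0 : m θ * H12.degree (θ : ↥(P : Subgroup G) → ℂ) = 0 := by omega
      exact (mul_eq_zero.1 h0).resolve_right (H12.irr_degree_pos θ).ne'
    haveI : Nontrivial (P : Subgroup G) := by
      rw [← Finite.one_lt_card_iff_nontrivial]
      have h := H12.irr_degree_dvd_card ψ
      rw [hj] at h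
      have := Nat.le_of_dvd Nat.card_pos h
      omega
    haveI := P.isPGroup'.center_nontrivial
    obtain ⟨⟨z, hz⟩, hz1⟩ := exists_ne (1 : Subgroup.center (P : Subgroup G))
    obtain ⟨l, hl⟩ := H16.PF10.central_scalar (D := Subgroup.center (P : Subgroup G))
      (fun d hd g => (Subgroup.mem_center_iff.1 hd g).symm) ψ.2
    have hnorm : ‖(χ : G → ℂ) (z : G)‖ = (H12.degree (χ : G → ℂ) : ℝ) := by
      have hval : (χ : G → ℂ) (z : G) = (ψ : ↥(P : Subgroup G) → ℂ) z := by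
        have h := congrFun hm z
        rw [Finset.sum_apply, Finset.sum_eq_single ψ (fun θ _ hθ => by simp [hrest θ hθ])
          (by simp), hm1] at h
        simpa using h
      have hlz : ‖((l ⟨z, hz⟩ : ℂˣ) : ℂ)‖ = 1 := by
        refine Complex.norm_eq_one_of_pow_eq_one
          (n := orderOf (⟨z, hz⟩ : Subgroup.center (P : Subgroup G))) ?_
          (orderOf_pos _).ne'
        rw [← Units.val_pow_eq_pow_val, ← map_pow, pow_orderOf_eq_one, map_one, Units.val_one]
      have h := hl ⟨z, hz⟩ 1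
      rw [mul_one] at h
      have h' : H12.degree (χ : G → ℂ) = 3 := h3
      rw [hval, h, norm_mul, hlz, one_mul, H12.irr_apply_one, hj, h', Complex.norm_natCast]
    have := H19.PrimeDeg.eq_one_of_norm_eq hG χ (fun e => hχ (by rw [e]; rfl)) hnorm
    exact hz1 (Subtype.ext (Subtype.ext this))

end H18.SC
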