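import Cfsg.Agent.S0948
import Cfsg.Agent.S0992
import Cfsg.Agent.H22.KleinPSL
import Cfsg.Agent.H18.CofactorChar
import Cfsg.Agent.H18.BrauerData

/-!
Simple groups of order four times a two-prime odd number have a character of degree three.
-/

set_option autoImplicit false

open Cfsg

namespace H18.SC

universe u

/-- Only the primes `p` and `q` occur. -/
def TwoSupp (p q N : ℕ) : Prop := ∀ s : ℕ, s.Prime → s ∣ N → s = p ∨ s = q

theorem not_dvd_both {d a b k : ℕ} (hd : d.Prime) (ha : d ∣ a) (hb : d ∣ b)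
    (h : k * a = b + 1 ∨ k * a + 1 = b) : False := by
  have h1 := ha.mul_left k
  rcases h with h | h
  · rw [h] at h1; exact hd.one_lt.ne' (Nat.dvd_one.1 ((Nat.dvd_add_right hb).1 h1))
  · rw [← h] at hb; exact hd.one_lt.ne' (Nat.dvd_one.1 ((Nat.dvd_add_right h1).1 hb))

theorem arith_plus {p q x w r : ℕ} (hx : 1 < x) (hw : w = 2 * x + 1) (hr : x + 1 = 2 * r)
    (sx : TwoSupp p q x) (sw : TwoSupp p q w) (sr : TwoSupp p q r) : False := by
  obtain ⟨a, ha, hax⟩ := Nat.exists_prime_and_dvd (show x ≠ 1 by omega)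
  obtain ⟨b, hb, hbw⟩ := Nat.exists_prime_and_dvd (show w ≠ 1 by omega)
  obtain ⟨c, hc, hcr⟩ := Nat.exists_prime_and_dvd (show r ≠ 1 by omega)
  have h1 : a ≠ b := fun h => not_dvd_both (k := 2) ha hax (h ▸ hbw) (Or.inr (by omega))
  have h2 : a ≠ c := fun h => not_dvd_both (k := 2) ha (h ▸ hcr) hax (Or.inl (by omega))
  have h3 : b ≠ c := fun h => not_dvd_both (k := 4) hb (h ▸ hcr) hbw (Or.inl (by omega))
  rcases sx a ha hax with e1 | e1 <;> rcases sw b hb hbw with e2 | e2 <;>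
    rcases sr c hc hcr with e3 | e3 <;> omega

theorem other_dvd {p q N d e : ℕ} (h : TwoSupp p q N) (hN : 1 < N)
    (hde : d = p ∧ e = q ∨ d = q ∧ e = p) (hd : ¬ d ∣ N) : e ∣ N := by
  obtain ⟨s, hs, hsN⟩ := Nat.exists_prime_and_dvd (show N ≠ 1 by omega)
  rcases h s hs hsN with rfl | rfl <;> rcases hde with ⟨rfl, rfl⟩ | ⟨rfl, rfl⟩ <;> tauto

theorem eq_pow {p q N d e : ℕ} (h : TwoSupp p q N) (hN : 0 < N)
    (hde : d = p ∧ e = q ∨ d = q ∧ e = p) (he : ¬ e ∣ N) : ∃ k, N = d ^ k :=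
  ⟨_, Nat.eq_prime_pow_of_unique_prime_dvd hN.ne' fun {s} hs hsN => by
    rcases h s hs hsN with rfl | rfl <;> rcases hde with ⟨rfl, rfl⟩ | ⟨rfl, rfl⟩ <;> tauto⟩

theorem pow_sum {d i j k : ℕ} (hd : d.Prime) (hd2 : d ≠ 2) (hij : i < j)
    (h : d ^ i + d ^ j = 2 * d ^ k) : False := by
  obtain ⟨m, rfl⟩ : ∃ m, j = i + (m + 1) := ⟨j - i - 1, by omega⟩
  rcases Nat.lt_or_ge k i with hk | hk
  · obtain ⟨l, rfl⟩ : ∃ l, i = k + (l + 1) := ⟨i - k - 1, by omega⟩
    have h2 : d ^ k * (d * (d ^ l + d ^ (l + (m + 1)))) = d ^ k * 2 := by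
      rw [mul_comm (d ^ k) 2, ← h]; ring
    exact hd2 ((Nat.prime_dvd_prime_iff_eq hd Nat.prime_two).1
      (Dvd.intro _ (Nat.eq_of_mul_eq_mul_left (Nat.pow_pos hd.pos) h2)))
  · obtain ⟨l, rfl⟩ : ∃ l, k = i + l := ⟨k - i, by omega⟩
    have h2 : d ^ i * (1 + d ^ (m + 1)) = d ^ i * (2 * d ^ l) := by
      rw [show d ^ i * (2 * d ^ l) = 2 * d ^ (i + l) by ring, ← h]; ring
    have h3 := Nat.eq_of_mul_eq_mul_left (Nat.pow_pos hd.pos) h2
    rcases Nat.eq_zero_or_pos l with hl | hl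
    · subst hl
      have : 1 < d ^ (m + 1) := Nat.one_lt_pow (Nat.succ_ne_zero m) hd.one_lt
      rw [pow_zero] at h3
      omega
    · have h4 : d ∣ 1 + d ^ (m + 1) := h3 ▸ (dvd_pow_self d hl.ne').mul_left 2
      exact hd.one_lt.ne' (Nat.dvd_one.1 ((Nat.dvd_add_left (dvd_pow_self d m.succ_ne_zero)).1 h4))

theorem arith_minus {p q x y w u r t : ℕ} (hp : p.Prime) (hq : q.Prime) (hpq : p ≠ q)
    (hx : x = 2 * r + 1) (hy : y = 2 * t + 1) (hu : u = r + t + 1) (hw : w + 1 = 2 * u)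
    (hr0 : 0 < r) (ht0 : 0 < t) (sx : TwoSupp p q x) (sy : TwoSupp p q y) (sw : TwoSupp p q w)
    (su : TwoSupp p q u) (sr : TwoSupp p q r)
    (st : TwoSupp p q t) :
    x = 3 ∧ (p = 3 ∧ q = 5 ∨ p = 5 ∧ q = 3) := by
  obtain ⟨d, e, hde, hdx, hdy⟩ :
      ∃ d e, (d = p ∧ e = q ∨ d = q ∧ e = p) ∧ d ∣ x ∧ d ∣ y := by
    obtain ⟨s, hs, hsu⟩ := Nat.exists_prime_and_dvd (show u ≠ 1 by omega)
    obtain ⟨e, hse⟩ : ∃ e, s = p ∧ e = q ∨ s = q ∧ e = p := by
      rcases su s hs hsu with h | h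
      · exact ⟨q, Or.inl ⟨h, rfl⟩⟩
      · exact ⟨p, Or.inr ⟨h, rfl⟩⟩
    have h2 : s ∣ x + y := by rw [show x + y = 2 * u by omega]; exact hsu.mul_left 2
    by_cases hsx : s ∣ x
    · exact ⟨s, e, hse, hsx, (Nat.dvd_add_right hsx).1 h2⟩
    · have hsy : ¬ s ∣ y := fun h => hsx ((Nat.dvd_add_left h).1 h2)
      exact ⟨e, s, hse.symm.imp (fun h => ⟨h.2, h.1⟩) (fun h => ⟨h.2, h.1⟩),
        other_dvd sx (by omega) hse hsx, other_dvd sy (by omega) hse hsy⟩
  have hd : d.Prime := by rcases hde with ⟨rfl, -⟩ | ⟨rfl, -⟩ <;> assumption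
  have he : e.Prime := by rcases hde with ⟨-, rfl⟩ | ⟨-, rfl⟩ <;> assumption
  have hne : d ≠ e := by
    rcases hde with ⟨rfl, rfl⟩ | ⟨rfl, rfl⟩
    · exact hpq
    · exact hpq.symm
  have hd2 : d ≠ 2 := fun h => by subst h; omega
  have hdu : d ∣ u := by
    have h2 : d ∣ 2 * u := by rw [show 2 * u = x + y by omega]; exact dvd_add hdx hdy
    exact ((Nat.coprime_primes hd Nat.prime_two).2 hd2).dvd_of_dvd_mul_left h2
  have hdw : ¬ d ∣ w := fun h => not_dvd_both (k := 2) hd hdu h (Or.inl (by omega))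
  have hew := other_dvd sw (by omega) hde hdw
  have heu : ¬ e ∣ u := fun h => not_dvd_both (k := 2) he h hew (Or.inl (by omega))
  obtain ⟨k, hk⟩ := eq_pow su (by omega) hde heu
  have hdr : ¬ d ∣ r := fun h => not_dvd_both (k := 2) hd h hdx (Or.inr (by omega))
  have hex : ¬ e ∣ x := by
    intro h
    rcases Nat.lt_or_ge r 2 with h1 | h1
    · have h3 : x = 3 := by omega
      rw [h3, Nat.prime_dvd_prime_iff_eq he Nat.prime_three] at h
      rw [h3, Nat.prime_dvd_prime_iff_eq hd Nat.prime_three] at hdx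
      omega
    · exact not_dvd_both (k := 2) he (other_dvd sr h1 hde hdr) h (Or.inr (by omega))
  obtain ⟨i, hi⟩ := eq_pow sx (by omega) hde hex
  have hdt : ¬ d ∣ t := fun h => not_dvd_both (k := 2) hd h hdy (Or.inr (by omega))
  have hey : ¬ e ∣ y := by
    intro h
    rcases Nat.lt_or_ge t 2 with h1 | h1
    · have h3 : y = 3 := by omega
      rw [h3, Nat.prime_dvd_prime_iff_eq he Nat.prime_three] at h
      rw [h3, Nat.prime_dvd_prime_iff_eq hd Nat.prime_three] at hdy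
      omega
    · exact not_dvd_both (k := 2) he (other_dvd st h1 hde hdt) h (Or.inr (by omega))
  obtain ⟨j, hj⟩ := eq_pow sy (by omega) hde hey
  have hsum : d ^ i + d ^ j = 2 * d ^ k := by rw [← hi, ← hj, ← hk]; omega
  have hij : d ^ i = d ^ j := by
    rcases Nat.lt_trichotomy i j with h | h | h
    · exact (pow_sum hd hd2 h hsum).elim
    · rw [h]
    · exact (pow_sum hd hd2 h (by rw [add_comm]; exact hsum)).elim
  have hxy : x = y := by rw [hi, hj, hij]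
  have hr1 : r = 1 := by
    by_contra h
    exact not_dvd_both (k := 4) he (other_dvd sr (by omega) hde hdr) hew (Or.inr (by omega))
  have hx3 : x = 3 := by omega
  have hw5 : w = 5 := by omega
  rw [hx3, Nat.prime_dvd_prime_iff_eq hd Nat.prime_three] at hdx
  rw [hw5, Nat.prime_dvd_prime_iff_eq he (by norm_num)] at hew
  refine ⟨hx3, ?_⟩
  rcases hde with ⟨rfl, rfl⟩ | ⟨rfl, rfl⟩
  · exact Or.inl ⟨hdx, hew⟩
  · exact Or.inr ⟨hew, hdx⟩

variable {G : Type u} [Group G] [Finite G] [IsSimpleGroup G]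

/-- Groups of order `4 * g₀`, `g₀` odd with two prime divisors. -/
theorem four_setup (hG : ¬ IsMulCommutative G) {p q g₀ : ℕ} (hp : p.Prime) (hq : q.Prime)
    (hpq : p ≠ q) (hg₀ : Odd g₀) (hcard : Nat.card G = 4 * g₀) (hsupp : TwoSupp p q g₀) :
    (∃ χ : IrrCharacter G, (χ : G → ℂ) ≠ (fun _ => 1) ∧ charDegree (χ : G → ℂ) = 3) ∧
      (p = 3 ∧ q = 5 ∨ p = 5 ∧ q = 3) := by
  classical
  haveI : Fact (Nat.Prime 2) := ⟨Nat.prime_two⟩
  letI := Fintype.ofFinite G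
  obtain ⟨M, hM⟩ := H20.exists_isPModular (p := 2) Nat.prime_two
  haveI : M.IsPrime := H20.isPrime_of_modular hM
  obtain ⟨P⟩ : Nonempty (Sylow 2 G) := inferInstance
  have hodd2 := Nat.odd_iff.1 hg₀
  obtain ⟨hKl, -⟩ := Cfsg.Agent.S0992.result hG (by rw [hcard]; exact even_iff_two_dvd.2 ⟨2 * g₀, by ring⟩)
    (by rw [hcard]; omega) P
  have hnc : ¬ ∃ N : Subgroup G, N.Normal ∧ Nat.card N = g₀ := by
    rintro ⟨N, hN, hc⟩
    rcases hN.eq_bot_or_eq_top with h | h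
    · rw [h, Subgroup.card_bot] at hc
      haveI := hKl
      apply H62.not_isPGroup_of_simple hG 2
      exact IsPGroup.of_card (n := 2) (by rw [hcard, ← hc]; norm_num)
    · rw [h, Subgroup.card_top, hcard] at hc; omega
  obtain ⟨hexp, hone⟩ := H22.Klein.klein_of_no_complement P hKl.card_four hcard hnc
  obtain ⟨ζ₂, ζ₃, ζ₄, ε, hε, h2, h3, h23, h24, h34, hB, hval, m2, m3, m4, -⟩ :=
    Cfsg.Agent.S0948.result M hM P hKl hone
  haveI : Nontrivial (P : Subgroup G) := Finite.one_lt_card_iff_nontrivial.1 (by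
    rw [hKl.card_four]; norm_num)
  obtain ⟨⟨J, hJP⟩, hJ1⟩ := exists_ne (1 : (P : Subgroup G))
  have hJ : orderOf J = 2 := by
    rw [orderOf_eq_prime_iff]
    exact ⟨by rw [pow_two]; exact hexp J hJP, fun h => hJ1 (Subtype.ext h)⟩
  obtain ⟨v2, v3, v4⟩ := hval J hJ
  have h4 : (ζ₄ : G → ℂ) ≠ fun _ => 1 := fun h => by rw [h] at v4; norm_num at v4
  obtain ⟨-, -, -, hF, hrel, h⟩ := H22.Klein.order_setup (ε₁ := 1) (ε₂ := ε) (ε₃ := -1) hM hg₀
    hcard hnc P hJP hJ hB ⟨h2, h3, h4, h23, h24, h34⟩ ⟨Or.inl rfl, hε, Or.inr rfl⟩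
    ⟨by rw [v2]; simp, v3, by rw [v4]; simp⟩
  have hne : ∀ χ : IrrCharacter G, (χ : G → ℂ) ≠ (fun _ => 1) → charDegree (χ : G → ℂ) ≠ 1 := by
    intro χ hχ h1
    have hperf := H19.PrimeDeg.commutator_top (S := G) hG
    exact hχ (by rw [H18.BR.linear_eq_one hperf h1]; rfl)
  have hsupp' : ∀ {N : ℕ}, Odd N → (∀ s, s.Prime → s ∣ N → s ∣ Nat.card G) → TwoSupp p q N := by
    intro N hN hd s hs hsN
    have hs2 : Nat.Coprime s 4 := by
      refine Nat.Coprime.pow_right 2 ((Nat.coprime_primes hs Nat.prime_two).2 fun h => ?_)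
      subst h
      exact Nat.not_even_iff_odd.2 hN (even_iff_two_dvd.2 hsN)
    exact hsupp s hs (hs2.dvd_of_dvd_mul_left (hcard ▸ hd s hs hsN))
  have hdvd : ∀ χ : IrrCharacter G, charDegree (χ : G → ℂ) ∣ Nat.card G :=
    fun χ => H12.irr_degree_dvd_card χ
  have hle : Subgroup.centralizer ((P : Subgroup G) : Set G) ≤
      Subgroup.centralizer ({J} : Set G) :=
    Subgroup.centralizer_le (Set.singleton_subset_iff.2 hJP)
  obtain ⟨n, hn⟩ := Subgroup.card_dvd_of_le hle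
  obtain ⟨k, hk⟩ := Subgroup.card_subgroup_dvd_card (Subgroup.centralizer ({J} : Set G))
  set c := Nat.card ↥(Subgroup.centralizer ({J} : Set G)) with hcdef
  set cP := Nat.card ↥(Subgroup.centralizer ((P : Subgroup G) : Set G)) with hcPdef
  have hc0 : 0 < c := Nat.card_pos
  have hcP0 : 0 < cP := Nat.card_pos
  have hndvd : n ∣ Nat.card G := ⟨cP * k, by rw [hk, hn]; ring⟩
  have hGQ : (Nat.card G : ℚ) = (c : ℚ) * k := by exact_mod_cast hk
  have hcQ : (c : ℚ) = (cP : ℚ) * n := by exact_mod_cast hn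
  have hc3 : (c : ℚ) * (cP : ℚ) ^ 2 ≠ 0 := by positivity
  have e2 := hne _ h2
  have e3 := hne _ h3
  have e4 := hne _ h4
  have p2 := H22.charDegree_pos ζ₂
  have p3 := H22.charDegree_pos ζ₃
  have p4 := H22.charDegree_pos ζ₄
  set a := charDegree (ζ₂ : G → ℂ) with hadef
  set x := charDegree (ζ₃ : G → ℂ) with hxdef
  set y := charDegree (ζ₄ : G → ℂ) with hydef
  rw [hGQ] at h
  have pa : (a : ℚ) ≠ 0 := by exact_mod_cast p2.ne'
  have px : (x : ℚ) ≠ 0 := by exact_mod_cast p3.ne'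
  have py : (y : ℚ) ≠ 0 := by exact_mod_cast p4.ne'
  rcases hε with rfl | rfl
  · exfalso
    have hax : a = x := H22.Klein.degree_eq_of_signs hM P hKl.card_four hexp hone hJP hJ hF
      ⟨fun e => h2 (by rw [e]; rfl), fun e => h3 (by rw [e]; rfl), fun e => h4 (by rw [e]; rfl),
        h23, h24, h34⟩ v2 (by rw [v3]; simp) v4
    rw [← hax] at hrel h
    have hy : y = 2 * a + 1 := by omega
    obtain ⟨r, hr⟩ : ∃ r, a + 1 = 2 * r := ⟨(a + 1) / 2, by omega⟩
    have key : k * r ^ 2 = n ^ 2 * (a * y) := by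
      have hr' : (a : ℚ) + 1 = 2 * (r : ℚ) := by exact_mod_cast hr
      have hy' : (y : ℚ) = 2 * (a : ℚ) + 1 := by exact_mod_cast hy
      have : (c : ℚ) * (cP : ℚ) ^ 2 * (8 * ((k : ℚ) * (r : ℚ) ^ 2)) =
          (c : ℚ) * (cP : ℚ) ^ 2 * (8 * ((n : ℚ) ^ 2 * ((a : ℚ) * y))) := by
        push_cast at h
        field_simp at h
        rw [hcQ] at h ⊢
        rw [hy'] at h ⊢
        rw [show (r : ℚ) = ((a : ℚ) + 1) / 2 by linarith]
        linear_combination ((cP : ℚ) * n) * h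
      have h' := mul_left_cancel₀ hc3 this
      have h'' : (k : ℚ) * (r : ℚ) ^ 2 = (n : ℚ) ^ 2 * ((a : ℚ) * y) := by linarith
      exact_mod_cast h''
    refine arith_plus (show 1 < a by omega) hy hr
      (hsupp' (Nat.odd_iff.2 (by omega)) fun s _ hd => hd.trans (hdvd _))
      (hsupp' (Nat.odd_iff.2 (by omega)) fun s _ hd => hd.trans (hdvd _))
      (hsupp' (Nat.odd_iff.2 (by omega)) fun s hs hd => ?_)
    have h1 : s ∣ n ^ 2 * (a * y) := key ▸ ((hd.trans (dvd_pow_self r two_ne_zero)).mul_left k)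
    rcases hs.dvd_mul.1 h1 with h1 | h1
    · exact (hs.dvd_of_dvd_pow h1).trans hndvd
    · rcases hs.dvd_mul.1 h1 with h1 | h1 <;> exact h1.trans (hdvd _)
  · obtain ⟨r, hr⟩ : ∃ r, x = 2 * r + 1 := ⟨x / 2, by omega⟩
    obtain ⟨t, ht⟩ : ∃ t, y = 2 * t + 1 := ⟨y / 2, by omega⟩
    have ha : a + 1 = 2 * (r + t + 1) := by omega
    have key : k * ((r + t + 1) * (r * t)) = n ^ 2 * (a * (x * y)) := by
      have hx' : (x : ℚ) = 2 * (r : ℚ) + 1 := by exact_mod_cast hr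
      have hy' : (y : ℚ) = 2 * (t : ℚ) + 1 := by exact_mod_cast ht
      have ha' : (a : ℚ) = 2 * ((r : ℚ) + t + 1) - 1 := by
        have : (a : ℚ) + 1 = 2 * ((r : ℚ) + t + 1) := by exact_mod_cast ha
        linarith
      have : (c : ℚ) * (cP : ℚ) ^ 2 * (8 * ((k : ℚ) * (((r : ℚ) + t + 1) * ((r : ℚ) * t)))) =
          (c : ℚ) * (cP : ℚ) ^ 2 * (8 * ((n : ℚ) ^ 2 * ((a : ℚ) * ((x : ℚ) * y)))) := by
        push_cast at h
        field_simp at h
        rw [hcQ] at h ⊢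
        rw [ha', hx', hy'] at h ⊢
        linear_combination ((cP : ℚ) * n) * h
      have h' := mul_left_cancel₀ hc3 this
      have h'' : (k : ℚ) * (((r : ℚ) + t + 1) * ((r : ℚ) * t)) =
          (n : ℚ) ^ 2 * ((a : ℚ) * ((x : ℚ) * y)) := by linarith
      exact_mod_cast h''
    have hin : ∀ s, s.Prime → s ∣ (r + t + 1) * (r * t) → s ∣ Nat.card G := by
      intro s hs hd
      have h1 : s ∣ n ^ 2 * (a * (x * y)) := key ▸ hd.mul_left k
      rcases hs.dvd_mul.1 h1 with h1 | h1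
      · exact (hs.dvd_of_dvd_pow h1).trans hndvd
      · rcases hs.dvd_mul.1 h1 with h1 | h1
        · exact h1.trans (hdvd _)
        · rcases hs.dvd_mul.1 h1 with h1 | h1 <;> exact h1.trans (hdvd _)
    obtain ⟨hx3, hpq'⟩ := arith_minus hp hq hpq hr ht rfl ha (by omega) (by omega)
      (hsupp' (Nat.odd_iff.2 (by omega)) fun s _ hd => hd.trans (hdvd ζ₃))
      (hsupp' (Nat.odd_iff.2 (by omega)) fun s _ hd => hd.trans (hdvd ζ₄))
      (hsupp' (Nat.odd_iff.2 (by omega)) fun s _ hd => hd.trans (hdvd ζ₂))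
      (hsupp' (Nat.odd_iff.2 (by omega)) fun s hs hd => hin s hs (hd.mul_right _))
      (hsupp' (Nat.odd_iff.2 (by omega)) fun s hs hd => hin s hs ((hd.mul_right _).mul_left _))
      (hsupp' (Nat.odd_iff.2 (by omega)) fun s hs hd => hin s hs ((hd.mul_left _).mul_left _))
    exact ⟨⟨ζ₃, h3, hx3⟩, hpq'⟩

end H18.SC
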