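import Cfsg.Agent.H18.CofactorChar

/-!
Two Sylow subgroups meeting nontrivially in a group with a character of degree three.
-/

set_option autoImplicit false

open Cfsg

namespace H18.SC

universe u

variable {G : Type u} [Group G] [Finite G] [IsSimpleGroup G]

/-- Two abelian Sylow subgroups with nontrivial intersection lie in a proper centraliser. -/
theorem exists_two_in_centralizer (hG : ¬ IsMulCommutative G) {p b : ℕ} [hp : Fact p.Prime]
    (hab : ∀ (P : Sylow p G), ∀ x ∈ (P : Subgroup G), ∀ y ∈ (P : Subgroup G), x * y = y * x)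
    (hcard : ∀ P : Sylow p G, Nat.card P = p ^ b) (hb : 0 < b)
    (hmod : ¬ Nat.card (Sylow p G) ≡ 1 [MOD p ^ b]) :
    ∃ (P R : Sylow p G) (y : G), y ≠ 1 ∧ P ≠ R ∧
      (P : Subgroup G) ≤ Subgroup.centralizer ({y} : Set G) ∧
      (R : Subgroup G) ≤ Subgroup.centralizer ({y} : Set G) ∧
      Subgroup.centralizer ({y} : Set G) ≠ ⊤ := by
  obtain ⟨P, R, hne, hidx⟩ := Cfsg.Agent.S0985.result p b hmod
  have hmul : Nat.card ((R : Subgroup G).subgroupOf (P : Subgroup G)) *
      ((R : Subgroup G).subgroupOf (P : Subgroup G)).index = p ^ b := by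
    rw [Subgroup.card_mul_index]; exact hcard P
  have h1 : 1 < Nat.card ((R : Subgroup G).subgroupOf (P : Subgroup G)) := by
    by_contra hle
    have h0 := Nat.card_pos (α := ((R : Subgroup G).subgroupOf (P : Subgroup G)))
    rw [show Nat.card ((R : Subgroup G).subgroupOf (P : Subgroup G)) = 1 by omega, one_mul] at hmul
    rw [hmul] at hidx
    exact absurd hidx (not_le.2 (Nat.pow_lt_pow_right hp.out.one_lt (by omega)))
  haveI := Finite.one_lt_card_iff_nontrivial.1 h1
  obtain ⟨⟨⟨y, hyP⟩, hyR⟩, hy⟩ := exists_ne (1 : (R : Subgroup G).subgroupOf (P : Subgroup G))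
  have hy1 : y ≠ 1 := fun h => hy (Subtype.ext (Subtype.ext h))
  refine ⟨P, R, y, hy1, hne, fun x hx => ?_, fun x hx => ?_, fun h => ?_⟩
  · exact Subgroup.mem_centralizer_singleton_iff.2 (hab P x hx y hyP)
  · exact Subgroup.mem_centralizer_singleton_iff.2 (hab R x hx y hyR)
  · have hmem : y ∈ Subgroup.center G := Subgroup.mem_center_iff.2 fun g =>
      Subgroup.mem_centralizer_singleton_iff.1 (h ▸ Subgroup.mem_top g)
    rw [H62.center_eq_bot_of_simple hG, Subgroup.mem_bot] at hmem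
    exact hy1 hmem

theorem small_index (hG : ¬ IsMulCommutative G) {p b m : ℕ} [hp : Fact p.Prime]
    (hab : ∀ (P : Sylow p G), ∀ x ∈ (P : Subgroup G), ∀ y ∈ (P : Subgroup G), x * y = y * x)
    (hcard : Nat.card G = p ^ b * m) (hm : ¬ p ∣ m) (hb : 0 < b)
    (hmod : ∀ d, d ∣ m → d % p ^ b = 1 → d = 1) :
    Nat.card G ≤ (m / (p + 1)).factorial := by
  have hP : ∀ P : Sylow p G, Nat.card P = p ^ b := fun P => H62.card_sylow_coe hcard hm P
  have hn : ¬ Nat.card (Sylow p G) ≡ 1 [MOD p ^ b] := by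
    intro h
    have h1 := H62.one_lt_card_sylow (p := p) hG (hcard ▸ (dvd_pow_self p hb.ne').mul_right m)
    have h2 := hmod _ (H62.card_sylow_dvd hcard hm) (by
      rw [Nat.ModEq, Nat.mod_eq_of_lt (Nat.one_lt_pow hb.ne' hp.out.one_lt)] at h
      exact h)
    omega
  obtain ⟨P, R, y, -, hne, hPC, hRC, hC⟩ := exists_two_in_centralizer hG hab hP hb hn
  set C := Subgroup.centralizer ({y} : Set G)
  have hdiff : P.subtype hPC ≠ R.subtype hRC := fun h => hne (Sylow.subtype_injective h)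
  have hn2 : 1 < Nat.card (Sylow p C) :=
    Finite.one_lt_card_iff_nontrivial.2 ⟨⟨_, _, hdiff⟩⟩
  have hmod' := H62.card_sylow_mod (G := C) (p := p)
  have hp1 : p + 1 ≤ Nat.card (Sylow p C) := by
    have := Nat.div_add_mod (Nat.card (Sylow p C)) p
    rw [hmod'] at this
    rcases Nat.eq_zero_or_pos (Nat.card (Sylow p C) / p) with h | h
    · rw [h, mul_zero] at this; omega
    · have := Nat.le_mul_of_pos_right p h; omega
  have hN : p ^ b ≤ Nat.card (Subgroup.normalizer ((P.subtype hPC : Subgroup C) : Set C)) := by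
    refine le_trans (le_of_eq ?_) (Nat.le_of_dvd Nat.card_pos
      (Subgroup.card_dvd_of_le (P.subtype hPC : Subgroup C).le_normalizer))
    rw [← hP P]
    exact (Nat.card_congr (Subgroup.subgroupOfEquivOfLe hPC).toEquiv).symm
  have hCcard : p ^ b * (p + 1) ≤ Nat.card C := by
    rw [← H62.card_normalizer_mul (P.subtype hPC)]
    exact Nat.mul_le_mul hN hp1
  have hidx : C.index * (p + 1) ≤ m := by
    have h := C.card_mul_index
    rw [hcard] at h
    have h2 : p ^ b * (p + 1) * C.index ≤ p ^ b * m := h ▸ Nat.mul_le_mul_right _ hCcard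
    rw [mul_assoc] at h2
    rw [mul_comm C.index]
    exact Nat.le_of_mul_le_mul_left h2 (Nat.pow_pos hp.out.pos)
  have h := H62.two_mul_card_dvd_factorial hG C hC
  calc Nat.card G ≤ 2 * Nat.card G := by omega
    _ ≤ C.index.factorial := Nat.le_of_dvd (Nat.factorial_pos _) h
    _ ≤ _ := Nat.factorial_le ((Nat.le_div_iff_mul_le (by omega)).2 hidx)

/-- No Sylow subgroup of order `ℓ ^ 2` next to a small cofactor. -/
theorem no_sq (hG : ¬ IsMulCommutative G) (χ : IrrCharacter G) (hχ : (χ : G → ℂ) ≠ fun _ => 1)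
    (h3 : charDegree (χ : G → ℂ) = 3) {m r b ℓ : ℕ} (hr : r.Prime) [hl : Fact ℓ.Prime] (h5 : 5 ≤ ℓ)
    (hlm : ¬ ℓ ∣ m * r ^ b) (hcard : Nat.card G = ℓ ^ 2 * (m * r ^ b))
    (hmod : ∀ d, d ∣ m * r ^ b → d % ℓ ^ 2 = 1 → d = 1)
    (hsolv : ∀ C : Subgroup G, ¬ m ∣ Nat.card C → Group.IsSolvable C) : False := by
  have hP : ∀ P : Sylow ℓ G, Nat.card P = ℓ ^ 2 := fun P => H62.card_sylow_coe hcard hlm P
  have hn : ¬ Nat.card (Sylow ℓ G) ≡ 1 [MOD ℓ ^ 2] := by
    intro h
    have h1 := H62.one_lt_card_sylow (p := ℓ) hG (hcard ▸ (dvd_pow_self ℓ two_ne_zero).mul_right _)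
    have h2 := hmod _ (H62.card_sylow_dvd hcard hlm) (by
      rw [Nat.ModEq, Nat.mod_eq_of_lt (Nat.one_lt_pow two_ne_zero hl.out.one_lt)] at h
      exact h)
    omega
  obtain ⟨P, R, y, hy, hne, hPC, hRC, hC⟩ := exists_two_in_centralizer hG
    (fun P => abelian_sylow_five_le χ hχ h3 h5 P) hP two_pos hn
  set C := Subgroup.centralizer ({y} : Set G) with hCdef
  by_cases hs : Group.IsSolvable C
  · have hnn : ¬ (P.subtype hPC : Subgroup C).Normal := by
      intro hN
      haveI := Sylow.unique_of_normal (P.subtype hPC) hN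
      exact hne (Sylow.subtype_injective (Subsingleton.elim (P.subtype hPC) (R.subtype hRC)))
    have h := Cfsg.Agent.S4468.result (G := C) (fun x => (χ : G → ℂ) x)
      (H12.IsCharacter.res (H12.isCharacter_irr χ) C)
      (fun g hg => Subtype.ext (faithful_irr χ hχ g hg)) 3 h3 ℓ hl.out
      (haveI := hs; H10.isPSolvable_of_isSolvable) (by omega) (P.subtype hPC) hnn
    omega
  · have hm : m ∣ Nat.card C := Classical.not_not.1 fun h => hs (hsolv C h)
    have hl2 : ℓ ^ 2 ∣ Nat.card C := hP P ▸ Subgroup.card_dvd_of_le hPC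
    have hco : Nat.Coprime (ℓ ^ 2) m := by
      refine Nat.Coprime.pow_left _ ((hl.out.coprime_iff_not_dvd).2 fun h => hlm (h.mul_right _))
    obtain ⟨c, hc⟩ := hco.mul_dvd_of_dvd_of_dvd hl2 hm
    have h := C.card_mul_index
    rw [hc, hcard, mul_assoc, mul_assoc] at h
    have h' : c * C.index = r ^ b := by
      have hm0 : m ≠ 0 := fun h0 => hlm (by rw [h0, zero_mul]; exact dvd_zero ℓ)
      exact Nat.eq_of_mul_eq_mul_left (Nat.pos_of_ne_zero hm0)
        (Nat.eq_of_mul_eq_mul_left (Nat.pow_pos hl.out.pos) h)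
    obtain ⟨i, -, hi⟩ := (Nat.dvd_prime_pow hr).1 (Dvd.intro_left c h')
    haveI : Fact (Nat.card G).Prime := ⟨Cfsg.Agent.S0143.result r i hr y hy hi⟩
    exact hG ⟨⟨fun a b => (isCyclic_of_prime_card rfl).commutative.is_comm.comm a b⟩⟩

omit [IsSimpleGroup G] in
theorem solvable_two_odd (C : Subgroup G) {p q a b c : ℕ} (hp : p.Prime) (hq : q.Prime)
    (hp2 : Odd p) (hq2 : Odd q) (hc : c ≤ 1) (h : Nat.card C ∣ 2 ^ c * (p ^ a * q ^ b)) :
    Group.IsSolvable C := by
  obtain ⟨d, e, hd, he, hde⟩ := Nat.dvd_mul.1 h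
  obtain ⟨x, y, hx, hy, hxy⟩ := Nat.dvd_mul.1 he
  obtain ⟨i, hi, rfl⟩ := (Nat.dvd_prime_pow hp).1 hx
  obtain ⟨j, hj, rfl⟩ := (Nat.dvd_prime_pow hq).1 hy
  obtain ⟨k, hk, rfl⟩ := (Nat.dvd_prime_pow Nat.prime_two).1 hd
  subst hxy
  rcases (show k = 0 ∨ k = 1 by omega) with rfl | rfl
  · rw [pow_zero, one_mul] at hde
    exact Cfsg.Agent.S0144.result p q i j hp hq hde.symm
  · have hodd : Odd (p ^ i * q ^ j) := hp2.pow.mul hq2.pow
    obtain ⟨l, hl⟩ := hodd
    obtain ⟨H, hH⟩ := H65.exists_index_two_of_card_mod_four (G := C) (by rw [← hde, pow_one, hl]; omega)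
    haveI := Subgroup.normal_of_index_eq_two hH
    refine H1.isSolvable_of_normal H ?_ ?_
    · have hm := H.card_mul_index
      rw [hH, ← hde, pow_one, mul_comm] at hm
      exact Cfsg.Agent.S0144.result p q i j hp hq (Nat.eq_of_mul_eq_mul_left two_pos hm)
    · exact Cfsg.Agent.S0144.result 2 2 1 0 Nat.prime_two Nat.prime_two
        (by rw [pow_one, pow_zero, mul_one]; exact hH)

end H18.SC
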