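import Mathlib.GroupTheory.Abelianization.Defs
import Mathlib.GroupTheory.Index
import Mathlib.Algebra.Group.Subgroup.Pointwise
import Mathlib.GroupTheory.Coset.Card
import Mathlib.GroupTheory.Sylow

set_option autoImplicit false
open scoped commutatorElement

namespace H18

variable {G : Type*} [Group G]

theorem commute_of_generators {H : Type*} [Group H] (f : G →* H) {s : Set G}
    (hs : Subgroup.closure s = ⊤) (h : ∀ u ∈ s, ∀ v ∈ s, Commute (f u) (f v)) (x y : G) :
    Commute (f x) (f y) := by
  have h1 : (Subgroup.closure s) ≤ (Subgroup.centralizer (f '' s)).comap f := by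
    rw [Subgroup.closure_le]
    intro u hu
    rw [SetLike.mem_coe, Subgroup.mem_comap, Subgroup.mem_centralizer_iff]
    rintro _ ⟨v, hv, rfl⟩
    exact h v hv u hu
  have h2 : (Subgroup.closure s) ≤ (Subgroup.centralizer {f y}).comap f := by
    rw [Subgroup.closure_le]
    intro u hu
    rw [SetLike.mem_coe, Subgroup.mem_comap, Subgroup.mem_centralizer_singleton_iff]
    exact Subgroup.mem_centralizer_iff.mp (h1 (hs ▸ Subgroup.mem_top y)) (f u) ⟨u, hu, rfl⟩
  exact Subgroup.mem_centralizer_singleton_iff.mp (h2 (hs ▸ Subgroup.mem_top x))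

/-- A normal subgroup containing the commutators of a generating set contains the derived group. -/
theorem commutator_le_of_generators {s : Set G} {D : Subgroup G} [D.Normal]
    (hs : Subgroup.closure s = ⊤) (h : ∀ u ∈ s, ∀ v ∈ s, ⁅u, v⁆ ∈ D) : commutator G ≤ D := by
  rw [commutator_def, Subgroup.commutator_le]
  intro x _ y _
  have := commute_of_generators (QuotientGroup.mk' D) hs (fun u hu v hv => by
    rw [← commutatorElement_eq_one_iff_commute, ← map_commutatorElement, ← MonoidHom.mem_ker,
      QuotientGroup.ker_mk']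
    exact h u hu v hv) x y
  rwa [← commutatorElement_eq_one_iff_commute, ← map_commutatorElement, ← MonoidHom.mem_ker,
    QuotientGroup.ker_mk'] at this

theorem mem_normalizer_iff_of_finite [Finite G] {H : Subgroup G} {g : G} :
    g ∈ Subgroup.normalizer (H : Set G) ↔ ∀ h ∈ H, g * h * g⁻¹ ∈ H := by
  refine ⟨fun hg h hh => (Subgroup.mem_normalizer_iff.mp hg h).mp hh, fun hg => ?_⟩
  rw [Subgroup.mem_normalizer_iff_map_conj_eq]
  refine Subgroup.eq_of_le_of_card_ge ?_ (le_of_eq
    (Nat.card_congr ((H.equivMapOfInjective _ (MulAut.conj g).injective).toEquiv)))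
  rintro _ ⟨h, hh, rfl⟩
  exact hg h hh

end H18

namespace H18

theorem le_normalizer_sup {G : Type*} [Group G] (S H : Subgroup G) [S.Normal] :
    ⊤ ⊓ Subgroup.normalizer (H : Set G) ≤ Subgroup.normalizer ((S ⊔ H : Subgroup G) : Set G) := by
  rintro g ⟨-, hg⟩
  replace hg : g ∈ Subgroup.normalizer (H : Set G) := hg
  rw [Subgroup.mem_normalizer_iff_map_conj_eq] at hg
  rw [Subgroup.mem_normalizer_iff_map_conj_eq, Subgroup.map_sup, hg,
    Subgroup.Normal.map_conj_eq S g]

end H18
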