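import Cfsg.Agent.H18.SylowNormalizes
import Cfsg.Agent.H18.Generators
import Cfsg.Agent.H10.PSolvable

set_option autoImplicit false
open Cfsg

namespace H18

universe u

variable {p q : ℕ} [hp : Fact p.Prime] [hq : Fact q.Prime]

theorem class_hyp_quotient {G : Type u} [Group G] [Finite G] (N : Subgroup G) [N.Normal]
    (h : ∀ y : G, (∃ k : ℕ, orderOf y = q ^ k) → ¬ p ∣ (Subgroup.centralizer ({y} : Set G)).index)
    (y : G ⧸ N) (hy : ∃ k : ℕ, orderOf y = q ^ k) :
    ¬ p ∣ (Subgroup.centralizer ({y} : Set (G ⧸ N))).index := by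
  obtain ⟨k, hk⟩ := hy
  set π := QuotientGroup.mk' N
  have hπ : Function.Surjective π := QuotientGroup.mk'_surjective N
  obtain ⟨Q⟩ : Nonempty (Sylow q G) := inferInstance
  obtain ⟨R, hR⟩ := (IsPGroup.of_card (n := k) (by rw [Nat.card_zpowers, hk]) :
    IsPGroup q (Subgroup.zpowers y)).exists_le_sylow
  obtain ⟨c, hc⟩ := MulAction.exists_smul_eq (G ⧸ N) (Q.mapSurjective hπ) R
  obtain ⟨g, rfl⟩ := hπ c
  have hy' : y ∈ (R : Subgroup (G ⧸ N)) := hR (Subgroup.mem_zpowers y)
  rw [← hc, Sylow.coe_subgroup_smul, mem_conj_smul] at hy'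
  obtain ⟨w, hw, hwy⟩ := hy'
  have hwo : ∃ j : ℕ, orderOf (g * w * g⁻¹) = q ^ j := by
    obtain ⟨j, hj⟩ := IsPGroup.iff_orderOf.mp Q.isPGroup' ⟨w, hw⟩
    refine ⟨j, ?_⟩
    rw [← hj, ← Subgroup.orderOf_coe]
    exact orderOf_injective (MulAut.conj g).toMonoidHom (MulAut.conj g).injective w
  have himg : π (g * w * g⁻¹) = y := by
    rw [map_mul, map_mul, map_inv, hwy]; group
  intro hd
  refine h _ hwo (hd.trans ?_)
  rw [← Subgroup.index_comap_of_surjective _ hπ]
  refine Subgroup.index_dvd_of_le ?_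
  intro z hz
  rw [Subgroup.mem_comap, Subgroup.mem_centralizer_singleton_iff, ← himg, ← map_mul, ← map_mul,
    Subgroup.mem_centralizer_singleton_iff.mp hz]

theorem not_dvd_card_sylow_of_class (hpq : p ≠ q) {G : Type u} [Group G] [Finite G]
    (hsolv : IsPSolvable p G ∨ IsPSolvable q G)
    (h : ∀ y : G, (∃ k : ℕ, orderOf y = q ^ k) → ¬ p ∣ (Subgroup.centralizer ({y} : Set G)).index) :
    ¬ p ∣ Nat.card (Sylow q G) := by
  revert h hsolv
  induction hn : Nat.card G using Nat.strong_induction_on generalizing G with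
  | _ n ih =>
  intro hsolv h
  rcases subsingleton_or_nontrivial G with hG | hG
  · obtain ⟨Q⟩ : Nonempty (Sylow q G) := inferInstance
    rw [Q.card_eq_index_normalizer, Subgroup.index_eq_one.mpr (Subsingleton.elim _ _)]
    exact hp.out.not_dvd_one
  obtain ⟨N, hNn, hN1, hNc⟩ : ∃ N : Subgroup G, N.Normal ∧ N ≠ ⊥ ∧
      (¬ q ∣ Nat.card N ∨ IsPGroup q N ∨ ¬ p ∣ Nat.card N) := by
    rcases hsolv with hs | hs
    · rcases H10.pCore_or_pPrimeCore_ne_bot hs with h1 | h1
      · refine ⟨_, H10.pCore_normal, h1, Or.inl fun hd => hpq ?_⟩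
        obtain ⟨j, hj⟩ := IsPGroup.iff_card.mp (H10.pCore_isPGroup (p := p) (G := G))
        rw [hj] at hd
        exact ((Nat.prime_dvd_prime_iff_eq hq.out hp.out).mp (hq.out.dvd_of_dvd_pow hd)).symm
      · exact ⟨_, H10.pPrimeCore_normal, h1, Or.inr (Or.inr
          (hp.out.coprime_iff_not_dvd.mp H10.pPrimeCore_coprime.symm))⟩
    · rcases H10.pCore_or_pPrimeCore_ne_bot hs with h1 | h1
      · exact ⟨_, H10.pCore_normal, h1, Or.inr (Or.inl H10.pCore_isPGroup)⟩
      · exact ⟨_, H10.pPrimeCore_normal, h1, Or.inl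
          (hq.out.coprime_iff_not_dvd.mp H10.pPrimeCore_coprime.symm)⟩
  have hq' : IsPSolvable p (G ⧸ N) ∨ IsPSolvable q (G ⧸ N) :=
    hsolv.imp (fun hs => H10.isPSolvable_quotient hs N) (fun hs => H10.isPSolvable_quotient hs N)
  have h1 := ih (Nat.card (G ⧸ N)) (hn ▸ H10.card_quotient_lt N hN1) rfl hq'
    (class_hyp_quotient N h)
  obtain ⟨Q⟩ : Nonempty (Sylow q G) := inferInstance
  rw [card_sylow_eq_mul N Q]
  refine hp.out.not_dvd_mul h1 ?_
  rcases hNc with hN | hN | hN
  · obtain ⟨P0, hP0⟩ := exists_centralized_sylow (p := p) N hN (Q : Subgroup G) Q.isPGroup'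
      (fun y hy hd => h y (by
        obtain ⟨j, hj⟩ := IsPGroup.iff_orderOf.mp Q.isPGroup' ⟨y, hy⟩
        exact ⟨j, by rw [← hj, ← Subgroup.orderOf_coe]⟩)
        (hd.trans (relIndex_dvd_index_of_normal' _ N)))
    have hle : (P0 : Subgroup N).map N.subtype ≤
        Subgroup.normalizer ((Q : Subgroup G) : Set G) := by
      refine hP0.trans fun z hz => ?_
      rw [mem_normalizer_iff_of_finite]
      intro w hw
      rw [Subgroup.mem_centralizer_iff] at hz
      rw [← hz w hw, mul_inv_cancel_right]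
      exact hw
    intro hd
    refine P0.not_dvd_index (hd.trans ?_)
    have e : (P0 : Subgroup N).index = ((P0 : Subgroup N).map N.subtype).relIndex N := by
      rw [Subgroup.relIndex, Subgroup.subgroupOf,
        Subgroup.comap_map_eq_self_of_injective Subtype.val_injective]
    rw [e]
    exact Subgroup.relIndex_dvd_of_le_left N hle
  · have hle : N ≤ Subgroup.normalizer ((Q : Subgroup G) : Set G) :=
      (hN.le_sylow_of_normal Q).trans Subgroup.le_normalizer
    rw [Subgroup.relIndex_eq_one.mpr hle]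
    exact hp.out.not_dvd_one
  · intro hd
    exact hN (hd.trans (Subgroup.relIndex_dvd_card _ _))

end H18
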