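import Cfsg.Agent.H17.SLCount
import Cfsg.Agent.H12.Transport
import Cfsg.Agent.H12.Linear
import Cfsg.Agent.H24.CharBasic
import Cfsg.Prelude.Def_DegreeGraph

/-!
Character degrees of `PSL(2, q)` and `SL(2, q)`, `q` odd, and their degree graph.
-/

set_option autoImplicit false
set_option linter.unusedSectionVars false

open Cfsg

namespace H18

universe u

theorem exists_nonfixed_hom {G : Type u} [Group G] [Finite G] {X Z : Subgroup G} (hZX : Z ≤ X)
    (hcomm : ∀ a ∈ X, ∀ b ∈ X, a * b = b * a)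
    (hbig : 2 * Nat.card Z < Nat.card X)
    (hfix : Nat.card {α : X →* ℂˣ // α * α = 1} ≤ 2) :
    ∃ α : X →* ℂˣ, α * α ≠ 1 ∧ ∀ z : X, (z : G) ∈ Z → α z = 1 := by
  classical
  let Z' := Z.subgroupOf X
  haveI : Z'.Normal := ⟨fun a ha g => by
    rwa [show g * a * g⁻¹ = a from Subtype.ext (by
      rw [Subgroup.coe_mul, Subgroup.coe_mul, Subgroup.coe_inv, hcomm _ g.2 _ a.2,
        mul_inv_cancel_right])]⟩
  haveI : Finite (X →* ℂˣ) := Finite.of_injective _ H12.linIrr_injective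
  haveI : Finite {α : X →* ℂˣ // α * α = 1} := Subtype.finite
  by_contra hcon
  push Not at hcon
  let f : (X ⧸ Z' →* ℂˣ) → {α : X →* ℂˣ // α * α = 1} := fun β =>
    ⟨β.comp (QuotientGroup.mk' Z'), by
      by_contra h
      obtain ⟨z, hz, hne⟩ := hcon _ h
      exact hne (by
        rw [MonoidHom.comp_apply, show QuotientGroup.mk' Z' z = 1 from
          (QuotientGroup.eq_one_iff z).mpr (Subgroup.mem_subgroupOf.mpr hz), map_one])⟩
  have hf : Function.Injective f := fun a b h => by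
    refine MonoidHom.ext fun x => ?_
    obtain ⟨g, rfl⟩ := QuotientGroup.mk_surjective x
    exact DFunLike.congr_fun (congrArg Subtype.val h) g
  have h1 := Nat.card_le_card_of_injective f hf
  rw [H12.card_monoidHom_units] at h1
  have h2 : commutator (X ⧸ Z') = ⊥ := by
    rw [eq_bot_iff, commutator_def, Subgroup.commutator_le]
    intro x _ y _
    obtain ⟨a, rfl⟩ := QuotientGroup.mk_surjective x
    obtain ⟨b, rfl⟩ := QuotientGroup.mk_surjective y
    rw [Subgroup.mem_bot, commutatorElement_eq_one_iff_mul_comm, ← QuotientGroup.mk_mul,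
      ← QuotientGroup.mk_mul]
    exact congrArg _ (Subtype.ext (hcomm _ a.2 _ b.2))
  rw [h2, Subgroup.index_bot, ← Subgroup.index_eq_card] at h1
  have h3 := Z'.card_mul_index
  rw [Nat.card_congr (Subgroup.subgroupOfEquivOfLe hZX).toEquiv] at h3
  have := Nat.mul_le_mul_left (Nat.card Z) (h1.trans hfix)
  rw [h3] at this
  omega

theorem charDegree_of_eq {G : Type u} [Group G] {χ : G → ℂ} {n : ℕ} (h : χ 1 = (n : ℂ)) :
    charDegree χ = n := by
  rw [charDegree, h, Complex.natCast_re, Nat.floor_natCast]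

theorem charDegrees_congr {A B : Type*} [Group A] [Group B] (e : A ≃* B) :
    charDegrees A = charDegrees B := by
  ext d
  constructor
  · rintro ⟨χ, hd⟩
    refine ⟨⟨(χ : A → ℂ) ∘ e.symm, H12.IsIrrCharacter.comp_surjective χ.2
      (f := e.symm.toMonoidHom) e.symm.surjective⟩, ?_⟩
    rw [← hd]
    show ⌊((χ : A → ℂ) (e.symm 1)).re⌋₊ = _
    rw [map_one]
    rfl
  · rintro ⟨χ, hd⟩
    refine ⟨⟨(χ : B → ℂ) ∘ e, H12.IsIrrCharacter.comp_surjective χ.2
      (f := e.toMonoidHom) e.surjective⟩, ?_⟩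
    rw [← hd]
    show ⌊((χ : B → ℂ) (e 1)).re⌋₊ = _
    rw [map_one]
    rfl

variable {F : Type*} [Field F] [Fintype F]

theorem psl_degrees (hodd : Odd (Fintype.card F)) (h5 : 5 < Fintype.card F) :
    (∀ d ∈ charDegrees (Matrix.SpecialLinearGroup (Fin 2) F), d = 1 ∨ d = Fintype.card F ∨
      d ∣ Fintype.card F + 1 ∨ d ∣ Fintype.card F - 1) ∧
    charDegrees (Matrix.ProjectiveSpecialLinearGroup (Fin 2) F) ⊆
      charDegrees (Matrix.SpecialLinearGroup (Fin 2) F) ∧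
    {Fintype.card F, Fintype.card F + 1, Fintype.card F - 1} ⊆
      charDegrees (Matrix.ProjectiveSpecialLinearGroup (Fin 2) F) := by
  classical
  obtain ⟨C, hC⟩ := (H17.slEmb F).exists_nonSplit
  obtain ⟨O⟩ := H17.nonempty_slOdd hC hodd
  have h2 := H17.two_ne_zero_of_odd hodd
  set D := H17.slD hC with hD
  have hq : D.q = Fintype.card F := H17.slD_q hC
  have hZ : Nat.card D.Z = 2 := H17.natCard_slZ hC hodd
  refine ⟨?_, ?_, ?_⟩
  · rintro d ⟨χ, rfl⟩
    have h2dvd1 : 2 ∣ Fintype.card F + 1 := (hodd.add_odd odd_one).two_dvd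
    have h2dvd2 : 2 ∣ Fintype.card F - 1 := (Nat.Odd.sub_odd hodd odd_one).two_dvd
    rcases H17.sl_odd_degree hC hodd O χ with ⟨_, -, -, d⟩ | ⟨_, -, -, d⟩ | ⟨-, d⟩ | ⟨-, d⟩ | ⟨-, d⟩ | ⟨-, d⟩
    · exact .inr (.inr (.inl (by rw [charDegree_of_eq (n := Fintype.card F + 1) (by rw [d]; push_cast; rfl)])))
    · exact .inr (.inr (.inr (by
        rw [charDegree_of_eq (n := Fintype.card F - 1) (by
          rw [d, Nat.cast_sub (show 1 ≤ Fintype.card F by omega), Nat.cast_one])])))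
    · exact .inl (charDegree_of_eq (n := 1) (by rw [d, Nat.cast_one]))
    · exact .inr (.inl (charDegree_of_eq d))
    · exact .inr (.inr (.inl (by rw [charDegree_of_eq d]; exact Nat.div_dvd_of_dvd h2dvd1)))
    · exact .inr (.inr (.inr (by rw [charDegree_of_eq d]; exact Nat.div_dvd_of_dvd h2dvd2)))
  · rintro d ⟨χ, rfl⟩
    exact ⟨H12.inflate _ χ, rfl⟩
  -- the characters trivial on the centre
  have key : ∀ (χ : Matrix.SpecialLinearGroup (Fin 2) F → ℂ) (n : ℕ),
      IsIrrCharacter _ χ → χ 1 = (n : ℂ) → (∀ z : D.Z, χ z = (n : ℂ)) →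
      n ∈ charDegrees (Matrix.ProjectiveSpecialLinearGroup (Fin 2) F) := by
    intro χ n hχ h1 hz
    have hker : ∀ z ∈ Subgroup.center (Matrix.SpecialLinearGroup (Fin 2) F), χ z = χ 1 := by
      intro z hz'
      rw [H17.center_eq] at hz'
      rw [h1]
      exact hz ⟨z, hz'⟩
    obtain ⟨ψ, hψ⟩ := H12.exists_inflate_eq _ ⟨χ, hχ⟩ hker
    refine ⟨ψ, charDegree_of_eq ?_⟩
    rw [← h1]
    exact congrFun (congrArg Subtype.val hψ) 1
  have hcT : ∀ a ∈ D.T, ∀ b ∈ D.T, a * b = b * a := D.commT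
  have hcC : ∀ a ∈ D.C, ∀ b ∈ D.C, a * b = b * a := D.commC
  obtain ⟨α, hα, hαz⟩ := exists_nonfixed_hom D.Z_le_T hcT
    (by
      rw [hZ, show Nat.card D.T = Fintype.card F - 1 from H17.sl_card_T hC]
      rcases hodd with ⟨k, hk⟩; omega)
    (le_of_eq (by
      rw [← Nat.card_congr (Equiv.subtypeEquivRight fun α => H17.slT_fixed_iff hC α),
        H17.card_fixed_T hC]
      exact H17.card_sq_one_eq_two h2 fun g hg => D.Z_le_T hg))
  obtain ⟨θ, hθ, hθz⟩ := exists_nonfixed_hom D.Z_le_C hcC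
    (by rw [hZ, show Nat.card D.C = Fintype.card F + 1 from H17.sl_card_C hC]; omega)
    (le_of_eq (by
      rw [← Nat.card_congr (Equiv.subtypeEquivRight fun α => H17.slC_fixed_iff hC α),
        H17.card_fixed_C hC]
      exact H17.card_sq_one_eq_two h2 fun g hg => D.Z_le_C hg))
  rintro n (rfl | rfl | rfl)
  · refine key (D.stein 1) _ (D.isIrr_stein 1 fun a => rfl) (by rw [D.stein_one, hq]) fun z => ?_
    rw [D.stein_Z, hq]; simp
  · refine key (D.chT α) _ (D.isIrr_chT (mt (H17.slT_fixed_iff hC α).1 hα))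
      (by rw [D.chT_one, hq]; push_cast; rfl) fun z => ?_
    rw [D.chT_Z, hq, hαz (D.zT z) z.2]; simp
  · refine key (D.chC θ) _ (D.isIrr_chC (mt (H17.slC_fixed_iff hC θ).1 hθ))
      (by rw [D.chC_one, hq, Nat.cast_sub (show 1 ≤ Fintype.card F by omega), Nat.cast_one]) fun z => ?_
    rw [D.chC_Z, hq, hθz (D.zC z) z.2, Nat.cast_sub (show 1 ≤ Fintype.card F by omega)]; simp

theorem degreeGraph_psl2 (t q : ℕ) [Fact t.Prime] [CharP F t] (ht : t ≠ 2)
    (hq : Fintype.card F = q) (h5 : 5 < q) {S : Type*} [Group S]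
    (hS : Nonempty (S ≃* Matrix.ProjectiveSpecialLinearGroup (Fin 2) F) ∨
      Nonempty (S ≃* Matrix.SpecialLinearGroup (Fin 2) F)) :
    degreePrimes S = {r : ℕ | r.Prime ∧ r ∣ q * (q ^ 2 - 1)} ∧
      ∀ r s : ℕ, (degreeGraph S).Adj r s ↔ (r ≠ s ∧ r.Prime ∧ s.Prime ∧ r ∣ q ^ 2 - 1 ∧
        s ∣ q ^ 2 - 1 ∧ (r = 2 ∨ s = 2 ∨ (r ∣ q + 1 ∧ s ∣ q + 1) ∨ (r ∣ q - 1 ∧ s ∣ q - 1))) := by
  subst hq
  obtain ⟨n, htp, hcard⟩ := FiniteField.card F t
  have hodd : Odd (Fintype.card F) := by rw [hcard]; exact (htp.odd_of_ne_two ht).pow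
  obtain ⟨hdeg, hsub, hex⟩ := psl_degrees hodd h5
  have hS' : (∀ d ∈ charDegrees S, d = 1 ∨ d = Fintype.card F ∨ d ∣ Fintype.card F + 1 ∨
      d ∣ Fintype.card F - 1) ∧
      {Fintype.card F, Fintype.card F + 1, Fintype.card F - 1} ⊆ charDegrees S := by
    rcases hS with ⟨⟨e⟩⟩ | ⟨⟨e⟩⟩ <;> rw [charDegrees_congr e]
    · exact ⟨fun d hd => hdeg d (hsub hd), hex⟩
    · exact ⟨hdeg, hex.trans hsub⟩
  obtain ⟨hd, he⟩ := hS'
  have heq : Fintype.card F ∈ charDegrees S := he (.inl rfl)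
  have hep : Fintype.card F + 1 ∈ charDegrees S := he (.inr (.inl rfl))
  have hem : Fintype.card F - 1 ∈ charDegrees S := he (.inr (.inr rfl))
  set q := Fintype.card F
  have hsq : q ^ 2 - 1 = (q + 1) * (q - 1) := by
    rw [← Nat.sq_sub_sq, one_pow]
  have h2p : 2 ∣ q + 1 := (hodd.add_odd odd_one).two_dvd
  have h2m : 2 ∣ q - 1 := (Nat.Odd.sub_odd hodd odd_one).two_dvd
  refine ⟨?_, ?_⟩
  · ext r
    constructor
    · rintro ⟨hr, d, hdd, hrd⟩
      refine ⟨hr, ?_⟩
      rw [hsq]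
      rcases hd d hdd with h | h | h | h
      · exact absurd (h ▸ hrd) hr.not_dvd_one
      · exact (h ▸ hrd).mul_right _
      · exact Dvd.dvd.mul_left ((hrd.trans h).mul_right _) _
      · exact Dvd.dvd.mul_left ((hrd.trans h).mul_left _) _
    · rintro ⟨hr, hrd⟩
      rw [hsq] at hrd
      rcases hr.dvd_mul.mp hrd with h | h
      · exact ⟨hr, q, heq, h⟩
      · rcases hr.dvd_mul.mp h with h | h
        · exact ⟨hr, _, hep, h⟩
        · exact ⟨hr, _, hem, h⟩
  · intro r s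
    constructor
    · rintro ⟨hne, hr, hs, d, hdd, hrs⟩
      have hrd := (dvd_mul_right r s).trans hrs
      have hsd := (dvd_mul_left s r).trans hrs
      refine ⟨hne, hr, hs, ?_⟩
      rw [hsq]
      rcases hd d hdd with h | h | h | h
      · exact absurd (h ▸ hrd) hr.not_dvd_one
      · exfalso
        rw [h, hcard] at hrd hsd
        exact hne (((Nat.prime_dvd_prime_iff_eq hr htp).mp (hr.dvd_of_dvd_pow hrd)).trans
          ((Nat.prime_dvd_prime_iff_eq hs htp).mp (hs.dvd_of_dvd_pow hsd)).symm)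
      · exact ⟨(hrd.trans h).mul_right _, (hsd.trans h).mul_right _,
          .inr (.inr (.inl ⟨hrd.trans h, hsd.trans h⟩))⟩
      · exact ⟨(hrd.trans h).mul_left _, (hsd.trans h).mul_left _,
          .inr (.inr (.inr ⟨hrd.trans h, hsd.trans h⟩))⟩
    · rintro ⟨hne, hr, hs, hrd, hsd, hcase⟩
      refine ⟨hne, hr, hs, ?_⟩
      have hc := (Nat.coprime_primes hr hs).mpr hne
      rw [hsq] at hrd hsd
      have hmk : ∀ m, m ∈ charDegrees S → r ∣ m → s ∣ m → ∃ d ∈ charDegrees S, r * s ∣ d :=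
        fun m hm h1 h2 => ⟨m, hm, hc.mul_dvd_of_dvd_of_dvd h1 h2⟩
      rcases hcase with rfl | rfl | ⟨h1, h2⟩ | ⟨h1, h2⟩
      · rcases hs.dvd_mul.mp hsd with h | h
        · exact hmk _ hep h2p h
        · exact hmk _ hem h2m h
      · rcases hr.dvd_mul.mp hrd with h | h
        · exact hmk _ hep h h2p
        · exact hmk _ hem h h2m
      · exact hmk _ hep h1 h2
      · exact hmk _ hem h1 h2

end H18
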