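import Cfsg.Agent.H18.DegreeTwicePChar
import Cfsg.Agent.H18.DegreeTwicePLocal
import Cfsg.Agent.H59.A5Char
import Mathlib.GroupTheory.Perm.Centralizer

/-!
A primitive, not doubly transitive group of degree `2p` with Sylow `p`-normaliser of order `2p` is
the alternating group of degree five.
-/

set_option autoImplicit false
set_option linter.unusedSectionVars false

open Cfsg MulAction

namespace H18.TwiceP

universe u

variable {α : Type u} [Fintype α] [DecidableEq α] {p : ℕ} [Fact p.Prime] (hp : 3 < p)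
  (hα : Fintype.card α = 2 * p) {G : Subgroup (Equiv.Perm α)}
  (hprim : IsPreprimitive G α) (hnot2 : ¬ IsMultiplyPretransitive G α 2) (P : Sylow p G)
  (hN : Nat.card (Subgroup.normalizer ((P : Subgroup G) : Set G)) = 2 * p)

include hp hα hprim hnot2 hN

theorem degree_eq_five : p = 5 ∧ Nonempty (G ≃* alternatingGroup (Fin 5)) := by
  classical
  letI : Fintype G := Fintype.ofFinite _
  have hpr : p.Prime := Fact.out
  haveI h2 : Fact (Nat.Prime 2) := ⟨Nat.prime_two⟩
  have hp5 := five_le hp hα hprim hnot2 P hN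
  haveI := isSimple hp hα hprim P hN
  obtain ⟨χ, -, hd, hfaith, hχinv, hwedge, hfix, hconj, heq⟩ :=
    main_facts hp hα hprim hnot2 P hN
  obtain ⟨j0, hj0N, hj0P⟩ := exists_normalizer_not_mem hp hα hprim P hN
  have hj0 : j0 * j0 = 1 := inv_of_normalizer hp hα hprim P hN j0 hj0N hj0P
  have hj01 : j0 ≠ 1 := fun e => hj0P (e ▸ one_mem _)
  set c := Nat.card (Subgroup.centralizer ({j0} : Set G)) with hc
  have hEQ : (p - 1) * Nat.card G = p * (p - 2) * c ^ 2 := heq j0 hj0 hj01
  have hodd : Odd p := hpr.odd_of_ne_two (by omega)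
  -- `2`-parts
  have hp2 : ¬ 2 ∣ p * (p - 2) := by
    rw [← even_iff_two_dvd, Nat.not_even_iff_odd]
    exact Nat.odd_mul.mpr ⟨hodd, Nat.Odd.sub_even (by omega) hodd even_two⟩
  have hcdvd : c ∣ Nat.card G := Subgroup.card_subgroup_dvd_card _
  have hcpos : 0 < c := Nat.card_pos
  set e := (p - 1).factorization 2 with he
  have hfac : e + (Nat.card G).factorization 2 = 2 * c.factorization 2 := by
    have h := congrArg (fun n => n.factorization 2) hEQ
    simp only [Nat.factorization_mul (show p - 1 ≠ 0 by omega) Nat.card_pos.ne',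
      Nat.factorization_mul (Nat.mul_ne_zero hpr.ne_zero (show p - 2 ≠ 0 by omega))
        (pow_ne_zero 2 hcpos.ne'), Nat.factorization_pow, Finsupp.add_apply, Finsupp.smul_apply,
      smul_eq_mul, Nat.factorization_eq_zero_of_not_dvd hp2, zero_add] at h
    exact h
  have hcle : c.factorization 2 ≤ (Nat.card G).factorization 2 :=
    (Nat.factorization_le_iff_dvd hcpos.ne' Nat.card_pos.ne').mpr hcdvd 2
  have hEle : (Nat.card G).factorization 2 ≤ c.factorization 2 := by
    let T : Sylow 2 G := default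
    have hTcard : Nat.card (T : Subgroup G) = 2 ^ (Nat.card G).factorization 2 :=
      T.card_eq_multiplicity
    have h2G : 2 ∣ Nat.card G := by
      have hj : orderOf j0 = 2 := orderOf_eq_prime (by rw [pow_two, hj0]) hj01
      exact hj ▸ orderOf_dvd_natCard j0
    haveI : Nontrivial (T : Subgroup G) := Finite.one_lt_card_iff_nontrivial.mp (by
      rw [hTcard]
      exact Nat.one_lt_two_pow (Nat.prime_two.factorization_pos_of_dvd Nat.card_pos.ne' h2G).ne')
    haveI := T.2.center_nontrivial
    have hdz : 2 ∣ Nat.card (Subgroup.center (T : Subgroup G)) := by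
      obtain ⟨n, hn0, hn⟩ := (T.2.to_subgroup (Subgroup.center (T : Subgroup G))).nontrivial_iff_card.mp
        inferInstance
      rw [hn]; exact dvd_pow_self 2 (by omega)
    obtain ⟨⟨⟨t, htT⟩, htc⟩, ht⟩ := exists_prime_orderOf_dvd_card' 2 hdz
    rw [Subgroup.orderOf_mk, Subgroup.orderOf_mk] at ht
    obtain ⟨a, ha⟩ := hconj t j0 (by rw [← pow_two, ← ht, pow_orderOf_eq_one])
      (fun q => by rw [q, orderOf_one] at ht; omega) hj0 hj01
    have hle : (T : Subgroup G).map (MulAut.conj a).toMonoidHom ≤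
        Subgroup.centralizer ({j0} : Set G) := by
      rintro _ ⟨x, hx, rfl⟩
      rw [Subgroup.mem_centralizer_singleton_iff]
      have h1 : x * t = t * x :=
        congrArg Subtype.val (Subgroup.mem_center_iff.mp htc ⟨x, hx⟩)
      show a * x * a⁻¹ * j0 = j0 * (a * x * a⁻¹)
      rw [← ha]
      calc a * x * a⁻¹ * (a * t * a⁻¹) = a * (x * t) * a⁻¹ := by group
        _ = a * (t * x) * a⁻¹ := by rw [h1]
        _ = a * t * a⁻¹ * (a * x * a⁻¹) := by group
    have := Subgroup.card_dvd_of_le hle
    rw [← Nat.card_congr ((T : Subgroup G).equivMapOfInjective _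
      (MulAut.conj a).injective).toEquiv, hTcard] at this
    exact (Nat.prime_two.pow_dvd_iff_le_factorization hcpos.ne').mp this
  have hce : c.factorization 2 = e := by omega
  rcases hp5.eq_or_lt with h5 | h5
  · -- `p = 5`
    subst h5
    refine ⟨rfl, H59.simple60_iso ?_⟩
    have he2 : e = 2 := by
      rw [he, show (5 - 1 : ℕ) = 2 ^ 2 by norm_num, Nat.Prime.factorization_pow Nat.prime_two,
        Finsupp.single_eq_same]
    have hc768 : c ∣ 768 := by
      let f : Subgroup.centralizer ({j0} : Set G) →*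
          Subgroup.centralizer ({(j0 : Equiv.Perm α)} : Set (Equiv.Perm α)) :=
        { toFun := fun x => ⟨(x : G), Subgroup.mem_centralizer_singleton_iff.mpr
            (congrArg Subtype.val (Subgroup.mem_centralizer_singleton_iff.mp x.2))⟩
          map_one' := rfl
          map_mul' := fun _ _ => rfl }
      have hf : Function.Injective f := fun x y h =>
        Subtype.ext (Subtype.ext (congrArg (fun z : Subgroup.centralizer
          ({(j0 : Equiv.Perm α)} : Set (Equiv.Perm α)) => (z : Equiv.Perm α)) h :))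
      refine (Subgroup.card_dvd_of_injective f hf).trans (dvd_of_eq ?_)
      have ho : orderOf (j0 : Equiv.Perm α) = 2 := by
        rw [Subgroup.orderOf_coe]
        exact orderOf_eq_prime (by rw [pow_two, hj0]) hj01
      obtain ⟨n, hn⟩ := Equiv.Perm.cycleType_prime_order (σ := (j0 : Equiv.Perm α))
        (by rw [ho]; exact Nat.prime_two)
      have hs := Equiv.Perm.sum_cycleType (j0 : Equiv.Perm α)
      have hfull : (j0 : Equiv.Perm α).support.card = 8 := by
        have h := Finset.card_add_card_compl (j0 : Equiv.Perm α).support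
        have h' : ((j0 : Equiv.Perm α).support)ᶜ.card = 2 := by
          rw [← hfix j0 hj0 hj01, Nat.card_eq_fintype_card, ← Fintype.card_coe]
          exact Fintype.card_congr (Equiv.subtypeEquivRight fun a => by
            rw [Finset.mem_compl, Equiv.Perm.notMem_support]; rfl)
        rw [hα, h'] at h
        omega
      rw [hfull, hn, ho, Multiset.sum_replicate, smul_eq_mul] at hs
      obtain rfl : n = 3 := by omega
      rw [Equiv.Perm.nat_card_centralizer, hn, ho, hα]
      decide
    obtain ⟨u, hu⟩ : 4 ∣ c := by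
      have := Nat.ordProj_dvd c 2
      rwa [hce, he2] at this
    have hu2 : ¬ 2 ∣ u := by
      rintro ⟨v, rfl⟩
      have h8 : 2 ^ 3 ∣ c := ⟨v, by rw [hu]; ring⟩
      have := (Nat.prime_two.pow_dvd_iff_le_factorization hcpos.ne').mp h8
      omega
    have hu3 : u ∣ 3 := by
      have h1 : u ∣ 2 ^ 6 * 3 :=
        Nat.dvd_of_mul_dvd_mul_left (by norm_num : 0 < 4) (by rw [← hu]; exact hc768)
      exact ((Nat.Coprime.pow_left 6 (Nat.prime_two.coprime_iff_not_dvd.mpr hu2)).symm).dvd_of_dvd_mul_left h1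
    have hG : Nat.card G = 60 * u ^ 2 := by
      rw [hu] at hEQ
      simp only [show (5 - 1 : ℕ) = 4 by rfl, show (5 - 2 : ℕ) = 3 by rfl, mul_pow] at hEQ
      linarith
    rcases (Nat.dvd_prime Nat.prime_three).mp hu3 with rfl | rfl
    · simpa using hG
    · exfalso
      have h1 := card_sylow_modEq_one 5 G
      rw [P.card_eq_index_normalizer] at h1
      have h2 := (Subgroup.normalizer ((P : Subgroup G) : Set G)).card_mul_index
      rw [hN, hG] at h2
      norm_num at h2
      unfold Nat.ModEq at h1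
      omega
  -- `p > 5` is impossible
  exfalso
  obtain ⟨m, hm⟩ : ∃ m, p = 2 * m + 1 := hodd
  have hd' : (χ : G → ℂ) 1 = ((2 * m : ℕ) : ℂ) := by rw [hd, hm]; push_cast; ring
  have hpm : ((p : ℂ) - 1) = ((2 * m : ℕ) : ℂ) := by rw [hm]; push_cast; ring
  have honly : ∀ r, r.Prime → r ∣ c → r = 2 := by
    intro r hr hrc
    by_contra hr2
    haveI := Fact.mk hr
    obtain ⟨⟨g, hg⟩, hgo⟩ := exists_prime_orderOf_dvd_card' r hrc
    rw [Subgroup.orderOf_mk] at hgo
    rw [Subgroup.mem_centralizer_singleton_iff] at hg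
    have hg1 : g ≠ 1 := fun q => by rw [q, orderOf_one] at hgo; exact hr.ne_one hgo.symm
    have hrp : r ≠ p := by
      rintro rfl
      obtain ⟨a, ha⟩ := sylow_mem_of_pow hp hα hprim P hN g (by rw [← hgo]; exact pow_orderOf_eq_one g)
      have hcent := centralizer_sylow_elt hp hα hprim P hN _ ha
        (fun q => hg1 (conj_eq_one_iff.mp q))
      have hmem : a * j0 * a⁻¹ ∈ Subgroup.centralizer ({a * g * a⁻¹} : Set G) := by
        rw [Subgroup.mem_centralizer_singleton_iff]
        calc a * j0 * a⁻¹ * (a * g * a⁻¹) = a * (j0 * g) * a⁻¹ := by group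
          _ = a * (g * j0) * a⁻¹ := by rw [hg]
          _ = a * g * a⁻¹ * (a * j0 * a⁻¹) := by group
      rw [hcent] at hmem
      have h1 := Subgroup.orderOf_dvd_natCard _ hmem
      rw [card_sylow hp hα hprim P hN, show a * j0 * a⁻¹ = MulAut.conj a j0 from rfl,
        MulEquiv.orderOf_eq, orderOf_eq_prime (by rw [pow_two, hj0]) hj01] at h1
      have := (Nat.prime_dvd_prime_iff_eq Nat.prime_two hr).mp h1
      omega
    have hgr : g ^ r = 1 := by rw [← hgo]; exact pow_orderOf_eq_one g
    have hcop : ∀ k, ¬ r ∣ k → g ^ k ≠ 1 := fun k hk h =>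
      hk (hgo ▸ orderOf_dvd_of_pow_eq_one h)
    refine hg1 (no_odd_commuting (H12.isCharacter_irr χ) m (by omega) hd'
      (fun x hx => hfaith x hx) j0 g r hr hr2 hj0 (hχinv j0 hj0 hj01) hgr hg fun k hk y hy => ?_)
    rw [← hpm]
    refine hwedge y fun a ha => ?_
    exfalso
    have hyp : y ^ p = 1 := by
      have h1 := Subgroup.orderOf_dvd_natCard _ ha
      rw [card_sylow hp hα hprim P hN, show a * y * a⁻¹ = MulAut.conj a y from rfl,
        MulEquiv.orderOf_eq] at h1
      exact orderOf_dvd_iff_pow_eq_one.mp h1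
    have hkp : ¬ r ∣ 2 * (k * p) := fun h => by
      rcases hr.dvd_mul.mp h with h | h
      · exact hr2 ((Nat.prime_dvd_prime_iff_eq hr Nat.prime_two).mp h)
      rcases hr.dvd_mul.mp h with h | h
      · exact hk h
      · exact hrp ((Nat.prime_dvd_prime_iff_eq hr hpr).mp h)
    apply hcop _ hkp
    rcases hy with rfl | rfl
    · rw [mul_comm 2, pow_mul, pow_mul, hyp, one_pow]
    · rw [(Commute.pow_right (show Commute j0 g from hg.symm) k).mul_pow, ← pow_mul] at hyp
      have h2 := congrArg (fun x => x ^ 2) hyp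
      simp only [one_pow] at h2
      rw [((Commute.pow_right (show Commute j0 g from hg.symm) _).pow_left p).mul_pow, ← pow_mul,
        mul_comm p 2, pow_mul, pow_two j0, hj0, one_pow, one_mul, ← pow_mul] at h2
      rwa [mul_comm 2]
  have hc2 : c = 2 ^ e := by
    rw [← hce]
    exact Nat.eq_pow_of_factorization_eq_single hcpos.ne' (Finsupp.ext fun q => by
      by_cases hq : q = 2
      · subst hq; rw [Finsupp.single_eq_same]
      · rw [Finsupp.single_eq_of_ne hq]
        by_cases hqp : q.Prime
        · exact Nat.factorization_eq_zero_of_not_dvd fun h => hq (honly q hqp h)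
        · exact Nat.factorization_eq_zero_of_not_prime _ hqp)
  have hp1 : p - 1 = 2 ^ e := by
    have h1 : (p - 1).Coprime (p * (p - 2)) := by
      refine Nat.Coprime.mul_right ?_ ?_
      · exact (Nat.coprime_self_sub_left (m := 1) (n := p) (by omega)).mpr (Nat.coprime_one_left p)
      · rw [show p - 2 = p - 1 - 1 by omega]
        exact (Nat.coprime_self_sub_right (m := 1) (n := p - 1) (by omega)).mpr
          (Nat.coprime_one_right _)
    have h2 : p - 1 ∣ c ^ 2 := h1.dvd_of_dvd_mul_left ⟨_, hEQ.symm⟩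
    rw [hc2, ← pow_mul] at h2
    obtain ⟨k, -, hk⟩ := (Nat.dvd_prime_pow Nat.prime_two).mp h2
    rw [he, hk, Nat.Prime.factorization_pow Nat.prime_two, Finsupp.single_eq_same]
  obtain ⟨q, hq⟩ : ∃ q, 2 ^ e = 2 * q := ⟨m, by omega⟩
  have hG : Nat.card G = p * (p - 2) * (p - 1) := by
    have h := hEQ
    rw [hc2, ← hp1] at h
    exact Nat.eq_of_mul_eq_mul_left (by omega : 0 < p - 1) (h.trans (by ring))
  haveI := hprim.toIsPretransitive
  haveI : Nonempty α := Fintype.card_pos_iff.mp (by omega)
  obtain ⟨a0⟩ := (inferInstance : Nonempty α)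
  set H := stabilizer G a0 with hH
  have hHcard : Nat.card H = (p - 2) * q := by
    have h := H.card_mul_index
    rw [index_stabilizer_of_transitive G a0, Nat.card_eq_fintype_card (α := α), hα, hG, hp1, hq] at h
    exact Nat.eq_of_mul_eq_mul_right (by omega : 0 < 2 * p) (h.trans (by ring))
  -- involutions
  set I : Finset G := Finset.univ.filter fun x => x * x = 1 ∧ x ≠ 1 with hI
  have hIc : I.card * c = Nat.card G := by
    rw [Nat.card_eq_fintype_card, ← Finset.card_univ,
      Finset.card_eq_sum_card_fiberwise (s := (Finset.univ : Finset G)) (t := I)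
        (f := fun a : G => a * j0 * a⁻¹) (fun a _ => Finset.mem_filter.mpr ⟨Finset.mem_univ _, by
          rw [show a * j0 * a⁻¹ * (a * j0 * a⁻¹) = a * (j0 * j0) * a⁻¹ by group, hj0, mul_one,
            mul_inv_cancel], fun q => hj01 (conj_eq_one_iff.mp q)⟩), mul_comm]
    rw [Finset.sum_congr rfl (g := fun _ => c) (fun k hk => ?_), Finset.sum_const, smul_eq_mul,
      mul_comm]
    obtain ⟨hk2, hk1⟩ := (Finset.mem_filter.mp hk).2
    obtain ⟨b, hb⟩ := hconj j0 k hj0 hj01 hk2 hk1
    rw [hc, ← Fintype.card_subtype, ← Nat.card_eq_fintype_card]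
    refine Nat.card_congr (Equiv.subtypeEquiv (Equiv.mulLeft b⁻¹) fun x => ?_)
    rw [Equiv.coe_mulLeft, Subgroup.mem_centralizer_singleton_iff, ← hb]
    constructor
    · intro h
      calc b⁻¹ * x * j0 = b⁻¹ * (x * j0 * x⁻¹) * x := by group
        _ = b⁻¹ * (b * j0 * b⁻¹) * x := by rw [h]
        _ = j0 * (b⁻¹ * x) := by group
    · intro h
      calc x * j0 * x⁻¹ = b * (b⁻¹ * x * j0) * x⁻¹ := by group
        _ = b * (j0 * (b⁻¹ * x)) * x⁻¹ := by rw [h]
        _ = b * j0 * b⁻¹ := by group
  have hper : (I.filter fun x => x ∈ H).card = p - 2 := by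
    have hsame : ∀ b : α, (I.filter fun x => x • b = b).card = (I.filter fun x => x ∈ H).card := by
      intro b
      obtain ⟨k, hk⟩ := exists_smul_eq G a0 b
      refine Finset.card_equiv (MulAut.conj k⁻¹).toEquiv fun x => ?_
      simp only [hI, hH, Finset.mem_filter, Finset.mem_univ, true_and, MulEquiv.toEquiv_eq_coe,
        MulEquiv.coe_toEquiv, mem_stabilizer_iff]
      refine and_congr (and_congr ?_ ?_) ?_
      · rw [← map_mul, MulEquiv.map_eq_one_iff]
      · rw [ne_eq, ne_eq, MulEquiv.map_eq_one_iff]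
      · rw [MulAut.conj_apply, inv_inv, mul_smul, mul_smul, hk, inv_smul_eq_iff, hk]
    have h1 : ∑ b : α, (I.filter fun x => x • b = b).card = 2 * I.card := by
      simp only [Finset.card_filter]
      rw [Finset.sum_comm, Finset.sum_congr rfl (g := fun _ => 2) (fun x hx => ?_), Finset.sum_const,
        smul_eq_mul, mul_comm]
      obtain ⟨hx2, hx1⟩ := (Finset.mem_filter.mp hx).2
      rw [← Finset.card_filter, ← hfix x hx2 hx1, Nat.card_eq_fintype_card]
      exact (Fintype.card_subtype _).symm
    rw [Finset.sum_congr rfl fun b _ => hsame b, Finset.sum_const, Finset.card_univ, hα,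
      smul_eq_mul] at h1
    have h2 : I.card = p * (p - 2) := Nat.eq_of_mul_eq_mul_right hcpos (by
      rw [hIc, hG, hc2, hp1])
    rw [h2] at h1
    refine Nat.eq_of_mul_eq_mul_left (by omega : 0 < 2 * p) (h1.trans (by ring))
  -- no elements of order four
  have hfour : ∀ g : G, g ^ 4 = 1 → g * g = 1 := by
    intro g hg
    by_contra hne
    have hgg : g * g * (g * g) = 1 := by rw [← hg]; simp [pow_succ, mul_assoc]
    refine no_order_four (H12.isCharacter_irr χ) p (by omega) g hg (hχinv _ hgg hne)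
      (hwedge g fun a ha => ?_)
    exfalso
    have h1 := Subgroup.orderOf_dvd_natCard _ ha
    rw [card_sylow hp hα hprim P hN, show a * g * a⁻¹ = MulAut.conj a g from rfl,
      MulEquiv.orderOf_eq] at h1
    have h2 := Nat.dvd_gcd (orderOf_dvd_of_pow_eq_one hg) h1
    rw [Nat.Coprime.gcd_eq_one (Nat.Coprime.pow_left 2
      ((Nat.coprime_primes Nat.prime_two hpr).mpr (by omega)) : Nat.Coprime (2 ^ 2) p)] at h2
    exact hne (by rw [orderOf_eq_one_iff.mp (Nat.dvd_one.mp h2), one_mul])
  have hexp : ∀ x : G, (∃ k, x ^ 2 ^ k = 1) → x * x = 1 := by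
    rintro x ⟨k, hk⟩
    induction k generalizing x with
    | zero => rw [pow_zero, pow_one] at hk; rw [hk, one_mul]
    | succ k ih =>
      rw [pow_succ', pow_mul] at hk
      have := ih _ hk
      exact hfour x (by rw [← this]; simp [pow_succ, mul_assoc])
  -- Sylow subgroups of the point stabiliser
  have hp2q : p - 2 = 2 * q - 1 := by omega
  have hSyl : ∀ T : Sylow 2 H, Nat.card (T : Subgroup H) = q := by
    intro T
    obtain ⟨k, -, hk⟩ := (Nat.dvd_prime_pow Nat.prime_two).mp (⟨2, by omega⟩ : q ∣ 2 ^ e)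
    rw [T.card_eq_multiplicity, hHcard, Nat.factorization_mul (by omega) (by omega),
      Finsupp.add_apply, Nat.factorization_eq_zero_of_not_dvd (by omega : ¬ 2 ∣ p - 2), zero_add,
      hk, Nat.Prime.factorization_pow Nat.prime_two, Finsupp.single_eq_same]
  let A : Sylow 2 H → Finset G := fun T =>
    (Finset.univ.filter fun x : H => x ∈ (T : Subgroup H) ∧ x ≠ 1).map (Function.Embedding.subtype _)
  have hAcard : ∀ T, (A T).card = q - 1 := by
    intro T
    have h1 : (Finset.univ.filter fun x : H => x ∈ (T : Subgroup H)).card = q := by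
      rw [← Fintype.card_subtype, ← Nat.card_eq_fintype_card]; exact hSyl T
    rw [Finset.card_map,
      show (Finset.univ.filter fun x : H => x ∈ (T : Subgroup H) ∧ x ≠ 1) =
        (Finset.univ.filter fun x : H => x ∈ (T : Subgroup H)).erase 1 by
        ext x; simp [and_comm],
      Finset.card_erase_of_mem (by simp), h1]
  have hTI : ∀ (T T' : Sylow 2 H) (t : H), t ∈ (T : Subgroup H) → t ∈ (T' : Subgroup H) → t ≠ 1 →
      T = T' := by
    intro T T' t ht ht' ht1
    obtain ⟨k, hk⟩ := T.2 ⟨t, ht⟩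
    have ht2 : (t : G) * t = 1 := hexp _ ⟨k, by
      have := congrArg (fun z : (T : Subgroup H) => ((z : H) : G)) hk
      simpa using this⟩
    obtain ⟨a, ha⟩ := hconj _ j0 ht2 (fun q => ht1 (Subtype.ext q)) hj0 hj01
    let C : Subgroup H := Subgroup.centralizer ({t} : Set H)
    have hC : IsPGroup 2 C := by
      rintro ⟨x, hx⟩
      have hxm : a * (x : G) * a⁻¹ ∈ Subgroup.centralizer ({j0} : Set G) := by
        rw [Subgroup.mem_centralizer_singleton_iff, ← ha]
        have h1 : (x : G) * t = t * x :=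
          congrArg Subtype.val (Subgroup.mem_centralizer_singleton_iff.mp hx)
        calc a * (x : G) * a⁻¹ * (a * t * a⁻¹) = a * ((x : G) * t) * a⁻¹ := by group
          _ = a * ((t : G) * x) * a⁻¹ := by rw [h1]
          _ = a * t * a⁻¹ * (a * x * a⁻¹) := by group
      have h1 := Subgroup.orderOf_dvd_natCard _ hxm
      rw [← hc, hc2, show a * (x : G) * a⁻¹ = MulAut.conj a (x : G) from rfl, MulEquiv.orderOf_eq,
        orderOf_dvd_iff_pow_eq_one] at h1
      exact ⟨e, Subtype.ext (Subtype.ext (by simpa using h1))⟩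
    have hsub : ∀ S : Sylow 2 H, t ∈ (S : Subgroup H) → C = (S : Subgroup H) := by
      intro S hS
      refine S.is_maximal' hC fun x hx => Subgroup.mem_centralizer_singleton_iff.mpr ?_
      -- a group of exponent two is commutative
      have hinv : ∀ z ∈ (S : Subgroup H), z * z = 1 := fun z hz => by
        obtain ⟨k, hk⟩ := S.2 ⟨z, hz⟩
        refine Subtype.ext (hexp _ ⟨k, ?_⟩)
        have := congrArg (fun w : (S : Subgroup H) => ((w : H) : G)) hk
        simpa using this
      have h3 := hinv _ (mul_mem hx hS)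
      have h4 : x * t = (x * t)⁻¹ := (inv_eq_of_mul_eq_one_right h3).symm
      rw [mul_inv_rev, inv_eq_of_mul_eq_one_right (hinv x hx),
        inv_eq_of_mul_eq_one_right (hinv t hS)] at h4
      exact h4
    exact Sylow.ext ((hsub T ht).symm.trans (hsub T' ht'))
  haveI : Fintype (Sylow 2 H) := Fintype.ofFinite _
  have hunion : (I.filter fun x => x ∈ H) = Finset.univ.biUnion A := by
    ext x
    simp only [hI, A, Finset.mem_filter, Finset.mem_univ, true_and, Finset.mem_biUnion,
      Finset.mem_map, Function.Embedding.subtype_apply]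
    constructor
    · rintro ⟨⟨hx2, hx1⟩, hxH⟩
      obtain ⟨T, hT⟩ := (IsPGroup.of_card (p := 2) (n := 1) (G := Subgroup.zpowers (⟨x, hxH⟩ : H))
        (by rw [Nat.card_zpowers, pow_one, Subgroup.orderOf_mk]
            exact orderOf_eq_prime (by rw [pow_two, hx2]) hx1)).exists_le_sylow
      exact ⟨T, ⟨x, hxH⟩, ⟨hT (Subgroup.mem_zpowers _), fun q => hx1 (congrArg Subtype.val q)⟩, rfl⟩
    · rintro ⟨T, y, ⟨hy, hy1⟩, rfl⟩
      obtain ⟨k, hk⟩ := T.2 ⟨y, hy⟩
      refine ⟨⟨hexp _ ⟨k, ?_⟩, fun q => hy1 (Subtype.ext q)⟩, y.2⟩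
      have := congrArg (fun z : (T : Subgroup H) => ((z : H) : G)) hk
      simpa using this
  have hdisj : ((Finset.univ : Finset (Sylow 2 H)) : Set (Sylow 2 H)).PairwiseDisjoint A := by
    intro T _ T' _ hne
    rw [Function.onFun, Finset.disjoint_left]
    intro x hx hx'
    simp only [A, Finset.mem_map, Finset.mem_filter, Finset.mem_univ, true_and,
      Function.Embedding.subtype_apply] at hx hx'
    obtain ⟨y, ⟨hy, hy1⟩, rfl⟩ := hx
    obtain ⟨y', ⟨hy', -⟩, e'⟩ := hx'
    obtain rfl := Subtype.ext e'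
    exact hne (hTI T T' _ hy hy' hy1)
  rw [hunion] at hper
  replace hper : ∑ T, (A T).card = p - 2 := by
    rw [← hper]
    convert (Finset.card_biUnion hdisj).symm using 3
  rw [Finset.sum_congr rfl fun T _ => hAcard T,
    Finset.sum_const, smul_eq_mul, hp2q] at hper
  obtain ⟨q', rfl⟩ : ∃ q', q = q' + 3 := ⟨q - 3, by omega⟩
  have hdvd : q' + 3 - 1 ∣ 2 * (q' + 3) - 1 := ⟨_, (mul_comm _ _).trans hper |>.symm⟩
  rw [show q' + 3 - 1 = q' + 2 by omega,
    show 2 * (q' + 3) - 1 = 1 + (q' + 2) * 2 by omega] at hdvd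
  have := Nat.le_of_dvd one_pos ((Nat.dvd_add_left (dvd_mul_right (q' + 2) 2)).mp hdvd)
  omega

end H18.TwiceP
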