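import Cfsg.Agent.H13.TICoeff
import Mathlib.Tactic.LinearCombination

/-!
Exceptional characters for a self-centralising subgroup of prime order `p ≥ 5` whose normaliser is
dihedral, in a group with an irreducible character of degree `p - 1`.
-/

set_option autoImplicit false
set_option linter.unusedSectionVars false

open Cfsg
open scoped ComplexConjugate

namespace H18

universe u

variable {G : Type u} [Group G] [Fintype G] {H : Subgroup G} (hH : H13.TI.Hyp H) {p : ℕ}
  [Fact p.Prime] (hp : 5 ≤ p) (hcard : Nat.card H = p)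
  (hidx : H.relIndex (Subgroup.normalizer (H : Set G)) = 2)

local notation "N" => Subgroup.normalizer (H : Set G)

include hH hidx in
theorem cj_eq_or (x : N) : ((x : G) ∈ H) ∨ ∀ h : H, (∀ a b : H, a * b = b * a) →
    H13.TI.cj H x h = h⁻¹ := by
  refine or_iff_not_imp_left.mpr fun hx h hab => ?_
  set f := H13.TI.cj H x with hf
  have hsq : (x : G) * (x : G) ∈ H := by
    have h1 : (H.subgroupOf N).index = 2 := hidx
    exact Subgroup.mem_subgroupOf.mp (Subgroup.mul_self_mem_of_index_two h1 x)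
  have h2 : f (f h) = h := by
    apply Subtype.ext
    simp only [hf, H13.TI.cj_coe]
    have := congrArg Subtype.val (hab ⟨_, hsq⟩ h)
    simp only [Subgroup.coe_mul] at this
    calc (x : G) * ((x : G) * h * (x : G)⁻¹) * (x : G)⁻¹
        = (x : G) * x * h * ((x : G) * x)⁻¹ := by group
      _ = (h : G) := by rw [this]; group
  by_contra hne
  have hne' : ((h * f h : H) : G) ≠ 1 := by
    intro e
    exact hne (eq_inv_of_mul_eq_one_right (Subtype.ext e))
  refine hx (hH.cent (x : G) _ (h * f h).2 hne' ?_)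
  have h3 : f (h * f h) = h * f h := by rw [map_mul, h2, hab]
  have h4 := congrArg Subtype.val h3
  simp only [hf, H13.TI.cj_coe] at h4
  calc (x : G) * ((h * f h : H) : G)
      = ((x : G) * ((h * f h : H) : G) * (x : G)⁻¹) * x := by group
    _ = ((h * f h : H) : G) * x := by rw [hf, h4]

include hcard in
theorem comm_of_card (a b : H) : a * b = b * a :=
  letI := (isCyclic_of_prime_card hcard : IsCyclic H).commGroup
  mul_comm a b

include hH hcard hidx in
theorem tw_or (x : N) (θ : H →* ℂˣ) : H13.TI.tw H x θ = θ ∨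
    H13.TI.tw H x θ = θ⁻¹ ∧ (x : G) ∉ H := by
  by_cases hx : (x : G) ∈ H
  · exact .inl (H13.TI.tw_of_mem H x hx θ)
  · refine .inr ⟨MonoidHom.ext fun h => ?_, hx⟩
    rw [H13.TI.tw_apply, ((cj_eq_or hH hidx x).resolve_left hx) h (comm_of_card hcard), map_inv,
      MonoidHom.inv_apply]

/-- Twice the real part of a linear character. -/
noncomputable def re2 (θ : H →* ℂˣ) (h : H) : ℝ := 2 * (H13.TI.lf θ h).re

theorem re2_cast (θ : H →* ℂˣ) (h : H) :
    (re2 θ h : ℂ) = H13.TI.lf θ h + H13.TI.lf θ⁻¹ h := by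
  rw [← H13.TI.conj_lf, Complex.add_conj, re2]

include hH hcard hidx in
theorem re2_rel {θ φ : H →* ℂˣ} (h : H13.TI.Rel H θ φ) (a : H) : re2 θ a = re2 φ a := by
  obtain ⟨x, rfl⟩ := h
  rcases tw_or hH hcard hidx x θ with e | ⟨e, -⟩
  · rw [e]
  · rw [e, re2, re2, ← H13.TI.conj_lf, Complex.conj_re]

include hH hcard hidx in
theorem ind_sub_eq (θ φ : H →* ℂˣ) (h : H) :
    H13.TI.ind θ (h : G) - H13.TI.ind φ (h : G) = (re2 θ h : ℂ) - (re2 φ h : ℂ) := by
  classical
  letI : Fintype (N : Subgroup G) := Fintype.ofFinite _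
  rw [H13.TI.ind_sub_apply hH, re2_cast, re2_cast]
  have key : ∀ ψ : H →* ℂˣ, ∑ x : N, H13.TI.lf (H13.TI.tw H x ψ) h =
      (p : ℂ) * (H13.TI.lf ψ h + H13.TI.lf ψ⁻¹ h) := by
    intro ψ
    have e1 : ∀ x : N, H13.TI.lf (H13.TI.tw H x ψ) h =
        if (x : G) ∈ H then H13.TI.lf ψ h else H13.TI.lf ψ⁻¹ h := by
      intro x
      by_cases hx : (x : G) ∈ H
      · rw [if_pos hx, H13.TI.tw_of_mem H x hx]
      · rw [if_neg hx]
        rcases tw_or hH hcard hidx x ψ with e | ⟨e, -⟩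
        · have h' := ((cj_eq_or hH hidx x).resolve_left hx) h (comm_of_card hcard)
          show H13.TI.lf (H13.TI.tw H x ψ) h = _
          simp only [H13.TI.lf, H13.TI.tw_apply, h', map_inv, MonoidHom.inv_apply]
        · rw [e]
    rw [Finset.sum_congr rfl fun x _ => e1 x, Finset.sum_ite, Finset.sum_const, Finset.sum_const,
      nsmul_eq_mul, nsmul_eq_mul]
    have hin : (Finset.univ.filter fun x : N => (x : G) ∈ H).card = p := by
      rw [← Fintype.card_subtype, ← Nat.card_eq_fintype_card, ← hcard]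
      exact Nat.card_congr (Subgroup.subgroupOfEquivOfLe (Subgroup.le_normalizer (H := H))).toEquiv
    have hN : Fintype.card (N : Subgroup G) = p * 2 := by
      rw [← Nat.card_eq_fintype_card, ← hcard, ← hidx, ← Subgroup.relIndex_bot_left H,
        Subgroup.relIndex_mul_relIndex _ _ _ bot_le Subgroup.le_normalizer,
        Subgroup.relIndex_bot_left]
    have hout : (Finset.univ.filter fun x : N => ¬ (x : G) ∈ H).card = p := by
      have := Finset.card_filter_add_card_filter_not (s := (Finset.univ : Finset N))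
        (fun x : N => (x : G) ∈ H)
      rw [hin, Finset.card_univ, hN] at this
      omega
    rw [hin, hout, mul_add]
  rw [Finset.sum_sub_distrib, key, key, hcard]
  have : (p : ℂ) ≠ 0 := Nat.cast_ne_zero.mpr (Fact.out : p.Prime).ne_zero
  field_simp

variable (F : H13.TI.Family H)

include hH hcard hidx in
theorem card_w : 2 * F.w + 1 = p := by
  have h := F.card_eq
  have hc : commutator H = ⊥ := by
    rw [commutator_def, Subgroup.commutator_eq_bot_iff_le_centralizer]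
    exact fun a _ b _ => comm_of_card hcard b a
  rw [hc, Subgroup.index_bot, hcard, hidx] at h
  omega

include hH hcard hidx in
theorem sum_family [Fintype (H →* ℂˣ)] (f : (H →* ℂˣ) → ℝ)
    (hf : ∀ θ φ, H13.TI.Rel H θ φ → f θ = f φ) :
    ∑ θ, f θ = f 1 + 2 * ∑ s, f (F.rep s) := by
  rw [H13.TI.sum_linear hH F f hf, hidx]
  norm_num

include hcard in
theorem lin_equiv_all : ∀ χ : IrrCharacter H, (χ : H → ℂ) 1 = 1 :=
  H12.irr_apply_one_of_comm (comm_of_card hcard)

include hH hp hcard hidx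

theorem sum_re2 {h : H} (hh : h ≠ 1) : ∑ s, re2 (F.rep s) h = -1 := by
  classical
  letI : Fintype (H →* ℂˣ) := Fintype.ofFinite _
  haveI := Fintype.ofFinite H
  have e : ∑ θ : H →* ℂˣ, H13.TI.lf θ h = 0 := by
    have h1 := H12.column_orthogonality (G := H) h 1
    rw [if_neg (fun hc => hh (isConj_one_left.mp hc))] at h1
    rw [← h1]
    refine Fintype.sum_bijective (fun θ => H12.linIrr θ) ⟨H12.linIrr_injective, fun χ => ?_⟩ _ _
      fun θ => ?_
    · exact ⟨H12.linIrrEquiv.symm ⟨χ, lin_equiv_all hcard χ⟩,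
        congrArg Subtype.val (H12.linIrrEquiv.apply_symm_apply ⟨χ, lin_equiv_all hcard χ⟩)⟩
    · simp [H12.linIrr_apply, H13.TI.lf]
  have e2 := sum_family hH hcard hidx F (fun θ => re2 θ h) fun θ φ r => re2_rel hH hcard hidx r h
  have e3 : ∑ θ : H →* ℂˣ, re2 θ h = 0 := by
    simp only [re2, ← Finset.mul_sum, ← Complex.re_sum, e, Complex.zero_re, mul_zero]
  have e4 : re2 (1 : H →* ℂˣ) h = 2 := by simp [re2, H13.TI.lf]
  rw [e3, e4] at e2
  linarith

theorem sum_re2_sq {h : H} (hh : h ≠ 1) : ∑ s, re2 (F.rep s) h ^ 2 = (p : ℝ) - 2 := by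
  have hh2 : h * h ≠ 1 := by
    intro e
    have h1 : orderOf h ∣ 2 := orderOf_dvd_of_pow_eq_one (by rw [pow_two, e])
    have h2 : orderOf h ∣ p := hcard ▸ orderOf_dvd_natCard h
    have h3 : orderOf h ∣ Nat.gcd 2 p := Nat.dvd_gcd h1 h2
    rw [(Nat.coprime_primes Nat.prime_two Fact.out).mpr (by omega)] at h3
    exact hh (orderOf_eq_one_iff.mp (Nat.dvd_one.mp h3))
  have e : ∀ θ : H →* ℂˣ, re2 θ h ^ 2 = re2 θ (h * h) + 2 := by
    intro θ
    apply Complex.ofReal_injective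
    push_cast
    rw [re2_cast, re2_cast]
    have h1 : H13.TI.lf θ h * H13.TI.lf θ⁻¹ h = 1 := by
      simp [H13.TI.lf, MonoidHom.inv_apply, ← Units.val_mul]
    have h2 : ∀ φ : H →* ℂˣ, H13.TI.lf φ (h * h) = H13.TI.lf φ h * H13.TI.lf φ h := fun φ => by
      simp [H13.TI.lf]
    rw [h2, h2]
    linear_combination 2 * h1
  rw [Finset.sum_congr rfl fun s _ => e _, Finset.sum_add_distrib, sum_re2 hH hp hcard hidx F hh2,
    Finset.sum_const, Finset.card_univ, Fintype.card_fin, nsmul_eq_mul]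
  have := card_w hH hcard hidx F
  have : 2 * (F.w : ℝ) + 1 = p := by exact_mod_cast this
  linarith

theorem conj_value (ψ : IrrCharacter G) (h : H) :
    conj ((ψ : G → ℂ) h) = (ψ : G → ℂ) h := by
  by_cases hx : ∃ x : N, (x : G) ∉ H
  · obtain ⟨x, hx⟩ := hx
    have h' := congrArg Subtype.val
      (((cj_eq_or hH hidx x).resolve_left hx) h (comm_of_card hcard))
    simp only [H13.TI.cj_coe, InvMemClass.coe_inv] at h'
    rw [← H12.irr_inv, ← h']
    exact H12.irr_isClassFunction ψ _ _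
  · exfalso
    push Not at hx
    have : (Subgroup.normalizer (H : Set G)) ≤ H := fun x hx' => hx ⟨x, hx'⟩
    rw [Subgroup.relIndex_eq_one.mpr this] at hidx
    omega

open scoped Classical in
theorem value_expansion (ψ : IrrCharacter G) : ∃ c : ℤ, ∀ h : H, h ≠ 1 →
    (ψ : G → ℂ) h = (c : ℂ) +
      F.eps * ∑ s, if ψ = F.mu s then (re2 (F.rep s) h : ℂ) else 0 := by
  letI : Fintype (H →* ℂˣ) := Fintype.ofFinite _
  haveI := Fintype.ofFinite H
  let o : Fin F.w := ⟨0, F.w_pos⟩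
  obtain ⟨e, he, heps⟩ : ∃ e : ℤ, (e = 1 ∨ e = -1) ∧ F.eps = (e : ℂ) := by
    rcases F.eps_sq with h | h
    · exact ⟨1, .inl rfl, by simp [h]⟩
    · exact ⟨-1, .inr rfl, by simp [h]⟩
  let K : ℤ := H13.TI.coef ψ (F.rep o) - e * (if ψ = F.mu o then 1 else 0)
  have hK : ∀ s, (H13.TI.coef ψ (F.rep s) : ℂ) =
      (K : ℂ) + F.eps * (if ψ = F.mu s then 1 else 0) := by
    intro s
    have := H13.TI.coef_diff F ψ s o
    simp only [K, heps] at this ⊢
    push_cast
    linear_combination this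
  refine ⟨(H13.TI.coef ψ (1 : H →* ℂˣ) : ℤ) - K, fun h hh => ?_⟩
  have hexp : (ψ : G → ℂ) h =
      ∑ θ : H →* ℂˣ, (H13.TI.coef ψ θ : ℂ) * H13.TI.lf θ h := by
    have hcl : IsClassFunction H (fun a : H => (ψ : G → ℂ) a) :=
      H12.isClassFunction_res (H12.irr_isClassFunction ψ) H
    refine (H12.classFunction_apply_eq_sum hcl h).trans ?_
    symm
    refine Fintype.sum_bijective (fun θ => H12.linIrr θ) ⟨H12.linIrr_injective, fun χ => ?_⟩ _ _
      fun θ => ?_
    · exact ⟨H12.linIrrEquiv.symm ⟨χ, lin_equiv_all hcard χ⟩,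
        congrArg Subtype.val (H12.linIrrEquiv.apply_symm_apply ⟨χ, lin_equiv_all hcard χ⟩)⟩
    · rw [← H13.TI.coef_res ψ θ]
      rfl
  have hre : (ψ : G → ℂ) h = ((∑ θ : H →* ℂˣ, (H13.TI.coef ψ θ : ℝ) * re2 θ h / 2 : ℝ) : ℂ) := by
    have hc := conj_value hH hp hcard hidx ψ h
    rw [hexp, map_sum] at hc
    simp only [map_mul, Complex.conj_natCast, H13.TI.conj_lf] at hc
    push_cast
    simp only [re2_cast, mul_add, add_div, Finset.sum_add_distrib, ← Finset.sum_div, ← hexp]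
    rw [hc, ← hexp]
    ring
  have e2 := sum_family hH hcard hidx F (fun θ => (H13.TI.coef ψ θ : ℝ) * re2 θ h / 2)
    (fun θ φ r => by
      show (H13.TI.coef ψ θ : ℝ) * re2 θ h / 2 = _
      rw [H13.TI.coef_rel ψ r, re2_rel hH hcard hidx r h])
  have e3 : ∑ s, (re2 (F.rep s) h : ℂ) = -1 := by
    rw [← Complex.ofReal_sum, sum_re2 hH hp hcard hidx F hh]
    simp
  rw [hre, e2]
  push_cast
  have e4 : (re2 (1 : H →* ℂˣ) h : ℂ) = 2 := by rw [re2_cast]; norm_num [H13.TI.lf]
  rw [e4, Finset.mul_sum, Finset.mul_sum]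
  have e5 : ∀ s, 2 * ((H13.TI.coef ψ (F.rep s) : ℂ) * (re2 (F.rep s) h : ℂ) / 2) =
      (K : ℂ) * re2 (F.rep s) h + F.eps * (if ψ = F.mu s then (re2 (F.rep s) h : ℂ) else 0) := by
    intro s
    rw [hK]
    split_ifs <;> ring
  rw [Finset.sum_congr rfl fun s _ => e5 s, Finset.sum_add_distrib, ← Finset.mul_sum, e3]
  ring

/-- A character with a constant rational integral value off the identity of `H` is not
exceptional. -/
theorem ne_mu_of_const (ψ : IrrCharacter G) (k : ℤ)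
    (hk : ∀ h : H, h ≠ 1 → (ψ : G → ℂ) h = (k : ℂ)) (s : Fin F.w) : ψ ≠ F.mu s := by
  classical
  rintro rfl
  obtain ⟨c, hc⟩ := value_expansion hH hp hcard hidx F (F.mu s)
  haveI := Fintype.ofFinite H
  obtain ⟨R, hR⟩ : ∃ R : ℤ, ∀ h : H, h ≠ 1 → re2 (F.rep s) h = (R : ℝ) := by
    rcases F.eps_sq with he | he
    all_goals
      first
      | refine ⟨k - c, fun h hh => Complex.ofReal_injective ?_⟩
        have h1 := hc h hh
        rw [hk h hh, Finset.sum_eq_single s (fun t _ ht => if_neg fun e => ht (F.mu_inj e).symm)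
          (by simp), if_pos rfl, he] at h1
        push_cast
        linear_combination -h1
      | refine ⟨c - k, fun h hh => Complex.ofReal_injective ?_⟩
        have h1 := hc h hh
        rw [hk h hh, Finset.sum_eq_single s (fun t _ ht => if_neg fun e => ht (F.mu_inj e).symm)
          (by simp), if_pos rfl, he] at h1
        push_cast
        linear_combination h1
  have hz : ∑ h : H, H13.TI.lf (F.rep s) h = 0 := by
    obtain ⟨a, ha⟩ : ∃ a, F.rep s a ≠ 1 := by
      by_contra hh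
      push Not at hh
      exact F.rep_ne s (MonoidHom.ext hh)
    have hmul : (F.rep s a : ℂ) * ∑ h : H, H13.TI.lf (F.rep s) h =
        ∑ h : H, H13.TI.lf (F.rep s) h := by
      rw [Finset.mul_sum]
      exact Fintype.sum_equiv (Equiv.mulLeft a) _ _ fun h => by simp [H13.TI.lf]
    by_contra hne
    exact ha (Units.ext ((mul_eq_right₀ hne).mp hmul))
  have h2 : ∑ h : H, re2 (F.rep s) h = 0 := by
    simp only [re2, ← Finset.mul_sum, ← Complex.re_sum, hz, Complex.zero_re, mul_zero]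
  rw [← Finset.add_sum_erase _ _ (Finset.mem_univ (1 : H)),
    Finset.sum_congr rfl fun h hh => hR h (Finset.ne_of_mem_erase hh), Finset.sum_const,
    Finset.card_erase_of_mem (Finset.mem_univ _), Finset.card_univ, ← Nat.card_eq_fintype_card,
    hcard, nsmul_eq_mul] at h2
  have h3 : (2 : ℝ) + ((p - 1 : ℕ) : ℝ) * (R : ℝ) = 0 := by
    rw [← h2]
    simp [re2, H13.TI.lf]
  have h4 : (2 : ℤ) + ((p - 1 : ℕ) : ℤ) * R = 0 := by exact_mod_cast h3
  have h5 : ((p - 1 : ℕ) : ℤ) ∣ 2 := ⟨-R, by linarith⟩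
  have h6 := Int.le_of_dvd (by norm_num) h5
  omega

omit hp hcard hidx in
theorem centralizer_eq {h : G} (hh : h ∈ H) (h1 : h ≠ 1) (hc : ∀ a ∈ H, a * h = h * a) :
    Subgroup.centralizer ({h} : Set G) = H := by
  ext a
  rw [Subgroup.mem_centralizer_singleton_iff]
  exact ⟨fun e => hH.cent a h hh h1 e, fun ha => hc a ha⟩

theorem exists_exceptional_set (χ : IrrCharacter G) (hd : (χ : G → ℂ) 1 = (p : ℂ) - 1)
    (hv : ∀ h : H, h ≠ 1 → (χ : G → ℂ) h = -1) :
    ∃ M : Finset (IrrCharacter G), 2 * M.card + 1 = p ∧ H12.oneIrr G ∉ M ∧ χ ∉ M ∧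
      H12.oneIrr G ≠ χ ∧ (∀ ψ ∈ M, (ψ : G → ℂ) 1 = (p : ℂ) - 2) ∧
      (∀ ψ ∉ M, ψ ≠ H12.oneIrr G → ψ ≠ χ → ∀ h : H, h ≠ 1 → (ψ : G → ℂ) h = 0) ∧
      (∀ h : H, h ≠ 1 → ∑ ψ ∈ M, (ψ : G → ℂ) h = 1) ∧
      (∀ ψ ∈ M, ∀ y : G, (∀ g : G, g * y * g⁻¹ ∈ H → y = 1) →
        (ψ : G → ℂ) y = (χ : G → ℂ) y - 1) ∧
      (∀ f : G → ℂ, IsClassFunction G f → ∀ b : ℂ, (∀ h : H, h ≠ 1 → f h = b) →
        ∀ ψ ∈ M, ∀ φ ∈ M, classInner f ψ = classInner f φ) := by
  classical
  haveI := Fintype.ofFinite H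
  haveI : Fact (1 < p) := ⟨by omega⟩
  have hv1 : 1 < (commutator H).index := by
    have hc : commutator H = ⊥ := by
      rw [commutator_def, Subgroup.commutator_eq_bot_iff_le_centralizer]
      exact fun a _ b _ => comm_of_card hcard b a
    rw [hc, Subgroup.index_bot, hcard]
    omega
  obtain ⟨F⟩ := H13.TI.exists_family hH hv1
  obtain ⟨e, he, heps⟩ : ∃ e : ℤ, (e = 1 ∨ e = -1) ∧ F.eps = (e : ℂ) := by
    rcases F.eps_sq with h | h
    · exact ⟨1, .inl rfl, by simp [h]⟩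
    · exact ⟨-1, .inr rfl, by simp [h]⟩
  have hee : (e : ℂ) * e = 1 := by rcases he with h | h <;> simp [h]
  choose c hc using value_expansion hH hp hcard hidx F
  let o : Fin F.w := ⟨0, F.w_pos⟩
  set C := c (F.mu o) with hC
  obtain ⟨h0, hh0⟩ : ∃ h : H, h ≠ 1 := by
    haveI : Nontrivial H := Finite.one_lt_card_iff_nontrivial.mp (by rw [hcard]; omega)
    exact exists_ne 1
  have hmu : ∀ s, ∀ h : H, h ≠ 1 →
      (F.mu s : G → ℂ) h = (c (F.mu s) : ℂ) + e * (re2 (F.rep s) h : ℂ) := by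
    intro s h hh
    rw [hc (F.mu s) h hh, Finset.sum_eq_single s
      (fun t _ ht => if_neg fun q => ht (F.mu_inj q).symm) (by simp), if_pos rfl, heps]
  have hdiff : ∀ s t : Fin F.w, ∀ y : G, H13.TI.ind (F.rep s) y - H13.TI.ind (F.rep t) y =
      (e : ℂ) * ((F.mu s : G → ℂ) y - (F.mu t : G → ℂ) y) := by
    intro s t y
    have := congrFun (F.diff s t) y
    simpa [heps] using this
  have hCs : ∀ s, c (F.mu s) = C := by
    intro s
    have h1 := hdiff s o h0
    rw [ind_sub_eq hH hcard hidx, hmu s h0 hh0, hmu o h0 hh0] at h1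
    have : (e : ℂ) * ((c (F.mu s) : ℂ) - (C : ℂ)) = 0 := by
      simp only [hC]
      linear_combination -h1 - ((re2 (F.rep s) h0 : ℂ) - (re2 (F.rep o) h0 : ℂ)) * hee
    have he0 : (e : ℂ) ≠ 0 := left_ne_zero_of_mul (hee ▸ one_ne_zero)
    exact_mod_cast sub_eq_zero.mp ((mul_eq_zero.mp this).resolve_left he0)
  set M : Finset (IrrCharacter G) := Finset.univ.image F.mu with hM
  have hMcard : M.card = F.w := by
    rw [hM, Finset.card_image_of_injective _ F.mu_inj, Finset.card_univ, Fintype.card_fin]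
  have hw := card_w hH hcard hidx F
  have hout : ∀ ψ ∉ M, ∀ h : H, h ≠ 1 → (ψ : G → ℂ) h = (c ψ : ℂ) := by
    intro ψ hψ h hh
    rw [hc ψ h hh, Finset.sum_eq_zero, mul_zero, add_zero]
    exact fun s _ => if_neg fun q => hψ (by rw [q]; exact Finset.mem_image_of_mem _ (Finset.mem_univ s))
  have hone : H12.oneIrr G ∉ M := by
    intro h
    obtain ⟨s, -, hs⟩ := Finset.mem_image.mp h
    exact ne_mu_of_const hH hp hcard hidx F _ 1 (fun a _ => by simp [H12.oneIrr_apply]) s hs.symm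
  have hchi : χ ∉ M := by
    intro h
    obtain ⟨s, -, hs⟩ := Finset.mem_image.mp h
    exact ne_mu_of_const hH hp hcard hidx F _ (-1) (fun a ha => by rw [hv a ha]; simp) s hs.symm
  have hne : H12.oneIrr G ≠ χ := by
    intro h
    have h1 := hv h0 hh0
    rw [← h, H12.oneIrr_apply] at h1
    norm_num at h1
  have hS : ∑ ψ ∈ M, (ψ : G → ℂ) h0 = (F.w * C - e : ℤ) := by
    rw [hM, Finset.sum_image F.mu_inj.injOn, Finset.sum_congr rfl fun s _ => hmu s h0 hh0]
    simp only [hCs, Finset.sum_add_distrib, Finset.sum_const, Finset.card_univ, Fintype.card_fin,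
      ← Finset.mul_sum, ← Complex.ofReal_sum, sum_re2 hH hp hcard hidx F hh0]
    push_cast
    ring
  set R := ((Finset.univ \ M).erase χ).erase (H12.oneIrr G) with hR
  have hsplit : ∀ f : IrrCharacter G → ℂ, ∑ ψ, f ψ =
      f (H12.oneIrr G) + f χ + ∑ ψ ∈ R, f ψ + ∑ ψ ∈ M, f ψ := by
    intro f
    rw [← Finset.sum_sdiff (Finset.subset_univ M), ← Finset.add_sum_erase (Finset.univ \ M) f
      (a := χ) (by simp [hchi]), ← Finset.add_sum_erase _ f (a := H12.oneIrr G) (by simp [hone, hne])]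
    ring
  have hcen : Subgroup.centralizer ({(h0 : G)} : Set G) = H :=
    centralizer_eq hH h0.2 (fun q => hh0 (Subtype.ext q)) fun a ha =>
      congrArg Subtype.val (comm_of_card hcard ⟨a, ha⟩ h0)
  have horth := H12.column_orthogonality (h0 : G) (h0 : G)
  simp only [conj_value hH hp hcard hidx] at horth
  rw [if_pos (IsConj.refl _), hcen, hcard, hsplit, H12.oneIrr_apply, hv h0 hh0] at horth
  have eR : ∑ ψ ∈ R, (ψ : G → ℂ) h0 * (ψ : G → ℂ) h0 = ∑ ψ ∈ R, (c ψ : ℂ) * (c ψ : ℂ) :=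
    Finset.sum_congr rfl fun ψ hψ => by
      rw [hout ψ (Finset.mem_sdiff.mp (Finset.mem_of_mem_erase (Finset.mem_of_mem_erase hψ))).2
        h0 hh0]
  have eM : ∑ ψ ∈ M, (ψ : G → ℂ) h0 * (ψ : G → ℂ) h0 =
      ∑ s, ((C : ℂ) + e * (re2 (F.rep s) h0 : ℂ)) * ((C : ℂ) + e * (re2 (F.rep s) h0 : ℂ)) := by
    rw [hM, Finset.sum_image F.mu_inj.injOn]
    exact Finset.sum_congr rfl fun s _ => by rw [hmu s h0 hh0, hCs]
  rw [eR, eM] at horth
  have hsq : ∑ s, ((C : ℂ) + e * (re2 (F.rep s) h0 : ℂ)) * ((C : ℂ) + e * (re2 (F.rep s) h0 : ℂ))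
      = (F.w : ℂ) * C * C - 2 * C * e + ((p : ℂ) - 2) := by
    have h1 : ∑ s, (re2 (F.rep s) h0 : ℂ) = -1 := by
      rw [← Complex.ofReal_sum, sum_re2 hH hp hcard hidx F hh0]; simp
    have h2 : ∑ s, (re2 (F.rep s) h0 : ℂ) ^ 2 = (p : ℂ) - 2 := by
      simp only [← Complex.ofReal_pow]
      rw [← Complex.ofReal_sum, sum_re2_sq hH hp hcard hidx F hh0]; simp
    have e' : ∀ s, ((C : ℂ) + e * (re2 (F.rep s) h0 : ℂ)) * ((C : ℂ) + e * (re2 (F.rep s) h0 : ℂ))
        = (C : ℂ) * C + 2 * C * e * (re2 (F.rep s) h0 : ℂ) + (re2 (F.rep s) h0 : ℂ) ^ 2 := by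
      intro s
      linear_combination ((re2 (F.rep s) h0 : ℂ) ^ 2) * hee
    rw [Finset.sum_congr rfl fun s _ => e' s, Finset.sum_add_distrib, Finset.sum_add_distrib,
      Finset.sum_const, ← Finset.mul_sum, h1, h2, Finset.card_univ, Fintype.card_fin, nsmul_eq_mul]
    ring
  rw [hsq] at horth
  have hrest : ∑ ψ ∈ R, c ψ * c ψ + C * ((F.w : ℤ) * C - 2 * e) = 0 := by
    have : ((∑ ψ ∈ R, c ψ * c ψ + C * ((F.w : ℤ) * C - 2 * e) : ℤ) : ℂ) = ((0 : ℤ) : ℂ) := by
      push_cast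
      linear_combination horth
    exact_mod_cast this
  have hw2 : 2 ≤ (F.w : ℤ) := by omega
  have hCpos : 0 ≤ C * ((F.w : ℤ) * C - 2 * e) ∧
      (C * ((F.w : ℤ) * C - 2 * e) = 0 → C = 0 ∨ (F.w : ℤ) * C = 2 * e) := by
    refine ⟨?_, fun h => (mul_eq_zero.mp h).imp id fun h' => by omega⟩
    rcases lt_trichotomy C 0 with hC0 | hC0 | hC0
    · have : (F.w : ℤ) * C - 2 * e ≤ 0 := by rcases he with rfl | rfl <;> nlinarith
      nlinarith
    · simp [hC0]
    · have : 0 ≤ (F.w : ℤ) * C - 2 * e := by rcases he with rfl | rfl <;> nlinarith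
      positivity
  have hnn : (0 : ℤ) ≤ ∑ ψ ∈ R, c ψ * c ψ := Finset.sum_nonneg fun ψ _ => mul_self_nonneg _
  have hR0 : ∀ ψ ∈ R, c ψ = 0 := by
    intro ψ hψ
    have h := (Finset.sum_eq_zero_iff_of_nonneg fun x _ => mul_self_nonneg (c x)).mp
      (by omega) ψ hψ
    exact mul_self_eq_zero.mp h
  have hzero : ∀ ψ ∉ M, ψ ≠ H12.oneIrr G → ψ ≠ χ → ∀ h : H, h ≠ 1 → (ψ : G → ℂ) h = 0 := by
    intro ψ hψ h1 h2 h hh
    rw [hout ψ hψ h hh, hR0 ψ (by simp [hR, hψ, h1, h2]), Int.cast_zero]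
  have hdeg : ∀ s, (F.mu s : G → ℂ) 1 = (F.mu o : G → ℂ) 1 := by
    intro s
    have h1 := hdiff s o 1
    rw [H13.TI.ind_one_apply, H13.TI.ind_one_apply, sub_self] at h1
    exact sub_eq_zero.mp ((mul_eq_zero.mp h1.symm).resolve_left
      (left_ne_zero_of_mul (hee ▸ one_ne_zero)))
  obtain ⟨n, hn0, hn⟩ : ∃ n : ℕ, 0 < n ∧ (F.mu o : G → ℂ) 1 = n :=
    ⟨_, H12.irr_degree_pos _, H12.irr_apply_one _⟩
  have horth1 := H12.column_orthogonality (1 : G) (h0 : G)
  simp only [conj_value hH hp hcard hidx] at horth1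
  rw [if_neg (fun q => hh0 (Subtype.ext (isConj_one_right.mp q))), hsplit,
    H12.oneIrr_apply, H12.oneIrr_apply, hd, hv h0 hh0] at horth1
  have eR1 : ∑ ψ ∈ R, (ψ : G → ℂ) 1 * (ψ : G → ℂ) h0 = 0 :=
    Finset.sum_eq_zero fun ψ hψ => by
      have h' := Finset.mem_of_mem_erase (Finset.mem_of_mem_erase hψ)
      rw [hzero ψ (Finset.mem_sdiff.mp h').2 (Finset.ne_of_mem_erase hψ)
        (Finset.ne_of_mem_erase (Finset.mem_of_mem_erase hψ)) h0 hh0, mul_zero]
  have eM1 : ∑ ψ ∈ M, (ψ : G → ℂ) 1 * (ψ : G → ℂ) h0 = (n : ℂ) * (F.w * C - e : ℤ) := by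
    rw [← hS, Finset.mul_sum]
    exact Finset.sum_congr rfl fun ψ hψ => by
      obtain ⟨s, -, rfl⟩ := Finset.mem_image.mp hψ
      rw [hdeg s, hn]
  rw [eR1, eM1] at horth1
  have hnS : (n : ℤ) * (F.w * C - e) = p - 2 := by
    have : (((n : ℤ) * (F.w * C - e) : ℤ) : ℂ) = (((p : ℤ) - 2 : ℤ) : ℂ) := by
      push_cast at horth1 ⊢
      linear_combination horth1
    exact_mod_cast this
  have hS1 : (F.w : ℤ) * C - e = 1 ∨ (F.w : ℤ) * C - e = -1 := by
    rcases hCpos.2 (by omega) with h | h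
    · rw [h, mul_zero]; omega
    · omega
  have hS1' : (F.w : ℤ) * C - e = 1 := by
    rcases hS1 with h | h
    · exact h
    · rw [h] at hnS
      omega
  have hnp : (n : ℂ) = (p : ℂ) - 2 := by
    rw [hS1', mul_one] at hnS
    exact_mod_cast congrArg (fun z : ℤ => (z : ℂ)) hnS
  have hsum : ∀ h : H, h ≠ 1 → ∑ ψ ∈ M, (ψ : G → ℂ) h = 1 := by
    intro h hh
    have : ∑ ψ ∈ M, (ψ : G → ℂ) h = (F.w * C - e : ℤ) := by
      rw [hM, Finset.sum_image F.mu_inj.injOn, Finset.sum_congr rfl fun s _ => hmu s h hh]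
      simp only [hCs, Finset.sum_add_distrib, Finset.sum_const, Finset.card_univ, Fintype.card_fin,
        ← Finset.mul_sum, ← Complex.ofReal_sum, sum_re2 hH hp hcard hidx F hh]
      push_cast
      ring
    rw [this, hS1', Int.cast_one]
  refine ⟨M, by omega, hone, hchi, hne, ?_, hzero, hsum, ?_, ?_⟩
  · intro ψ hψ
    obtain ⟨s, -, rfl⟩ := Finset.mem_image.mp hψ
    rw [hdeg s, hn, hnp]
  · intro ψ hψ y hy
    obtain ⟨s, -, rfl⟩ := Finset.mem_image.mp hψ
    have hsame : ∀ t, (F.mu t : G → ℂ) y = (F.mu s : G → ℂ) y := by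
      intro t
      have h1 := hdiff t s y
      by_cases hy1 : y = 1
      · rw [hy1, hdeg t, hdeg s]
      · have h0' : ∀ u, H13.TI.ind (F.rep u) y = 0 := by
          intro u
          rw [H13.TI.ind, H12.indFun_apply, Finset.sum_eq_zero, mul_zero]
          intro x _
          refine H12.extendByZero_of_notMem H _ fun hm => hy1 (hy x⁻¹ ?_)
          rwa [inv_inv]
        rw [h0', h0', sub_self] at h1
        exact sub_eq_zero.mp ((mul_eq_zero.mp h1.symm).resolve_left
          (left_ne_zero_of_mul (hee ▸ one_ne_zero)))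
    have horth2 := H12.column_orthogonality y (h0 : G)
    simp only [conj_value hH hp hcard hidx] at horth2
    rw [if_neg ?_, hsplit, H12.oneIrr_apply, H12.oneIrr_apply, hv h0 hh0] at horth2
    · have eR2 : ∑ φ ∈ R, (φ : G → ℂ) y * (φ : G → ℂ) h0 = 0 :=
        Finset.sum_eq_zero fun φ hφ => by
          have h' := Finset.mem_of_mem_erase (Finset.mem_of_mem_erase hφ)
          rw [hzero φ (Finset.mem_sdiff.mp h').2 (Finset.ne_of_mem_erase hφ)
            (Finset.ne_of_mem_erase (Finset.mem_of_mem_erase hφ)) h0 hh0, mul_zero]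
      have eM2 : ∑ φ ∈ M, (φ : G → ℂ) y * (φ : G → ℂ) h0 = (F.mu s : G → ℂ) y := by
        rw [← mul_one ((F.mu s : G → ℂ) y), ← hsum h0 hh0, Finset.mul_sum]
        exact Finset.sum_congr rfl fun φ hφ => by
          obtain ⟨t, -, rfl⟩ := Finset.mem_image.mp hφ
          rw [hsame t]
      rw [eR2, eM2] at horth2
      linear_combination horth2
    · intro hc'
      obtain ⟨g, hg⟩ := isConj_iff.mp hc'
      have hy1 : y = 1 := hy g (by rw [hg]; exact h0.2)
      rw [hy1, mul_one, mul_inv_cancel] at hg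
      exact hh0 (Subtype.ext hg.symm)
  · intro f hf b hb ψ hψ φ hφ
    obtain ⟨s, -, rfl⟩ := Finset.mem_image.mp hψ
    obtain ⟨t, -, rfl⟩ := Finset.mem_image.mp hφ
    have key : ∀ u, classInner f (H13.TI.ind (F.rep u)) =
        (Nat.card H : ℂ)⁻¹ * (f 1 - b) := by
      intro u
      rw [H13.TI.ind, H12.classInner_indFun_right H _ hf, H12.classInner_def]
      congr 1
      have hz : ∑ h : H, conj (H13.TI.lf (F.rep u) h) = 0 := by
        have h1 := H12.classInner_irr_ne (G := H)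
          (fun q => F.rep_ne u (H12.linIrr_injective q.symm) :
            H12.linIrr (1 : H →* ℂˣ) ≠ H12.linIrr (F.rep u))
        rw [H12.classInner_def, mul_eq_zero, inv_eq_zero] at h1
        have h2 := h1.resolve_left H12.card_ne_zero'
        simpa [H12.linIrr_apply, H13.TI.lf] using h2
      have e1 : ∀ h : H, f h * conj (H13.TI.lf (F.rep u) h) =
          b * conj (H13.TI.lf (F.rep u) h) + if h = 1 then f 1 - b else 0 := by
        intro h
        by_cases hh : h = 1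
        · subst hh; simp [H13.TI.lf]
        · rw [hb h hh, if_neg hh, add_zero]
      rw [Finset.sum_congr rfl fun h _ => e1 h, Finset.sum_add_distrib, ← Finset.mul_sum, hz,
        mul_zero, zero_add, Finset.sum_ite_eq' Finset.univ 1 fun _ => f 1 - b]
      simp
    have h1 : classInner f (H13.TI.ind (F.rep s) - H13.TI.ind (F.rep t)) = 0 := by
      rw [H12.classInner_sub_right, key, key, sub_self]
    rw [F.diff, heps, H12.classInner_smul_right, H12.classInner_sub_right, mul_eq_zero] at h1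
    refine sub_eq_zero.mp (h1.resolve_left ?_)
    rw [map_intCast]
    exact left_ne_zero_of_mul (hee ▸ one_ne_zero)

end H18
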