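import Cfsg.Agent.H60.PrimFit
import Cfsg.Agent.H13.SelfCentralizing
import Cfsg.Agent.H18.ExceptionalIndexTwo
import Mathlib.GroupTheory.Transfer
import Mathlib.GroupTheory.Perm.Cycle.Type
import Mathlib.GroupTheory.GroupAction.Jordan

/-!
Primitive groups of degree `2p` with a dihedral Sylow `p`-normaliser: elementary facts.
-/

set_option autoImplicit false
set_option linter.unusedSectionVars false

open MulAction

namespace H18.TwiceP

universe u

variable {α : Type u} [Fintype α] [DecidableEq α] {p : ℕ} [Fact p.Prime] (hp : 3 < p)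
  (hα : Fintype.card α = 2 * p) {G : Subgroup (Equiv.Perm α)}
  (hprim : IsPreprimitive G α) (P : Sylow p G)
  (hN : Nat.card (Subgroup.normalizer ((P : Subgroup G) : Set G)) = 2 * p)

include hp hα hprim

theorem degree_dvd : 2 * p ∣ Nat.card G := by
  haveI := hprim.toIsPretransitive
  haveI : Nonempty α := Fintype.card_pos_iff.mp (by omega)
  obtain ⟨a⟩ := (inferInstance : Nonempty α)
  rw [← hα, ← Nat.card_eq_fintype_card, ← index_stabilizer_of_transitive G a]
  exact Subgroup.index_dvd_card _

include hN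

theorem card_sylow : Nat.card (P : Subgroup G) = p := by
  have hpr : p.Prime := Fact.out
  have h1 := P.card_eq_multiplicity
  have h2 : Nat.card (P : Subgroup G) ∣ 2 * p := hN ▸ Subgroup.card_dvd_of_le Subgroup.le_normalizer
  set k := (Nat.card G).factorization p with hk
  have hk1 : 1 ≤ k := hpr.factorization_pos_of_dvd Nat.card_pos.ne'
    ((Dvd.intro_left 2 rfl).trans (degree_dvd hp hα hprim))
  have hk2 : k < 2 := by
    by_contra h
    push Not at h
    rw [h1] at h2
    have h3 : p * p ∣ 2 * p := by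
      rw [← pow_two]; exact (pow_dvd_pow p h).trans h2
    have h4 := Nat.le_of_dvd two_pos (Nat.dvd_of_mul_dvd_mul_right hpr.pos h3)
    omega
  rw [h1, show k = 1 by omega, pow_one]

theorem relIndex_two :
    (P : Subgroup G).relIndex (Subgroup.normalizer ((P : Subgroup G) : Set G)) = 2 := by
  have h := Subgroup.relIndex_mul_relIndex (⊥ : Subgroup G) (P : Subgroup G)
    (Subgroup.normalizer ((P : Subgroup G) : Set G)) bot_le Subgroup.le_normalizer
  rw [Subgroup.relIndex_bot_left, Subgroup.relIndex_bot_left, card_sylow hp hα hprim P hN, hN,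
    mul_comm 2 p] at h
  exact Nat.eq_of_mul_eq_mul_left (Fact.out : p.Prime).pos h

theorem not_sq_dvd : ¬ p ^ 2 ∣ Nat.card G := by
  intro h
  have h1 := P.card_eq_multiplicity
  rw [card_sylow hp hα hprim P hN] at h1
  have h3 := ((Fact.out : p.Prime).pow_dvd_iff_le_factorization Nat.card_pos.ne').mp h
  have h4 : (1 : ℕ) = (Nat.card G).factorization p :=
    Nat.pow_right_injective (Fact.out : p.Prime).two_le (by simpa using h1)
  omega

theorem sylow_semiregular (a : α) (x : G) (hx : x ∈ (P : Subgroup G)) (ha : x • a = a) : x = 1 := by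
  have hpr : p.Prime := Fact.out
  haveI := hprim.toIsPretransitive
  by_contra hne
  have h1 : orderOf x = p := by
    have h2 := Subgroup.orderOf_dvd_natCard _ hx
    rw [card_sylow hp hα hprim P hN] at h2
    exact ((Nat.dvd_prime hpr).mp h2).resolve_left (fun e => hne (orderOf_eq_one_iff.mp e))
  have h3 : p ∣ Nat.card (stabilizer G a) := h1 ▸ Subgroup.orderOf_dvd_natCard _ ha
  have h4 := (stabilizer G a).card_mul_index
  rw [index_stabilizer_of_transitive G a, Nat.card_eq_fintype_card (α := α), hα] at h4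
  apply not_sq_dvd hp hα hprim P hN
  rw [← h4, pow_two]
  exact mul_dvd_mul h3 (Dvd.intro_left 2 rfl)

/-- Burnside's transfer theorem rules out a centralised Sylow subgroup in a normal subgroup. -/
theorem no_burnside (L : Subgroup G) [L.Normal] (hPL : (P : Subgroup G) ≤ L)
    (hc : ∀ x ∈ L, x ∈ Subgroup.normalizer ((P : Subgroup G) : Set G) →
      ∀ y ∈ (P : Subgroup G), y * x = x * y) : False := by
  classical
  have hpr : p.Prime := Fact.out
  haveI : FaithfulSMul G α := inferInstance
  haveI := hprim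
  have hPcard := card_sylow hp hα hprim P hN
  let PL : Sylow p L := P.subtype hPL
  have hPLmem : ∀ z : L, z ∈ (PL : Subgroup L) ↔ (z : G) ∈ (P : Subgroup G) := fun z => by
    simp [PL, Subgroup.mem_subgroupOf]
  have hle : Subgroup.normalizer ((PL : Subgroup L) : Set L) ≤
      Subgroup.centralizer ((PL : Subgroup L) : Set L) := by
    intro x hx
    rw [Subgroup.mem_centralizer_iff]
    intro y hy
    refine Subtype.ext (hc x x.2 ?_ y ((hPLmem y).mp hy))
    rw [Subgroup.mem_normalizer_iff]
    intro h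
    constructor
    · intro hh
      have := (hPLmem _).mp ((Subgroup.mem_normalizer_iff.mp hx ⟨h, hPL hh⟩).mp ((hPLmem _).mpr hh))
      simpa using this
    · intro hh
      have hmem : h ∈ L := by
        have := L.mul_mem (L.mul_mem (L.inv_mem x.2) (hPL hh)) x.2
        simpa [mul_assoc] using this
      exact (hPLmem ⟨h, hmem⟩).mp ((Subgroup.mem_normalizer_iff.mp hx ⟨h, hmem⟩).mpr
        ((hPLmem _).mpr (by simpa using hh)))
  set K := (MonoidHom.transferSylow PL hle).ker with hK
  have hcomp : Subgroup.IsComplement' K (PL : Subgroup L) :=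
    MonoidHom.ker_transferSylow_isComplement' PL hle
  have hPLcard : Nat.card (PL : Subgroup L) = p := by
    exact (Nat.card_congr (Subgroup.subgroupOfEquivOfLe hPL).toEquiv).trans hPcard
  have hKp : Nat.card K * p = Nat.card L := by rw [← hPLcard]; exact hcomp.card_mul
  have hKnot : ¬ p ∣ Nat.card K := fun hd => not_sq_dvd hp hα hprim P hN (by
    rw [pow_two]
    exact (mul_dvd_mul_right hd p).trans (hKp ▸ Subgroup.card_subgroup_dvd_card L))
  have hmemK : ∀ x : L, x ∈ K ↔ ¬ p ∣ orderOf x := by
    intro x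
    refine ⟨fun hx hd => hKnot (hd.trans (Subgroup.orderOf_dvd_natCard _ hx)), fun hd => ?_⟩
    rw [hK, MonoidHom.mem_ker]
    set f := MonoidHom.transferSylow PL hle
    have h1 : orderOf (f x) ∣ orderOf x := orderOf_map_dvd f x
    have h2 : orderOf (f x) ∣ p := by
      have := orderOf_dvd_natCard (f x)
      exact this.trans (dvd_of_eq hPLcard)
    rcases (Nat.dvd_prime hpr).mp h2 with h | h
    · exact orderOf_eq_one_iff.mp h
    · exact absurd (h ▸ h1) hd
  have hKG : (K.map L.subtype).Normal := by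
    refine ⟨fun y hy g => ?_⟩
    obtain ⟨x, hx, rfl⟩ := Subgroup.mem_map.mp hy
    refine Subgroup.mem_map.mpr ⟨⟨g * x * g⁻¹, Subgroup.Normal.conj_mem inferInstance _ x.2 g⟩,
      (hmemK _).mpr ?_, rfl⟩
    have : orderOf (⟨g * x * g⁻¹, Subgroup.Normal.conj_mem inferInstance _ x.2 g⟩ : L) = orderOf x := by
      refine (Subgroup.orderOf_coe _).symm.trans ((orderOf_injective (MulAut.conj g).toMonoidHom
        (MulAut.conj g).injective (x : G)).trans (Subgroup.orderOf_coe x))
    rw [this]
    exact (hmemK x).mp hx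
  have htr : ∀ A : Subgroup G, A.Normal → A ≠ ⊥ → 2 * p ∣ Nat.card A := by
    intro A hA hne
    haveI := H60.normal_transitive (X := α) hA hne
    haveI : Nonempty α := Fintype.card_pos_iff.mp (by omega)
    obtain ⟨a⟩ := (inferInstance : Nonempty α)
    rw [← hα, ← Nat.card_eq_fintype_card, ← index_stabilizer_of_transitive A a]
    exact Subgroup.index_dvd_card _
  by_cases hK0 : K.map L.subtype = ⊥
  · have h1 : Nat.card K = 1 := by
      rw [← Subgroup.card_bot (G := G), ← hK0]
      exact (Nat.card_congr (K.equivMapOfInjective _ L.subtype_injective).toEquiv)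
    rw [h1, one_mul] at hKp
    have hne : L ≠ ⊥ := fun e => by rw [e, Subgroup.card_bot] at hKp; exact hpr.ne_one hKp
    have := Nat.le_of_dvd (by omega) (htr L inferInstance hne)
    omega
  · refine hKnot ((Dvd.intro_left 2 rfl).trans ?_)
    have := htr _ hKG hK0
    rwa [← Nat.card_congr (K.equivMapOfInjective _ L.subtype_injective).toEquiv] at this

theorem centralizer_sylow_elt (x : G) (hx : x ∈ (P : Subgroup G)) (hx1 : x ≠ 1) :
    Subgroup.centralizer ({x} : Set G) = (P : Subgroup G) := by
  have hpr : p.Prime := Fact.out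
  have hPcard := card_sylow hp hα hprim P hN
  have hgen : ∀ y ∈ (P : Subgroup G), y ∈ Subgroup.zpowers x := by
    intro y hy
    obtain ⟨n, hn⟩ := Subgroup.mem_zpowers_iff.mp (mem_zpowers_of_prime_card hPcard
      (g := (⟨x, hx⟩ : (P : Subgroup G))) (g' := ⟨y, hy⟩) (fun e => hx1 (congrArg Subtype.val e)))
    exact Subgroup.mem_zpowers_iff.mpr ⟨n, by simpa using congrArg Subtype.val hn⟩
  have hPcomm : ∀ a ∈ (P : Subgroup G), ∀ b ∈ (P : Subgroup G), a * b = b * a := fun a ha b hb =>
    letI := (isCyclic_of_prime_card hPcard : IsCyclic (P : Subgroup G)).commGroup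
    congrArg Subtype.val (mul_comm (⟨a, ha⟩ : (P : Subgroup G)) ⟨b, hb⟩)
  refine le_antisymm (fun g hg => ?_) fun g hg =>
    Subgroup.mem_centralizer_singleton_iff.mpr (hPcomm g hg x hx)
  rw [Subgroup.mem_centralizer_singleton_iff] at hg
  have hgc : ∀ y ∈ (P : Subgroup G), y * g = g * y := by
    intro y hy
    obtain ⟨n, rfl⟩ := Subgroup.mem_zpowers_iff.mp (hgen y hy)
    exact ((show Commute g x from hg).zpow_right n).symm.eq
  have hgN : g ∈ Subgroup.normalizer ((P : Subgroup G) : Set G) := by
    rw [Subgroup.mem_normalizer_iff]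
    intro y
    constructor
    · intro hy
      rwa [← hgc y hy, mul_inv_cancel_right]
    · intro hy
      have := hgc _ hy
      have e : y = g * y * g⁻¹ := by
        have h2 : g * y = g * (g * y * g⁻¹) := by rw [← this]; group
        exact mul_left_cancel h2
      rw [e]; exact hy
  by_contra hgP
  refine no_burnside hp hα hprim P hN ⊤ le_top fun z _ hz y hy => ?_
  by_cases hzP : z ∈ (P : Subgroup G)
  · exact hPcomm y hy z hzP
  · have hidx := relIndex_two hp hα hprim P hN
    have h2 := Subgroup.mul_mem_iff_of_index_two (H := (P : Subgroup G).subgroupOf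
      (Subgroup.normalizer ((P : Subgroup G) : Set G))) hidx (a := ⟨g, hgN⟩⁻¹) (b := ⟨z, hz⟩)
    simp only [inv_mem_iff, Subgroup.mem_subgroupOf, Subgroup.coe_mul, InvMemClass.coe_inv, hgP,
      hzP, iff_self, iff_true] at h2
    have e : z = g * (g⁻¹ * z) := by group
    rw [e, ← mul_assoc, hgc y hy, mul_assoc, hPcomm y hy _ h2, ← mul_assoc]

variable [Fintype G]

theorem hyp_sylow : H13.TI.Hyp (P : Subgroup G) := by
  refine ⟨fun g x hx hx1 hg => ?_, fun g x hx hx1 e => ?_⟩
  · by_contra h
    exact hx1 (H13.ti_of_centralizer_eq _ (centralizer_sylow_elt hp hα hprim P hN) g h x hx hg)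
  · rw [← centralizer_sylow_elt hp hα hprim P hN x hx hx1]
    exact Subgroup.mem_centralizer_singleton_iff.mpr e

theorem inverts (j : G) (hjN : j ∈ Subgroup.normalizer ((P : Subgroup G) : Set G))
    (hjP : j ∉ (P : Subgroup G)) (h : G) (hh : h ∈ (P : Subgroup G)) : j * h * j⁻¹ = h⁻¹ := by
  have hinv := congrArg Subtype.val
    (((cj_eq_or (hyp_sylow hp hα hprim P hN) (relIndex_two hp hα hprim P hN)
      ⟨j, hjN⟩).resolve_left hjP) ⟨h, hh⟩ (comm_of_card (card_sylow hp hα hprim P hN)))
  simpa only [H13.TI.cj_coe, InvMemClass.coe_inv] using hinv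

theorem sylow_mem_of_pow (g : G) (hg : g ^ p = 1) : ∃ a : G, a * g * a⁻¹ ∈ (P : Subgroup G) := by
  have hQ : IsPGroup p (Subgroup.zpowers g) := by
    rintro ⟨y, hy⟩
    obtain ⟨n, rfl⟩ := Subgroup.mem_zpowers_iff.mp hy
    refine ⟨1, Subtype.ext ?_⟩
    simp only [pow_one, SubmonoidClass.coe_pow, OneMemClass.coe_one]
    rw [← zpow_natCast, ← zpow_mul, mul_comm, zpow_mul, zpow_natCast, hg, one_zpow]
  obtain ⟨Q, hQ'⟩ := hQ.exists_le_sylow
  obtain ⟨a, ha⟩ := exists_smul_eq G Q P
  refine ⟨a, ?_⟩
  rw [← ha]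
  exact Subgroup.smul_mem_pointwise_smul _ (MulAut.conj a) _
    (hQ' (Subgroup.mem_zpowers g))

theorem isSimple : IsSimpleGroup G := by
  have hpr : p.Prime := Fact.out
  haveI := hprim
  haveI : Nontrivial G := Finite.one_lt_card_iff_nontrivial.mp (by
    have := Nat.le_of_dvd Nat.card_pos (degree_dvd hp hα hprim); omega)
  refine ⟨fun L hL => ?_⟩
  by_cases hL0 : L = ⊥
  · exact .inl hL0
  right
  haveI := hL
  haveI := H60.normal_transitive (X := α) hL hL0
  haveI : Nonempty α := Fintype.card_pos_iff.mp (by omega)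
  obtain ⟨a⟩ := (inferInstance : Nonempty α)
  have hd : p ∣ Nat.card L := by
    refine (Dvd.intro_left 2 rfl).trans ?_
    rw [← hα, ← Nat.card_eq_fintype_card, ← index_stabilizer_of_transitive L a]
    exact Subgroup.index_dvd_card _
  obtain ⟨⟨y, hyL⟩, hy⟩ := exists_prime_orderOf_dvd_card' p hd
  rw [Subgroup.orderOf_mk] at hy
  obtain ⟨b, hb⟩ := sylow_mem_of_pow hp hα hprim P hN y (by rw [← hy]; exact pow_orderOf_eq_one y)
  have hb1 : b * y * b⁻¹ ≠ 1 := fun e => by
    have : y = 1 := conj_eq_one_iff.mp e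
    rw [this, orderOf_one] at hy
    exact hpr.ne_one hy.symm
  have hPL : (P : Subgroup G) ≤ L := by
    intro z hz
    obtain ⟨n, hn⟩ := Subgroup.mem_zpowers_iff.mp (mem_zpowers_of_prime_card
      (card_sylow hp hα hprim P hN) (g := (⟨_, hb⟩ : (P : Subgroup G))) (g' := ⟨z, hz⟩)
      (fun e => hb1 (congrArg Subtype.val e)))
    have hz' : (b * y * b⁻¹) ^ n = z := by simpa using congrArg Subtype.val hn
    rw [← hz']
    exact L.zpow_mem (hL.conj_mem y hyL b) n
  have hNL : Subgroup.normalizer ((P : Subgroup G) : Set G) ≤ L := by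
    by_contra hnle
    obtain ⟨g, hgN, hgL⟩ := Set.not_subset.mp hnle
    refine no_burnside hp hα hprim P hN L hPL fun z hzL hzN w hw => ?_
    have hzP : z ∈ (P : Subgroup G) := by
      by_contra hzP
      have h2 := Subgroup.mul_mem_iff_of_index_two (H := (P : Subgroup G).subgroupOf
        (Subgroup.normalizer ((P : Subgroup G) : Set G))) (relIndex_two hp hα hprim P hN)
        (a := ⟨g, hgN⟩) (b := ⟨z, hzN⟩)
      have hgP : g ∉ (P : Subgroup G) := fun e => hgL (hPL e)
      simp only [Subgroup.mem_subgroupOf, Subgroup.coe_mul, hgP, hzP, iff_self, iff_true] at h2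
      exact hgL ((Subgroup.mul_mem_cancel_right L hzL).mp (hPL h2))
    exact congrArg Subtype.val (comm_of_card (card_sylow hp hα hprim P hN) ⟨w, hw⟩ ⟨z, hzP⟩)
  rw [eq_top_iff]
  intro g _
  obtain ⟨l, hl, hconj⟩ : ∃ l ∈ L, l * g ∈ Subgroup.normalizer ((P : Subgroup G) : Set G) := by
    let P' : Sylow p L := P.subtype hPL
    have htop := Sylow.normalizer_sup_eq_top P'
    have hmap : (P' : Subgroup L).map L.subtype = (P : Subgroup G) := by
      rw [Sylow.coe_subtype, Subgroup.subgroupOf_map_subtype, inf_eq_left.mpr hPL]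
    rw [hmap] at htop
    obtain ⟨n, hn, l, hl, hnl⟩ := Subgroup.mem_sup_of_normal_right.mp (htop ▸ Subgroup.mem_top g)
    refine ⟨n * l⁻¹ * n⁻¹, hL.conj_mem _ (L.inv_mem hl) n, ?_⟩
    rw [← hnl]
    simpa [mul_assoc] using hn
  exact (Subgroup.mul_mem_cancel_left L hl).mp (hNL hconj)

theorem not_comm : ¬ ∀ a b : G, a * b = b * a := by
  intro h
  have hpr : p.Prime := Fact.out
  refine no_burnside hp hα hprim P hN ⊤ le_top fun z _ _ y _ => h y z

theorem inv_of_normalizer (j : G) (hjN : j ∈ Subgroup.normalizer ((P : Subgroup G) : Set G))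
    (hjP : j ∉ (P : Subgroup G)) : j * j = 1 := by
  have hidx := relIndex_two hp hα hprim P hN
  have h2 : j * j ∈ (P : Subgroup G) :=
    Subgroup.mem_subgroupOf.mp (Subgroup.mul_self_mem_of_index_two
      (H := (P : Subgroup G).subgroupOf (Subgroup.normalizer ((P : Subgroup G) : Set G))) hidx
      ⟨j, hjN⟩)
  have h3 := inverts hp hα hprim P hN j hjN hjP _ h2
  rw [show j * (j * j) * j⁻¹ = j * j by group] at h3
  have h4 : (j * j) * (j * j) = 1 := by
    conv_lhs => arg 1; rw [h3]
    exact inv_mul_cancel _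
  have h5 : orderOf (j * j) ∣ 2 := orderOf_dvd_of_pow_eq_one (by rw [pow_two, h4])
  have h6 := Nat.dvd_gcd h5 (card_sylow hp hα hprim P hN ▸ Subgroup.orderOf_dvd_natCard _ h2)
  rw [(Nat.coprime_primes Nat.prime_two Fact.out).mpr (by omega)] at h6
  exact orderOf_eq_one_iff.mp (Nat.dvd_one.mp h6)

theorem exists_normalizer_not_mem :
    ∃ j ∈ Subgroup.normalizer ((P : Subgroup G) : Set G), j ∉ (P : Subgroup G) := by
  by_contra h
  push Not at h
  have := relIndex_two hp hα hprim P hN
  rw [Subgroup.relIndex_eq_one.mpr h] at this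
  omega

/-- All involutions of the normaliser outside `P` are conjugate. -/
theorem conj_in_normalizer (j k : G) (hjN : j ∈ Subgroup.normalizer ((P : Subgroup G) : Set G))
    (hjP : j ∉ (P : Subgroup G)) (hkN : k ∈ Subgroup.normalizer ((P : Subgroup G) : Set G))
    (hkP : k ∉ (P : Subgroup G)) : ∃ a : G, a * j * a⁻¹ = k := by
  have hidx := relIndex_two hp hα hprim P hN
  have h2 := Subgroup.mul_mem_iff_of_index_two (H := (P : Subgroup G).subgroupOf
    (Subgroup.normalizer ((P : Subgroup G) : Set G))) hidx (a := ⟨k, hkN⟩) (b := ⟨j, hjN⟩)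
  simp only [Subgroup.mem_subgroupOf, Subgroup.coe_mul, hjP, hkP, iff_self, iff_true] at h2
  have hcard := card_sylow hp hα hprim P hN
  obtain ⟨q, hq⟩ : ∃ q, p = 2 * q + 1 := by
    obtain ⟨q, hq⟩ := (Fact.out : p.Prime).odd_of_ne_two (by omega : p ≠ 2)
    exact ⟨q, hq⟩
  set d := k * j with hd
  refine ⟨d ^ (q + 1), ?_⟩
  have hdp : d ^ p = 1 := by
    have := Subgroup.orderOf_dvd_natCard _ h2
    rw [hcard] at this
    exact orderOf_dvd_iff_pow_eq_one.mp this
  have h3 : j * (d ^ (q + 1))⁻¹ = d ^ (q + 1) * j := by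
    have := inverts hp hα hprim P hN j hjN hjP (d ^ (q + 1)) (pow_mem h2 _)
    rw [← this]
    have hj2 := inv_of_normalizer hp hα hprim P hN j hjN hjP
    rw [inv_eq_of_mul_eq_one_right hj2, ← mul_assoc, ← mul_assoc, hj2, one_mul]
  rw [mul_assoc, h3, ← mul_assoc, ← pow_add, show q + 1 + (q + 1) = p + 1 by omega, pow_succ,
    hdp, one_mul, hd, mul_assoc, inv_of_normalizer hp hα hprim P hN j hjN hjP, mul_one]

theorem fix_two (j : G) (hjN : j ∈ Subgroup.normalizer ((P : Subgroup G) : Set G))
    (hjP : j ∉ (P : Subgroup G)) : Nat.card (fixedBy α j) = 2 := by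
  classical
  have hpr : p.Prime := Fact.out
  have hj : j * j = 1 := inv_of_normalizer hp hα hprim P hN j hjN hjP
  have hreg := sylow_semiregular hp hα hprim P hN
  haveI : Fintype (P : Subgroup G) := Fintype.ofFinite _
  set F : Finset α := Finset.univ.filter fun a => j • a = a with hF
  have hFcard : Nat.card (fixedBy α j) = F.card := by
    rw [Nat.card_eq_fintype_card, ← Fintype.card_coe]
    exact Fintype.card_congr (Equiv.subtypeEquivRight fun a => by simp [hF])
  have hsq : ∀ h ∈ (P : Subgroup G), h * h = 1 → h = 1 := fun h hh e => by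
    have h5 : orderOf h ∣ 2 := orderOf_dvd_of_pow_eq_one (by rw [pow_two, e])
    have h6 := Nat.dvd_gcd h5 (card_sylow hp hα hprim P hN ▸ Subgroup.orderOf_dvd_natCard _ hh)
    rw [(Nat.coprime_primes Nat.prime_two Fact.out).mpr (by omega)] at h6
    exact orderOf_eq_one_iff.mp (Nat.dvd_one.mp h6)
  let O : α → Finset α := fun a => Finset.univ.image fun h : (P : Subgroup G) => (h : G) • a
  have hO : ∀ a, (O a).card = p := by
    intro a
    rw [Finset.card_image_of_injective, Finset.card_univ, ← Nat.card_eq_fintype_card,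
      card_sylow hp hα hprim P hN]
    intro h h' e
    have : ((h'⁻¹ * h : (P : Subgroup G)) : G) • a = a := by
      simp only [Subgroup.coe_mul, InvMemClass.coe_inv, mul_smul]
      rw [inv_smul_eq_iff]; exact e
    have h1 := hreg a _ (h'⁻¹ * h).2 this
    exact (inv_mul_eq_one.mp (Subtype.ext h1)).symm
  have hdisj : (F : Set α).PairwiseDisjoint O := by
    intro a ha b hb hab
    rw [Function.onFun, Finset.disjoint_left]
    intro x hxa hxb
    obtain ⟨⟨h, hh⟩, -, rfl⟩ := Finset.mem_image.mp hxa
    obtain ⟨⟨h', hh'⟩, -, e⟩ := Finset.mem_image.mp hxb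
    simp only at e
    have hq : (h'⁻¹ * h) • a = b := by rw [mul_smul, inv_smul_eq_iff]; exact e.symm
    set q := h'⁻¹ * h with hqd
    have hqP : q ∈ (P : Subgroup G) := mul_mem (inv_mem hh') hh
    simp only [hF, Finset.mem_coe, Finset.mem_filter] at ha hb
    have e2 : q⁻¹ • a = q • a := by
      rw [← inverts hp hα hprim P hN j hjN hjP q hqP, mul_smul, mul_smul,
        inv_smul_eq_iff.mpr ha.2.symm, hq, hb.2]
    have h1 := hsq q hqP (hreg a _ (mul_mem hqP hqP) (by rw [mul_smul, ← e2, smul_inv_smul]))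
    rw [h1, one_smul] at hq
    exact hab hq
  have hle : F.card * p ≤ 2 * p := by
    have h1 := Finset.card_le_univ (F.biUnion O)
    rwa [Finset.card_biUnion hdisj, Finset.sum_congr rfl fun a _ => hO a, Finset.sum_const,
      smul_eq_mul, hα] at h1
  have hle2 : F.card ≤ 2 := Nat.le_of_mul_le_mul_right hle hpr.pos
  have hperm : (j : Equiv.Perm α) ^ 2 ^ 1 = 1 := by
    rw [pow_one, pow_two, ← Subgroup.coe_mul, hj, Subgroup.coe_one]
  have hmod := Equiv.Perm.card_compl_support_modEq (p := 2) (n := 1) hperm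
  have hsupp : (j : Equiv.Perm α).supportᶜ = F := by
    ext a
    simp [hF, Equiv.Perm.mem_support]
    rfl
  rw [hsupp, hα] at hmod
  unfold Nat.ModEq at hmod
  have hne0 : F.card ≠ 0 := by
    intro h0
    have hj1 : j ≠ 1 := fun e => hjP (e ▸ one_mem _)
    have ho : orderOf (j : Equiv.Perm α) = 2 := by
      rw [Subgroup.orderOf_coe]
      exact orderOf_eq_prime (by rw [pow_two, hj]) hj1
    obtain ⟨n, hn⟩ := Equiv.Perm.cycleType_prime_order (σ := (j : Equiv.Perm α))
      (by rw [ho]; exact Nat.prime_two)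
    have hs := Equiv.Perm.sum_cycleType (j : Equiv.Perm α)
    have hfull : (j : Equiv.Perm α).support.card = 2 * p := by
      have := Finset.card_add_card_compl (j : Equiv.Perm α).support
      rw [hsupp, h0, hα] at this
      omega
    rw [hfull, hn, ho, Multiset.sum_replicate, smul_eq_mul] at hs
    have hsign : Equiv.Perm.sign (j : Equiv.Perm α) = -1 := by
      rw [Equiv.Perm.sign_of_cycleType, hn, ho, Multiset.sum_replicate, Multiset.card_replicate,
        smul_eq_mul]
      have : n + 1 = p := by omega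
      rw [this]
      refine Odd.neg_one_pow ?_
      exact (Even.mul_left even_two p).add_odd (hpr.odd_of_ne_two (by omega))
    haveI := isSimple hp hα hprim P hN
    let s : G →* ℤˣ := Equiv.Perm.sign.comp G.subtype
    rcases s.normal_ker.eq_bot_or_eq_top with hk | hk
    · exact not_comm hp hα hprim P hN fun a b =>
        (MonoidHom.ker_eq_bot_iff s).mp hk (by rw [map_mul, map_mul, mul_comm])
    · have : s j = 1 := MonoidHom.mem_ker.mp (hk ▸ Subgroup.mem_top j)
      simp only [s, MonoidHom.comp_apply, Subgroup.coe_subtype, hsign] at this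
      exact absurd this (by decide)
  omega

end H18.TwiceP
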