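import Cfsg.Agent.H18.ExceptionalIndexTwo

/-!
The non-exceptional companion of the exceptional characters of a dihedral normaliser of a
self-centralising subgroup of prime order.
-/

set_option autoImplicit false
set_option linter.unusedSectionVars false

open Cfsg
open scoped ComplexConjugate

namespace H18

universe u

variable {G : Type u} [Group G] [Fintype G] {H : Subgroup G} (hH : H13.TI.Hyp H) {p : ℕ}
  [Fact p.Prime] (hp : 5 ≤ p) (hcard : Nat.card H = p)
  (hidx : H.relIndex (Subgroup.normalizer (H : Set G)) = 2)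

include hH hp hcard hidx

open scoped Classical in
theorem sum_subgroup_dvd [Fintype H] (ψ : IrrCharacter G) (c : ℤ) (d : ℕ) (hd : (ψ : G → ℂ) 1 = d) (r : H → ℂ)
    (R : ℤ) (hR : ∑ h ∈ (Finset.univ : Finset H).erase 1, r h = (R : ℂ))
    (hval : ∀ h : H, h ≠ 1 → (ψ : G → ℂ) h = (c : ℂ) + r h) :
    (p : ℤ) ∣ (d : ℤ) - c + R := by
  obtain ⟨k, hk⟩ := H12.IsCharacter.classInner_nat
    (H12.IsCharacter.res (H12.isCharacter_irr ψ) H) (H12.isCharacter_one (G := H))
  rw [H12.classInner_def, inv_mul_eq_iff_eq_mul₀ H12.card_ne_zero', hcard] at hk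
  simp only [map_one, mul_one] at hk
  rw [← Finset.add_sum_erase _ _ (Finset.mem_univ (1 : H)), Subgroup.coe_one, hd,
    Finset.sum_congr rfl fun h hh => hval h (Finset.ne_of_mem_erase hh), Finset.sum_add_distrib,
    hR, Finset.sum_const, Finset.card_erase_of_mem (Finset.mem_univ _), Finset.card_univ,
    ← Nat.card_eq_fintype_card, hcard, nsmul_eq_mul, Nat.cast_sub (by omega)] at hk
  refine ⟨(k : ℤ) - c, ?_⟩
  have : (((d : ℤ) - c + R : ℤ) : ℂ) = (((p : ℤ) * ((k : ℤ) - c) : ℤ) : ℂ) := by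
    push_cast at hk ⊢
    linear_combination hk
  exact_mod_cast this

theorem exists_companion : ∃ (M : Finset (IrrCharacter G)) (χ : IrrCharacter G) (δ S : ℤ)
    (d n : ℕ), 2 * M.card + 1 = p ∧ H12.oneIrr G ∉ M ∧ χ ∉ M ∧ H12.oneIrr G ≠ χ ∧
    (δ = 1 ∨ δ = -1) ∧ (S = 1 ∨ S = -1) ∧ (χ : G → ℂ) 1 = d ∧
    (∀ h : H, h ≠ 1 → (χ : G → ℂ) h = (δ : ℂ)) ∧ (∀ ψ ∈ M, (ψ : G → ℂ) 1 = n) ∧
    (∀ ψ ∉ M, ψ ≠ H12.oneIrr G → ψ ≠ χ → ∀ h : H, h ≠ 1 → (ψ : G → ℂ) h = 0) ∧
    (∀ h : H, h ≠ 1 → ∑ ψ ∈ M, (ψ : G → ℂ) h = (S : ℂ)) ∧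
    1 + δ * d + n * S = 0 ∧ (p : ℤ) ∣ d - δ ∧ (p : ℤ) ∣ n + 2 * S ∧
    (∀ f : G → ℂ, IsClassFunction G f → ∀ b : ℂ, (∀ h : H, h ≠ 1 → f h = b) →
      ∀ ψ ∈ M, ∀ φ ∈ M, classInner f ψ = classInner f φ) := by
  classical
  haveI := Fintype.ofFinite H
  have hv1 : 1 < (commutator H).index := by
    have hc : commutator H = ⊥ := by
      rw [commutator_def, Subgroup.commutator_eq_bot_iff_le_centralizer]
      exact fun a _ b _ => comm_of_card hcard b a
    rw [hc, Subgroup.index_bot, hcard]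
    omega
  obtain ⟨F⟩ := H13.TI.exists_family hH hv1
  obtain ⟨e, he, heps⟩ : ∃ e : ℤ, (e = 1 ∨ e = -1) ∧ F.eps = (e : ℂ) := by
    rcases F.eps_sq with h | h
    · exact ⟨1, .inl rfl, by simp [h]⟩
    · exact ⟨-1, .inr rfl, by simp [h]⟩
  have hee : (e : ℂ) * e = 1 := by rcases he with h | h <;> simp [h]
  have he0 : (e : ℂ) ≠ 0 := left_ne_zero_of_mul (hee ▸ one_ne_zero)
  choose c hc using value_expansion hH hp hcard hidx F
  let o : Fin F.w := ⟨0, F.w_pos⟩
  obtain ⟨h0, hh0⟩ : ∃ h : H, h ≠ 1 := by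
    haveI : Nontrivial H := Finite.one_lt_card_iff_nontrivial.mp (by rw [hcard]; omega)
    exact exists_ne 1
  set C := c (F.mu o) with hC
  have hmu : ∀ s, ∀ h : H, h ≠ 1 →
      (F.mu s : G → ℂ) h = (c (F.mu s) : ℂ) + e * (re2 (F.rep s) h : ℂ) := by
    intro s h hh
    rw [hc (F.mu s) h hh, Finset.sum_eq_single s
      (fun t _ ht => if_neg fun q => ht (F.mu_inj q).symm) (by simp), if_pos rfl, heps]
  have hdiff : ∀ s t : Fin F.w, ∀ y : G, H13.TI.ind (F.rep s) y - H13.TI.ind (F.rep t) y =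
      (e : ℂ) * ((F.mu s : G → ℂ) y - (F.mu t : G → ℂ) y) := by
    intro s t y
    have := congrFun (F.diff s t) y
    simpa [heps] using this
  have hCs : ∀ s, c (F.mu s) = C := by
    intro s
    have h1 := hdiff s o h0
    rw [ind_sub_eq hH hcard hidx, hmu s h0 hh0, hmu o h0 hh0] at h1
    have : (e : ℂ) * ((c (F.mu s) : ℂ) - (C : ℂ)) = 0 := by
      simp only [hC]
      linear_combination -h1 - ((re2 (F.rep s) h0 : ℂ) - (re2 (F.rep o) h0 : ℂ)) * hee
    exact_mod_cast sub_eq_zero.mp ((mul_eq_zero.mp this).resolve_left he0)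
  have hw := card_w hH hcard hidx F
  set M : Finset (IrrCharacter G) := Finset.univ.image F.mu with hM
  have hMcard : M.card = F.w := by
    rw [hM, Finset.card_image_of_injective _ F.mu_inj, Finset.card_univ, Fintype.card_fin]
  have hout : ∀ ψ ∉ M, ∀ h : H, h ≠ 1 → (ψ : G → ℂ) h = (c ψ : ℂ) := by
    intro ψ hψ h hh
    rw [hc ψ h hh, Finset.sum_eq_zero, mul_zero, add_zero]
    exact fun s _ => if_neg fun q => hψ (by rw [q]; exact Finset.mem_image_of_mem _ (Finset.mem_univ s))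
  have hone : H12.oneIrr G ∉ M := by
    intro h
    obtain ⟨s, -, hs⟩ := Finset.mem_image.mp h
    exact ne_mu_of_const hH hp hcard hidx F _ 1 (fun a _ => by simp [H12.oneIrr_apply]) s hs.symm
  have hre : ∀ h : H, h ≠ 1 → ∑ s, (re2 (F.rep s) h : ℂ) = -1 := fun h hh => by
    rw [← Complex.ofReal_sum, sum_re2 hH hp hcard hidx F hh]; simp
  have hdeg : ∀ s, (F.mu s : G → ℂ) 1 = (F.mu o : G → ℂ) 1 := by
    intro s
    have h1 := hdiff s o 1
    rw [H13.TI.ind_one_apply, H13.TI.ind_one_apply, sub_self] at h1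
    exact sub_eq_zero.mp ((mul_eq_zero.mp h1.symm).resolve_left he0)
  obtain ⟨n, hn⟩ : ∃ n : ℕ, (F.mu o : G → ℂ) 1 = n := ⟨_, H12.irr_apply_one _⟩
  have hnd : ∀ ψ ∈ M, (ψ : G → ℂ) 1 = n := by
    intro ψ hψ
    obtain ⟨s, -, rfl⟩ := Finset.mem_image.mp hψ
    rw [hdeg s, hn]
  have hS : ∀ h : H, h ≠ 1 → ∑ ψ ∈ M, (ψ : G → ℂ) h = ((F.w * C - e : ℤ) : ℂ) := by
    intro h hh
    rw [hM, Finset.sum_image F.mu_inj.injOn, Finset.sum_congr rfl fun s _ => hmu s h hh]
    simp only [hCs, Finset.sum_add_distrib, Finset.sum_const, Finset.card_univ, Fintype.card_fin,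
      ← Finset.mul_sum, hre h hh]
    push_cast
    ring
  set R := (Finset.univ \ M).erase (H12.oneIrr G) with hR
  have hsplit : ∀ f : IrrCharacter G → ℂ, ∑ ψ, f ψ =
      f (H12.oneIrr G) + ∑ ψ ∈ R, f ψ + ∑ ψ ∈ M, f ψ := by
    intro f
    rw [← Finset.sum_sdiff (Finset.subset_univ M),
      ← Finset.add_sum_erase _ f (a := H12.oneIrr G) (by simp [hone])]
  have hcR : ∀ ψ ∈ R, ∀ h : H, h ≠ 1 → (ψ : G → ℂ) h = (c ψ : ℂ) := fun ψ hψ =>
    hout ψ (Finset.mem_sdiff.mp (Finset.mem_of_mem_erase hψ)).2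
  have hcen : Subgroup.centralizer ({(h0 : G)} : Set G) = H :=
    centralizer_eq hH h0.2 (fun q => hh0 (Subtype.ext q)) fun a ha =>
      congrArg Subtype.val (comm_of_card hcard ⟨a, ha⟩ h0)
  have horth := H12.column_orthogonality (h0 : G) (h0 : G)
  simp only [conj_value hH hp hcard hidx] at horth
  rw [if_pos (IsConj.refl _), hcen, hcard, hsplit, H12.oneIrr_apply] at horth
  have eM : ∑ ψ ∈ M, (ψ : G → ℂ) h0 * (ψ : G → ℂ) h0 =
      (F.w : ℂ) * C * C - 2 * C * e + ((p : ℂ) - 2) := by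
    rw [hM, Finset.sum_image F.mu_inj.injOn, Finset.sum_congr rfl fun s _ =>
      show (F.mu s : G → ℂ) h0 * (F.mu s : G → ℂ) h0 = (C : ℂ) * C +
          2 * C * e * (re2 (F.rep s) h0 : ℂ) + (re2 (F.rep s) h0 : ℂ) ^ 2 by
        rw [hmu s h0 hh0, hCs]
        linear_combination ((re2 (F.rep s) h0 : ℂ) ^ 2) * hee]
    have h2 : ∑ s, (re2 (F.rep s) h0 : ℂ) ^ 2 = (p : ℂ) - 2 := by
      simp only [← Complex.ofReal_pow]
      rw [← Complex.ofReal_sum, sum_re2_sq hH hp hcard hidx F hh0]; simp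
    rw [Finset.sum_add_distrib, Finset.sum_add_distrib, Finset.sum_const, ← Finset.mul_sum,
      hre h0 hh0, h2, Finset.card_univ, Fintype.card_fin, nsmul_eq_mul]
    ring
  rw [eM, Finset.sum_congr rfl (g := fun ψ => (c ψ : ℂ) * (c ψ : ℂ))
    (fun ψ hψ => by rw [hcR ψ hψ h0 hh0])] at horth
  have hrest : ∑ ψ ∈ R, c ψ * c ψ + C * ((F.w : ℤ) * C - 2 * e) = 1 := by
    have : ((∑ ψ ∈ R, c ψ * c ψ + C * ((F.w : ℤ) * C - 2 * e) : ℤ) : ℂ) = ((1 : ℤ) : ℂ) := by
      push_cast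
      linear_combination horth
    exact_mod_cast this
  have horth1 := H12.column_orthogonality (1 : G) (h0 : G)
  simp only [conj_value hH hp hcard hidx] at horth1
  rw [if_neg (fun q => hh0 (Subtype.ext (isConj_one_right.mp q))), hsplit, H12.oneIrr_apply,
    H12.oneIrr_apply, Finset.sum_congr rfl (s₁ := M) (g := fun ψ => (n : ℂ) * (ψ : G → ℂ) h0)
      (fun ψ hψ => by rw [hnd ψ hψ]), ← Finset.mul_sum, hS h0 hh0,
    Finset.sum_congr rfl (s₁ := R) (g := fun ψ => (H12.degree (ψ : G → ℂ) : ℂ) * (c ψ : ℂ))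
      (fun ψ hψ => by rw [hcR ψ hψ h0 hh0, H12.irr_apply_one])] at horth1
  have hw2 : 2 ≤ (F.w : ℤ) := by omega
  have hnn : (0 : ℤ) ≤ ∑ ψ ∈ R, c ψ * c ψ := Finset.sum_nonneg fun ψ _ => mul_self_nonneg _
  have hCnn : 0 ≤ C * ((F.w : ℤ) * C - 2 * e) := by
    rcases lt_trichotomy C 0 with hC0 | hC0 | hC0
    · have : (F.w : ℤ) * C - 2 * e ≤ 0 := by rcases he with rfl | rfl <;> nlinarith
      nlinarith
    · simp [hC0]
    · have : 0 ≤ (F.w : ℤ) * C - 2 * e := by rcases he with rfl | rfl <;> nlinarith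
      positivity
  have hT0 : C * ((F.w : ℤ) * C - 2 * e) = 0 := by
    by_contra hne
    have h1 : C * ((F.w : ℤ) * C - 2 * e) = 1 := by omega
    have hR0 : ∀ ψ ∈ R, c ψ = 0 := fun ψ hψ => mul_self_eq_zero.mp
      ((Finset.sum_eq_zero_iff_of_nonneg fun x _ => mul_self_nonneg (c x)).mp (by omega) ψ hψ)
    rw [Finset.sum_eq_zero (s := R) fun ψ hψ => by rw [hR0 ψ hψ, Int.cast_zero, mul_zero]]
      at horth1
    have h2 : 1 + (n : ℤ) * ((F.w : ℤ) * C - e) = 0 := by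
      have : ((1 + (n : ℤ) * ((F.w : ℤ) * C - e) : ℤ) : ℂ) = ((0 : ℤ) : ℂ) := by
        push_cast at horth1 ⊢
        linear_combination horth1
      exact_mod_cast this
    rcases Int.eq_one_or_neg_one_of_mul_eq_one h1 with hC1 | hC1
    · rw [hC1] at h1 h2
      have : ((F.w : ℤ) * 1 - e) = 1 + e := by omega
      rw [this] at h2
      rcases he with rfl | rfl <;> omega
    · rw [hC1] at h1 h2
      have : ((F.w : ℤ) * (-1) - e) = -1 + e := by omega
      rw [this] at h2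
      rcases he with rfl | rfl <;> omega
  have hsum1 : ∑ ψ ∈ R, c ψ * c ψ = 1 := by omega
  obtain ⟨χ, hχR, hχ0⟩ : ∃ ψ ∈ R, c ψ * c ψ ≠ 0 :=
    Finset.exists_ne_zero_of_sum_ne_zero (by rw [hsum1]; norm_num)
  have hle := Finset.add_sum_erase R (fun ψ => c ψ * c ψ) hχR
  have hnn' : (0 : ℤ) ≤ ∑ ψ ∈ R.erase χ, c ψ * c ψ :=
    Finset.sum_nonneg fun ψ _ => mul_self_nonneg _
  have hpos : 0 < c χ * c χ := lt_of_le_of_ne (mul_self_nonneg _) (Ne.symm hχ0)
  have hcc : c χ * c χ = 1 := by omega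
  have hoth : ∀ ψ ∈ R, ψ ≠ χ → c ψ = 0 := fun ψ hψ hne => mul_self_eq_zero.mp
    ((Finset.sum_eq_zero_iff_of_nonneg fun x _ => mul_self_nonneg (c x)).mp (by omega) ψ
      (Finset.mem_erase.mpr ⟨hne, hψ⟩))
  rw [Finset.sum_eq_single_of_mem χ hχR fun ψ hψ hne => by
    rw [hoth ψ hψ hne, Int.cast_zero, mul_zero]] at horth1
  have hS1 : (F.w : ℤ) * C - e = -e ∧ C = 0 ∨ (F.w : ℤ) * C - e = e ∧ F.w = 2 ∧ C = e := by
    rcases mul_eq_zero.mp hT0 with h | h
    · exact .inl ⟨by rw [h]; ring, h⟩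
    · have h3 : (F.w : ℤ) * C = 2 * e := by omega
      have h4 : (F.w : ℤ) * |C| = 2 := by
        have := congrArg abs h3
        rw [abs_mul, Nat.abs_cast, abs_mul] at this
        rcases he with rfl | rfl <;> simpa using this
      have h5 : (F.w : ℤ) = 2 := le_antisymm (Int.le_of_dvd two_pos ⟨_, h4.symm⟩) hw2
      rw [h5] at h3
      refine .inr ⟨?_, by omega, by omega⟩
      rw [h5, h3]; ring
  refine ⟨M, χ, c χ, (F.w : ℤ) * C - e, H12.degree (χ : G → ℂ), n, by omega, hone,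
    (Finset.mem_sdiff.mp (Finset.mem_of_mem_erase hχR)).2, (Finset.ne_of_mem_erase hχR).symm,
    Int.eq_one_or_neg_one_of_mul_eq_one hcc, ?_, H12.irr_apply_one χ, hcR χ hχR, hnd, ?_, hS,
    ?_, ?_, ?_, ?_⟩
  · rcases hS1 with ⟨h, -⟩ | ⟨h, -⟩ <;> rw [h] <;> rcases he with rfl | rfl <;> simp
  · intro ψ hψ h1 h2 h hh
    have hmem : ψ ∈ R := by simp [hR, hψ, h1]
    rw [hcR ψ hmem h hh, hoth ψ hmem h2, Int.cast_zero]
  · have : ((1 + c χ * (H12.degree (χ : G → ℂ) : ℤ) + (n : ℤ) * ((F.w : ℤ) * C - e) : ℤ) : ℂ) =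
        ((0 : ℤ) : ℂ) := by
      push_cast at horth1 ⊢
      linear_combination horth1
    exact_mod_cast this
  · have := sum_subgroup_dvd hH hp hcard hidx χ (c χ) (H12.degree (χ : G → ℂ))
      (H12.irr_apply_one χ) (fun _ => 0) 0 (by simp) (fun h hh => by rw [hcR χ hχR h hh, add_zero])
    simpa using this
  · have hRsum : ∑ h ∈ (Finset.univ : Finset H).erase 1, (e : ℂ) * (re2 (F.rep o) h : ℂ) =
        ((-2 * e : ℤ) : ℂ) := by
      have hz : ∑ h : H, H13.TI.lf (F.rep o) h = 0 := by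
        obtain ⟨a, ha⟩ : ∃ a, F.rep o a ≠ 1 := by
          by_contra hh
          push Not at hh
          exact F.rep_ne o (MonoidHom.ext hh)
        have hmul : (F.rep o a : ℂ) * ∑ h : H, H13.TI.lf (F.rep o) h =
            ∑ h : H, H13.TI.lf (F.rep o) h := by
          rw [Finset.mul_sum]
          exact Fintype.sum_equiv (Equiv.mulLeft a) _ _ fun h => by simp [H13.TI.lf]
        by_contra hne
        exact ha (Units.ext ((mul_eq_right₀ hne).mp hmul))
      have h2 : ∑ h : H, re2 (F.rep o) h = 0 := by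
        simp only [re2, ← Finset.mul_sum, ← Complex.re_sum, hz, Complex.zero_re, mul_zero]
      rw [← Finset.add_sum_erase _ _ (Finset.mem_univ (1 : H))] at h2
      have h3 : re2 (F.rep o) (1 : H) = 2 := by simp [re2, H13.TI.lf]
      rw [← Finset.mul_sum, ← Complex.ofReal_sum,
        show ∑ h ∈ (Finset.univ : Finset H).erase 1, re2 (F.rep o) h = -2 by linarith]
      push_cast
      ring
    have h4 := sum_subgroup_dvd hH hp hcard hidx (F.mu o) C n hn _ (-2 * e) hRsum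
      (fun h hh => by rw [hmu o h hh])
    rcases hS1 with ⟨h, hC0⟩ | ⟨h, hw', hC0⟩
    · rw [h]; rw [hC0] at h4
      convert h4 using 1; ring
    · rw [h]; rw [hC0] at h4
      have hp5 : (p : ℤ) = 5 := by omega
      have h6 : (p : ℤ) ∣ (n : ℤ) - e + -2 * e + 5 * e :=
        dvd_add h4 (hp5 ▸ Dvd.intro e rfl)
      convert h6 using 1; ring
  · intro f hf b hb ψ hψ φ hφ
    obtain ⟨s, -, rfl⟩ := Finset.mem_image.mp hψ
    obtain ⟨t, -, rfl⟩ := Finset.mem_image.mp hφ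
    have key : ∀ u, classInner f (H13.TI.ind (F.rep u)) =
        (Nat.card H : ℂ)⁻¹ * (f 1 - b) := by
      intro u
      rw [H13.TI.ind, H12.classInner_indFun_right H _ hf, H12.classInner_def]
      congr 1
      have hz : ∑ h : H, conj (H13.TI.lf (F.rep u) h) = 0 := by
        have h1 := H12.classInner_irr_ne (G := H)
          (fun q => F.rep_ne u (H12.linIrr_injective q.symm) :
            H12.linIrr (1 : H →* ℂˣ) ≠ H12.linIrr (F.rep u))
        rw [H12.classInner_def, mul_eq_zero, inv_eq_zero] at h1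
        have h2 := h1.resolve_left H12.card_ne_zero'
        simpa [H12.linIrr_apply, H13.TI.lf] using h2
      have e1 : ∀ h : H, f h * conj (H13.TI.lf (F.rep u) h) =
          b * conj (H13.TI.lf (F.rep u) h) + if h = 1 then f 1 - b else 0 := by
        intro h
        by_cases hh : h = 1
        · subst hh; simp [H13.TI.lf]
        · rw [hb h hh, if_neg hh, add_zero]
      rw [Finset.sum_congr rfl fun h _ => e1 h, Finset.sum_add_distrib, ← Finset.mul_sum, hz,
        mul_zero, zero_add, Finset.sum_ite_eq' Finset.univ 1 fun _ => f 1 - b]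
      simp
    have h1 : classInner f (H13.TI.ind (F.rep s) - H13.TI.ind (F.rep t)) = 0 := by
      rw [H12.classInner_sub_right, key, key, sub_self]
    rw [F.diff, heps, H12.classInner_smul_right, H12.classInner_sub_right, mul_eq_zero] at h1
    refine sub_eq_zero.mp (h1.resolve_left ?_)
    rw [map_intCast]
    exact he0

end H18
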