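import Cfsg.Agent.H58.SharplyTwo
import Cfsg.Agent.H37.Line
import Mathlib.GroupTheory.FixedPointFree

/-!
Sharply triply transitive groups of odd degree are the groups `SL(2, 2^a)` on the projective line.
-/

set_option autoImplicit false

open MulAction Matrix
open scoped LinearAlgebra.Projectivization MatrixGroups

namespace H18

universe u

variable {α : Type u} [Fintype α] [DecidableEq α] {G : Subgroup (Equiv.Perm α)}

theorem exists_triple (h3 : IsMultiplyPretransitive G α 3) {x y z x' y' z' : α} (hxy : x ≠ y)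
    (hxz : x ≠ z) (hyz : y ≠ z) (hxy' : x' ≠ y') (hxz' : x' ≠ z') (hyz' : y' ≠ z') :
    ∃ g : G, g • x = x' ∧ g • y = y' ∧ g • z = z' := by
  have inj : ∀ {a b c : α}, a ≠ b → a ≠ c → b ≠ c → Function.Injective ![a, b, c] := by
    intro a b c h1 h2 h3 i j h
    fin_cases i <;> fin_cases j <;> simp [h1, h2, h3, h1.symm, h2.symm, h3.symm] at h ⊢
  obtain ⟨g, hg⟩ := isMultiplyPretransitive_iff.mp h3 ⟨![x, y, z], inj hxy hxz hyz⟩
    ⟨![x', y', z'], inj hxy' hxz' hyz'⟩
  exact ⟨g, congrArg (fun e : Fin 3 ↪ α => e 0) hg, congrArg (fun e : Fin 3 ↪ α => e 1) hg,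
    congrArg (fun e : Fin 3 ↪ α => e 2) hg⟩

theorem sl2_eq_of_three {F : Type*} [Field F] [CharP F 2] (M M' : SL(2, F))
    (a : Fin 3 ↪ ℙ F (Fin 2 → F)) (h : ∀ i, M • a i = M' • a i) : M = M' := by
  obtain ⟨g, hg⟩ := H37.exists_GL_map_stdTriple a
  set D : GL (Fin 2) F := g⁻¹ * (SpecialLinearGroup.toGL M')⁻¹ * SpecialLinearGroup.toGL M * g
    with hD
  obtain ⟨s, hs⟩ := H37.eq_scalar_of_fix_stdTriple D (fun i => by
    rw [hD, mul_smul, mul_smul, mul_smul, hg, H37.toGL_smul_pt, h, inv_smul_eq_iff,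
      inv_smul_eq_iff, H37.toGL_smul_pt, hg])
  have hdet : GeneralLinearGroup.det D = 1 := by
    have h1 : ∀ X : SL(2, F), GeneralLinearGroup.det (SpecialLinearGroup.toGL X) = 1 := fun X =>
      Units.ext (by simp)
    rw [hD, map_mul, map_mul, map_mul, h1, map_inv, map_inv, h1, inv_one, mul_one, mul_one,
      inv_mul_cancel]
  rw [hs, GeneralLinearGroup.det_scalar, Fintype.card_fin] at hdet
  have hs1 : (s : F) = 1 := by
    have h2 : (s : F) ^ 2 = 1 := by
      rw [← Units.val_pow_eq_pow_val, hdet, Units.val_one]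
    have h3 : ((s : F) + 1) * ((s : F) + 1) = 0 := by
      have : (2 : F) = 0 := CharTwo.two_eq_zero
      linear_combination h2 + ((s : F) + 1) * this
    have := mul_self_eq_zero.mp h3
    rwa [CharTwo.add_eq_zero] at this
  have hD1 : D = 1 := by rw [hs, show s = 1 from Units.ext hs1, map_one]
  rw [hD] at hD1
  have h4 : (SpecialLinearGroup.toGL M')⁻¹ * SpecialLinearGroup.toGL M = 1 := by
    have h5 := congrArg (fun X => g * X * g⁻¹) hD1
    simpa [mul_assoc] using h5
  exact SpecialLinearGroup.toGL_injective (inv_mul_eq_one.mp h4).symm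

theorem sharp_three_odd (hm : 3 ≤ Fintype.card α) (hodd : Odd (Fintype.card α))
    (h3 : IsMultiplyPretransitive G α 3)
    (hfix : ∀ (g : G) (x y z : α), x ≠ y → x ≠ z → y ≠ z →
      g • x = x → g • y = y → g • z = z → g = 1) :
    ∃ a : ℕ, 1 ≤ a ∧ Fintype.card α = 2 ^ a + 1 ∧
      ∃ (F : Type) (_ : Field F) (_ : Fintype F),
        Fintype.card F = 2 ^ a ∧ Nonempty (G ≃* SL(2, F)) := by
  classical
  obtain ⟨pinf⟩ : Nonempty α := Fintype.card_pos_iff.mp (by omega)
  let β := {x : α // x ≠ pinf}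
  have hβ : Fintype.card β + 1 = Fintype.card α := by
    have : Fintype.card β = Fintype.card α - 1 := by
      simp [β, Fintype.card_subtype_compl]
    omega
  let S := stabilizer G pinf
  let act : S →* Equiv.Perm β :=
    { toFun := fun s =>
        { toFun := fun x => ⟨(s : G) • (x : α), fun h => x.2 ((MulAction.injective (s : G))
            (h.trans s.2.symm))⟩
          invFun := fun x => ⟨(s : G)⁻¹ • (x : α), fun h => x.2 (by
            rw [inv_smul_eq_iff] at h; exact h.trans s.2)⟩
          left_inv := fun x => Subtype.ext (inv_smul_smul _ _)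
          right_inv := fun x => Subtype.ext (smul_inv_smul _ _) }
      map_one' := Equiv.ext fun x => Subtype.ext (one_smul _ _)
      map_mul' := fun s t => Equiv.ext fun x => Subtype.ext (mul_smul _ _ _) }
  have h2t : IsMultiplyPretransitive act.range β 2 := by
    rw [is_two_pretransitive_iff]
    intro a b c d hab hcd
    obtain ⟨g, hga, hgb, hgi⟩ := exists_triple h3 (Subtype.coe_injective.ne hab) a.2 b.2
      (Subtype.coe_injective.ne hcd) c.2 d.2
    exact ⟨⟨act ⟨g, hgi⟩, ⟨g, hgi⟩, rfl⟩, Subtype.ext hga, Subtype.ext hgb⟩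
  have hsharp : ∀ x : Fin 2 ↪ β, stabilizer act.range x = ⊥ := by
    intro x
    rw [eq_bot_iff]
    rintro ⟨_, s, rfl⟩ hs
    rw [Subgroup.mem_bot]
    have hs' : ∀ i, (s : G) • (x i : α) = x i := fun i =>
      congrArg Subtype.val (congrArg (fun e : Fin 2 ↪ β => e i) hs)
    have hne : (x 0 : α) ≠ x 1 := Subtype.coe_injective.ne (x.injective.ne (by decide))
    have h1 := hfix s _ _ _ hne (x 0).2 (x 1).2 (hs' 0) (hs' 1) s.2
    have : s = 1 := Subtype.ext h1
    subst this
    exact Subtype.ext (map_one act)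
  obtain ⟨NF, hNF⟩ := H58.exists_nearField act.range h2t hsharp (by omega)
  letI := NF
  -- the affine maps
  have haff : ∀ a b : β, a ≠ 0 → ∃ s : S, ∀ x : β, act s x = x * a + b := by
    intro a b ha
    have hbij : Function.Bijective fun x : β => x * a + b := by
      obtain ⟨a', ha1, ha2⟩ := Cfsg.NearField.exists_inv a ha
      refine ⟨fun x y h => ?_, fun y => ⟨(y + -b) * a', ?_⟩⟩
      · have := congrArg (fun z => (z + -b) * a') h
        simpa [add_assoc, mul_assoc, ha1] using this
      · simp [mul_assoc, ha2, add_assoc]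
    obtain ⟨s, hs⟩ := (hNF (Equiv.ofBijective _ hbij)).mpr ⟨a, b, ha, fun x => rfl⟩
    exact ⟨s, fun x => by rw [hs]; rfl⟩
  have hzmul : ∀ x : β, (0 : β) * x = 0 := by
    intro x
    have h := Cfsg.NearField.right_distrib (0 : β) 0 x
    rw [add_zero] at h
    simpa using h
  set o : α := ((0 : β) : α) with ho
  set u : α := ((1 : β) : α) with hu
  have hou : o ≠ u := Subtype.coe_injective.ne Cfsg.NearField.zero_ne_one
  have hoi : o ≠ pinf := (0 : β).2
  have hui : u ≠ pinf := (1 : β).2
  obtain ⟨w, hwi, hwo, hwu⟩ := exists_triple h3 hoi.symm hui.symm hou hoi hou hui.symm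
  have hw2 : w * w = 1 := hfix _ pinf o u hoi.symm hui.symm hou
    (by rw [mul_smul, hwi, hwo]) (by rw [mul_smul, hwo, hwi]) (by rw [mul_smul, hwu, hwu])
  have hwfix : ∀ x : α, w • x = x → x = u := by
    intro x hx
    by_contra hne
    have hw1 : (w : Equiv.Perm α) ^ 2 ^ 1 = 1 := by
      rw [pow_one, pow_two, ← Subgroup.coe_mul, hw2, Subgroup.coe_one]
    have hmod := Equiv.Perm.card_compl_support_modEq (p := 2) (n := 1) hw1
    have hfx : (w : Equiv.Perm α).supportᶜ = {x, u} := by
      ext y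
      rw [Finset.mem_compl, Equiv.Perm.notMem_support, Finset.mem_insert, Finset.mem_singleton]
      refine ⟨fun hy => ?_, ?_⟩
      · by_contra hy'
        push Not at hy'
        have := hfix w x u y hne hy'.1.symm hy'.2.symm hx hwu hy
        rw [this, one_smul] at hwi
        exact hoi hwi.symm
      · rintro (rfl | rfl)
        · exact hx
        · exact hwu
    rw [hfx, Finset.card_pair hne] at hmod
    rw [Nat.odd_iff] at hodd
    unfold Nat.ModEq at hmod
    omega
  -- inversion of the two-point stabiliser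
  let H : Subgroup G := stabilizer G pinf ⊓ stabilizer G o
  have hwinv : w⁻¹ = w := inv_eq_of_mul_eq_one_right hw2
  have hnorm : ∀ h ∈ H, w * h * w ∈ H := by
    rintro h ⟨h1, h2⟩
    change h • pinf = pinf at h1
    change h • o = o at h2
    refine ⟨?_, ?_⟩
    on_goal 1 => change (w * h * w) • pinf = pinf
    on_goal 2 => change (w * h * w) • o = o
    all_goals rw [mul_smul, mul_smul]
    · rw [hwi, h2, hwo]
    · rw [hwo, h1, hwi]
  let φ : H →* H :=
    { toFun := fun h => ⟨w * h * w, hnorm h h.2⟩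
      map_one' := Subtype.ext (by simp [hw2])
      map_mul' := fun a b => Subtype.ext (by
        simp only [Subgroup.coe_mul]
        calc w * ((a : G) * b) * w = w * a * (w * w) * b * w := by rw [hw2]; group
          _ = w * a * w * (w * b * w) := by group) }
  have hφinv : Function.Involutive φ := fun h => Subtype.ext (by
    change w * (w * h * w) * w = h
    calc w * (w * (h : G) * w) * w = (w * w) * h * (w * w) := by group
      _ = h := by rw [hw2, one_mul, mul_one])
  have hφfix : MonoidHom.FixedPointFree (φ : H → H) := by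
    intro h hh
    have h1 : w * (h : G) * w = h := congrArg Subtype.val hh
    have h2 : (h : G) * w = w * h := by
      calc (h : G) * w = w * h * w * w := by rw [h1]
        _ = w * h := by rw [mul_assoc, hw2, mul_one]
    have h3' : w • ((h : G) • u) = (h : G) • u := by
      rw [← mul_smul, ← h2, mul_smul, hwu]
    exact Subtype.ext (hfix h pinf o u hoi.symm hui.symm hou h.2.1 h.2.2 (hwfix _ h3'))
  have hHcomm : ∀ g h : H, Commute g h := hφfix.commute_all_of_involutive hφinv
  have hHinv : ∀ h : H, w * (h : G) * w = (h : G)⁻¹ := fun h =>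
    congrArg Subtype.val (congrFun (hφfix.coe_eq_inv_of_involutive hφinv) h)
  have hmulmem : ∀ a : β, a ≠ 0 → ∃ h : H, ∀ x : β, (h : G) • (x : α) = ((x * a : β) : α) := by
    intro a ha
    obtain ⟨s, hs⟩ := haff a 0 ha
    have hs' : ∀ x : β, (s : G) • (x : α) = ((x * a : β) : α) := fun x => by
      have := congrArg Subtype.val (hs x)
      simpa [act] using this
    exact ⟨⟨s, s.2, by change (s : G) • o = o; rw [ho, hs' 0, hzmul]⟩, hs'⟩
  have hcomm : ∀ a b : β, a * b = b * a := by
    intro a b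
    rcases eq_or_ne a 0 with rfl | ha
    · rw [hzmul, Cfsg.NearField.mul_zero]
    rcases eq_or_ne b 0 with rfl | hb
    · rw [hzmul, Cfsg.NearField.mul_zero]
    obtain ⟨ga, hga⟩ := hmulmem a ha
    obtain ⟨gb, hgb⟩ := hmulmem b hb
    have h1 : ((gb : G) * ga) • u = ((ga : G) * gb) • u := by
      rw [show (gb : G) * ga = ga * gb from congrArg Subtype.val (hHcomm gb ga).eq]
    rw [mul_smul, mul_smul, hu, hga, hgb, hgb, hga, one_mul, one_mul] at h1
    exact Subtype.ext h1
  letI acg : AddCommGroup β :=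
    { (inferInstance : AddGroup β) with
      add_comm := fun a b => by
        have hleft : ∀ x y z : β, x * (y + z) = x * y + x * z := fun x y z => by
          rw [hcomm x, Cfsg.NearField.right_distrib, hcomm y, hcomm z]
        have h1 : (a + b) * (1 + 1) = a * 1 + b * 1 + (a * 1 + b * 1) := by
          rw [hleft, Cfsg.NearField.right_distrib]
        have h2 : (a + b) * (1 + 1) = a * 1 + a * 1 + (b * 1 + b * 1) := by
          rw [Cfsg.NearField.right_distrib, hleft, hleft]
        simp only [mul_one] at h1 h2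
        rw [h1, add_assoc, add_assoc, add_right_inj, ← add_assoc, ← add_assoc,
          add_left_inj] at h2
        exact h2.symm }
  letI cr : CommRing β :=
    { acg, (inferInstance : Monoid β) with
      left_distrib := fun x y z => by
        rw [hcomm x, Cfsg.NearField.right_distrib, hcomm y, hcomm z]
      right_distrib := Cfsg.NearField.right_distrib
      zero_mul := hzmul
      mul_zero := Cfsg.NearField.mul_zero
      mul_comm := hcomm }
  have hfld : IsField β :=
    ⟨⟨0, 1, Cfsg.NearField.zero_ne_one⟩, hcomm, fun {a} ha =>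
      (Cfsg.NearField.exists_inv a ha).imp fun _ h => h.1⟩
  letI : Field β := hfld.toField
  haveI : CharP β 2 := by
    obtain ⟨n, hp, hc⟩ := FiniteField.card β (ringChar β)
    suffices ringChar β = 2 by rw [← this]; infer_instance
    by_contra h
    have ho' : Odd (Fintype.card β) := by rw [hc]; exact (hp.odd_of_ne_two h).pow
    rw [Nat.odd_iff] at ho' hodd
    omega
  obtain ⟨n, -, hc⟩ := FiniteField.card β 2
  haveI : Fact (Nat.Prime 2) := ⟨Nat.prime_two⟩
  set F := GaloisField 2 (n : ℕ)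
  haveI : Fintype F := Fintype.ofFinite _
  have hFc : Fintype.card F = 2 ^ (n : ℕ) := by
    rw [← Nat.card_eq_fintype_card]; exact GaloisField.card 2 n n.pos.ne'
  let e : β ≃+* F := FiniteField.ringEquivOfCardEq (hc.trans hFc.symm)
  refine ⟨n, n.pos, by omega, F, inferInstance, inferInstance, hFc, ?_⟩
  haveI : Finite (ℙ F (Fin 2 → F)) := inferInstance
  let v : α → (Fin 2 → F) := fun x => if h : x = pinf then ![1, 0] else ![e ⟨x, h⟩, 1]
  have hv : ∀ x, v x ≠ 0 := by
    intro x h
    simp only [v] at h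
    split_ifs at h
    · simpa using congrFun h 0
    · simpa using congrFun h 1
  let P : α → ℙ F (Fin 2 → F) := fun x => Projectivization.mk F (v x) (hv x)
  have hvi : v pinf = ![1, 0] := dif_pos rfl
  have hvx : ∀ x : β, v x = ![e x, 1] := fun x => dif_neg x.2
  have hPinj : Function.Injective P := by
    intro x y h
    obtain ⟨c, hc'⟩ := (Projectivization.mk_eq_mk_iff' F _ _ _ _).1 h
    have h0 := congrFun hc' 0
    have h1 := congrFun hc' 1
    simp only [v] at h0 h1
    split_ifs at h0 h1 with hy hx hx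
    · rw [hx, hy]
    · simp at h1
    · simp at h1; subst h1; simp at h0
    · simp at h1; subst h1
      simp at h0
      exact congrArg Subtype.val h0.symm
  have hPsurj : Function.Surjective P := by
    intro q
    induction q using Projectivization.ind with | _ x hx => ?_
    by_cases h : x 1 = 0
    · refine ⟨pinf, (Projectivization.mk_eq_mk_iff' F _ _ _ _).2 ⟨(x 0)⁻¹, ?_⟩⟩
      have h0 : x 0 ≠ 0 := fun h0 => hx (by funext i; fin_cases i <;> assumption)
      funext i; fin_cases i <;> simp [hvi, h, inv_mul_cancel₀ h0]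
    · refine ⟨(e.symm (x 0 / x 1) : β), (Projectivization.mk_eq_mk_iff' F _ _ _ _).2 ⟨(x 1)⁻¹, ?_⟩⟩
      funext i; fin_cases i <;> simp [hvx, div_eq_inv_mul] <;> exact inv_mul_cancel₀ (G₀ := F) (by exact h)
  let R : G → Prop := fun g => ∃ M : SL(2, F), ∀ x : α, P (g • x) = M • P x
  have hR1 : R 1 := ⟨1, fun x => by simp⟩
  have hRmul : ∀ g h, R g → R h → R (g * h) := by
    rintro g h ⟨M, hM⟩ ⟨M', hM'⟩
    exact ⟨M * M', fun x => by rw [mul_smul, mul_smul, hM, hM']⟩
  have hmk : ∀ (M : SL(2, F)) (y : Fin 2 → F) (hy : y ≠ 0),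
      ∃ hz : (M : Matrix (Fin 2) (Fin 2) F) *ᵥ y ≠ 0,
        M • Projectivization.mk F y hy = Projectivization.mk F _ hz := by
    intro M y hy
    have hz : (M : Matrix (Fin 2) (Fin 2) F) *ᵥ y ≠ 0 := fun h => hy (by
      have h1 := congrArg (fun z => ((M⁻¹ : SL(2, F)) : Matrix (Fin 2) (Fin 2) F) *ᵥ z) h
      change ((M⁻¹ : SL(2, F)) : Matrix (Fin 2) (Fin 2) F) *ᵥ _ = _ *ᵥ (0 : Fin 2 → F) at h1
      have h2 : ((M⁻¹ : SL(2, F)) : Matrix (Fin 2) (Fin 2) F) * M = 1 := by
        exact congrArg Subtype.val (inv_mul_cancel M)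
      rw [Matrix.mulVec_mulVec, h2, Matrix.mulVec_zero, Matrix.one_mulVec] at h1
      exact h1)
    exact ⟨hz, rfl⟩
  have hRstab : ∀ s : S, R s := by
    intro s
    obtain ⟨a, b, ha, hab⟩ := (hNF (act s)).mp ⟨s, rfl⟩
    obtain ⟨c, hc'⟩ := FiniteField.isSquare_of_char_two (CharP.ringChar_of_prime_eq_zero
      (R := F) Nat.prime_two CharTwo.two_eq_zero) (e a)
    have hc0 : c ≠ 0 := fun h => ha (e.injective (by rw [hc', h, mul_zero, map_zero]))
    refine ⟨⟨!![c, e b / c; 0, c⁻¹], by simp [Matrix.det_fin_two, mul_inv_cancel₀ hc0]⟩, fun x => ?_⟩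
    obtain ⟨hz, hM⟩ := hmk ⟨!![c, e b / c; 0, c⁻¹], by simp [Matrix.det_fin_two, mul_inv_cancel₀ hc0]⟩ (v x) (hv x)
    change Projectivization.mk F _ _ = _ • Projectivization.mk F _ _
    rw [hM, Projectivization.mk_eq_mk_iff' F]
    by_cases hx : x = pinf
    · have hfx : (s : G) • pinf = pinf := s.2
      exact ⟨c⁻¹, by funext i; fin_cases i <;> simp [hx, hfx, hvi, Matrix.mulVec, dotProduct, inv_mul_cancel₀ hc0]⟩
    · have hsx : (s : G) • x = ((⟨x, hx⟩ * a + b : β) : α) := congrArg Subtype.val (hab ⟨x, hx⟩)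
      refine ⟨c, ?_⟩
      rw [hsx, hvx]
      funext i
      fin_cases i <;> simp [v, hx, Matrix.mulVec, dotProduct, hc0, hc']
      · linear_combination (e b) * (mul_inv_cancel₀ (G₀ := F) hc0)
      · exact mul_inv_cancel₀ (G₀ := F) hc0
  have hRw : R w := by
    refine ⟨⟨!![0, 1; 1, 0], by simp [Matrix.det_fin_two, CharTwo.neg_eq]⟩, fun x => ?_⟩
    obtain ⟨hz, hM⟩ := hmk ⟨!![0, 1; 1, 0], by simp [Matrix.det_fin_two, CharTwo.neg_eq]⟩ (v x) (hv x)
    change Projectivization.mk F _ _ = _ • Projectivization.mk F _ _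
    rw [hM, Projectivization.mk_eq_mk_iff' F]
    by_cases hx : x = pinf
    · refine ⟨1, ?_⟩
      rw [hx, hwi, ho, hvx]
      funext i; fin_cases i <;> simp [hvi, Matrix.mulVec, dotProduct]
    by_cases hx0 : x = o
    · refine ⟨1, ?_⟩
      rw [hx0, hwo, hvi, ho, hvx]
      funext i; fin_cases i <;> simp [Matrix.mulVec, dotProduct]
    have ha : (⟨x, hx⟩ : β) ≠ 0 := fun h => hx0 (congrArg Subtype.val h)
    obtain ⟨g, hg⟩ := hmulmem _ ha
    have hgu : (g : G) • u = x := by rw [hu, hg, one_mul]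
    have hwg : w * (g : G) = (g : G)⁻¹ * w := by
      rw [← hHinv g, mul_assoc _ w w, hw2, mul_one]
    have hy : w • x = (((⟨x, hx⟩ : β)⁻¹ : β) : α) := by
      conv_lhs => rw [← hgu, ← mul_smul, hwg, mul_smul, hwu]
      rw [inv_smul_eq_iff, hg, hu]
      exact congrArg Subtype.val (inv_mul_cancel₀ ha).symm
    refine ⟨(e ⟨x, hx⟩)⁻¹, ?_⟩
    rw [hy, hvx]
    have he0 : e ⟨x, hx⟩ ≠ 0 := fun h => ha (e.injective (h.trans (map_zero e).symm))
    funext i
    fin_cases i <;> simp [v, hx, Matrix.mulVec, dotProduct, he0, map_inv₀] <;> exact inv_mul_cancel₀ he0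
  have hR : ∀ g, R g := by
    intro g
    by_cases hg : g • pinf = pinf
    · exact hRstab ⟨g, hg⟩
    obtain ⟨s, hs⟩ := haff 1 ⟨g • pinf, hg⟩ one_ne_zero
    have hso : (s : G) • o = g • pinf := by
      have := congrArg Subtype.val (hs 0)
      simpa [act] using this
    have hmem : ((s : G) * w)⁻¹ * g ∈ S := by
      change (((s : G) * w)⁻¹ * g) • pinf = pinf
      rw [mul_smul, inv_smul_eq_iff, mul_smul, hwi, hso]
    rw [show g = (s : G) * w * (((s : G) * w)⁻¹ * g) by group]
    exact hRmul _ _ (hRmul _ _ (hRstab s) hRw) (hRstab ⟨_, hmem⟩)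
  choose ψ hψ using hR
  let T : Fin 3 ↪ α := ⟨![pinf, o, u], fun i j h => by
    fin_cases i <;> fin_cases j <;>
      simp [hoi, hui, hou, hoi.symm, hui.symm, hou.symm] at h ⊢⟩
  have huniq : ∀ (g : G) (M : SL(2, F)), (∀ i, P (g • T i) = M • P (T i)) → ψ g = M := fun g M h =>
    sl2_eq_of_three _ _ (T.trans ⟨P, hPinj⟩) fun i => by
      change ψ g • P (T i) = M • P (T i)
      rw [← hψ, h]
  refine ⟨MulEquiv.ofBijective (MonoidHom.mk' ψ fun g h => huniq _ _ fun i => by
    rw [mul_smul, mul_smul, hψ, hψ]) ⟨fun g h hgh => ?_, fun M => ?_⟩⟩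
  · change ψ g = ψ h at hgh
    refine Subtype.ext (Equiv.ext fun x => hPinj ?_)
    change P (g • x) = P (h • x)
    rw [hψ, hψ, hgh]
  · choose y hy using fun i => hPsurj (M • P (T i))
    have hyinj : Function.Injective y := fun i j h =>
      T.injective (hPinj (smul_left_cancel M (by rw [← hy, ← hy, h])))
    obtain ⟨g, h0, h1, h2⟩ := exists_triple h3 hoi.symm hui.symm hou
      (hyinj.ne (by decide : (0 : Fin 3) ≠ 1)) (hyinj.ne (by decide : (0 : Fin 3) ≠ 2))
      (hyinj.ne (by decide : (1 : Fin 3) ≠ 2))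
    refine ⟨g, huniq g M fun i => ?_⟩
    rw [← hy]
    fin_cases i
    · exact congrArg P h0
    · exact congrArg P h1
    · exact congrArg P h2

end H18
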