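import Mathlib.GroupTheory.GroupAction.MultipleTransitivity
import Mathlib.Data.Finset.Card
import Mathlib.Tactic

/-!
In a triply transitive group the fixed point sets of the stabilisers of three points form a block
system for triples; a counting bound.
-/

set_option autoImplicit false

open MulAction

namespace H18

variable {α : Type*} [Fintype α] [DecidableEq α] {G : Type*} [Group G] [Finite G] [MulAction G α]

/-- The points fixed by the stabiliser of three points. -/
noncomputable def tripleBlock (G : Type*) [Group G] [MulAction G α] (a b c : α) : Finset α := by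
  classical
  exact Finset.univ.filter fun x => ∀ g : G, g • a = a → g • b = b → g • c = c → g • x = x

theorem mem_tripleBlock {a b c x : α} :
    x ∈ tripleBlock G a b c ↔ ∀ g : G, g • a = a → g • b = b → g • c = c → g • x = x := by
  classical
  simp [tripleBlock]

theorem mem_tripleBlock_self (a b c : α) :
    a ∈ tripleBlock G a b c ∧ b ∈ tripleBlock G a b c ∧ c ∈ tripleBlock G a b c :=
  ⟨mem_tripleBlock.2 fun _ h _ _ => h, mem_tripleBlock.2 fun _ _ h _ => h,
    mem_tripleBlock.2 fun _ _ _ h => h⟩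

variable (h3 : ∀ x y z x' y' z' : α, x ≠ y → x ≠ z → y ≠ z → x' ≠ y' → x' ≠ z' → y' ≠ z' →
  ∃ g : G, g • x = x' ∧ g • y = y' ∧ g • z = z')

include h3

theorem tripleBlock_eq {a b c x y z : α} (hab : a ≠ b) (hac : a ≠ c) (hbc : b ≠ c)
    (hx : x ∈ tripleBlock G a b c) (hy : y ∈ tripleBlock G a b c) (hz : z ∈ tripleBlock G a b c)
    (hxy : x ≠ y) (hxz : x ≠ z) (hyz : y ≠ z) :
    tripleBlock G x y z = tripleBlock G a b c := by
  classical
  obtain ⟨k, hka, hkb, hkc⟩ := h3 a b c x y z hab hac hbc hxy hxz hyz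
  let S : α → α → α → Set G := fun u v w => {g | g • u = u ∧ g • v = v ∧ g • w = w}
  have hsub : S a b c ⊆ S x y z := fun g ⟨h1, h2, h3'⟩ =>
    ⟨mem_tripleBlock.1 hx g h1 h2 h3', mem_tripleBlock.1 hy g h1 h2 h3',
      mem_tripleBlock.1 hz g h1 h2 h3'⟩
  have hcard : (S x y z).ncard ≤ (S a b c).ncard := by
    refine Set.ncard_le_ncard_of_injOn (fun g => k⁻¹ * g * k) (fun g hg => ?_)
      (fun g _ g' _ e => by simpa using e) (Set.toFinite _)
    obtain ⟨h1, h2, h3'⟩ := hg
    exact ⟨by rw [mul_smul, mul_smul, hka, h1, inv_smul_eq_iff, hka],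
      by rw [mul_smul, mul_smul, hkb, h2, inv_smul_eq_iff, hkb],
      by rw [mul_smul, mul_smul, hkc, h3', inv_smul_eq_iff, hkc]⟩
  have heq : S a b c = S x y z := Set.eq_of_subset_of_ncard_le hsub hcard (Set.toFinite _)
  ext w
  rw [mem_tripleBlock, mem_tripleBlock]
  constructor
  · intro h g h1 h2 h3'
    have : g ∈ S x y z := heq ▸ (⟨h1, h2, h3'⟩ : g ∈ S a b c)
    exact h g this.1 this.2.1 this.2.2
  · intro h g h1 h2 h3'
    have : g ∈ S a b c := heq.symm ▸ (⟨h1, h2, h3'⟩ : g ∈ S x y z)
    exact h g this.1 this.2.1 this.2.2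

theorem card_tripleBlock_eq {a b c x y z : α} (hab : a ≠ b) (hac : a ≠ c) (hbc : b ≠ c)
    (hxy : x ≠ y) (hxz : x ≠ z) (hyz : y ≠ z) :
    (tripleBlock G a b c).card = (tripleBlock G x y z).card := by
  obtain ⟨k, hka, hkb, hkc⟩ := h3 a b c x y z hab hac hbc hxy hxz hyz
  subst hka hkb hkc
  refine Finset.card_bij' (fun w _ => k • w) (fun w _ => k⁻¹ • w) (fun w hw => ?_) (fun w hw => ?_)
    (fun w _ => inv_smul_smul k w) (fun w _ => smul_inv_smul k w)
  · rw [mem_tripleBlock]
    intro g h1 h2 h3'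
    have := mem_tripleBlock.1 hw (k⁻¹ * g * k) (by rw [mul_smul, mul_smul, h1, inv_smul_smul])
      (by rw [mul_smul, mul_smul, h2, inv_smul_smul])
      (by rw [mul_smul, mul_smul, h3', inv_smul_smul])
    rwa [mul_smul, mul_smul, inv_smul_eq_iff] at this
  · rw [mem_tripleBlock]
    intro g h1 h2 h3'
    have := mem_tripleBlock.1 hw (k * g * k⁻¹) (by rw [mul_smul, mul_smul, inv_smul_smul, h1])
      (by rw [mul_smul, mul_smul, inv_smul_smul, h2])
      (by rw [mul_smul, mul_smul, inv_smul_smul, h3'])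
    rwa [mul_smul, mul_smul, ← eq_inv_smul_iff] at this

/-- Counting bound for the blocks through a point. -/
theorem tripleBlock_bound {a b c : α} (hab : a ≠ b) (hac : a ≠ c) (hbc : b ≠ c)
    {d : α} (hd : d ∉ tripleBlock G a b c) :
    (tripleBlock G a b c).card + 1 +
      ((tripleBlock G a b c).card - 1) * ((tripleBlock G a b c).card - 3) ≤ Fintype.card α := by
  classical
  set B := tripleBlock G a b c with hB
  set K := B.card with hK
  have haB : a ∈ B := (mem_tripleBlock_self a b c).1
  have hda : d ≠ a := fun e => hd (e ▸ haB)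
  let f : α → Finset α := fun e => tripleBlock G a e d \ {a, e, d}
  have hne : ∀ e ∈ B.erase a, a ≠ e ∧ a ≠ d ∧ e ≠ d := fun e he =>
    ⟨(Finset.ne_of_mem_erase he).symm, hda.symm, fun q => hd (q ▸ Finset.mem_of_mem_erase he)⟩
  have hmeet : ∀ e ∈ B.erase a, ∀ w ∈ B, w ∈ tripleBlock G a e d → w = a ∨ w = e := by
    intro e he w hwB hw
    by_contra hh
    push Not at hh
    obtain ⟨h1, h2, h3'⟩ := hne e he
    have q1 := tripleBlock_eq h3 h1 h2 h3' (mem_tripleBlock_self a e d).1
      (mem_tripleBlock_self a e d).2.1 hw h1 hh.1.symm hh.2.symm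
    have q2 := tripleBlock_eq h3 hab hac hbc haB (Finset.mem_of_mem_erase he) hwB h1 hh.1.symm
      hh.2.symm
    exact hd (by rw [hB, ← q2, q1]; exact (mem_tripleBlock_self a e d).2.2)
  have hdisj : (B.erase a : Set α).PairwiseDisjoint f := by
    intro e he e' he' hee
    rw [Function.onFun, Finset.disjoint_left]
    intro w hw hw'
    simp only [f, Finset.mem_sdiff, Finset.mem_insert, Finset.mem_singleton, not_or] at hw hw'
    obtain ⟨h1, h2, h3'⟩ := hne e he
    obtain ⟨h1', h2', h3''⟩ := hne e' he'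
    have q1 := tripleBlock_eq h3 h1 h2 h3' (mem_tripleBlock_self a e d).1
      (mem_tripleBlock_self a e d).2.2 hw.1 h2 (Ne.symm hw.2.1) (Ne.symm hw.2.2.2)
    have q2 := tripleBlock_eq h3 h1' h2' h3'' (mem_tripleBlock_self a e' d).1
      (mem_tripleBlock_self a e' d).2.2 hw'.1 h2' (Ne.symm hw'.2.1) (Ne.symm hw'.2.2.2)
    have : e' ∈ tripleBlock G a e d := by
      rw [← q1, q2]; exact (mem_tripleBlock_self a e' d).2.1
    rcases hmeet e he e' (Finset.mem_of_mem_erase he') this with q | q
    · exact h1' q.symm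
    · exact hee q.symm
  have hsub : (B.erase a).biUnion f ⊆ Finset.univ \ insert d B := by
    intro w hw
    obtain ⟨e, he, hw⟩ := Finset.mem_biUnion.mp hw
    simp only [f, Finset.mem_sdiff, Finset.mem_insert, Finset.mem_singleton, not_or] at hw
    simp only [Finset.mem_sdiff, Finset.mem_univ, true_and, Finset.mem_insert, not_or]
    exact ⟨hw.2.2.2, fun hwB => (hmeet e he w hwB hw.1).elim hw.2.1 hw.2.2.1⟩
  have hfcard : ∀ e ∈ B.erase a, (f e).card = K - 3 := by
    intro e he
    obtain ⟨h1, h2, h3'⟩ := hne e he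
    have hs : ({a, e, d} : Finset α) ⊆ tripleBlock G a e d := by
      simp [Finset.insert_subset_iff, (mem_tripleBlock_self (G := G) a e d).1,
        (mem_tripleBlock_self (G := G) a e d).2.1, (mem_tripleBlock_self (G := G) a e d).2.2]
    show (tripleBlock G a e d \ {a, e, d}).card = K - 3
    rw [Finset.card_sdiff_of_subset hs,
      ← card_tripleBlock_eq h3 hab hac hbc h1 h2 h3']
    simp [h1, h2, h3', ← hB, ← hK]
  have h := Finset.card_le_card hsub
  rw [Finset.card_biUnion hdisj, Finset.sum_congr rfl hfcard, Finset.sum_const,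
    Finset.card_erase_of_mem haB, smul_eq_mul, ← hK, Finset.card_univ_sdiff,
    Finset.card_insert_of_notMem hd, ← hK] at h
  have := Finset.card_le_univ (insert d B)
  rw [Finset.card_insert_of_notMem hd, ← hK] at this
  omega

end H18
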