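import Cfsg.Agent.H18.ExceptionalIndexTwo
import Cfsg.Agent.H18.TripleBlocks
import Cfsg.Agent.H18.SharpThree
import Cfsg.Agent.H13.SelfCentralizing
import Cfsg.Agent.H13.PermChar
import Cfsg.Agent.H12.Products
import Cfsg.Agent.H13.Correspondence
import Cfsg.Agent.H58.PrimeNormalizer

/-!
Permutation groups of prime degree `p` whose Sylow normaliser has order `2p` (Itô).
-/

set_option autoImplicit false
set_option linter.unusedSectionVars false

open Cfsg MulAction
open scoped ComplexConjugate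

namespace H18

universe u v

variable {α : Type u} [Fintype α] [DecidableEq α] {p : ℕ} [Fact p.Prime]

section fixsums

variable {K : Type v} [Group K] [Fintype K] [MulAction K α]

/-- The number of fixed points, as a complex number. -/
noncomputable def fixN (α : Type u) {K : Type v} [Group K] [MulAction K α] (g : K) : ℂ :=
  (Nat.card (fixedBy α g) : ℂ)

theorem sum_fix_desc (j : ℕ) : ∃ k : ℕ,
    ∑ g : K, ((Nat.card (fixedBy α g)).descFactorial j : ℂ) = (k : ℂ) * Nat.card K ∧
      (Nonempty (Fin j ↪ α) → 1 ≤ k) ∧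
      (k ≤ 1 → IsMultiplyPretransitive K α j) ∧ (Nonempty (Fin j ↪ α) →
        IsMultiplyPretransitive K α j → k = 1) := by
  classical
  haveI : Fintype (orbitRel.Quotient K (Fin j ↪ α)) := Fintype.ofFinite _
  refine ⟨Fintype.card (orbitRel.Quotient K (Fin j ↪ α)), ?_, ?_, ?_, ?_⟩
  · have h := sum_card_fixedBy_eq_card_orbits_mul_card_group K (Fin j ↪ α)
    rw [Nat.card_eq_fintype_card, ← Nat.cast_mul, ← h, Nat.cast_sum]
    refine Finset.sum_congr rfl fun g _ => ?_
    haveI : Fintype (fixedBy α g) := Fintype.ofFinite _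
    rw [Nat.card_eq_fintype_card, ← Fintype.card_fin j, ← Fintype.card_embedding_eq,
      Fintype.card_fin]
    refine congrArg Nat.cast (Fintype.card_congr
      { toFun := fun e => ⟨e.trans (Function.Embedding.subtype _),
          Function.Embedding.ext fun i => (e i).2⟩
        invFun := fun e => ⟨fun i => ⟨e.1 i, congrArg (fun f : Fin j ↪ α => f i) e.2⟩,
          fun a b h => e.1.injective (congrArg Subtype.val h)⟩
        left_inv := fun e => rfl
        right_inv := fun e => rfl })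
  · rintro ⟨e⟩
    exact Fintype.card_pos_iff.mpr ⟨Quotient.mk _ e⟩
  · intro hk
    haveI := Fintype.card_le_one_iff_subsingleton.mp hk
    rw [isMultiplyPretransitive_iff]
    intro x y
    exact orbitRel_apply.mp (Quotient.exact
      (Subsingleton.elim (Quotient.mk (orbitRel K _) y) (Quotient.mk _ x)))
  · rintro ⟨e⟩ h
    refine le_antisymm (Fintype.card_le_one_iff_subsingleton.mpr ⟨?_⟩)
      (Fintype.card_pos_iff.mpr ⟨Quotient.mk _ e⟩)
    intro a b
    induction a using Quotient.inductionOn with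
    | h x =>
    induction b using Quotient.inductionOn with
    | h y =>
    obtain ⟨g, hg⟩ := isMultiplyPretransitive_iff.mp h y x
    exact Quotient.sound (orbitRel_apply.mpr ⟨g, hg⟩)

theorem desc_cast (f : ℕ) :
    (f.descFactorial 1 : ℂ) = f ∧ (f.descFactorial 2 : ℂ) = f * (f - 1) ∧
    (f.descFactorial 3 : ℂ) = f * (f - 1) * (f - 2) := by
  match f with
  | 0 => simp [Nat.descFactorial_succ]
  | 1 => simp [Nat.descFactorial_succ]
  | 2 => norm_num [Nat.descFactorial_succ]
  | n + 3 =>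
    simp only [Nat.descFactorial_succ, Nat.descFactorial_zero]
    push_cast [show n + 3 - 1 = n + 2 by omega, show n + 3 - 2 = n + 1 by omega, Nat.sub_zero]
    refine ⟨?_, ?_, ?_⟩ <;> ring

end fixsums

variable (hp : 2 < p) (hα : Fintype.card α = p) {G : Subgroup (Equiv.Perm α)} (P : Sylow p G)
  (hN : Nat.card (Subgroup.normalizer ((P : Subgroup G) : Set G)) = 2 * p)

include hα hN

theorem card_sylow : Nat.card (P : Subgroup G) = p := by
  have hpr : p.Prime := Fact.out
  have hd : p ∣ Nat.card G := (Dvd.intro_left 2 hN.symm).trans (Subgroup.card_subgroup_dvd_card _)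
  have h1 := P.card_eq_multiplicity
  rw [h1]
  conv_rhs => rw [← pow_one p]
  congr 1
  have h2 := H58.not_sq_dvd_card hα G
  rw [hpr.pow_dvd_iff_le_factorization Nat.card_pos.ne'] at h2
  have := hpr.factorization_pos_of_dvd Nat.card_pos.ne' hd
  omega

theorem relIndex_two : (P : Subgroup G).relIndex (Subgroup.normalizer ((P : Subgroup G) : Set G)) = 2 := by
  have h := Subgroup.relIndex_mul_relIndex (⊥ : Subgroup G) (P : Subgroup G)
    (Subgroup.normalizer ((P : Subgroup G) : Set G)) bot_le Subgroup.le_normalizer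
  rw [Subgroup.relIndex_bot_left, Subgroup.relIndex_bot_left, card_sylow hα P hN, hN,
    mul_comm 2 p] at h
  exact Nat.eq_of_mul_eq_mul_left (Fact.out : p.Prime).pos h

theorem orbit_sylow (a : α) (hmove : ∃ h ∈ (P : Subgroup G), h • a ≠ a) :
    (∀ b : α, ∃ h ∈ (P : Subgroup G), h • a = b) ∧ ∀ h ∈ (P : Subgroup G), h • a = a → h = 1 := by
  classical
  have hpr : p.Prime := Fact.out
  haveI : Fintype (P : Subgroup G) := Fintype.ofFinite _
  haveI : Fintype (orbit (P : Subgroup G) a) := Fintype.ofFinite _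
  haveI : Fintype (stabilizer (P : Subgroup G) a) := Fintype.ofFinite _
  have h1 := card_orbit_mul_card_stabilizer_eq_card_group (P : Subgroup G) a
  rw [← Nat.card_eq_fintype_card (α := (P : Subgroup G)), card_sylow hα P hN] at h1
  have h2 : Fintype.card (orbit (P : Subgroup G) a) ≠ 1 := by
    intro h
    obtain ⟨g, hg, hga⟩ := hmove
    haveI := Fintype.card_le_one_iff_subsingleton.mp h.le
    exact hga (congrArg Subtype.val (Subsingleton.elim (⟨g • a, ⟨⟨g, hg⟩, rfl⟩⟩ :
      orbit (P : Subgroup G) a) ⟨a, mem_orbit_self a⟩))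
  have h3 := ((Nat.dvd_prime hpr).mp (Dvd.intro _ h1)).resolve_left h2
  rw [h3] at h1
  have h4 : Fintype.card (stabilizer (P : Subgroup G) a) = 1 :=
    Nat.eq_of_mul_eq_mul_left hpr.pos (h1.trans (mul_one p).symm)
  refine ⟨fun b => ?_, fun h hh hha => ?_⟩
  · have h5 : orbit (P : Subgroup G) a = Set.univ := Set.eq_of_subset_of_ncard_le
      (Set.subset_univ _) (by rw [Set.ncard_univ, Nat.card_eq_fintype_card, hα,
        ← Nat.card_coe_set_eq, Nat.card_eq_fintype_card, h3]) (Set.toFinite _)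
    obtain ⟨⟨g, hg⟩, hgb⟩ := h5.symm ▸ Set.mem_univ b
    exact ⟨g, hg, hgb⟩
  · haveI := Fintype.card_le_one_iff_subsingleton.mp h4.le
    exact congrArg (fun x : stabilizer (P : Subgroup G) a => ((x : (P : Subgroup G)) : G))
      (Subsingleton.elim (⟨⟨h, hh⟩, hha⟩ : stabilizer (P : Subgroup G) a) 1)

theorem regular_sylow : (∀ a b : α, ∃ h ∈ (P : Subgroup G), h • a = b) ∧
    ∀ (a : α), ∀ h ∈ (P : Subgroup G), h • a = a → h = 1 := by
  classical
  obtain ⟨⟨h0, hh0⟩, hne⟩ := exists_ne_one_of_card (card_sylow hα P hN)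
  obtain ⟨a0, ha0⟩ : ∃ a : α, h0 • a ≠ a := by
    by_contra hc
    push Not at hc
    exact hne (Subtype.ext (Subtype.ext (Equiv.ext hc)))
  obtain ⟨t1, -⟩ := orbit_sylow hα P hN a0 ⟨h0, hh0, ha0⟩
  have hall : ∀ a : α, ∃ h ∈ (P : Subgroup G), h • a ≠ a := by
    intro a
    refine ⟨h0, hh0, fun e => ha0 ?_⟩
    obtain ⟨k, hk, rfl⟩ := t1 a
    letI := (isCyclic_of_prime_card (card_sylow hα P hN) : IsCyclic (P : Subgroup G)).commGroup
    have hc := congrArg Subtype.val (mul_comm (⟨h0, hh0⟩ : (P : Subgroup G)) ⟨k, hk⟩)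
    simp only [Subgroup.coe_mul] at hc
    rw [← mul_smul, hc, mul_smul] at e
    exact MulAction.injective k e
  exact ⟨fun a => (orbit_sylow hα P hN a (hall a)).1, fun a => (orbit_sylow hα P hN a (hall a)).2⟩
where
  exists_ne_one_of_card {H : Subgroup G} (h : Nat.card H = p) : ∃ x : H, x ≠ 1 := by
    haveI : Nontrivial H := Finite.one_lt_card_iff_nontrivial.mp (h ▸ (Fact.out : p.Prime).one_lt)
    exact exists_ne 1

theorem pretransitive_deg : IsPretransitive G α :=
  ⟨fun a b => by
    obtain ⟨h, -, e⟩ := (regular_sylow hα P hN).1 a b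
    exact ⟨h, e⟩⟩

theorem sylow_comm {x y : G} (hx : x ∈ (P : Subgroup G)) (hy : y ∈ (P : Subgroup G)) :
    x * y = y * x :=
  letI := (isCyclic_of_prime_card (card_sylow hα P hN) : IsCyclic (P : Subgroup G)).commGroup
  congrArg Subtype.val (mul_comm (⟨x, hx⟩ : (P : Subgroup G)) ⟨y, hy⟩)

theorem centralizer_sylow_elt (x : G) (hx : x ∈ (P : Subgroup G)) (hx1 : x ≠ 1) :
    Subgroup.centralizer ({x} : Set G) = (P : Subgroup G) := by
  obtain ⟨htr, hreg⟩ := regular_sylow hα P hN
  ext g
  rw [Subgroup.mem_centralizer_singleton_iff]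
  refine ⟨fun hg => ?_, fun hg => sylow_comm hα P hN hg hx⟩
  haveI : Nonempty α := Fintype.card_pos_iff.mp (hα ▸ (Fact.out : p.Prime).pos)
  obtain ⟨a⟩ := (inferInstance : Nonempty α)
  obtain ⟨h, hh, hha⟩ := htr a (g • a)
  set k := h⁻¹ * g with hk
  have hka : k • a = a := by rw [hk, mul_smul, inv_smul_eq_iff, hha]
  have hkx : Commute k x :=
    Commute.mul_left (Commute.inv_left (sylow_comm hα P hN hh hx)) hg
  have hall : ∀ b : α, k • b = b := by
    intro b
    obtain ⟨y, hy, rfl⟩ := htr a b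
    obtain ⟨n, hn⟩ := Subgroup.mem_zpowers_iff.mp (mem_zpowers_of_prime_card
      (card_sylow hα P hN) (g := (⟨x, hx⟩ : (P : Subgroup G))) (g' := ⟨y, hy⟩)
      (fun e => hx1 (congrArg Subtype.val e)))
    have hn' : x ^ n = y := by simpa using congrArg Subtype.val hn
    rw [← hn', ← mul_smul, (hkx.zpow_right n).eq, mul_smul, hka]
  have hk1 : k = 1 := Subtype.ext (Equiv.ext hall)
  rw [hk, inv_mul_eq_one] at hk1
  exact hk1 ▸ hh

theorem hyp_sylow : H13.TI.Hyp (P : Subgroup G) := by
  refine ⟨fun g x hx hx1 hg => ?_, fun g x hx hx1 e => ?_⟩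
  · by_contra h
    exact hx1 (H13.ti_of_centralizer_eq _ (centralizer_sylow_elt hα P hN) g h x hx hg)
  · rw [← centralizer_sylow_elt hα P hN x hx hx1]
    exact Subgroup.mem_centralizer_singleton_iff.mpr e

include hp in
/-- An involution normalising `P` fixes exactly one point. -/
theorem fix_one_of_normalizer (j : G) (hj : j * j = 1) (hj1 : j ≠ 1)
    (hjN : j ∈ Subgroup.normalizer ((P : Subgroup G) : Set G)) :
    Nat.card (fixedBy α j) = 1 := by
  classical
  obtain ⟨htr, hreg⟩ := regular_sylow hα P hN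
  have hsq : ∀ h ∈ (P : Subgroup G), h * h = 1 → h = 1 := by
    intro h hh he
    have h1 : orderOf h ∣ 2 := orderOf_dvd_of_pow_eq_one (by rw [pow_two, he])
    have h2 : orderOf h ∣ p := card_sylow hα P hN ▸ Subgroup.orderOf_dvd_natCard _ hh
    have h3 := Nat.dvd_gcd h1 h2
    rw [(Nat.coprime_primes Nat.prime_two Fact.out).mpr (by omega)] at h3
    exact orderOf_eq_one_iff.mp (Nat.dvd_one.mp h3)
  have hjP : j ∉ (P : Subgroup G) := fun hm => hj1 (hsq j hm hj)
  obtain ⟨a, ha⟩ : ∃ a : α, (j : Equiv.Perm α) a = a := by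
    have h1 : (j : Equiv.Perm α) ^ 2 ^ 1 = 1 := by
      rw [pow_one, pow_two, ← Subgroup.coe_mul, hj, Subgroup.coe_one]
    exact Equiv.Perm.exists_fixed_point_of_prime (p := 2) (n := 1) (by
      rw [hα]; intro h
      have := (Nat.prime_dvd_prime_iff_eq Nat.prime_two Fact.out).mp h
      omega) h1
  rw [Nat.card_eq_one_iff_exists]
  refine ⟨⟨a, ha⟩, fun ⟨b, hb⟩ => Subtype.ext ?_⟩
  obtain ⟨h, hh, rfl⟩ := htr a b
  show h • a = a
  have hinv := congrArg Subtype.val
    (((cj_eq_or (hyp_sylow hα P hN) (relIndex_two hα P hN) ⟨j, hjN⟩).resolve_left hjP) ⟨h, hh⟩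
      (comm_of_card (card_sylow hα P hN)))
  simp only [H13.TI.cj_coe, InvMemClass.coe_inv] at hinv
  have e : h⁻¹ • a = h • a := by
    have hb' : j • (h • a) = h • a := hb
    rw [← hinv, mul_smul, mul_smul, inv_smul_eq_iff.mpr (show a = j • a from ha.symm), hb']
  have h2 : h = 1 := hsq h hh (hreg a _ (mul_mem hh hh) (by rw [mul_smul, ← e, smul_inv_smul]))
  rw [h2, one_smul]

include hp

theorem five_le_of_not_normal (hnn : ¬ (P : Subgroup G).Normal) : 5 ≤ p := by
  by_contra h
  have hp3 : p = 3 := by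
    have hpr : p.Prime := Fact.out
    interval_cases p
    · rfl
    · exact absurd hpr (by norm_num)
  apply hnn
  rw [← Subgroup.normalizer_eq_top_iff]
  refine Subgroup.eq_top_of_le_card _ ?_
  have h1 : Nat.card G ∣ 6 := by
    have := Subgroup.card_subgroup_dvd_card G
    rw [Nat.card_eq_fintype_card (α := Equiv.Perm α), Fintype.card_perm, hα, hp3] at this
    exact this
  rw [hN, hp3]
  exact Nat.le_of_dvd (by norm_num) h1

theorem two_transitive_of_not_normal (hnn : ¬ (P : Subgroup G).Normal) :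
    IsMultiplyPretransitive G α 2 := by
  haveI := pretransitive_deg hα P hN
  obtain ⟨e, c, hcG, hc, hshift⟩ := H58.exists_numbering hα G
  refine (H58.allAff_or_two_pretransitive G hcG hshift).resolve_left fun hA => hnn ?_
  let c' : G := ⟨c, hcG⟩
  have hC : (Subgroup.zpowers c').Normal := by
    refine ⟨fun y hy g => ?_⟩
    obtain ⟨n, rfl⟩ := Subgroup.mem_zpowers_iff.mp hy
    rw [← conj_zpow]
    refine Subgroup.zpow_mem _ ?_ n
    obtain ⟨a, b, hab⟩ := hA g g.2
    have ha' : ∀ j, H58.relabel e ((g * c' * g⁻¹ : G) : Equiv.Perm α) j = j + a := by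
      intro j
      obtain ⟨i, rfl⟩ : ∃ i, H58.relabel e (g : Equiv.Perm α) i = j :=
        ⟨_, Equiv.apply_symm_apply _ j⟩
      rw [← Equiv.Perm.mul_apply, ← H58.relabel_mul, Subgroup.coe_mul, Subgroup.coe_mul,
        InvMemClass.coe_inv, mul_assoc, inv_mul_cancel, mul_one, H58.relabel_mul,
        Equiv.Perm.mul_apply, H58.relabel_shift hshift, hab, hab]
      ring
    have : ((g * c' * g⁻¹ : G) : Equiv.Perm α) = c ^ (a : ZMod p).val :=
      H58.relabel_injective e (Equiv.ext fun j => by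
        rw [ha', H58.relabel_pow hshift, ZMod.natCast_zmod_val])
    have h2 : g * c' * g⁻¹ = c' ^ (a : ZMod p).val := Subtype.ext (by simpa [c'] using this)
    rw [h2]
    exact Subgroup.npow_mem_zpowers c' _
  have hcard : Nat.card (Subgroup.zpowers c') = p := by
    rw [Nat.card_zpowers, ← Subgroup.orderOf_coe]
    exact hc
  have hCp : IsPGroup p (Subgroup.zpowers c') := IsPGroup.of_card (n := 1) (by rw [hcard, pow_one])
  have hle : Subgroup.zpowers c' ≤ (P : Subgroup G) := by
    have h1 := P.is_maximal' (IsPGroup.to_sup_of_normal_right P.isPGroup' hCp) le_sup_left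
    rw [← h1]
    exact le_sup_right
  rw [← Subgroup.eq_of_le_of_card_ge hle (by rw [hcard, card_sylow hα P hN])]
  exact hC

theorem isIrr_fixN_sub_one (h2 : IsMultiplyPretransitive G α 2) [Fintype G] :
    IsIrrCharacter G (fun g : G => fixN α g - 1) := by
  haveI : Nonempty α := Fintype.card_pos_iff.mp (hα ▸ (Fact.out : p.Prime).pos)
  have hne1 : Nonempty (Fin 1 ↪ α) :=
    Function.Embedding.nonempty_of_card_le (by simp only [Fintype.card_fin, hα]; omega)
  have hne2 : Nonempty (Fin 2 ↪ α) :=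
    Function.Embedding.nonempty_of_card_le (by simp only [Fintype.card_fin, hα]; omega)
  obtain ⟨k1, hk1, -, -, hk1'⟩ := sum_fix_desc (K := G) (α := α) 1
  obtain ⟨k2, hk2, -, -, hk2'⟩ := sum_fix_desc (K := G) (α := α) 2
  have hα2 : (2 : ℕ) ≤ Nat.card α := by rw [Nat.card_eq_fintype_card, hα]; omega
  rw [hk1' hne1 (isMultiplyPretransitive_of_le (by norm_num) hα2)] at hk1
  rw [hk2' hne2 h2] at hk2
  simp only [(desc_cast _).1, Nat.cast_one, one_mul] at hk1
  simp only [(desc_cast _).2.1, Nat.cast_one, one_mul] at hk2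
  have hc : IsCharacter G (fun g : G => fixN α g) := by
    have h : (fun g : G => fixN α g) = (permRep ℂ G α).character :=
      funext fun g => (H13.permRep_character g).symm
    rw [h]
    exact H12.isCharacter_character _
  have hsub : IsCharacter G (fun g : G => fixN α g - 1) := by
    refine H13.isCharacter_sub_irr hc H12.isIrrCharacter_one ?_
    rw [H12.classInner_def]
    simp only [map_one, mul_one, fixN, hk1]
    rw [inv_mul_cancel₀ H12.card_ne_zero']
    exact one_ne_zero
  refine H12.isIrrCharacter_of_classInner_self_eq_one hsub ?_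
  rw [H12.classInner_def]
  simp only [fixN, map_sub, map_one, Complex.conj_natCast]
  have e : ∀ g : G, ((Nat.card (fixedBy α g) : ℂ) - 1) * ((Nat.card (fixedBy α g) : ℂ) - 1) =
      (Nat.card (fixedBy α g) : ℂ) * ((Nat.card (fixedBy α g) : ℂ) - 1) -
        (Nat.card (fixedBy α g) : ℂ) + 1 := fun g => by ring
  rw [Finset.sum_congr rfl fun g _ => e g, Finset.sum_add_distrib, Finset.sum_sub_distrib, hk1,
    hk2, Finset.sum_const, Finset.card_univ, ← Nat.card_eq_fintype_card, nsmul_eq_mul, mul_one,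
    sub_self, zero_add, inv_mul_cancel₀ H12.card_ne_zero']

/-- The main structural consequence: `G` is sharply triply transitive. -/
theorem sharply_three_of_not_normal (hnn : ¬ (P : Subgroup G).Normal) :
    IsMultiplyPretransitive G α 3 ∧ ∀ (g : G) (x y z : α), x ≠ y → x ≠ z → y ≠ z →
      g • x = x → g • y = y → g • z = z → g = 1 := by
  classical
  letI : Fintype G := Fintype.ofFinite _
  have hp5 := five_le_of_not_normal hp hα P hN hnn
  have hchi := isIrr_fixN_sub_one hp hα P hN (two_transitive_of_not_normal hp hα P hN hnn)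
  set χ : IrrCharacter G := ⟨_, hchi⟩ with hχdef
  have hχ : ∀ g : G, (χ : G → ℂ) g = fixN α g - 1 := fun g => rfl
  obtain ⟨htr, hreg⟩ := regular_sylow hα P hN
  have hfix1 : fixN α (1 : G) = (p : ℂ) := by
    rw [fixN, fixedBy_one_eq_univ, Nat.card_coe_set_eq, Set.ncard_univ,
      Nat.card_eq_fintype_card, hα]
  have hd : (χ : G → ℂ) 1 = (p : ℂ) - 1 := by rw [hχ, hfix1]
  have hv : ∀ h : (P : Subgroup G), h ≠ 1 → (χ : G → ℂ) h = -1 := by
    intro h hh
    rw [hχ, fixN]
    have : IsEmpty (fixedBy α (h : G)) :=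
      ⟨fun a => hh (Subtype.ext (hreg a.1 h h.2 a.2))⟩
    simp
  obtain ⟨M, hMcard, hone, hchiM, hne, hdegM, hzero, hsum, hvalM, hconst⟩ :=
    exists_exceptional_set (hyp_sylow hα P hN) hp5 (card_sylow hα P hN) (relIndex_two hα P hN)
      χ hd hv
  obtain ⟨h0, hh0⟩ := regular_sylow.exists_ne_one_of_card (card_sylow hα P hN)
  set R := ((Finset.univ \ M).erase χ).erase (H12.oneIrr G) with hR
  have hsplit : ∀ f : IrrCharacter G → ℂ, ∑ ψ, f ψ =
      f (H12.oneIrr G) + f χ + ∑ ψ ∈ R, f ψ + ∑ ψ ∈ M, f ψ := by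
    intro f
    rw [← Finset.sum_sdiff (Finset.subset_univ M), ← Finset.add_sum_erase (Finset.univ \ M) f
      (a := χ) (by simp [hchiM]),
      ← Finset.add_sum_erase _ f (a := H12.oneIrr G) (by simp [hone, hne])]
    ring
  have hRz : ∀ ψ ∈ R, (ψ : G → ℂ) h0 = 0 := by
    intro ψ hψ
    have h' := Finset.mem_of_mem_erase (Finset.mem_of_mem_erase hψ)
    exact hzero ψ (Finset.mem_sdiff.mp h').2 (Finset.ne_of_mem_erase hψ)
      (Finset.ne_of_mem_erase (Finset.mem_of_mem_erase hψ)) h0 hh0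
  have hpC : (p : ℂ) - 1 ≠ 0 ∧ (p : ℂ) - 2 ≠ 0 := by
    refine ⟨?_, ?_⟩ <;> rw [sub_ne_zero] <;> norm_cast <;> omega
  -- every involution fixes exactly one point
  have hinv : ∀ j : G, j * j = 1 → j ≠ 1 → Nat.card (fixedBy α j) = 1 := by
    intro j hj hj1
    by_contra hne1
    have hjo : ∀ g : G, g * j * g⁻¹ ∈ (P : Subgroup G) → j = 1 := by
      intro g hg
      have h1 : orderOf (g * j * g⁻¹) ∣ 2 := orderOf_dvd_of_pow_eq_one (by
        rw [conj_pow, pow_two, hj, mul_one, mul_inv_cancel])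
      have h2 : orderOf (g * j * g⁻¹) ∣ p :=
        card_sylow hα P hN ▸ Subgroup.orderOf_dvd_natCard _ hg
      have h3 := Nat.dvd_gcd h1 h2
      rw [(Nat.coprime_primes Nat.prime_two Fact.out).mpr (by omega)] at h3
      simpa using orderOf_eq_one_iff.mp (Nat.dvd_one.mp h3)
    have hnc : ∀ a : G, ¬ IsConj (j * (a * j * a⁻¹)) (h0 : G) := by
      intro a hc
      obtain ⟨g, hg⟩ := isConj_iff.mp hc
      set k := g * j * g⁻¹ with hk
      set l := g * (a * j * a⁻¹) * g⁻¹ with hl
      have hkl : k * l = (h0 : G) := by rw [← hg, hk, hl]; group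
      have hk2 : k * k = 1 := by
        rw [hk, show g * j * g⁻¹ * (g * j * g⁻¹) = g * (j * j) * g⁻¹ by group, hj, mul_one,
          mul_inv_cancel]
      have hk1 : k ≠ 1 := fun e => hj1 (by simpa [hk] using e)
      have hl2 : l * l = 1 := by
        rw [hl, show g * (a * j * a⁻¹) * g⁻¹ * (g * (a * j * a⁻¹) * g⁻¹) =
          g * (a * (j * j) * a⁻¹) * g⁻¹ by group, hj, mul_one, mul_inv_cancel, mul_one,
          mul_inv_cancel]
      have hinv' : k * (h0 : G) * k⁻¹ ∈ (P : Subgroup G) := by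
        have : k * (h0 : G) * k⁻¹ = (h0 : G)⁻¹ := by
          rw [← hkl, inv_eq_of_mul_eq_one_right hk2]
          symm
          refine inv_eq_of_mul_eq_one_right ?_
          rw [show k * l * (k * (k * l) * k) = k * (l * (k * k * (l * k))) by simp only [mul_assoc],
            hk2, one_mul, ← mul_assoc l l k, hl2, one_mul, hk2]
        rw [this]
        exact inv_mem h0.2
      have hkN := (hyp_sylow hα P hN).ti k (h0 : G) h0.2 (fun e => hh0 (Subtype.ext e)) hinv'
      have h1 := fix_one_of_normalizer hp hα P hN k hk2 hk1 hkN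
      refine hne1 ?_
      rw [← h1, hk]
      exact Nat.card_congr
        { toFun := fun x => ⟨g • x.1, show (g * j * g⁻¹) • g • x.1 = g • x.1 by
            rw [mul_smul, mul_smul, inv_smul_smul, x.2]⟩
          invFun := fun x => ⟨g⁻¹ • x.1, show j • g⁻¹ • x.1 = g⁻¹ • x.1 by
            have : (g * j * g⁻¹) • x.1 = x.1 := x.2
            rwa [mul_smul, mul_smul, ← eq_inv_smul_iff] at this⟩
          left_inv := fun x => Subtype.ext (inv_smul_smul g x.1)
          right_inv := fun x => Subtype.ext (smul_inv_smul g x.1) }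
    have hS : ∑ ψ : IrrCharacter G,
        (ψ : G → ℂ) j * (ψ : G → ℂ) j / (ψ : G → ℂ) 1 * conj ((ψ : G → ℂ) h0) = 0 := by
      have h1 : ∑ a : G, ∑ ψ : IrrCharacter G,
          (ψ : G → ℂ) (j * (a * j * a⁻¹)) * conj ((ψ : G → ℂ) h0) = 0 :=
        Finset.sum_eq_zero fun a _ => by rw [H12.column_orthogonality, if_neg (hnc a)]
      rw [Finset.sum_comm] at h1
      simp only [← Finset.sum_mul, H12.irr_class_product] at h1
      simp only [mul_div_assoc, mul_assoc, ← Finset.mul_sum] at h1 ⊢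
      exact (mul_eq_zero.mp h1).resolve_left H12.card_ne_zero'
    rw [hsplit] at hS
    have eR : ∑ ψ ∈ R, (ψ : G → ℂ) j * (ψ : G → ℂ) j / (ψ : G → ℂ) 1 * conj ((ψ : G → ℂ) h0) = 0 :=
      Finset.sum_eq_zero fun ψ hψ => by rw [hRz ψ hψ, map_zero, mul_zero]
    have eM : ∑ ψ ∈ M, (ψ : G → ℂ) j * (ψ : G → ℂ) j / (ψ : G → ℂ) 1 * conj ((ψ : G → ℂ) h0) =
        ((χ : G → ℂ) j - 1) * ((χ : G → ℂ) j - 1) / ((p : ℂ) - 2) := by
      rw [Finset.sum_congr rfl fun ψ hψ => by rw [hvalM ψ hψ j hjo, hdegM ψ hψ],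
        ← Finset.mul_sum, ← map_sum, hsum h0 hh0, map_one, mul_one]
    rw [eR, eM, H12.oneIrr_apply, H12.oneIrr_apply, H12.oneIrr_apply, hd, hv h0 hh0] at hS
    have hsq : ((χ : G → ℂ) j - ((p : ℂ) - 1)) ^ 2 = 0 := by
      simp only [map_one, map_neg] at hS
      obtain ⟨q1, q2⟩ := hpC
      field_simp at hS
      linear_combination hS
    have hfp : fixN α j = (p : ℂ) := by
      have := pow_eq_zero_iff (n := 2) (by norm_num) |>.mp hsq
      rw [hχ] at this
      linear_combination this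
    rw [fixN, Nat.cast_inj, ← hα, ← Nat.card_eq_fintype_card, Nat.card_coe_set_eq] at hfp
    have := Set.eq_of_subset_of_ncard_le (Set.subset_univ _)
      (by rw [hfp, Set.ncard_univ]) (Set.toFinite _)
    exact hj1 (Subtype.ext (Equiv.ext fun x => (show j • x = x from
      (this.symm ▸ Set.mem_univ x : x ∈ fixedBy α j))))
  -- decomposition of the square of `χ`
  have hc2 : IsCharacter G (fun g => (χ : G → ℂ) g * (χ : G → ℂ) g) :=
    H12.IsCharacter.mul (H12.isCharacter_irr χ) (H12.isCharacter_irr χ)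
  have hcl2 := H12.IsCharacter.isClassFunction hc2
  choose m hm using fun ψ : IrrCharacter G =>
    H12.IsCharacter.classInner_nat hc2 (H12.isCharacter_irr ψ)
  have hreal : ∀ g, conj ((χ : G → ℂ) g) = (χ : G → ℂ) g := fun g => by
    rw [hχ, map_sub, map_one, fixN, Complex.conj_natCast]
  have hm1 : m (H12.oneIrr G) = 1 := by
    have h := hm (H12.oneIrr G)
    have h' : classInner (χ : G → ℂ) χ = 1 := H12.classInner_irr_self χ
    rw [H12.classInner_def] at h h'
    simp only [H12.oneIrr_apply, map_one, mul_one] at h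
    simp only [hreal] at h'
    rw [h'] at h
    exact_mod_cast h.symm
  obtain ⟨ψ0, hψ0⟩ : M.Nonempty := Finset.card_pos.mp (by omega)
  have hmM : ∀ ψ ∈ M, m ψ = m ψ0 := by
    intro ψ hψ
    have := hconst _ hcl2 1 (fun h hh => by rw [hv h hh]; norm_num) ψ hψ ψ0 hψ0
    rw [hm, hm] at this
    exact_mod_cast this
  have hval := H12.classFunction_apply_eq_sum hcl2 (h0 : G)
  simp only [hm, hsplit] at hval
  have eR : ∑ ψ ∈ R, (m ψ : ℂ) * (ψ : G → ℂ) h0 = 0 :=
    Finset.sum_eq_zero fun ψ hψ => by rw [hRz ψ hψ, mul_zero]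
  have eM : ∑ ψ ∈ M, (m ψ : ℂ) * (ψ : G → ℂ) h0 = (m ψ0 : ℂ) := by
    rw [← mul_one ((m ψ0 : ℂ)), ← hsum h0 hh0, Finset.mul_sum]
    exact Finset.sum_congr rfl fun ψ hψ => by rw [hmM ψ hψ]
  rw [eR, eM, H12.oneIrr_apply, hm1, hv h0 hh0] at hval
  have hAB : m ψ0 = m χ := by
    have : (m ψ0 : ℂ) = m χ := by linear_combination -hval
    exact_mod_cast this
  have hdeg := H12.classFunction_apply_eq_sum hcl2 (1 : G)
  simp only [hm, hsplit] at hdeg
  rw [Finset.sum_congr rfl (s₁ := M) (g := fun _ => (m χ : ℂ) * ((p : ℂ) - 2))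
    (fun ψ hψ => by rw [hmM ψ hψ, hAB, hdegM ψ hψ]), Finset.sum_const, nsmul_eq_mul,
    H12.oneIrr_apply, hm1, hd] at hdeg
  simp only [H12.irr_apply_one] at hdeg
  have hA : m χ ≤ 1 := by
    by_contra hlt
    push Not at hlt
    obtain ⟨q, rfl⟩ : ∃ q, p = q + 2 := ⟨p - 2, by omega⟩
    have hnat : (q + 1) * (q + 1) = 1 + m χ * (q + 1) +
        (∑ ψ ∈ R, m ψ * H12.degree (ψ : G → ℂ)) + M.card * (m χ * q) := by
      have : (((q + 1) * (q + 1) : ℕ) : ℂ) = ((1 + m χ * (q + 1) +
        (∑ ψ ∈ R, m ψ * H12.degree (ψ : G → ℂ)) + M.card * (m χ * q) : ℕ) : ℂ) := by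
        push_cast at hdeg ⊢
        linear_combination hdeg
      exact_mod_cast this
    have h1 : 2 * (q + 1) ≤ m χ * (q + 1) := Nat.mul_le_mul_right _ hlt
    have h2 : M.card * (2 * q) ≤ M.card * (m χ * q) :=
      Nat.mul_le_mul_left _ (Nat.mul_le_mul_right _ hlt)
    have h3 : M.card * (2 * q) = (q + 1) * q := by
      rw [← mul_assoc, show M.card * 2 = q + 1 by omega]
    nlinarith [Nat.zero_le (∑ ψ ∈ R, m ψ * H12.degree (ψ : G → ℂ))]
  -- triple transitivity
  obtain ⟨k1, hk1, -, -, hk1'⟩ := sum_fix_desc (K := G) (α := α) 1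
  obtain ⟨k3, hk3, hk3pos, hk3', -⟩ := sum_fix_desc (K := G) (α := α) 3
  have hne3 : Nonempty (Fin 3 ↪ α) :=
    Function.Embedding.nonempty_of_card_le (by simp only [Fintype.card_fin, hα]; omega)
  have hsum1 : ∑ g : G, (χ : G → ℂ) g = 0 := by
    have h := H12.classInner_irr_ne hne.symm
    rw [H12.classInner_def] at h
    simp only [H12.oneIrr_apply, map_one, mul_one] at h
    exact (mul_eq_zero.mp h).resolve_left (inv_ne_zero H12.card_ne_zero')
  have hsum3 : ∑ g : G, (χ : G → ℂ) g * (χ : G → ℂ) g * (χ : G → ℂ) g =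
      (m χ : ℂ) * Nat.card G := by
    rw [← hm χ, H12.classInner_def, mul_comm, ← mul_assoc, mul_inv_cancel₀ H12.card_ne_zero',
      one_mul]
    simp only [hreal]
  have hk3m : k3 = m χ := by
    have e : ∀ g : G, ((Nat.card (fixedBy α g)).descFactorial 3 : ℂ) =
        (χ : G → ℂ) g * (χ : G → ℂ) g * (χ : G → ℂ) g - (χ : G → ℂ) g := fun g => by
      rw [(desc_cast _).2.2, hχ, fixN]; ring
    rw [Finset.sum_congr rfl fun g _ => e g, Finset.sum_sub_distrib, hsum3, hsum1, sub_zero] at hk3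
    exact_mod_cast (mul_right_cancel₀ H12.card_ne_zero' hk3).symm
  have hA1 : m χ = 1 := le_antisymm hA (hk3m ▸ hk3pos hne3)
  have h3 : IsMultiplyPretransitive G α 3 := hk3' (by omega)
  refine ⟨h3, fun g x y z hxy hxz hyz gx gy gz => ?_⟩
  by_contra hg
  -- the norm of the square
  have hN2 : ∃ N2 : ℕ, 2 + M.card ≤ N2 ∧ ∑ g : G, (χ : G → ℂ) g * (χ : G → ℂ) g *
      ((χ : G → ℂ) g * (χ : G → ℂ) g) = (N2 : ℂ) * Nat.card G := by
    refine ⟨∑ ψ, m ψ * m ψ, ?_, ?_⟩
    · have hs : ({H12.oneIrr G, χ} : Finset (IrrCharacter G)) ∪ M ⊆ Finset.univ :=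
        Finset.subset_univ _
      refine le_trans ?_ (Finset.sum_le_sum_of_subset hs)
      rw [Finset.sum_union (by
          rw [Finset.disjoint_left]
          intro ψ hψ
          rcases Finset.mem_insert.mp hψ with rfl | hψ
          · exact hone
          · rw [Finset.mem_singleton.mp hψ]; exact hchiM),
        Finset.sum_pair hne, hm1, hA1,
        Finset.sum_congr rfl (g := fun _ => 1) (fun ψ hψ => by rw [hmM ψ hψ, hAB, hA1])]
      simp
    · have h := H12.classInner_eq_sum_mul hcl2 hcl2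
      simp only [hm, Complex.conj_natCast] at h
      rw [H12.classInner_def] at h
      simp only [map_mul, hreal] at h
      rw [inv_mul_eq_iff_eq_mul₀ H12.card_ne_zero'] at h
      rw [h]
      push_cast
      ring
  obtain ⟨N2, hN2, hsum4⟩ := hN2
  let T0 : Fin 3 ↪ α := ⟨![x, y, z], by
    intro i j h
    fin_cases i <;> fin_cases j <;>
      simp [hxy, hxz, hyz, hxy.symm, hxz.symm, hyz.symm] at h ⊢⟩
  let S : (Fin 3 ↪ α) → Finset G := fun T => Finset.univ.filter fun a => a • T = T
  let W : (Fin 3 ↪ α) → ℕ := fun T => ∑ a ∈ S T, Nat.card (fixedBy α a)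
  have hsame : ∀ T, (S T).card = (S T0).card ∧ W T = W T0 := by
    intro T
    obtain ⟨k, hk⟩ := isMultiplyPretransitive_iff.mp h3 T T0
    suffices (S T).card = (S (k • T)).card ∧ W T = W (k • T) by rwa [hk] at this
    have hmem : ∀ a : G, a ∈ S T ↔ k * a * k⁻¹ ∈ S (k • T) := fun a => by
      have e : (k * a * k⁻¹) • (k • T) = k • (a • T) := Function.Embedding.ext fun i =>
        show (k * a * k⁻¹) • (k • T i) = k • (a • T i) by
          rw [← mul_smul, ← mul_smul, mul_assoc, inv_mul_cancel, mul_one]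
      simp only [S, Finset.mem_filter, Finset.mem_univ, true_and]
      rw [e]
      exact ⟨congrArg (k • ·), fun h => Function.Embedding.ext fun i =>
        MulAction.injective k (congrArg (fun t : Fin 3 ↪ α => t i) h)⟩
    refine ⟨Finset.card_equiv (MulAut.conj k).toEquiv fun a => hmem a, ?_⟩
    refine Finset.sum_equiv (MulAut.conj k).toEquiv (fun a => hmem a) fun a _ => ?_
    exact Nat.card_congr
      { toFun := fun w => ⟨k • w.1, show (k * a * k⁻¹) • k • w.1 = k • w.1 by
          rw [mul_smul, mul_smul, inv_smul_smul, w.2]⟩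
        invFun := fun w => ⟨k⁻¹ • w.1, show a • k⁻¹ • w.1 = k⁻¹ • w.1 by
          have : (k * a * k⁻¹) • w.1 = w.1 := w.2
          rwa [mul_smul, mul_smul, ← eq_inv_smul_iff] at this⟩
        left_inv := fun w => Subtype.ext (inv_smul_smul k w.1)
        right_inv := fun w => Subtype.ext (smul_inv_smul k w.1) }
  have hdesc : ∀ a : G, (Nat.card (fixedBy α a)).descFactorial 3 =
      (Finset.univ.filter fun T : Fin 3 ↪ α => a • T = T).card := by
    intro a
    haveI : Fintype (fixedBy α a) := Fintype.ofFinite _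
    rw [Nat.card_eq_fintype_card, ← Fintype.card_subtype]
    conv_lhs => rw [← Fintype.card_fin 3, ← Fintype.card_embedding_eq]
    exact Fintype.card_congr
      { toFun := fun e => ⟨e.trans (Function.Embedding.subtype _),
          Function.Embedding.ext fun i => (e i).2⟩
        invFun := fun e => ⟨fun i => ⟨e.1 i, congrArg (fun f : Fin 3 ↪ α => f i) e.2⟩,
          fun a b h => e.1.injective (congrArg Subtype.val h)⟩
        left_inv := fun e => rfl
        right_inv := fun e => rfl }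
  have hcard3 : Fintype.card (Fin 3 ↪ α) * (S T0).card = Nat.card G := by
    have e : ∀ g : G, ((Nat.card (fixedBy α g)).descFactorial 3 : ℂ) =
        ((Finset.univ.filter fun T : Fin 3 ↪ α => g • T = T).card : ℂ) := fun g => by rw [hdesc]
    have hk1 : k3 = 1 := by omega
    rw [Finset.sum_congr rfl fun g _ => e g, hk1, Nat.cast_one, one_mul, ← Nat.cast_sum,
      Nat.cast_inj] at hk3
    rw [← hk3]
    have hcomm : ∑ g : G, (Finset.univ.filter fun T : Fin 3 ↪ α => g • T = T).card =
        ∑ T : Fin 3 ↪ α, (S T).card := by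
      simp only [S, Finset.card_filter]
      exact Finset.sum_comm
    rw [hcomm, Finset.sum_congr rfl fun T _ => (hsame T).1, Finset.sum_const, Finset.card_univ,
      smul_eq_mul]
  have hW : W T0 = N2 * (S T0).card := by
    have e : ∀ g : G, (χ : G → ℂ) g * (χ : G → ℂ) g * ((χ : G → ℂ) g * (χ : G → ℂ) g) =
        (((Nat.card (fixedBy α g)).descFactorial 3 * Nat.card (fixedBy α g) : ℕ) : ℂ) -
        (χ : G → ℂ) g * (χ : G → ℂ) g * (χ : G → ℂ) g + (χ : G → ℂ) g * (χ : G → ℂ) g +
        (χ : G → ℂ) g := fun g => by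
      push_cast [(desc_cast _).2.2]; rw [hχ, fixN]; ring
    have hsum2 : ∑ g : G, (χ : G → ℂ) g * (χ : G → ℂ) g = Nat.card G := by
      have h' := H12.classInner_irr_self χ
      rw [H12.classInner_def] at h'
      simp only [hreal] at h'
      rwa [inv_mul_eq_iff_eq_mul₀ H12.card_ne_zero', mul_one] at h'
    rw [Finset.sum_congr rfl fun g _ => e g, Finset.sum_add_distrib, Finset.sum_add_distrib,
      Finset.sum_sub_distrib, hsum3, hsum2, hsum1, hA1, ← Nat.cast_sum] at hsum4
    have h4 : ∑ g : G, (Nat.card (fixedBy α g)).descFactorial 3 * Nat.card (fixedBy α g) =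
        N2 * Nat.card G := by
      have : ((∑ g : G, (Nat.card (fixedBy α g)).descFactorial 3 * Nat.card (fixedBy α g) : ℕ) : ℂ)
          = ((N2 * Nat.card G : ℕ) : ℂ) := by
        push_cast at hsum4 ⊢
        linear_combination hsum4
      exact_mod_cast this
    have h5 : ∑ T, W T = N2 * Nat.card G := by
      rw [← h4]
      simp only [W, S, hdesc, Finset.card_filter, Finset.sum_filter, Finset.sum_mul, ite_mul,
        one_mul, zero_mul]
      exact Finset.sum_comm
    rw [Finset.sum_congr rfl fun T _ => (hsame T).2, Finset.sum_const, Finset.card_univ,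
      smul_eq_mul, ← hcard3] at h5
    refine Nat.eq_of_mul_eq_mul_left (Fintype.card_pos (α := Fin 3 ↪ α)) ?_
    rw [h5]; ring
  -- orbit lengths of the three point stabiliser
  let B := tripleBlock G x y z
  let Hs : Subgroup G := stabilizer G T0
  have hSH : ∀ a, a ∈ S T0 ↔ a ∈ Hs := fun a => by
    rw [Finset.mem_filter, mem_stabilizer_iff]
    exact and_iff_right (Finset.mem_univ a)
  have hSeq : (S T0).card = Nat.card Hs := by
    rw [Nat.card_eq_fintype_card, ← Fintype.card_coe]
    exact Fintype.card_congr (Equiv.subtypeEquivRight hSH)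
  have hmemT : ∀ a : G, a • T0 = T0 ↔ (a • x = x ∧ a • y = y ∧ a • z = z) := by
    intro a
    constructor
    · intro h
      exact ⟨congrArg (fun e : Fin 3 ↪ α => e 0) h, congrArg (fun e : Fin 3 ↪ α => e 1) h,
        congrArg (fun e : Fin 3 ↪ α => e 2) h⟩
    · rintro ⟨h1, h2, h3'⟩
      refine Function.Embedding.ext fun i => ?_
      fin_cases i
      · exact h1
      · exact h2
      · exact h3'
  have hoddH : Odd (Nat.card Hs) := by
    by_contra h
    rw [Nat.not_odd_iff_even, even_iff_two_dvd] at h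
    obtain ⟨⟨j, hj⟩, hjo⟩ := exists_prime_orderOf_dvd_card' 2 h
    rw [Subgroup.orderOf_mk] at hjo
    obtain ⟨j1, j2, -⟩ := (hmemT j).mp hj
    have := hinv j (by rw [← pow_two, ← hjo, pow_orderOf_eq_one])
      (fun e => by rw [e, orderOf_one] at hjo; omega)
    rw [Nat.card_eq_one_iff_unique] at this
    exact hxy (congrArg Subtype.val (this.1.elim ⟨x, j1⟩ ⟨y, j2⟩))
  have hper : ∀ w : α, 3 * ((S T0).filter fun a => a • w = w).card ≤
      (if w ∈ B then 3 else 1) * (S T0).card := by
    intro w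
    by_cases hw : w ∈ B
    · rw [if_pos hw]; exact Nat.mul_le_mul_left 3 (Finset.card_filter_le _ _)
    rw [if_neg hw, one_mul]
    let Kw : Subgroup G := Hs ⊓ stabilizer G w
    have hK : ((S T0).filter fun a => a • w = w).card = Nat.card Kw := by
      rw [Nat.card_eq_fintype_card, ← Fintype.card_coe]
      exact Fintype.card_congr (Equiv.subtypeEquivRight fun a => by
        rw [Finset.mem_filter, hSH, Subgroup.mem_inf, mem_stabilizer_iff (a := w)])
    have hidx : Nat.card Kw * Kw.relIndex Hs = Nat.card Hs := by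
      rw [← Subgroup.relIndex_bot_left Kw, Subgroup.relIndex_mul_relIndex _ _ _ bot_le inf_le_left,
        Subgroup.relIndex_bot_left]
    have hodd' : Odd (Kw.relIndex Hs) := (Nat.odd_mul.mp (hidx.symm ▸ hoddH)).2
    have hne' : Kw.relIndex Hs ≠ 1 := fun e => hw (mem_tripleBlock.2 fun a a1 a2 a3 =>
      (Subgroup.relIndex_eq_one.mp e ((hmemT a).mpr ⟨a1, a2, a3⟩ : a ∈ Hs)).2)
    obtain ⟨r, hr⟩ := hodd'
    rw [hK, hSeq, ← hidx, hr, mul_comm (Nat.card Kw)]
    exact Nat.mul_le_mul_right _ (by omega)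
  have hbound : 3 * N2 ≤ 2 * B.card + p := by
    have h1 : W T0 = ∑ w : α, ((S T0).filter fun a => a • w = w).card := by
      simp only [W, Finset.card_filter]
      rw [Finset.sum_comm]
      refine Finset.sum_congr rfl fun a _ => ?_
      rw [Nat.card_eq_fintype_card, ← Finset.card_filter]
      exact Fintype.card_subtype fun w : α => a • w = w
    have h2 : 3 * W T0 ≤ ∑ w : α, (if w ∈ B then 3 else 1) * (S T0).card := by
      rw [h1, Finset.mul_sum]
      exact Finset.sum_le_sum fun w _ => hper w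
    rw [← Finset.sum_mul, hW, ← mul_assoc] at h2
    have hpos : 0 < (S T0).card := Finset.card_pos.mpr
      ⟨1, Finset.mem_filter.mpr ⟨Finset.mem_univ _, one_smul _ _⟩⟩
    refine (Nat.le_of_mul_le_mul_right h2 hpos).trans (le_of_eq ?_)
    have e : ∀ w : α, (if w ∈ B then 3 else 1) = 1 + (if w ∈ B then 2 else 0) := fun w => by
      split_ifs <;> rfl
    rw [Finset.sum_congr rfl fun w _ => e w, Finset.sum_add_distrib, Finset.sum_const,
      Finset.card_univ, hα, smul_eq_mul, mul_one, Finset.sum_ite_mem, Finset.univ_inter,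
      Finset.sum_const, smul_eq_mul]
    ring
  obtain ⟨d, hd'⟩ : ∃ d, d ∉ B := by
    by_contra h
    push Not at h
    exact hg (Subtype.ext (Equiv.ext fun w => mem_tripleBlock.1 (h w) g gx gy gz))
  have hB := tripleBlock_bound (G := G) (fun a b c a' b' c' => exists_triple h3) hxy hxz hyz hd'
  rw [hα] at hB
  have hK9 : p + 9 ≤ 4 * B.card := by omega
  obtain ⟨K', hK'⟩ : ∃ K', B.card = K' + 3 := ⟨B.card - 3, by omega⟩
  change B.card + 1 + (B.card - 1) * (B.card - 3) ≤ p at hB
  rw [hK'] at hB hK9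
  simp only [Nat.add_sub_cancel, show K' + 3 - 1 = K' + 2 by omega] at hB
  nlinarith

/-- Itô's theorem. -/
theorem perm_prime_degree_two_p : (P : Subgroup G).Normal ∨
    ∃ a : ℕ, 1 ≤ a ∧ p = 2 ^ a + 1 ∧ ∃ (F : Type) (_ : Field F) (_ : Fintype F),
      Fintype.card F = 2 ^ a ∧ Nonempty (G ≃* Matrix.SpecialLinearGroup (Fin 2) F) := by
  refine or_iff_not_imp_left.mpr fun hnn => ?_
  obtain ⟨h3, hfix⟩ := sharply_three_of_not_normal hp hα P hN hnn
  have hodd : Odd (Fintype.card α) := hα ▸ (Fact.out : p.Prime).odd_of_ne_two (by omega)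
  obtain ⟨a, ha, hcard, F, i1, i2, hF, he⟩ := sharp_three_odd (by omega) hodd h3 hfix
  exact ⟨a, ha, hα ▸ hcard, F, i1, i2, hF, he⟩

end H18
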