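import Cfsg.Agent.H18.DegreeTwicePBasic
import Cfsg.Agent.H18.ExceptionalCompanion
import Cfsg.Agent.H18.PrimeDegreeTwoP
import Cfsg.Agent.H18.WedgeChar
import Cfsg.Agent.H12.Products
import Cfsg.Agent.H12.Transport

/-!
Primitive groups of degree `2p` with a dihedral Sylow `p`-normaliser: the character of degree
`p - 1`, its exterior square, and the involution class equation.
-/

set_option autoImplicit false
set_option linter.unusedSectionVars false

open Cfsg MulAction
open scoped ComplexConjugate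

namespace H18.TwiceP

universe u

variable {α : Type u} [Fintype α] [DecidableEq α] {p : ℕ} [Fact p.Prime] (hp : 3 < p)
  (hα : Fintype.card α = 2 * p) {G : Subgroup (Equiv.Perm α)}
  (hprim : IsPreprimitive G α) (hnot2 : ¬ IsMultiplyPretransitive G α 2) (P : Sylow p G)
  (hN : Nat.card (Subgroup.normalizer ((P : Subgroup G) : Set G)) = 2 * p) [Fintype G]

include hp hα hprim hnot2 hN

theorem five_le : 5 ≤ p := by
  have h4 : p ≠ 4 := fun e => absurd (e ▸ (Fact.out : p.Prime)) (by norm_num)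
  omega

theorem exists_chi : ∃ χ : IrrCharacter G, (χ : G → ℂ) 1 = (p : ℂ) - 1 ∧
    ∀ h : (P : Subgroup G), h ≠ 1 → (χ : G → ℂ) h = -1 := by
  classical
  have hp5 := five_le hp hα hprim hnot2 P hN
  have hreg := sylow_semiregular hp hα hprim P hN
  haveI := isSimple hp hα hprim P hN
  obtain ⟨M, χ, δ, S, d, n, hMcard, hone, hchi, hne, hδ, hS, hd, hδv, hn, hzero, hSv, hrel, hdvd,
    ndvd, hconst⟩ := exists_companion (hyp_sylow hp hα hprim P hN) hp5
      (card_sylow hp hα hprim P hN) (relIndex_two hp hα hprim P hN)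
  obtain ⟨h0, hh0⟩ : ∃ h : (P : Subgroup G), h ≠ 1 := by
    haveI : Nontrivial (P : Subgroup G) := Finite.one_lt_card_iff_nontrivial.mp
      (by rw [card_sylow hp hα hprim P hN]; omega)
    exact exists_ne 1
  set π : G → ℂ := fun g => fixN α g with hπ
  have hπc : IsCharacter G π := by
    have h : π = (permRep ℂ G α).character := funext fun g => (H13.permRep_character g).symm
    rw [h]
    exact H12.isCharacter_character _
  have hπcl := H12.IsCharacter.isClassFunction hπc
  choose m hm using fun ψ : IrrCharacter G =>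
    H12.IsCharacter.classInner_nat hπc (H12.isCharacter_irr ψ)
  haveI := hprim.toIsPretransitive
  have hne1 : Nonempty (Fin 1 ↪ α) :=
    Function.Embedding.nonempty_of_card_le (by simp only [Fintype.card_fin, hα]; omega)
  have hne2 : Nonempty (Fin 2 ↪ α) :=
    Function.Embedding.nonempty_of_card_le (by simp only [Fintype.card_fin, hα]; omega)
  obtain ⟨k1, hk1, -, -, hk1'⟩ := sum_fix_desc (K := G) (α := α) 1
  obtain ⟨k2, hk2, -, hk2', -⟩ := sum_fix_desc (K := G) (α := α) 2
  have hpre1 : IsMultiplyPretransitive G α 1 := is_one_pretransitive_iff.mpr inferInstance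
  rw [hk1' hne1 hpre1] at hk1
  simp only [(desc_cast _).1, Nat.cast_one, one_mul] at hk1
  simp only [(desc_cast _).2.1] at hk2
  have hm1 : m (H12.oneIrr G) = 1 := by
    have h := hm (H12.oneIrr G)
    rw [H12.classInner_def] at h
    simp only [H12.oneIrr_apply, map_one, mul_one, hπ, fixN] at h
    rw [hk1, inv_mul_cancel₀ H12.card_ne_zero'] at h
    exact_mod_cast h.symm
  obtain ⟨ψ0, hψ0⟩ : M.Nonempty := Finset.card_pos.mp (by omega)
  have hπv : ∀ h : (P : Subgroup G), h ≠ 1 → π h = 0 := by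
    intro h hh
    haveI : IsEmpty (fixedBy α (h : G)) := ⟨fun a => hh (Subtype.ext (hreg a.1 h h.2 a.2))⟩
    simp only [hπ, fixN]
    rw [Nat.card_of_isEmpty, Nat.cast_zero]
  have hmM : ∀ ψ ∈ M, m ψ = m ψ0 := by
    intro ψ hψ
    have := hconst _ hπcl 0 hπv ψ hψ ψ0 hψ0
    rw [hm, hm] at this
    exact_mod_cast this
  set R := ((Finset.univ \ M).erase χ).erase (H12.oneIrr G) with hR
  have hsplit : ∀ f : IrrCharacter G → ℂ, ∑ ψ, f ψ =
      f (H12.oneIrr G) + f χ + ∑ ψ ∈ R, f ψ + ∑ ψ ∈ M, f ψ := by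
    intro f
    rw [← Finset.sum_sdiff (Finset.subset_univ M), ← Finset.add_sum_erase (Finset.univ \ M) f
      (a := χ) (by simp [hchi]),
      ← Finset.add_sum_erase _ f (a := H12.oneIrr G) (by simp [hone, hne])]
    ring
  have hval := H12.classFunction_apply_eq_sum hπcl (h0 : G)
  simp only [hm, hsplit] at hval
  have eR : ∑ ψ ∈ R, (m ψ : ℂ) * (ψ : G → ℂ) h0 = 0 := Finset.sum_eq_zero fun ψ hψ => by
    have h' := Finset.mem_of_mem_erase (Finset.mem_of_mem_erase hψ)
    rw [hzero ψ (Finset.mem_sdiff.mp h').2 (Finset.ne_of_mem_erase hψ)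
      (Finset.ne_of_mem_erase (Finset.mem_of_mem_erase hψ)) h0 hh0, mul_zero]
  have eM : ∑ ψ ∈ M, (m ψ : ℂ) * (ψ : G → ℂ) h0 = (m ψ0 : ℂ) * (S : ℂ) := by
    rw [← hSv h0 hh0, Finset.mul_sum]
    exact Finset.sum_congr rfl fun ψ hψ => by rw [hmM ψ hψ]
  rw [eR, eM, hπv h0 hh0, hm1, H12.oneIrr_apply, hδv h0 hh0] at hval
  have hv : 1 + (m χ : ℤ) * δ + (m ψ0 : ℤ) * S = 0 := by
    have : ((1 + (m χ : ℤ) * δ + (m ψ0 : ℤ) * S : ℤ) : ℂ) = ((0 : ℤ) : ℂ) := by
      push_cast at hval ⊢
      linear_combination -hval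
    exact_mod_cast this
  have hdeg := H12.classFunction_apply_eq_sum hπcl (1 : G)
  simp only [hm, hsplit] at hdeg
  have hπ1 : π 1 = ((2 * p : ℕ) : ℂ) := by
    simp only [hπ, fixN]
    rw [fixedBy_one_eq_univ, Nat.card_univ, Nat.card_eq_fintype_card, hα]
  rw [hπ1, Finset.sum_congr rfl (s₁ := M) (g := fun _ => (m ψ0 : ℂ) * (n : ℂ))
    (fun ψ hψ => by rw [hmM ψ hψ, hn ψ hψ]), Finset.sum_const, nsmul_eq_mul, hm1,
    H12.oneIrr_apply, hd] at hdeg
  simp only [H12.irr_apply_one] at hdeg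
  set rest := ∑ ψ ∈ R, m ψ * H12.degree (ψ : G → ℂ) with hrest
  have hnat : 2 * p = 1 + m χ * d + rest + M.card * (m ψ0 * n) := by
    have : ((2 * p : ℕ) : ℂ) = ((1 + m χ * d + rest + M.card * (m ψ0 * n) : ℕ) : ℂ) := by
      rw [hrest]
      push_cast at hdeg ⊢
      linear_combination hdeg
    exact_mod_cast this
  have hd1 : d ≠ 1 := by
    intro h1
    obtain ⟨f, hf⟩ := H12.exists_monoidHom_of_apply_one_eq_one (H12.isCharacter_irr χ)
      (by rw [hd, h1, Nat.cast_one])
    rcases f.normal_ker.eq_bot_or_eq_top with hk | hk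
    · exact not_comm hp hα hprim P hN fun a b =>
        (MonoidHom.ker_eq_bot_iff f).mp hk (by rw [map_mul, map_mul, mul_comm])
    · refine hne (Subtype.ext (funext fun g => ?_))
      rw [H12.oneIrr_apply, ← congrFun hf g]
      have : f g = 1 := MonoidHom.mem_ker.mp (hk ▸ Subgroup.mem_top g)
      simp [this]
  obtain ⟨d', hd'⟩ : ∃ d', d = d' + 1 := by
    have := H12.irr_degree_pos χ
    rw [H12.irr_apply_one] at hd
    exact ⟨d - 1, by have : H12.degree (χ : G → ℂ) = d := by exact_mod_cast hd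
                     omega⟩
  suffices hmain : d + 1 = p ∧ δ = -1 by
    refine ⟨χ, ?_, fun h hh => by rw [hδv h hh, hmain.2]; simp⟩
    rw [hd, ← hmain.1]; push_cast; ring
  rcases hδ with rfl | rfl <;> rcases hS with rfl | rfl
  · omega
  · -- `δ = 1`, `S = -1`
    exfalso
    have hB : 1 ≤ m ψ0 := by omega
    have hn2 : (n : ℤ) ≠ 2 := by omega
    obtain ⟨t, ht⟩ := ndvd
    have ht1 : 1 ≤ t := by
      by_contra hc
      push Not at hc
      have : (p : ℤ) * t ≤ 0 := Int.mul_nonpos_of_nonneg_of_nonpos (by omega) (by omega)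
      omega
    have hnp : (p : ℤ) + 2 ≤ n := by
      have : (p : ℤ) ≤ p * t := le_mul_of_one_le_right (by omega) ht1
      omega
    have h1 : M.card * (1 * n) ≤ M.card * (m ψ0 * n) :=
      Nat.mul_le_mul_left _ (Nat.mul_le_mul_right _ hB)
    have h2 : 2 * n ≤ M.card * n := Nat.mul_le_mul_right _ (by omega)
    rw [one_mul] at h1
    omega
  · -- `δ = -1`, `S = 1`
    refine ⟨?_, rfl⟩
    obtain ⟨t, ht⟩ := hdvd
    have ha : 1 ≤ m χ := by omega
    have hdle : d ≤ m χ * d := Nat.le_mul_of_pos_left d ha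
    have ht2 : t = 1 ∨ t = 2 := by
      have h1 : 0 < (p : ℤ) * t := by omega
      have h2 : (p : ℤ) * t ≤ p * 2 := by omega
      have h3 := pos_of_mul_pos_right h1 (by omega)
      have h4 := le_of_mul_le_mul_left h2 (by omega)
      omega
    rcases ht2 with rfl | rfl
    · omega
    · exfalso
      have hB0 : m ψ0 = 0 := by
        by_contra hc
        have h1 : 2 * d ≤ m χ * d := Nat.mul_le_mul_right _ (by omega)
        omega
      have hχ1 : m χ = 1 := by omega
      have hrest0 : rest = 0 := by rw [hB0, hχ1] at hnat; omega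
      have hR0 : ∀ ψ ∈ R, m ψ = 0 := fun ψ hψ => by
        have := (Finset.sum_eq_zero_iff.mp hrest0) ψ hψ
        rcases mul_eq_zero.mp this with h | h
        · exact h
        · exact absurd h (H12.irr_degree_pos ψ).ne'
      have hnorm := H12.classInner_eq_sum_mul hπcl hπcl
      simp only [hm, Complex.conj_natCast, hsplit] at hnorm
      rw [Finset.sum_eq_zero (s := R) fun ψ hψ => by rw [hR0 ψ hψ, Nat.cast_zero, mul_zero],
        Finset.sum_eq_zero (s := M) fun ψ hψ => by rw [hmM ψ hψ, hB0, Nat.cast_zero, mul_zero],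
        hm1, hχ1, H12.classInner_def, inv_mul_eq_iff_eq_mul₀ H12.card_ne_zero'] at hnorm
      simp only [hπ, fixN, Complex.conj_natCast] at hnorm
      simp only [mul_sub, mul_one, Finset.sum_sub_distrib] at hk2
      rw [hnorm, hk1] at hk2
      have h2 : ((k2 : ℕ) : ℂ) * Nat.card G = ((1 : ℕ) : ℂ) * Nat.card G := by
        push_cast at hk2 ⊢
        linear_combination -hk2
      have : k2 = 1 := by exact_mod_cast mul_right_cancel₀ H12.card_ne_zero' h2
      exact hnot2 (hk2' this.le)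
  · omega

theorem sum_normalizer (f : Subgroup.normalizer ((P : Subgroup G) : Set G) → ℂ) (a b : ℂ)
    (ha : ∀ x : Subgroup.normalizer ((P : Subgroup G) : Set G),
      (x : G) ∈ (P : Subgroup G) → x ≠ 1 → f x = a)
    (hb : ∀ x : Subgroup.normalizer ((P : Subgroup G) : Set G),
      (x : G) ∉ (P : Subgroup G) → f x = b)
    [Fintype (Subgroup.normalizer ((P : Subgroup G) : Set G))] :
    ∑ x, f x = f 1 + ((p : ℂ) - 1) * a + (p : ℂ) * b := by
  classical
  rw [← Finset.sum_filter_add_sum_filter_not Finset.univ (fun x : Subgroup.normalizer ((P : Subgroup G) : Set G) => (x : G) ∈ (P : Subgroup G))]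
  have hin : (Finset.univ.filter fun x : Subgroup.normalizer ((P : Subgroup G) : Set G) => (x : G) ∈ (P : Subgroup G)).card = p := by
    rw [← Fintype.card_subtype, ← Nat.card_eq_fintype_card]
    exact (Nat.card_congr (Subgroup.subgroupOfEquivOfLe
      (Subgroup.le_normalizer (H := (P : Subgroup G)))).toEquiv).trans
      (card_sylow hp hα hprim P hN)
  have hout : (Finset.univ.filter fun x : Subgroup.normalizer ((P : Subgroup G) : Set G) => ¬ (x : G) ∈ (P : Subgroup G)).card = p := by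
    have := Finset.card_filter_add_card_filter_not (s := (Finset.univ : Finset (Subgroup.normalizer ((P : Subgroup G) : Set G))))
      (fun x : Subgroup.normalizer ((P : Subgroup G) : Set G) => (x : G) ∈ (P : Subgroup G))
    rw [hin, Finset.card_univ, ← Nat.card_eq_fintype_card, hN] at this
    omega
  rw [Finset.sum_congr rfl (s₁ := Finset.univ.filter fun x : Subgroup.normalizer ((P : Subgroup G) : Set G) => ¬ (x : G) ∈ (P : Subgroup G))
    (fun x hx => hb x (Finset.mem_filter.mp hx).2), Finset.sum_const, hout,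
    ← Finset.add_sum_erase _ _ (Finset.mem_filter.mpr ⟨Finset.mem_univ (1 : Subgroup.normalizer ((P : Subgroup G) : Set G)),
      (P : Subgroup G).one_mem⟩),
    Finset.sum_congr rfl (fun x hx => ha x (Finset.mem_filter.mp (Finset.mem_of_mem_erase hx)).2
      (Finset.ne_of_mem_erase hx)), Finset.sum_const,
    Finset.card_erase_of_mem (Finset.mem_filter.mpr ⟨Finset.mem_univ (1 : Subgroup.normalizer ((P : Subgroup G) : Set G)),
      (P : Subgroup G).one_mem⟩), hin, nsmul_eq_mul, nsmul_eq_mul,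
    Nat.cast_sub (Fact.out : p.Prime).pos]
  push_cast
  ring

theorem main_facts : ∃ (χ : IrrCharacter G) (M : Finset (IrrCharacter G)),
    (χ : G → ℂ) 1 = (p : ℂ) - 1 ∧ (∀ g : G, (χ : G → ℂ) g = (χ : G → ℂ) 1 → g = 1) ∧
    (∀ j : G, j * j = 1 → j ≠ 1 → (χ : G → ℂ) j = 0) ∧
    (∀ y : G, (∀ a : G, a * y * a⁻¹ ∈ (P : Subgroup G) → y = 1) →
      (χ : G → ℂ) y * (χ : G → ℂ) y - (χ : G → ℂ) (y * y) =
        ((p : ℂ) - 1) * ((χ : G → ℂ) y - 1)) ∧
    (∀ j : G, j * j = 1 → j ≠ 1 → Nat.card (fixedBy α j) = 2) ∧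
    (∀ j k : G, j * j = 1 → j ≠ 1 → k * k = 1 → k ≠ 1 → ∃ a : G, a * j * a⁻¹ = k) ∧
    (∀ j : G, j * j = 1 → j ≠ 1 →
      (p - 1) * Nat.card G = p * (p - 2) * Nat.card (Subgroup.centralizer ({j} : Set G)) ^ 2) := by
  classical
  have hp5 := five_le hp hα hprim hnot2 P hN
  haveI := isSimple hp hα hprim P hN
  obtain ⟨χ, hd, hv⟩ := exists_chi hp hα hprim hnot2 P hN
  obtain ⟨M, hMcard, hone, hchi, hne, hdegM, hzero, hsum, hvalM, hconst⟩ :=
    exists_exceptional_set (hyp_sylow hp hα hprim P hN) hp5 (card_sylow hp hα hprim P hN)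
      (relIndex_two hp hα hprim P hN) χ hd hv
  obtain ⟨h0, hh0⟩ : ∃ h : (P : Subgroup G), h ≠ 1 := by
    haveI : Nontrivial (P : Subgroup G) := Finite.one_lt_card_iff_nontrivial.mp
      (by rw [card_sylow hp hα hprim P hN]; omega)
    exact exists_ne 1
  set R := ((Finset.univ \ M).erase χ).erase (H12.oneIrr G) with hR
  have hsplit : ∀ f : IrrCharacter G → ℂ, ∑ ψ, f ψ =
      f (H12.oneIrr G) + f χ + ∑ ψ ∈ R, f ψ + ∑ ψ ∈ M, f ψ := by
    intro f
    rw [← Finset.sum_sdiff (Finset.subset_univ M), ← Finset.add_sum_erase (Finset.univ \ M) f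
      (a := χ) (by simp [hchi]),
      ← Finset.add_sum_erase _ f (a := H12.oneIrr G) (by simp [hone, hne])]
    ring
  have hRmem : ∀ ψ ∈ R, ∀ h : (P : Subgroup G), h ≠ 1 → (ψ : G → ℂ) h = 0 := by
    intro ψ hψ
    have h' := Finset.mem_of_mem_erase (Finset.mem_of_mem_erase hψ)
    exact hzero ψ (Finset.mem_sdiff.mp h').2 (Finset.ne_of_mem_erase hψ)
      (Finset.ne_of_mem_erase (Finset.mem_of_mem_erase hψ))
  have hfaith : ∀ g : G, (χ : G → ℂ) g = (χ : G → ℂ) 1 → g = 1 := by
    intro g hg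
    have hnk := H12.charKer_normal (H12.isCharacter_irr χ)
    rcases hnk.eq_bot_or_eq_top with hk | hk
    · exact Subgroup.mem_bot.mp (hk ▸ (H12.mem_charKer _).mpr hg)
    · have := (H12.mem_charKer (H12.isCharacter_irr χ)).mp (hk ▸ Subgroup.mem_top (h0 : G))
      rw [hv h0 hh0, hd] at this
      have h2 : ((p : ℕ) : ℂ) = ((0 : ℕ) : ℂ) := by push_cast; linear_combination -this
      have : p = 0 := by exact_mod_cast h2
      omega
  have hNne : ∀ x : G, x ∈ Subgroup.normalizer ((P : Subgroup G) : Set G) →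
      x ∉ (P : Subgroup G) → x * x = 1 ∧ x ≠ 1 := fun x hx hxP =>
    ⟨inv_of_normalizer hp hα hprim P hN x hx hxP, fun e => hxP (e ▸ one_mem _)⟩
  -- values on the reflections of the normaliser
  obtain ⟨j0, hj0N, hj0P⟩ := exists_normalizer_not_mem hp hα hprim P hN
  have hcls : ∀ k, k ∈ Subgroup.normalizer ((P : Subgroup G) : Set G) → k ∉ (P : Subgroup G) →
      ∀ ψ : IrrCharacter G, (ψ : G → ℂ) k = (ψ : G → ℂ) j0 := by
    intro k hk hkP ψ
    obtain ⟨a, rfl⟩ := conj_in_normalizer hp hα hprim P hN j0 k hj0N hj0P hk hkP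
    exact H12.irr_isClassFunction ψ _ _
  letI : Fintype (Subgroup.normalizer ((P : Subgroup G) : Set G)) := Fintype.ofFinite _
  have hpne : ((2 * p : ℕ) : ℂ) ≠ 0 := Nat.cast_ne_zero.mpr (by omega)
  have hχ0 : (χ : G → ℂ) j0 = 0 := by
    let Nn := Subgroup.normalizer ((P : Subgroup G) : Set G)
    let sg : Nn →* ℂˣ := MonoidHom.mk'
      (fun x => if (x : G) ∈ (P : Subgroup G) then 1 else -1) (fun x y => by
        have h2 := Subgroup.mul_mem_iff_of_index_two (H := (P : Subgroup G).subgroupOf Nn)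
          (relIndex_two hp hα hprim P hN) (a := x) (b := y)
        simp only [Subgroup.mem_subgroupOf] at h2
        by_cases hx : (x : G) ∈ (P : Subgroup G) <;> by_cases hy : (y : G) ∈ (P : Subgroup G) <;>
          simp_all)
    obtain ⟨k, hk⟩ := H12.IsCharacter.classInner_nat
      (H12.IsCharacter.res (H12.isCharacter_irr χ) Nn) (H12.isCharacter_one (G := Nn))
    obtain ⟨k', hk'⟩ := H12.IsCharacter.classInner_nat
      (H12.IsCharacter.res (H12.isCharacter_irr χ) Nn) (H12.isCharacter_monoidHom sg)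
    rw [H12.classInner_def, inv_mul_eq_iff_eq_mul₀ H12.card_ne_zero', hN] at hk hk'
    rw [sum_normalizer hp hα hprim hnot2 P hN _ (-1) ((χ : G → ℂ) j0)
      (fun x hx hx1 => by
        rw [map_one, mul_one]
        exact hv ⟨x, hx⟩ fun e => hx1 (Subtype.ext (congrArg Subtype.val e :)))
      (fun x hx => by rw [map_one, mul_one]; exact hcls x x.2 hx χ)] at hk
    rw [sum_normalizer hp hα hprim hnot2 P hN _ (-1) (-(χ : G → ℂ) j0)
      (fun x hx hx1 => by
        simp only [sg, MonoidHom.mk'_apply, hx, if_true, Units.val_one, map_one, mul_one]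
        exact hv ⟨x, hx⟩ fun e => hx1 (Subtype.ext (congrArg Subtype.val e :)))
      (fun x hx => by
        simp only [sg, MonoidHom.mk'_apply, hx, if_false, Units.val_neg, Units.val_one, map_neg,
          map_one, mul_neg, mul_one]
        rw [hcls x x.2 hx χ])] at hk'
    simp only [OneMemClass.coe_one, map_one, Units.val_one, mul_one, hd] at hk hk'
    have h2 : ((2 * p * (k + k') : ℕ) : ℂ) = ((0 : ℕ) : ℂ) := by
      push_cast at hk hk' ⊢
      linear_combination -hk - hk'
    have h3 : 2 * p * (k + k') = 0 := by exact_mod_cast h2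
    have h4 : k = 0 := by
      rcases mul_eq_zero.mp h3 with h | h <;> omega
    rw [h4, Nat.cast_zero, mul_zero] at hk
    have : (p : ℂ) ≠ 0 := Nat.cast_ne_zero.mpr (by omega)
    apply mul_left_cancel₀ this
    linear_combination hk
  -- every involution is conjugate to a reflection
  have hpC : (p : ℂ) - 1 ≠ 0 ∧ (p : ℂ) - 2 ≠ 0 := by
    refine ⟨?_, ?_⟩ <;> rw [sub_ne_zero] <;> norm_cast <;> omega
  have hnotP : ∀ j : G, j * j = 1 → ∀ g : G, g * j * g⁻¹ ∈ (P : Subgroup G) → j = 1 := by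
    intro j hj g hg
    have h1 : orderOf (g * j * g⁻¹) ∣ 2 := orderOf_dvd_of_pow_eq_one (by
      rw [conj_pow, pow_two, hj, mul_one, mul_inv_cancel])
    have h2 : orderOf (g * j * g⁻¹) ∣ p :=
      card_sylow hp hα hprim P hN ▸ Subgroup.orderOf_dvd_natCard _ hg
    have h3 := Nat.dvd_gcd h1 h2
    rw [(Nat.coprime_primes Nat.prime_two Fact.out).mpr (by omega)] at h3
    simpa using orderOf_eq_one_iff.mp (Nat.dvd_one.mp h3)
  have hprodinv : ∀ k l : G, k * k = 1 → k ≠ 1 → l * l = 1 → k * l = (h0 : G) →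
      (k ∈ Subgroup.normalizer ((P : Subgroup G) : Set G) ∧ k ∉ (P : Subgroup G)) := by
    intro k l hk2 hk1 hl2 hkl
    have hinv' : k * (h0 : G) * k⁻¹ = (h0 : G)⁻¹ := by
      rw [← hkl, inv_eq_of_mul_eq_one_right hk2]
      symm
      refine inv_eq_of_mul_eq_one_right ?_
      rw [show k * l * (k * (k * l) * k) = k * (l * (k * k * (l * k))) by simp only [mul_assoc],
        hk2, one_mul, ← mul_assoc l l k, hl2, one_mul, hk2]
    exact ⟨(hyp_sylow hp hα hprim P hN).ti k (h0 : G) h0.2 (fun e => hh0 (Subtype.ext e))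
      (hinv' ▸ inv_mem h0.2), fun hkP => hk1 (hnotP k hk2 1 (by simpa using hkP))⟩
  have hall : ∀ j : G, j * j = 1 → j ≠ 1 → ∃ a : G, a * j * a⁻¹ = j0 := by
    intro j hj hj1
    by_contra hnone
    push Not at hnone
    have hnc : ∀ a : G, ¬ IsConj (j * (a * j * a⁻¹)) (h0 : G) := by
      intro a hc
      obtain ⟨g, hg⟩ := isConj_iff.mp hc
      have hconj : ∀ x : G, (x * j * x⁻¹) * (x * j * x⁻¹) = 1 := fun x => by
        rw [show x * j * x⁻¹ * (x * j * x⁻¹) = x * (j * j) * x⁻¹ by group, hj, mul_one,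
          mul_inv_cancel]
      obtain ⟨hN', hP'⟩ := hprodinv (g * j * g⁻¹) ((g * a) * j * (g * a)⁻¹) (hconj g)
        (fun e => hj1 (conj_eq_one_iff.mp e)) (hconj _) (by rw [← hg]; group)
      obtain ⟨b, hb⟩ := conj_in_normalizer hp hα hprim P hN _ j0 hN' hP' hj0N hj0P
      exact hnone (b * g) (by rw [← hb]; group)
    have hS : ∑ ψ : IrrCharacter G,
        (ψ : G → ℂ) j * (ψ : G → ℂ) j / (ψ : G → ℂ) 1 * conj ((ψ : G → ℂ) h0) = 0 := by
      have h1 : ∑ a : G, ∑ ψ : IrrCharacter G,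
          (ψ : G → ℂ) (j * (a * j * a⁻¹)) * conj ((ψ : G → ℂ) h0) = 0 :=
        Finset.sum_eq_zero fun a _ => by rw [H12.column_orthogonality, if_neg (hnc a)]
      rw [Finset.sum_comm] at h1
      simp only [← Finset.sum_mul, H12.irr_class_product] at h1
      simp only [mul_div_assoc, mul_assoc, ← Finset.mul_sum] at h1 ⊢
      exact (mul_eq_zero.mp h1).resolve_left H12.card_ne_zero'
    rw [hsplit] at hS
    have eR : ∑ ψ ∈ R, (ψ : G → ℂ) j * (ψ : G → ℂ) j / (ψ : G → ℂ) 1 * conj ((ψ : G → ℂ) h0) = 0 :=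
      Finset.sum_eq_zero fun ψ hψ => by rw [hRmem ψ hψ h0 hh0, map_zero, mul_zero]
    have eM : ∑ ψ ∈ M, (ψ : G → ℂ) j * (ψ : G → ℂ) j / (ψ : G → ℂ) 1 * conj ((ψ : G → ℂ) h0) =
        ((χ : G → ℂ) j - 1) * ((χ : G → ℂ) j - 1) / ((p : ℂ) - 2) := by
      rw [Finset.sum_congr rfl fun ψ hψ => by rw [hvalM ψ hψ j (hnotP j hj), hdegM ψ hψ],
        ← Finset.mul_sum, ← map_sum, hsum h0 hh0, map_one, mul_one]
    rw [eR, eM, H12.oneIrr_apply, H12.oneIrr_apply, H12.oneIrr_apply, hd, hv h0 hh0] at hS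
    have hsq : ((χ : G → ℂ) j - ((p : ℂ) - 1)) ^ 2 = 0 := by
      simp only [map_one, map_neg] at hS
      obtain ⟨q1, q2⟩ := hpC
      field_simp at hS
      linear_combination hS
    refine hj1 (hfaith j ?_)
    rw [hd]
    exact sub_eq_zero.mp ((pow_eq_zero_iff (n := 2) (by norm_num)).mp hsq)
  have hχinv : ∀ j : G, j * j = 1 → j ≠ 1 → (χ : G → ℂ) j = 0 := by
    intro j hj hj1
    obtain ⟨a, ha⟩ := hall j hj hj1
    rw [← hχ0, ← ha]
    exact (H12.irr_isClassFunction χ _ _).symm
  -- the exterior square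
  have hwedge : ∀ y : G, (∀ a : G, a * y * a⁻¹ ∈ (P : Subgroup G) → y = 1) →
      (χ : G → ℂ) y * (χ : G → ℂ) y - (χ : G → ℂ) (y * y) =
        ((p : ℂ) - 1) * ((χ : G → ℂ) y - 1) := by
    set f : G → ℂ := fun g =>
      ((χ : G → ℂ) g * (χ : G → ℂ) g - (χ : G → ℂ) (g * g)) / 2 with hf
    have hfc : IsCharacter G f := isCharacter_wedge (H12.isCharacter_irr χ)
    have hfcl := H12.IsCharacter.isClassFunction hfc
    choose m hm using fun ψ : IrrCharacter G =>
      H12.IsCharacter.classInner_nat hfc (H12.isCharacter_irr ψ)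
    have hfv : ∀ h : (P : Subgroup G), h ≠ 1 → f h = 1 := by
      intro h hh
      have hh2 : h * h ≠ 1 := by
        intro e
        have h5 : orderOf h ∣ 2 := orderOf_dvd_of_pow_eq_one (by rw [pow_two, e])
        have h6 := Nat.dvd_gcd h5 (card_sylow hp hα hprim P hN ▸ orderOf_dvd_natCard h)
        rw [(Nat.coprime_primes Nat.prime_two Fact.out).mpr (by omega)] at h6
        exact hh (orderOf_eq_one_iff.mp (Nat.dvd_one.mp h6))
      simp only [hf]
      rw [← Subgroup.coe_mul, hv h hh, hv _ hh2]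
      norm_num
    have hf1 : f 1 = ((p : ℂ) - 1) * ((p : ℂ) - 2) / 2 := by
      simp only [hf, mul_one, hd]; ring
    have hm0 : m (H12.oneIrr G) = 0 := by
      let Nn := Subgroup.normalizer ((P : Subgroup G) : Set G)
      have h0' : classInner (fun x : Nn => f x) (fun _ => (1 : ℂ)) = 0 := by
        rw [H12.classInner_def, sum_normalizer hp hα hprim hnot2 P hN _ 1 (-((p : ℂ) - 1) / 2)
          (fun x hx hx1 => by
            rw [map_one, mul_one]
            exact hfv ⟨x, hx⟩ fun e => hx1 (Subtype.ext (congrArg Subtype.val e :)))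
          (fun x hx => by
            rw [map_one, mul_one]
            simp only [hf]
            rw [hcls x x.2 hx χ, hχ0, (hNne x x.2 hx).1, hd]
            ring)]
        simp only [OneMemClass.coe_one, map_one, mul_one, hf1]
        ring
      have hexp : (fun x : Nn => f x) = ∑ ψ : IrrCharacter G,
          (m ψ : ℂ) • (fun x : Nn => (ψ : G → ℂ) x) := by
        funext x
        rw [H12.classFunction_apply_eq_sum hfcl (x : G)]
        simp [hm]
      rw [hexp, H12.classInner_sum_left] at h0'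
      simp only [H12.classInner_smul_left] at h0'
      choose k hk using fun ψ : IrrCharacter G => H12.IsCharacter.classInner_nat
        (H12.IsCharacter.res (H12.isCharacter_irr ψ) Nn) (H12.isCharacter_one (G := Nn))
      simp only [hk] at h0'
      have h1 : ∑ ψ : IrrCharacter G, m ψ * k ψ = 0 := by
        have : ((∑ ψ : IrrCharacter G, m ψ * k ψ : ℕ) : ℂ) = ((0 : ℕ) : ℂ) := by
          push_cast; exact h0'
        exact_mod_cast this
      have h2 := Finset.sum_eq_zero_iff.mp h1 (H12.oneIrr G) (Finset.mem_univ _)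
      have h3 : k (H12.oneIrr G) = 1 := by
        have := hk (H12.oneIrr G)
        rw [H12.classInner_def] at this
        simp only [H12.oneIrr_apply, map_one, mul_one, Finset.sum_const, Finset.card_univ,
          nsmul_eq_mul, ← Nat.card_eq_fintype_card, inv_mul_cancel₀ H12.card_ne_zero'] at this
        exact_mod_cast this.symm
      rw [h3, mul_one] at h2
      exact h2
    obtain ⟨ψ0, hψ0⟩ : M.Nonempty := Finset.card_pos.mp (by omega)
    have hmM : ∀ ψ ∈ M, m ψ = m ψ0 := by
      intro ψ hψ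
      have := hconst _ hfcl 1 hfv ψ hψ ψ0 hψ0
      rw [hm, hm] at this
      exact_mod_cast this
    have hval := H12.classFunction_apply_eq_sum hfcl (h0 : G)
    simp only [hm, hsplit] at hval
    have eR : ∑ ψ ∈ R, (m ψ : ℂ) * (ψ : G → ℂ) h0 = 0 :=
      Finset.sum_eq_zero fun ψ hψ => by rw [hRmem ψ hψ h0 hh0, mul_zero]
    have eM : ∑ ψ ∈ M, (m ψ : ℂ) * (ψ : G → ℂ) h0 = (m ψ0 : ℂ) := by
      rw [← mul_one ((m ψ0 : ℂ)), ← hsum h0 hh0, Finset.mul_sum]
      exact Finset.sum_congr rfl fun ψ hψ => by rw [hmM ψ hψ]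
    rw [eR, eM, hfv h0 hh0, hm0, H12.oneIrr_apply, hv h0 hh0] at hval
    have hBA : m ψ0 = m χ + 1 := by
      have : ((m ψ0 : ℕ) : ℂ) = ((m χ + 1 : ℕ) : ℂ) := by
        push_cast at hval ⊢; linear_combination -hval
      exact_mod_cast this
    have hdeg := H12.classFunction_apply_eq_sum hfcl (1 : G)
    simp only [hm, hsplit] at hdeg
    rw [hf1, Finset.sum_congr rfl (s₁ := M) (g := fun _ => (m ψ0 : ℂ) * ((p : ℂ) - 2))
      (fun ψ hψ => by rw [hmM ψ hψ, hdegM ψ hψ]), Finset.sum_const, nsmul_eq_mul, hm0,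
      H12.oneIrr_apply, hd] at hdeg
    simp only [H12.irr_apply_one] at hdeg
    obtain ⟨q, rfl⟩ : ∃ q, p = q + 2 := ⟨p - 2, by omega⟩
    set rest := ∑ ψ ∈ R, m ψ * H12.degree (ψ : G → ℂ) with hrest
    have hMC : (2 : ℂ) * (M.card : ℂ) = (q : ℂ) + 1 := by
      have h : 2 * M.card = q + 1 := by omega
      exact_mod_cast h
    have hnat : M.card * q = m χ * (q + 1) + rest + M.card * ((m χ + 1) * q) := by
      have : ((M.card * q : ℕ) : ℂ) =
          ((m χ * (q + 1) + rest + M.card * ((m χ + 1) * q) : ℕ) : ℂ) := by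
        rw [hrest, ← hBA]
        push_cast at hdeg ⊢
        linear_combination hdeg + (q : ℂ) / 2 * hMC
      exact_mod_cast this
    simp only [add_mul, one_mul, mul_add, mul_one] at hnat
    have hA : m χ = 0 ∧ rest = 0 := by omega
    have hR0 : ∀ ψ ∈ R, m ψ = 0 := fun ψ hψ => by
      rcases mul_eq_zero.mp ((Finset.sum_eq_zero_iff.mp hA.2) ψ hψ) with h | h
      · exact h
      · exact absurd h (H12.irr_degree_pos ψ).ne'
    intro y hy
    have hy' := H12.classFunction_apply_eq_sum hfcl y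
    simp only [hm, hsplit] at hy'
    rw [Finset.sum_eq_zero (s := R) fun ψ hψ => by rw [hR0 ψ hψ, Nat.cast_zero, zero_mul],
      Finset.sum_congr rfl (s₁ := M) (g := fun _ => (1 : ℂ) * ((χ : G → ℂ) y - 1))
        (fun ψ hψ => by rw [hmM ψ hψ, hBA, hA.1, hvalM ψ hψ y hy, zero_add, Nat.cast_one]),
      Finset.sum_const, nsmul_eq_mul, hm0, hA.1] at hy'
    simp only [hf] at hy'
    push_cast at hy' ⊢
    linear_combination 2 * hy' + ((χ : G → ℂ) y - 1) * hMC
  refine ⟨χ, M, hd, hfaith, hχinv, hwedge, ?_, ?_, ?_⟩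
  · intro j hj hj1
    obtain ⟨a, ha⟩ := hall j hj hj1
    rw [← fix_two hp hα hprim P hN j0 hj0N hj0P, ← ha]
    exact Nat.card_congr
      { toFun := fun x => ⟨a • x.1, show (a * j * a⁻¹) • a • x.1 = a • x.1 by
          rw [mul_smul, mul_smul, inv_smul_smul, x.2]⟩
        invFun := fun x => ⟨a⁻¹ • x.1, show j • a⁻¹ • x.1 = a⁻¹ • x.1 by
          have : (a * j * a⁻¹) • x.1 = x.1 := x.2
          rwa [mul_smul, mul_smul, ← eq_inv_smul_iff] at this⟩
        left_inv := fun x => Subtype.ext (inv_smul_smul a x.1)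
        right_inv := fun x => Subtype.ext (smul_inv_smul a x.1) }
  · intro j k hj hj1 hk hk1
    obtain ⟨a, ha⟩ := hall j hj hj1
    obtain ⟨b, hb⟩ := hall k hk hk1
    refine ⟨b⁻¹ * a, ?_⟩
    calc b⁻¹ * a * j * (b⁻¹ * a)⁻¹ = b⁻¹ * (a * j * a⁻¹) * b := by group
      _ = b⁻¹ * (b * k * b⁻¹) * b := by rw [ha, hb]
      _ = k := by group
  · intro j hj hj1
    set c := Nat.card (Subgroup.centralizer ({j} : Set G)) with hc
    set I : Finset G := Finset.univ.filter fun x : G =>
      x ∈ Subgroup.normalizer ((P : Subgroup G) : Set G) ∧ x ∉ (P : Subgroup G) with hI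
    have hIcard : I.card = p := by
      have h1 : (Finset.univ.filter fun x : G =>
          x ∈ Subgroup.normalizer ((P : Subgroup G) : Set G)).card = 2 * p := by
        rw [← Fintype.card_subtype, ← Nat.card_eq_fintype_card]; exact hN
      have h2 : (Finset.univ.filter fun x : G => x ∈ (P : Subgroup G)).card = p := by
        rw [← Fintype.card_subtype, ← Nat.card_eq_fintype_card]
        exact card_sylow hp hα hprim P hN
      have h3 : I = (Finset.univ.filter fun x : G =>
          x ∈ Subgroup.normalizer ((P : Subgroup G) : Set G)) \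
          (Finset.univ.filter fun x : G => x ∈ (P : Subgroup G)) := by
        ext x; simp [hI]
      rw [h3, Finset.card_sdiff_of_subset (fun x hx => by
        simp only [Finset.mem_filter, Finset.mem_univ, true_and] at hx ⊢
        exact Subgroup.le_normalizer hx), h1, h2]
      omega
    have hfib : ∀ k : G, k * k = 1 → k ≠ 1 →
        (Finset.univ.filter fun a : G => a * j * a⁻¹ = k).card = c := by
      intro k hk hk1
      obtain ⟨a, ha⟩ := hall j hj hj1
      obtain ⟨b, hb⟩ := hall k hk hk1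
      have hex : (b⁻¹ * a) * j * (b⁻¹ * a)⁻¹ = k := by
        calc b⁻¹ * a * j * (b⁻¹ * a)⁻¹ = b⁻¹ * (a * j * a⁻¹) * b := by group
          _ = b⁻¹ * (b * k * b⁻¹) * b := by rw [ha, hb]
          _ = k := by group
      generalize b⁻¹ * a = e at hex
      rw [hc, ← Fintype.card_subtype, ← Nat.card_eq_fintype_card]
      refine Nat.card_congr (Equiv.subtypeEquiv (Equiv.mulLeft e⁻¹) fun x => ?_)
      rw [Equiv.coe_mulLeft, Subgroup.mem_centralizer_singleton_iff, ← hex]
      constructor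
      · intro h
        calc e⁻¹ * x * j = e⁻¹ * (x * j * x⁻¹) * x := by group
          _ = e⁻¹ * (e * j * e⁻¹) * x := by rw [h]
          _ = j * (e⁻¹ * x) := by group
      · intro h
        calc x * j * x⁻¹ = e * (e⁻¹ * x * j) * x⁻¹ := by group
          _ = e * (j * (e⁻¹ * x)) * x⁻¹ := by rw [h]
          _ = e * j * e⁻¹ := by group
    -- pairs of involutions with product `h0`
    have hcount : ∀ b : G,
        (Finset.univ.filter fun a : G => (h0 : G)⁻¹ * (b * j * b⁻¹) * (a * j * a⁻¹) = 1).card =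
          if b * j * b⁻¹ ∈ I then c else 0 := by
      intro b
      set k := b * j * b⁻¹ with hk
      have hk2 : k * k = 1 := by
        rw [hk, show b * j * b⁻¹ * (b * j * b⁻¹) = b * (j * j) * b⁻¹ by group, hj, mul_one,
          mul_inv_cancel]
      have hiff : ∀ a : G, (h0 : G)⁻¹ * k * (a * j * a⁻¹) = 1 ↔ a * j * a⁻¹ = k * (h0 : G) := by
        intro a
        constructor
        · intro h
          calc a * j * a⁻¹ = (k * k) * (a * j * a⁻¹) := by rw [hk2, one_mul]
            _ = k * (h0 : G) * ((h0 : G)⁻¹ * k * (a * j * a⁻¹)) := by group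
            _ = k * (h0 : G) := by rw [h, mul_one]
        · intro h
          rw [h, mul_assoc, ← mul_assoc k k, hk2, one_mul, inv_mul_cancel]
      rw [Finset.filter_congr fun a _ => hiff a]
      split_ifs with hkI
      · obtain ⟨hkN, hkP⟩ := (Finset.mem_filter.mp hkI).2
        have h1 : k * (h0 : G) ∉ (P : Subgroup G) := fun h =>
          hkP ((Subgroup.mul_mem_cancel_right _ h0.2).mp h)
        obtain ⟨h2, h3⟩ := hNne _ (mul_mem hkN (Subgroup.le_normalizer h0.2)) h1
        exact hfib _ h2 h3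
      · rw [Finset.card_eq_zero, Finset.filter_eq_empty_iff]
        intro a _ ha
        refine hkI (Finset.mem_filter.mpr ⟨Finset.mem_univ _, ?_⟩)
        refine hprodinv k (a * j * a⁻¹) hk2 (fun e => hj1 (conj_eq_one_iff.mp e)) ?_ ?_
        · rw [show a * j * a⁻¹ * (a * j * a⁻¹) = a * (j * j) * a⁻¹ by group, hj, mul_one,
            mul_inv_cancel]
        · rw [ha, ← mul_assoc, hk2, one_mul]
    have hLHS : ∑ b : G, ∑ a : G, ∑ ψ : IrrCharacter G,
        (ψ : G → ℂ) ((h0 : G)⁻¹ * (b * j * b⁻¹) * (a * j * a⁻¹)) * (ψ : G → ℂ) 1 =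
        (Nat.card G : ℂ) * ((p * c * c : ℕ) : ℂ) := by
      have e : ∀ x : G, ∑ ψ : IrrCharacter G, (ψ : G → ℂ) x * (ψ : G → ℂ) 1 =
          if x = 1 then (Nat.card G : ℂ) else 0 := by
        intro x
        have hcol := H12.column_orthogonality x (1 : G)
        simp only [H12.irr_apply_one, Complex.conj_natCast] at hcol ⊢
        rw [hcol]
        by_cases hx : x = 1
        · subst hx
          rw [if_pos (IsConj.refl _), if_pos rfl]
          congr 1
          refine (Nat.card_congr (Equiv.subtypeUnivEquiv fun g => ?_))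
          exact Subgroup.mem_centralizer_singleton_iff.mpr (by rw [mul_one, one_mul])
        · rw [if_neg (fun q => hx (isConj_one_left.mp q)), if_neg hx]
      simp only [e]
      have e2 : ∀ b : G, ∑ a : G,
          (if (h0 : G)⁻¹ * (b * j * b⁻¹) * (a * j * a⁻¹) = 1 then (Nat.card G : ℂ) else 0) =
          ((if b * j * b⁻¹ ∈ I then c else 0 : ℕ) : ℂ) * (Nat.card G : ℂ) := fun b => by
        rw [← Finset.sum_filter, Finset.sum_const, hcount b, nsmul_eq_mul]
      rw [Finset.sum_congr rfl fun b _ => e2 b, ← Finset.sum_mul, ← Nat.cast_sum,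
        ← Finset.sum_filter, Finset.sum_const, smul_eq_mul,
        Finset.card_eq_sum_card_fiberwise (s := Finset.univ.filter fun b : G => b * j * b⁻¹ ∈ I)
          (t := I) (f := fun b : G => b * j * b⁻¹)
          (fun b hb => (Finset.mem_filter.mp hb).2),
        Finset.sum_congr rfl (g := fun _ => c) (fun k hk => by
          obtain ⟨hkN, hkP⟩ := (Finset.mem_filter.mp hk).2
          rw [← hfib k (hNne k hkN hkP).1 (hNne k hkN hkP).2]
          congr 1
          ext b
          simp only [Finset.mem_filter, Finset.mem_univ, true_and]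
          exact ⟨fun h => h.2, fun h => ⟨h.symm ▸ hk, h⟩⟩),
        Finset.sum_const, hIcard, smul_eq_mul]
      ring
    rw [Finset.sum_congr rfl fun b _ => Finset.sum_comm, Finset.sum_comm,
      Finset.sum_congr rfl fun ψ _ => Finset.sum_congr rfl fun b _ =>
        (Finset.sum_mul _ _ _).symm,
      Finset.sum_congr rfl fun ψ _ => (Finset.sum_mul _ _ _).symm] at hLHS
    simp only [H12.irr_class_product] at hLHS
    have e3 : ∀ ψ : IrrCharacter G, (∑ b : G, (Nat.card G : ℂ) *
        ((ψ : G → ℂ) ((h0 : G)⁻¹ * (b * j * b⁻¹)) * (ψ : G → ℂ) j) / (ψ : G → ℂ) 1) *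
          (ψ : G → ℂ) 1 =
        (Nat.card G : ℂ) * ((Nat.card G : ℂ) *
          ((ψ : G → ℂ) j * (ψ : G → ℂ) j / (ψ : G → ℂ) 1 * conj ((ψ : G → ℂ) h0))) := by
      intro ψ
      have h1 : (ψ : G → ℂ) 1 ≠ 0 := H12.irr_apply_one_ne_zero ψ
      rw [← Finset.sum_div, div_mul_cancel₀ _ h1, ← Finset.mul_sum, ← Finset.sum_mul,
        H12.irr_class_product, ← H12.irr_inv ψ]
      ring
    rw [Finset.sum_congr rfl fun ψ _ => e3 ψ, ← Finset.mul_sum, ← Finset.mul_sum] at hLHS
    have h5 := mul_left_cancel₀ H12.card_ne_zero' hLHS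
    rw [hsplit] at h5
    have hnP := hnotP j hj
    rw [Finset.sum_eq_zero (s := R) fun ψ hψ => by rw [hRmem ψ hψ h0 hh0, map_zero, mul_zero],
      Finset.sum_congr rfl (s₁ := M) fun ψ hψ => by rw [hvalM ψ hψ j hnP, hdegM ψ hψ],
      ← Finset.mul_sum, ← map_sum, hsum h0 hh0, H12.oneIrr_apply, H12.oneIrr_apply,
      H12.oneIrr_apply, hd, hv h0 hh0, hχinv j hj hj1] at h5
    obtain ⟨q, rfl⟩ : ∃ q, p = q + 2 := ⟨p - 2, by omega⟩
    have h6 : (((q + 1) * Nat.card G : ℕ) : ℂ) = (((q + 2) * q * c ^ 2 : ℕ) : ℂ) := by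
      have hq0 : (q : ℂ) ≠ 0 := Nat.cast_ne_zero.mpr (by omega)
      simp only [map_one, map_neg] at h5
      push_cast at h5 ⊢
      have e4 : (q : ℂ) + 2 - 2 = (q : ℂ) := by ring
      rw [e4] at h5
      field_simp at h5
      linear_combination h5
    have h7 : (q + 1) * Nat.card G = (q + 2) * q * c ^ 2 := by exact_mod_cast h6
    rw [show q + 2 - 1 = q + 1 by omega, Nat.add_sub_cancel]
    exact h7

end H18.TwiceP
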