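import Cfsg.Agent.H18.FixedExtensionGlue

set_option autoImplicit false
open Cfsg
open scoped ComplexConjugate

namespace H18

universe u

variable {G : Type u} [Group G] [Fintype G]

theorem pow_mul_self_mem_of_inverting (N : Subgroup G) [N.Normal] (hodd : Odd N.index) (k : ℕ)
    (hk₂ : ∀ g : G, Odd (orderOf g) → g ^ k = g⁻¹) (g : G) : g ^ k * g ∈ N := by
  obtain ⟨a, m, hm, hg⟩ := Nat.exists_eq_two_pow_mul_odd (orderOf_pos g).ne'
  have h1 : orderOf (g ^ 2 ^ a) = m := by
    rw [orderOf_pow_of_dvd (by positivity) (hg ▸ dvd_mul_right _ _), hg,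
      Nat.mul_div_cancel_left _ (by positivity)]
  have h2 := hk₂ _ (h1.symm ▸ hm)
  have h3 : (g ^ k * g) ^ 2 ^ a = 1 := by
    rw [← pow_succ, ← pow_mul, mul_comm, pow_mul, pow_succ, h2, inv_mul_cancel]
  rw [← QuotientGroup.eq_one_iff]
  set q : G ⧸ N := ((g ^ k * g : G) : G ⧸ N)
  have h4 : q ^ 2 ^ a = 1 := by
    rw [← QuotientGroup.mk_pow, h3, QuotientGroup.mk_one]
  have h5 : orderOf q ∣ N.index := by
    rw [Subgroup.index_eq_card]; exact orderOf_dvd_natCard q
  have h6 : Nat.Coprime (2 ^ a) N.index := (Nat.coprime_two_left.mpr hodd).pow_left a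
  exact orderOf_eq_one_iff.mp
    (Nat.eq_one_of_dvd_coprimes h6 (orderOf_dvd_of_pow_eq_one h4) h5)

theorem indFun_comp_pow (T : Subgroup G) {ψ : T → ℂ} (hψ : IsCharacter T ψ) {k : ℕ}
    (hk : Nat.Coprime k (Nat.card G)) (g : G) :
    indFun T (fun t => ψ (t ^ k)) g = indFun T ψ (g ^ k) := by
  obtain ⟨σ, hσ⟩ := H25.exists_ringEquiv_pow_rootOfUnity (Nat.card G) k Nat.card_pos hk
  rw [← H25.map_character_apply (H13.isCharacter_indFun T hψ) σ k hσ g]
  have hσT : ∀ z : ℂ, z ^ Nat.card T = 1 → σ z = z ^ k := by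
    intro z hz
    obtain ⟨c, hc⟩ := Subgroup.card_subgroup_dvd_card T
    exact hσ z (by rw [hc, pow_mul, hz, one_pow])
  simp only [indFun, map_mul, map_inv₀, map_natCast, map_sum]
  congr 1
  refine Finset.sum_congr rfl fun x _ => ?_
  by_cases hx : x⁻¹ * g * x ∈ T
  · rw [H13.extendByZero_mem T _ hx, H13.extendByZero_mem T _ hx]
    exact (H25.map_character_apply hψ σ k hσT _).symm
  · rw [H13.extendByZero_notMem T _ hx, H13.extendByZero_notMem T _ hx, map_zero]

/-- Over a fixed character of a normal subgroup with quotient of odd order lies exactly one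
fixed character. -/
theorem existsUnique_fixed_over (N : Subgroup G) [hN : N.Normal] [Fintype N] (hodd : Odd N.index)
    {k : ℕ} (hk : Nat.Coprime k (Nat.card G)) (hkinv : ∀ g : G, g ^ k * g ∈ N) {θ : N → ℂ}
    (hθ : IsIrrCharacter N θ) (hfix : ∀ n : N, θ (n ^ k) = θ n) :
    ∃! χ : IrrCharacter G, classInner (fun n : N => (χ : G → ℂ) n) θ ≠ 0 ∧
      ∀ g, (χ : G → ℂ) (g ^ k) = (χ : G → ℂ) g := by
  classical
  set T := H13.inertia N θ with hT
  have hNT : N ≤ T :=
    H13.le_inertia N (H12.IsCharacter.isClassFunction (H12.isCharacter_of_isIrrCharacter hθ))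
  haveI : Fintype T := Fintype.ofFinite _
  haveI : Fintype (N.subgroupOf T) := Fintype.ofFinite _
  set e := Subgroup.subgroupOfEquivOfLe hNT
  have hθ' := H13.isIrrCharacter_comp_equiv e hθ
  have hodd' : Odd (N.subgroupOf T).index :=
    hodd.of_dvd_nat (Subgroup.relIndex_dvd_index_of_normal N T)
  have hinv' : ∀ t, H13.twist (N.subgroupOf T) t (θ ∘ e) = θ ∘ e := fun t =>
    funext fun n => congrFun ((H13.mem_inertia N).mp t.2) (e n)
  have hkT : Nat.Coprime k (Nat.card T) :=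
    hk.coprime_dvd_right (Subgroup.card_subgroup_dvd_card T)
  have hfix' : ∀ n : N.subgroupOf T, (θ ∘ e) (n ^ k) = (θ ∘ e) n := fun n => by
    simp only [Function.comp_apply, map_pow, hfix]
  obtain ⟨ψ, hψfix, hψres⟩ := exists_extension_of_invariant hθ' hodd' hinv' hkT
    (fun t => hkinv t) hfix'
  have hψθ : classInner (H13.resTo hNT (ψ : T → ℂ)) θ ≠ 0 := by
    rw [← classInner_subgroupOf hNT, show (fun n : N.subgroupOf T => (ψ : T → ℂ) n) = θ ∘ e from
      funext hψres]
    have h1 : classInner (θ ∘ e) (θ ∘ e) = 1 := H12.classInner_irr_self ⟨_, hθ'⟩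
    rw [h1]; exact one_ne_zero
  obtain ⟨hirr, hmult⟩ := H13.clifford_correspondence N hθ hT hNT ψ.2 hψθ
  refine ⟨⟨_, hirr⟩, ⟨?_, ?_⟩, ?_⟩
  · change classInner (fun n : N => indFun T (ψ : T → ℂ) n) θ ≠ 0
    rw [hmult]; exact hψθ
  · intro g
    change indFun T (ψ : T → ℂ) (g ^ k) = indFun T (ψ : T → ℂ) g
    rw [← indFun_comp_pow T (H12.isCharacter_irr ψ) hk g]
    simp only [hψfix]
  · rintro χ' ⟨hne, hfixχ⟩
    obtain ⟨ψ', hψ', hψ'θ, hind⟩ :=
      H13.clifford_correspondence_exists N hθ hT hNT χ'.2 hne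
    have hpow := H25.isIrrCharacter_comp_pow hψ' hkT
    have hpowθ : classInner (H13.resTo hNT (fun t : T => ψ' (t ^ k))) θ ≠ 0 := by
      have h1 : H13.resTo hNT (fun t : T => ψ' (t ^ k)) =
          fun n : N => H13.resTo hNT ψ' (n ^ k) := funext fun n => rfl
      have h2 : classInner (fun n : N => H13.resTo hNT ψ' (n ^ k)) (fun n : N => θ (n ^ k)) =
          classInner (H13.resTo hNT ψ') θ :=
        H25.classInner_comp_pow (H13.resTo hNT ψ') θ
          (hk.coprime_dvd_right (Subgroup.card_subgroup_dvd_card N))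
      rw [show (fun n : N => θ (n ^ k)) = θ from funext hfix] at h2
      rw [h1, h2]
      exact hψ'θ
    have hψ'fix : (fun t : T => ψ' (t ^ k)) = ψ' := by
      refine H13.clifford_correspondence_inj N hθ hT hNT hpow hψ' hpowθ hψ'θ (funext fun g => ?_)
      rw [indFun_comp_pow T (H12.isCharacter_of_isIrrCharacter hψ') hk g, hind, hfixχ g]
    have h1 := card_fixed_over (N.subgroupOf T) hθ' hodd' hinv' k hkT (fun t => hkinv t) hfix'
    have h2 : (⟨ψ', hψ'⟩ : IrrCharacter T) = ψ := by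
      refine Finset.card_le_one.mp h1.le _ (Finset.mem_filter.mpr ⟨Finset.mem_univ _, ?_,
        fun t => congrFun hψ'fix t⟩) _ (Finset.mem_filter.mpr ⟨Finset.mem_univ _, ?_, hψfix⟩)
      · rw [classInner_subgroupOf hNT]; exact hψ'θ
      · rw [classInner_subgroupOf hNT]; exact hψθ
    refine Subtype.ext ?_
    change (χ' : G → ℂ) = indFun T (ψ : T → ℂ)
    rw [← hind, ← h2]

end H18
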