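import Cfsg.Agent.H18.FixedExtension

set_option autoImplicit false
open Cfsg
open scoped ComplexConjugate commutatorElement

namespace H18

universe u

variable {G : Type u} [Group G] [Fintype G] (N : Subgroup G) [hN : N.Normal] [Fintype N]

/-- `η` is a `k`-fixed extension of `θ` to `K`. -/
def IsFixExt (k : ℕ) (θ : N → ℂ) (K : Subgroup G) (η : K → ℂ) : Prop :=
  IsIrrCharacter K η ∧ (∀ x : K, η (x ^ k) = η x) ∧
    ∀ (n : N) (h : (n : G) ∈ K), η ⟨n, h⟩ = θ n

variable {N} {θ : N → ℂ} {k : ℕ}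

theorem IsFixExt.restr {K : Subgroup G} {η : K → ℂ} (h : IsFixExt N k θ K η) (hNK : N ≤ K) :
    H13.resTo hNK η = θ :=
  funext fun n => h.2.2 n (hNK n.2)

theorem isFixExt_self (hθ : IsIrrCharacter N θ) (hfix : ∀ n : N, θ (n ^ k) = θ n) :
    IsFixExt N k θ N θ :=
  ⟨hθ, hfix, fun n h => congrArg θ (Subtype.ext rfl)⟩

/-- Pulling back a fixed extension along a conjugation. -/
theorem IsFixExt.conj {K K' : Subgroup G} {η' : K' → ℂ} (h : IsFixExt N k θ K' η')
    (hθ : IsIrrCharacter N θ) (hinv : ∀ g, H13.twist N g θ = θ) (hNK : N ≤ K) (c : G)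
    (hc : ∀ x : K, c * x * c⁻¹ ∈ K') :
    IsFixExt N k θ K (fun x => η' ⟨c * x * c⁻¹, hc x⟩) := by
  classical
  let ι : K →* K' :=
    { toFun := fun x => ⟨c * x * c⁻¹, hc x⟩
      map_one' := Subtype.ext (by simp)
      map_mul' := fun a b => Subtype.ext (by simp [mul_assoc]) }
  have hres : ∀ (n : N) (hn : (n : G) ∈ K), η' (ι ⟨n, hn⟩) = θ n := by
    intro n hn
    rw [← congrFun (hinv c) n, H13.twist_apply]
    exact h.2.2 ⟨c * n * c⁻¹, hN.conj_mem n n.2 c⟩ _
  refine ⟨?_, fun x => ?_, hres⟩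
  · refine irr_of_comp_irr (Subgroup.inclusion hNK)
      (H12.IsCharacter.comp (H12.isCharacter_of_isIrrCharacter h.1) ι) hθ ?_
    funext n
    exact hres n _
  · change η' (ι (x ^ k)) = η' (ι x)
    rw [map_pow]
    exact h.2.1 (ι x)

variable (hθ : IsIrrCharacter N θ) (hodd : Odd N.index) (hinv : ∀ g, H13.twist N g θ = θ)
  (hk : Nat.Coprime k (Nat.card G)) (hkinv : ∀ g : G, g ^ k * g ∈ N)
  (hfix : ∀ n : N, θ (n ^ k) = θ n)

theorem classInner_subgroupOf {K : Subgroup G} [Fintype K] (hNK : N ≤ K)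
    [Fintype (N.subgroupOf K)] (η : K → ℂ) :
    classInner (fun n : N.subgroupOf K => η n) (θ ∘ Subgroup.subgroupOfEquivOfLe hNK) =
      classInner (H13.resTo hNK η) θ := by
  have hres : (fun n : N.subgroupOf K => η n) =
      H13.resTo hNK η ∘ Subgroup.subgroupOfEquivOfLe hNK := funext fun n => rfl
  rw [hres]
  exact H13.classInner_comp_equiv _ _ _

include hθ hodd hinv hk hkinv hfix

theorem IsFixExt.unique {K : Subgroup G} (hNK : N ≤ K) {η η' : K → ℂ}
    (h : IsFixExt N k θ K η) (h' : IsFixExt N k θ K η') : η = η' := by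
  classical
  haveI : Fintype (N.subgroupOf K) := Fintype.ofFinite _
  set e := Subgroup.subgroupOfEquivOfLe hNK
  have hodd' : Odd (N.subgroupOf K).index :=
    hodd.of_dvd_nat (Subgroup.relIndex_dvd_index_of_normal N K)
  have hinv' : ∀ g, H13.twist (N.subgroupOf K) g (θ ∘ e) = θ ∘ e := fun g =>
    funext fun n => congrFun (hinv (g : G)) (e n)
  have h1 := card_fixed_over (N.subgroupOf K) (H13.isIrrCharacter_comp_equiv e hθ) hodd' hinv' k
    (hk.coprime_dvd_right (Subgroup.card_subgroup_dvd_card K)) (fun g => hkinv g)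
    (fun n => by simp only [Function.comp_apply, map_pow, hfix])
  have hmem : ∀ (φ : K → ℂ) (hφ : IsFixExt N k θ K φ),
      (⟨φ, hφ.1⟩ : IrrCharacter K) ∈ Finset.univ.filter fun χ : IrrCharacter K =>
        classInner (fun n : N.subgroupOf K => (χ : K → ℂ) n) (θ ∘ e) ≠ 0 ∧
          ∀ g, (χ : K → ℂ) (g ^ k) = (χ : K → ℂ) g := by
    intro φ hφ
    rw [Finset.mem_filter]
    refine ⟨Finset.mem_univ _, ?_, hφ.2.1⟩
    have h1' : classInner θ θ = 1 := H12.classInner_irr_self ⟨θ, hθ⟩
    rw [classInner_subgroupOf hNK, IsFixExt.restr hφ hNK, h1']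
    exact one_ne_zero
  exact congrArg Subtype.val (Finset.card_le_one.mp h1.le _ (hmem η h) _ (hmem η' h'))

theorem IsFixExt.step {M K : Subgroup G} (hNM : N ≤ M) (hMK : M ≤ K)
    [(M.subgroupOf K).Normal] (hp : (M.subgroupOf K).index.Prime) {η : M → ℂ}
    (h : IsFixExt N k θ M η) : ∃ ζ : K → ℂ, IsFixExt N k θ K ζ := by
  classical
  haveI : Fintype (M.subgroupOf K) := Fintype.ofFinite _
  set e := Subgroup.subgroupOfEquivOfLe hMK
  have hinv' : ∀ g, H13.twist (M.subgroupOf K) g (η ∘ e) = η ∘ e := by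
    intro g
    funext m
    have hc : ∀ x : M, (g : G) * x * (g : G)⁻¹ ∈ M := fun x =>
      (inferInstance : (M.subgroupOf K).Normal).conj_mem ⟨x, hMK x.2⟩ x.2 g
    exact congrFun (IsFixExt.unique hθ hodd hinv hk hkinv hfix hNM
      (IsFixExt.conj h hθ hinv hNM g hc) h) (e m)
  have hodd' : Odd (M.subgroupOf K).index :=
    hodd.of_dvd_nat ((Subgroup.relIndex_dvd_of_le_left K hNM).trans
      (Subgroup.relIndex_dvd_index_of_normal N K))
  have h1 := card_fixed_over (M.subgroupOf K) (H13.isIrrCharacter_comp_equiv e h.1) hodd' hinv' k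
    (hk.coprime_dvd_right (Subgroup.card_subgroup_dvd_card K)) (fun g => hNM (hkinv g))
    (fun m => by simp only [Function.comp_apply, map_pow, h.2.1])
  obtain ⟨χ, hχ⟩ := Finset.card_pos.mp (by rw [h1]; exact one_pos :
    0 < (Finset.univ.filter fun χ : IrrCharacter K =>
      classInner (fun n : M.subgroupOf K => (χ : K → ℂ) n) (η ∘ e) ≠ 0 ∧
        ∀ g, (χ : K → ℂ) (g ^ k) = (χ : K → ℂ) g).card)
  rw [Finset.mem_filter] at hχ
  have h2 := res_eq_of_prime_index (M.subgroupOf K) hp (H13.isIrrCharacter_comp_equiv e h.1)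
    hinv' χ hχ.2.1
  refine ⟨χ, χ.2, hχ.2.2, fun n hn => ?_⟩
  have h3 := congrFun h2 ⟨⟨n, hn⟩, hNM n.2⟩
  exact h3.trans (h.2.2 n _)

theorem exists_fixExt (E : Subgroup G) (hE : Group.IsSolvable E) :
    ∃ η : (E ⊔ N : Subgroup G) → ℂ, IsFixExt N k θ (E ⊔ N) η := by
  classical
  induction hc : Nat.card E using Nat.strong_induction_on generalizing E with
  | _ c ih =>
  rcases subsingleton_or_nontrivial E with hs | hs
  · have : E ⊔ N = N := by
      rw [(Subgroup.eq_bot_iff_forall E).mpr fun x hx => congrArg Subtype.val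
        (Subsingleton.elim (⟨x, hx⟩ : E) 1), bot_sup_eq]
    rw [this]
    exact ⟨θ, isFixExt_self hθ hfix⟩
  haveI := hE
  obtain ⟨F, hFn, hFp⟩ := exists_normal_index_prime E
  set F' := F.map E.subtype with hF'
  have hF'E : F' ≤ E := Subgroup.map_subtype_le _
  have hFlt : Nat.card F' < c := by
    rw [← hc, hF', Subgroup.card_map_of_injective Subtype.val_injective, ← F.card_mul_index]
    exact lt_mul_of_one_lt_right Nat.card_pos hFp.one_lt
  obtain ⟨η, hη⟩ := ih _ hFlt F'
    (Group.isSolvable_of_isSolvable_injective (Subgroup.inclusion_injective hF'E)) rfl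
  set M := F' ⊔ N with hM
  set K := E ⊔ N with hK
  have hMK : M ≤ K := sup_le_sup_right hF'E N
  haveI hMn : (M.subgroupOf K).Normal := by
    refine Subgroup.normal_subgroupOf_iff_le_normalizer hMK |>.mpr ?_
    refine sup_le ?_ ?_
    · intro g hg
      rw [Subgroup.mem_normalizer_iff_map_conj_eq, hM, Subgroup.map_sup,
        Subgroup.Normal.map_conj_eq N g]
      congr 1
      haveI : F.Normal := hFn
      refine Subgroup.eq_of_le_of_card_ge ?_ (le_of_eq
        (Subgroup.card_map_of_injective (MulAut.conj g).injective).symm)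
      rintro _ ⟨x, ⟨y, hy, rfl⟩, rfl⟩
      exact ⟨⟨g, hg⟩ * y * ⟨g, hg⟩⁻¹, Subgroup.Normal.conj_mem inferInstance y hy _, rfl⟩
    · exact (le_sup_right : N ≤ M).trans Subgroup.le_normalizer
  haveI : F.Normal := hFn
  let φ : E →* K ⧸ M.subgroupOf K :=
    (QuotientGroup.mk' _).comp (Subgroup.inclusion (le_sup_left : E ≤ K))
  have hker : F ≤ φ.ker := fun x hx =>
    (QuotientGroup.eq_one_iff _).mpr (Subgroup.mem_subgroupOf.mpr
      (Subgroup.mem_sup_left (⟨x, hx, rfl⟩ : (x : G) ∈ F')))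
  have hsurj : Function.Surjective φ := by
    intro z
    obtain ⟨⟨x, hx⟩, rfl⟩ := QuotientGroup.mk'_surjective _ z
    obtain ⟨a, ha, b, hb, rfl⟩ := Subgroup.mem_sup_of_normal_right.mp hx
    refine ⟨⟨a, ha⟩, ?_⟩
    apply QuotientGroup.eq.mpr
    rw [Subgroup.mem_subgroupOf]
    simpa using (Subgroup.mem_sup_right hb : b ∈ M)
  have hdvd : (M.subgroupOf K).index ∣ F.index := by
    have h1 : φ.ker.index = (M.subgroupOf K).index := by
      rw [Subgroup.index_ker, MonoidHom.range_eq_top.mpr hsurj, Subgroup.card_top,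
        Subgroup.index_eq_card]
    rw [← h1]
    exact Subgroup.index_dvd_of_le hker
  rcases hFp.eq_one_or_self_of_dvd _ hdvd with h1 | h1
  · have : M = K := le_antisymm hMK (Subgroup.relIndex_eq_one.mp h1)
    exact ⟨_, IsFixExt.conj hη hθ hinv le_sup_right 1 (fun x => by
      show (1 : G) * (x : G) * 1⁻¹ ∈ M
      rw [one_mul, inv_one, mul_one, this]; exact x.2)⟩
  · exact IsFixExt.step hθ hodd hinv hk hkinv hfix le_sup_right hMK (h1 ▸ hFp) hη

theorem exists_extension_of_invariant :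
    ∃ χ : IrrCharacter G, (∀ g, (χ : G → ℂ) (g ^ k) = (χ : G → ℂ) g) ∧
      ∀ n : N, (χ : G → ℂ) n = θ n := by
  classical
  let K : G → Subgroup G := fun g => Subgroup.zpowers g ⊔ N
  have hex : ∀ g, ∃ η : K g → ℂ, IsFixExt N k θ (K g) η := fun g =>
    exists_fixExt hθ hodd hinv hk hkinv hfix _
      (by
        letI : CommGroup (Subgroup.zpowers g) := IsCyclic.commGroup
        infer_instance)
  choose η hη using hex
  have hgK : ∀ g, g ∈ K g := fun g => Subgroup.mem_sup_left (Subgroup.mem_zpowers g)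
  let f : G → ℂ := fun g => η g ⟨g, hgK g⟩
  have hval : ∀ (K' : Subgroup G), N ≤ K' → ∀ (ζ : K' → ℂ), IsFixExt N k θ K' ζ →
      ∀ (g : G) (hg : g ∈ K'), f g = ζ ⟨g, hg⟩ := by
    intro K' hK' ζ hζ g hg
    have hle : K g ≤ K' := sup_le (Subgroup.zpowers_le.mpr hg) hK'
    have h1 := IsFixExt.unique hθ hodd hinv hk hkinv hfix le_sup_right (hη g)
      (IsFixExt.conj hζ hθ hinv le_sup_right 1 (fun x => by simpa using hle x.2))
    refine (congrFun h1 ⟨g, hgK g⟩).trans (congrArg ζ (Subtype.ext ?_))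
    simp
  have hcl : IsClassFunction G f := by
    intro g c
    have hc : ∀ x : K g, c * x * c⁻¹ ∈ K (c * g * c⁻¹) := by
      intro x
      have h1 : (K g).map (MulAut.conj c).toMonoidHom = K (c * g * c⁻¹) := by
        simp only [K, Subgroup.map_sup, MonoidHom.map_zpowers]
        rw [show N.map (MulAut.conj c).toMonoidHom = N from Subgroup.Normal.map_conj_eq N c]
        simp [MulAut.conj_apply]
      rw [← h1]
      exact ⟨x, x.2, rfl⟩
    exact (hval (K g) le_sup_right _
      (IsFixExt.conj (hη (c * g * c⁻¹)) hθ hinv le_sup_right c hc) g (hgK g)).symm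
  have hfk : ∀ g, f (g ^ k) = f g := fun g => by
    rw [hval (K g) le_sup_right (η g) (hη g) (g ^ k) (Subgroup.pow_mem _ (hgK g) k)]
    exact (hη g).2.1 ⟨g, hgK g⟩
  have hfN : ∀ n : N, f n = θ n := fun n =>
    (hval N le_rfl θ (isFixExt_self hθ hfix) n n.2)
  have hNc : (Nat.card N : ℂ) ≠ 0 := by exact_mod_cast Nat.card_pos.ne'
  have hcoset : ∀ g : G, ∑ n : N, f (g * n) * conj (f (g * n)) = (Nat.card N : ℂ) := by
    intro g
    haveI : Fintype (N.subgroupOf (K g)) := Fintype.ofFinite _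
    haveI hcyc : IsMulCommutative ((K g) ⧸ N.subgroupOf (K g)) := by
      refine Subgroup.Normal.quotient_commutative_iff_commutator_le.mpr ?_
      rw [commutator_def, Subgroup.commutator_le]
      have hq : ∀ x : K g, ∃ i : ℤ, QuotientGroup.mk' N (x : G) = (QuotientGroup.mk' N g) ^ i := by
        intro x
        obtain ⟨a, ha, b, hb, hab⟩ := Subgroup.mem_sup_of_normal_right.mp x.2
        obtain ⟨i, rfl⟩ := Subgroup.mem_zpowers_iff.mp ha
        refine ⟨i, ?_⟩
        rw [← hab, map_mul, map_zpow, show QuotientGroup.mk' N b = 1 from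
          (QuotientGroup.eq_one_iff b).mpr hb, mul_one]
      intro a _ b _
      obtain ⟨i, hi⟩ := hq a
      obtain ⟨j, hj⟩ := hq b
      rw [Subgroup.mem_subgroupOf, ← QuotientGroup.eq_one_iff]
      change QuotientGroup.mk' N (⁅a, b⁆ : K g).1 = 1
      rw [show ((⁅a, b⁆ : K g) : G) = ⁅(a : G), (b : G)⁆ from map_commutatorElement (K g).subtype a b,
        map_commutatorElement, commutatorElement_eq_one_iff_commute, hi, hj]
      exact Commute.zpow_zpow (Commute.refl _) i j
    set e := Subgroup.subgroupOfEquivOfLe (le_sup_right : N ≤ K g)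
    have h1 := sum_coset_norm (N.subgroupOf (K g)) ⟨η g, (hη g).1⟩
      (H13.isIrrCharacter_comp_equiv e hθ) (funext fun n => (hη g).2.2 (e n) n.1.2) ⟨g, hgK g⟩
    rw [Nat.card_congr e.toEquiv] at h1
    refine Eq.trans ?_ h1
    refine Fintype.sum_equiv e.symm.toEquiv _ _ fun n => ?_
    rw [hval (K g) le_sup_right (η g) (hη g) (g * n)
      (Subgroup.mul_mem _ (hgK g) (Subgroup.mem_sup_right n.2))]
    rfl
  have hnorm : classInner f f = 1 := by
    have h1 : (Nat.card N : ℂ) * ∑ g : G, f g * conj (f g) =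
        (Nat.card N : ℂ) * (Nat.card G : ℂ) := by
      calc (Nat.card N : ℂ) * ∑ g : G, f g * conj (f g)
          = ∑ n : N, ∑ g : G, f (g * n) * conj (f (g * n)) := by
            have hsh : ∀ n : N, ∑ g : G, f (g * n) * conj (f (g * n)) = ∑ g : G, f g * conj (f g) :=
              fun n => Fintype.sum_equiv (Equiv.mulRight (n : G)) _ (fun g => f g * conj (f g))
                fun g => rfl
            rw [Finset.sum_congr rfl (fun (n : N) _ => hsh n),
              Finset.sum_const, nsmul_eq_mul, Finset.card_univ, ← Nat.card_eq_fintype_card]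
        _ = ∑ g : G, (Nat.card N : ℂ) := by
            rw [Finset.sum_comm]; exact Finset.sum_congr rfl fun g _ => hcoset g
        _ = _ := by
            rw [Finset.sum_const, nsmul_eq_mul, Finset.card_univ, ← Nat.card_eq_fintype_card,
              mul_comm]
    rw [H12.classInner_def, mul_left_cancel₀ hNc h1,
      inv_mul_cancel₀ (by exact_mod_cast Nat.card_pos.ne')]
  have hgen : IsGeneralizedCharacter G f := by
    refine H14.isGeneralizedCharacter_of_elementary f hcl fun E p hp hE => ?_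
    have hsolv : Group.IsSolvable E := by
      obtain ⟨x, hx, -, j, hj⟩ := hE
      haveI : Fact p.Prime := ⟨hp⟩
      haveI hxn : (Subgroup.zpowers x).Normal := ⟨fun y hy z => by
        rw [Subgroup.mem_center_iff.mp (Subgroup.zpowers_le.mpr hx hy) z, mul_inv_cancel_right]
        exact hy⟩
      haveI : Group.IsNilpotent (E ⧸ Subgroup.zpowers x) :=
        (IsPGroup.of_card (n := j) (by rw [← Subgroup.index_eq_card, hj])).isNilpotent
      haveI : Group.IsNilpotent E := Subgroup.isNilpotent_of_ker_le_center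
        (QuotientGroup.mk' (Subgroup.zpowers x))
        (by rw [QuotientGroup.ker_mk']; exact Subgroup.zpowers_le.mpr hx)
      infer_instance
    obtain ⟨ζ, hζ⟩ := exists_fixExt hθ hodd hinv hk hkinv hfix E hsolv
    refine ⟨fun e => ζ (Subgroup.inclusion le_sup_left e), 0,
      H12.IsCharacter.comp (H12.isCharacter_of_isIrrCharacter hζ.1) _, H12.isCharacter_zero, ?_⟩
    rw [sub_zero]
    funext e
    exact hval _ le_sup_right ζ hζ e _
  have h1 : f 1 = θ 1 := by simpa using hfN 1
  rcases H16.norm_one hgen hnorm with h | h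
  · exact ⟨⟨f, h⟩, hfk, hfN⟩
  · exfalso
    have h2 := H12.irr_apply_one ⟨-f, h⟩
    have h3 := H12.irr_apply_one (⟨θ, hθ⟩ : IrrCharacter N)
    change (-f) 1 = _ at h2
    change θ 1 = _ at h3
    rw [Pi.neg_apply, h1, h3] at h2
    have h5 := H12.irr_degree_pos (⟨θ, hθ⟩ : IrrCharacter N)
    have h6 : (H12.degree θ : ℂ) + (H12.degree (-f) : ℂ) = 0 := by
      rw [← h2]; ring
    have h7 : H12.degree θ + H12.degree (-f) = 0 := by exact_mod_cast h6
    change 0 < H12.degree θ at h5
    omega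

end H18
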