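import Cfsg.Agent.H18.FourTransitiveChars

/-!
The standard, pair and exterior square characters of a quadruply transitive group are irreducible.
-/

set_option autoImplicit false
set_option linter.unusedSectionVars false

open Cfsg MulAction
open scoped ComplexConjugate Pointwise

namespace H18

variable {G : Type} [Group G] [Fintype G] {α : Type} [Fintype α] [DecidableEq α] [MulAction G α]

/-- `π - 1`. -/
noncomputable def chStd (G α : Type) [Group G] [MulAction G α] : G → ℂ := fun g => chF G α g - 1

/-- `π₂ - π`. -/
noncomputable def chPair (G α : Type) [Group G] [DecidableEq α] [MulAction G α] : G → ℂ :=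
  fun g => chS G α g - chF G α g

/-- The exterior square of the standard character. -/
noncomputable def chWedge (G α : Type) [Group G] [DecidableEq α] [MulAction G α] : G → ℂ :=
  fun g => chF G α g * chStd G α g - chS G α g - chF G α g + 1

theorem real_permChi (X : Type) [MulAction G X] (g : G) : conj (permChi G X g) = permChi G X g :=
  Complex.conj_natCast _

variable (h4 : IsMultiplyPretransitive G α 4) (hα : 4 ≤ Fintype.card α)
include h4 hα

theorem moments :
    (∑ g : G, chF G α g = Nat.card G) ∧
    (∑ g : G, chF G α g * chF G α g = 2 * (Nat.card G : ℂ)) ∧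
    (∑ g : G, chF G α g * chF G α g * chF G α g = 5 * (Nat.card G : ℂ)) ∧
    (∑ g : G, chF G α g * chF G α g * (chF G α g * chF G α g) = 15 * (Nat.card G : ℂ)) := by
  have d : ∀ g : G, _ := fun g => descFactorial_small (Nat.card (fixedBy α g))
  have e1 := sum_desc h4 hα (j := 1) (by norm_num)
  have e2 := sum_desc h4 hα (j := 2) (by norm_num)
  have e3 := sum_desc h4 hα (j := 3) (by norm_num)
  have e4 := sum_desc h4 hα (j := 4) (by norm_num)
  simp only [fun g => (d g).1] at e1
  simp only [fun g => (d g).2.1] at e2
  simp only [fun g => (d g).2.2.1] at e3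
  simp only [fun g => (d g).2.2.2] at e4
  change ∑ g : G, chF G α g = _ at e1
  change ∑ g : G, chF G α g * (chF G α g - 1) = _ at e2
  change ∑ g : G, chF G α g * (chF G α g - 1) * (chF G α g - 2) = _ at e3
  change ∑ g : G, chF G α g * (chF G α g - 1) * (chF G α g - 2) * (chF G α g - 3) = _ at e4
  generalize chF G α = f at *
  simp only [fun g => show f g * (f g - 1) = f g * f g - f g by ring, Finset.sum_sub_distrib] at e2
  simp only [fun g => show f g * (f g - 1) * (f g - 2) = f g * f g * f g - 3 * (f g * f g) + 2 * f g
    by ring, Finset.sum_sub_distrib, Finset.sum_add_distrib, ← Finset.mul_sum] at e3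
  simp only [fun g => show f g * (f g - 1) * (f g - 2) * (f g - 3) =
    f g * f g * (f g * f g) - 6 * (f g * f g * f g) + 11 * (f g * f g) - 6 * f g by ring,
    Finset.sum_sub_distrib, Finset.sum_add_distrib, ← Finset.mul_sum] at e4
  refine ⟨e1, ?_, ?_, ?_⟩
  · linear_combination e2 + e1
  · linear_combination e3 + 3 * (e2 + e1) - 2 * e1
  · linear_combination e4 + 6 * (e3 + 3 * (e2 + e1) - 2 * e1) - 11 * (e2 + e1) + 6 * e1

theorem pair_sums :
    (∑ g : G, chS G α g = Nat.card G) ∧
    (∑ g : G, chS G α g * chF G α g = 2 * (Nat.card G : ℂ)) ∧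
    (∑ g : G, chS G α g * chS G α g = 3 * (Nat.card G : ℂ)) ∧
    (∑ g : G, chS G α g * (chF G α g * chF G α g) = 6 * (Nat.card G : ℂ)) := by
  have h1 := sum_S (G := G) h4 hα
  have h2 := sum_SF (G := G) h4 hα
  have h3 := sum_SS (G := G) h4 hα
  have h5 := sum_SP (G := G) h4 hα
  simp only [permChi_prod] at h2 h3 h5
  change ∑ g : G, chS G α g * chF G α g = _ at h2
  refine ⟨h1, h2, h3, ?_⟩
  have h6 : ∀ g : G, permChi G (Fin 2 ↪ α) g = chF G α g * chF G α g - chF G α g := fun g => by
    rw [permChi_embedding, (descFactorial_small _).2.1, chF, permChi]; ring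
  simp only [h6, mul_sub, Finset.sum_sub_distrib] at h5
  change ∑ g : G, chS G α g * (chF G α g * chF G α g) - ∑ g : G, chS G α g * chF G α g = _ at h5
  linear_combination h5 + h2

omit h4 hα in
theorem classInner_eq {φ ψ : G → ℂ} {k : ℂ} (hψ : ∀ g, conj (ψ g) = ψ g)
    (h : ∑ g : G, φ g * ψ g = k * (Nat.card G : ℂ)) : classInner φ ψ = k := by
  rw [H12.classInner_def, Finset.sum_congr rfl fun g _ => by rw [hψ g], h, mul_comm k,
    inv_mul_cancel_left₀ H12.card_ne_zero']

theorem isIrr_std_pair_wedge :
    IsIrrCharacter G (chStd G α) ∧ IsIrrCharacter G (chPair G α) ∧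
      IsIrrCharacter G (chWedge G α) := by
  obtain ⟨m1, m2, m3, m4⟩ := moments (G := G) h4 hα
  obtain ⟨s1, s2, s3, s4⟩ := pair_sums (G := G) h4 hα
  have rF : ∀ g, conj (chF G α g) = chF G α g := real_permChi α
  have rS : ∀ g, conj (chS G α g) = chS G α g := real_permChi _
  have rstd : ∀ g, conj (chStd G α g) = chStd G α g := fun g => by simp [chStd, rF]
  have rU : ∀ g, conj (chPair G α g) = chPair G α g := fun g => by simp [chPair, rF, rS]
  have rW : ∀ g, conj (chWedge G α g) = chWedge G α g := fun g => by simp [chWedge, rF, rS, rstd]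
  have hG : (Finset.univ : Finset G).card = Nat.card G := by
    rw [Finset.card_univ, Nat.card_eq_fintype_card]
  have hsum1 : ∑ _g : G, (1 : ℂ) = Nat.card G := by
    rw [Finset.sum_const, hG, nsmul_eq_mul, mul_one]
  have hone : IsIrrCharacter G (fun _ => (1 : ℂ)) := H12.isIrrCharacter_one
  have hF : IsCharacter G (chF G α) := isCharacter_permChi α
  have hS : IsCharacter G (chS G α) := isCharacter_permChi _
  -- the standard character
  have hstdc : IsCharacter G (chStd G α) := by
    refine H13.isCharacter_sub_irr hF hone ?_
    rw [classInner_eq (k := 1) (fun g => map_one conj) (by simpa using m1)]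
    exact one_ne_zero
  have hstd : IsIrrCharacter G (chStd G α) := by
    refine H12.isIrrCharacter_of_classInner_self_eq_one hstdc (classInner_eq rstd ?_)
    simp only [chStd, mul_sub, sub_mul, mul_one, one_mul, Finset.sum_sub_distrib]
    linear_combination m2 - 2 * m1 + hsum1
  -- the pair character
  have hU1 : IsCharacter G (fun g => chS G α g - 1) := by
    refine H13.isCharacter_sub_irr hS hone ?_
    rw [classInner_eq (k := 1) (fun g => map_one conj) (by simpa using s1)]
    exact one_ne_zero
  have hUc : IsCharacter G (chPair G α) := by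
    have h := H13.isCharacter_sub_irr hU1 hstd (by
      rw [classInner_eq (k := 1) rstd (by
        simp only [chStd, mul_sub, sub_mul, mul_one, one_mul, Finset.sum_sub_distrib]
        linear_combination s2 - s1 - m1 + hsum1)]
      exact one_ne_zero)
    have he : chPair G α = (fun g => chS G α g - 1) - chStd G α := by
      funext g; simp [chPair, chStd]
    rw [he]; exact h
  have hU : IsIrrCharacter G (chPair G α) := by
    refine H12.isIrrCharacter_of_classInner_self_eq_one hUc (classInner_eq rU ?_)
    simp only [chPair, mul_sub, sub_mul, Finset.sum_sub_distrib]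
    have s2' : ∑ g : G, chF G α g * chS G α g = 2 * (Nat.card G : ℂ) := by
      rw [← s2]; exact Finset.sum_congr rfl fun g _ => mul_comm _ _
    linear_combination s3 - s2 - s2' + m2
  -- the exterior square
  have hP : IsCharacter G (fun g => chF G α g * chStd G α g) := H12.IsCharacter.mul hF hstdc
  have hW1 : IsCharacter G (fun g => chF G α g * chStd G α g - 1) := by
    refine H13.isCharacter_sub_irr hP hone ?_
    rw [classInner_eq (k := 1) (fun g => map_one conj) (by
      simp only [chStd, mul_sub, mul_one, Finset.sum_sub_distrib]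
      linear_combination m2 - m1)]
    exact one_ne_zero
  have hW2 : IsCharacter G (fun g => chF G α g * chStd G α g - 1 - chStd G α g) := by
    refine H13.isCharacter_sub_irr hW1 hstd ?_
    rw [classInner_eq (k := 2) rstd (by
      simp only [chStd, mul_sub, sub_mul, mul_one, one_mul, Finset.sum_sub_distrib]
      linear_combination m3 - 2 * m2 + hsum1)]
    exact two_ne_zero
  have hW3 : IsCharacter G
      (fun g => chF G α g * chStd G α g - 1 - chStd G α g - chStd G α g) := by
    refine H13.isCharacter_sub_irr hW2 hstd ?_
    rw [classInner_eq (k := 1) rstd (by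
      simp only [chStd, mul_sub, sub_mul, mul_one, one_mul, Finset.sum_sub_distrib]
      linear_combination m3 - 3 * m2 + 2 * m1)]
    exact one_ne_zero
  have hWc : IsCharacter G (chWedge G α) := by
    have h := H13.isCharacter_sub_irr hW3 hU (by
      rw [classInner_eq (k := 1) rU (by
        have e : ∀ g : G, (chF G α g * chStd G α g - 1 - chStd G α g - chStd G α g) * chPair G α g =
            chS G α g * (chF G α g * chF G α g) - 3 * (chS G α g * chF G α g) + chS G α g -
              chF G α g * chF G α g * chF G α g + 3 * (chF G α g * chF G α g) - chF G α g :=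
          fun g => by simp only [chPair, chStd]; ring
        simp only [e, Finset.sum_sub_distrib, Finset.sum_add_distrib, ← Finset.mul_sum]
        linear_combination s4 - 3 * s2 + s1 - m3 + 3 * m2 - m1)]
      exact one_ne_zero)
    have he : chWedge G α =
        (fun g => chF G α g * chStd G α g - 1 - chStd G α g - chStd G α g) - chPair G α := by
      funext g; simp [chWedge, chPair, chStd]; ring
    rw [he]; exact h
  refine ⟨hstd, hU, H12.isIrrCharacter_of_classInner_self_eq_one hWc (classInner_eq rW ?_)⟩
  have e : ∀ g : G, chWedge G α g * chWedge G α g =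
      chF G α g * chF G α g * (chF G α g * chF G α g) - 4 * (chF G α g * chF G α g * chF G α g)
        + 6 * (chF G α g * chF G α g) - 4 * chF G α g + 1
        - 2 * (chS G α g * (chF G α g * chF G α g)) + 4 * (chS G α g * chF G α g)
        - 2 * chS G α g + chS G α g * chS G α g :=
    fun g => by simp only [chWedge, chStd]; ring
  simp only [e, Finset.sum_sub_distrib, Finset.sum_add_distrib, ← Finset.mul_sum]
  linear_combination m4 - 4 * m3 + 6 * m2 - 4 * m1 + hsum1 - 2 * s4 + 4 * s2 - 2 * s1 + s3

end H18
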