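import Cfsg.Agent.H18.SylowExponent
import Cfsg.Agent.H37.SylowTwo
import Mathlib.GroupTheory.SpecificGroups.Quaternion

/-!
Sylow 2-subgroups in which every square lies in the derived subgroup: a criterion, symmetric
groups, and `SL(2, q)`.
-/

set_option autoImplicit false

open scoped commutatorElement

namespace H18

/-- Every square of an element of `H` lies in the derived subgroup of `H`. -/
def SqComm {G : Type*} [Group G] (H : Subgroup G) : Prop := ∀ x ∈ H, x ^ 2 ∈ ⁅H, H⁆

theorem sqComm_iff {G : Type*} [Group G] (H : Subgroup G) :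
    SqComm H ↔ ∀ x : H, x ^ 2 ∈ commutator H := by
  constructor
  · intro h x
    have := h x x.2
    rw [← Subgroup.map_subtype_commutator] at this
    obtain ⟨y, hy, e⟩ := this
    have : y = x ^ 2 := Subtype.ext e
    exact this ▸ hy
  · intro h x hx
    rw [← Subgroup.map_subtype_commutator]
    exact ⟨_, h ⟨x, hx⟩, rfl⟩

theorem SqComm.map {G L : Type*} [Group G] [Group L] (f : G →* L) {H : Subgroup G} (h : SqComm H) :
    SqComm (H.map f) := by
  rintro _ ⟨x, hx, rfl⟩
  rw [← map_pow, ← Subgroup.map_commutator]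
  exact Subgroup.mem_map_of_mem f (h x hx)

theorem SqComm.of_map_injective {G L : Type*} [Group G] [Group L] {f : G →* L}
    (hf : Function.Injective f) {H : Subgroup G} (h : SqComm (H.map f)) : SqComm H := by
  intro x hx
  have := h _ (Subgroup.mem_map_of_mem f hx)
  rw [← map_pow, ← Subgroup.map_commutator] at this
  exact (Subgroup.mem_map_iff_mem hf).mp this

theorem SqComm.of_sylow {G : Type*} [Group G] [Finite G] {p : ℕ} [Fact p.Prime] (P : Sylow p G)
    (h : SqComm (P : Subgroup G)) (Q : Sylow p G) : SqComm (Q : Subgroup G) := by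
  rw [sqComm_iff] at h ⊢
  exact pow_mem_commutator_of_equiv (P.equiv Q) h

theorem commMap_mem_iff {G : Type*} [Group G] (K : Subgroup G) (x : K) :
    x ^ 2 ∈ commutator K ↔ (x : G) ^ 2 ∈ ⁅K, K⁆ := by
  rw [← Subgroup.map_subtype_commutator, ← SubmonoidClass.coe_pow]
  exact (Subgroup.mem_map_iff_mem (f := K.subtype) K.subtype_injective).symm

/-- The elements of `K` whose square lies in the derived subgroup of `K`. -/
noncomputable def sqSub {G : Type*} [Group G] (K : Subgroup G) : Subgroup G :=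
  (((powMonoidHom 2).comp Abelianization.of : K →* Abelianization K).ker).map K.subtype

theorem mem_sqSub {G : Type*} [Group G] (K : Subgroup G) (x : G) :
    x ∈ sqSub K ↔ x ∈ K ∧ x ^ 2 ∈ ⁅K, K⁆ := by
  have key : ∀ y : K, y ∈ ((powMonoidHom 2).comp Abelianization.of : K →* Abelianization K).ker ↔
      (y : G) ^ 2 ∈ ⁅K, K⁆ := fun y => by
    rw [MonoidHom.mem_ker, MonoidHom.comp_apply, powMonoidHom_apply, ← map_pow,
      ← MonoidHom.mem_ker, Abelianization.ker_of, commMap_mem_iff]
  constructor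
  · rintro ⟨y, hy, rfl⟩
    exact ⟨y.2, (key y).mp hy⟩
  · rintro ⟨h1, h2⟩
    exact ⟨⟨x, h1⟩, (key ⟨x, h1⟩).mpr h2, rfl⟩

theorem sqComm_sup {G : Type*} [Group G] (A B : Subgroup G)
    (hA : ∀ a ∈ A, a ^ 2 ∈ ⁅A ⊔ B, A ⊔ B⁆) (hB : ∀ b ∈ B, b ^ 2 ∈ ⁅A ⊔ B, A ⊔ B⁆) :
    SqComm (A ⊔ B) := by
  have h : A ⊔ B ≤ sqSub (A ⊔ B) := sup_le
    (fun a ha => (mem_sqSub _ _).mpr ⟨Subgroup.mem_sup_left ha, hA a ha⟩)
    (fun b hb => (mem_sqSub _ _).mpr ⟨Subgroup.mem_sup_right hb, hB b hb⟩)
  exact fun x hx => ((mem_sqSub _ _).mp (h hx)).2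

/-- A criterion: a semidirect product `A B` of full 2-power order. -/
theorem sqComm_sylow_of_semidirect {G L : Type*} [Group G] [Finite G] [Group L] [Finite L]
    (j : G →* L) (hj : Function.Injective j) (A B : Subgroup L) (hAj : A ≤ j.range) (hBj : B ≤ j.range)
    (hA2 : IsPGroup 2 A) (hB2 : IsPGroup 2 B) (hBA : B ≤ Subgroup.normalizer (A : Set L))
    (hdisj : A ⊓ B = ⊥)
    (hcard : Nat.card A * Nat.card B = 2 ^ (Nat.card G).factorization 2)
    (hAsq : ∀ a ∈ A, a ^ 2 ∈ ⁅A ⊔ B, A ⊔ B⁆) (hBsq : ∀ b ∈ B, b ^ 2 ∈ ⁅A ⊔ B, A ⊔ B⁆)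
    (P : Sylow 2 G) : SqComm (P : Subgroup G) := by
  haveI : Fact (Nat.Prime 2) := ⟨Nat.prime_two⟩
  let K := (A ⊔ B).comap j
  have hmap : K.map j = A ⊔ B := Subgroup.map_comap_eq_self (sup_le hAj hBj)
  have hK2 : IsPGroup 2 K :=
    (IsPGroup.to_sup_of_normal_left' hA2 hB2 hBA).comap_of_injective j hj
  have hle : 2 ^ (Nat.card G).factorization 2 ≤ Nat.card K := by
    rw [Nat.card_congr (K.equivMapOfInjective j hj).toEquiv, hmap, ← hcard, ← Nat.card_prod]
    refine Nat.card_le_card_of_injective (fun x : A × B =>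
      (⟨(x.1 : L) * x.2, Subgroup.mul_mem_sup x.1.2 x.2.2⟩ : ↥(A ⊔ B))) ?_
    intro x y h
    exact Subgroup.mul_injective_of_disjoint (disjoint_iff.mpr hdisj) (congrArg Subtype.val h)
  obtain ⟨Q, hQ⟩ := hK2.exists_le_sylow
  have hQK : K = (Q : Subgroup G) := Subgroup.eq_of_le_of_card_ge hQ (by
    rw [Q.card_eq_multiplicity]; exact hle)
  refine SqComm.of_sylow Q (hQK ▸ SqComm.of_map_injective hj ?_) P
  rw [hmap]
  exact sqComm_sup A B hAsq hBsq

theorem sqComm_sylow_perm {α : Type*} [Fintype α] (P : Sylow 2 (Equiv.Perm α)) :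
    SqComm (P : Subgroup (Equiv.Perm α)) := by
  classical
  haveI : Fact (Nat.Prime 2) := ⟨Nat.prime_two⟩
  obtain ⟨S, hS, hcard⟩ := exists_nice_sylow 2 (Fintype.card α)
  have hP' : SqComm (Subgroup.closure S) := by
    rw [sqComm_iff]
    exact pow_mem_commutator_closure fun s hs => (hS s hs).1
  have hK2 : IsPGroup 2 (Subgroup.closure S) := IsPGroup.of_card hcard
  obtain ⟨Q, hQ⟩ := hK2.exists_le_sylow
  have hQK : Subgroup.closure S = (Q : Subgroup (Equiv.Perm (Fin (Fintype.card α)))) :=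
    Subgroup.eq_of_le_of_card_ge hQ (by
      rw [Q.card_eq_multiplicity, hcard, Nat.card_eq_fintype_card, Fintype.card_perm,
        Fintype.card_fin, ← Nat.factorization_def _ Nat.prime_two])
  let e : Equiv.Perm (Fin (Fintype.card α)) ≃* Equiv.Perm α := (Fintype.equivFin α).symm.permCongrHom
  have hQ' : SqComm (Q : Subgroup (Equiv.Perm (Fin (Fintype.card α)))) := hQK ▸ hP'
  let Q' : Sylow 2 (Equiv.Perm α) := Q.mapSurjective (f := e.toMonoidHom) e.surjective
  exact SqComm.of_sylow Q' (hQ'.map e.toMonoidHom) P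

theorem sqComm_quaternion (n : ℕ) (hn : Even n) (x : QuaternionGroup n) :
    x ^ 2 ∈ commutator (QuaternionGroup n) := by
  obtain ⟨k, rfl⟩ := hn
  have h : ∀ i : ZMod (2 * (k + k)), QuaternionGroup.a (i + i) ∈ commutator (QuaternionGroup (k + k)) :=
    fun i => by
      have h1 : ⁅QuaternionGroup.a i, QuaternionGroup.xa (0 : ZMod (2 * (k + k)))⁆ ∈
          commutator (QuaternionGroup (k + k)) :=
        Subgroup.commutator_mem_commutator (Subgroup.mem_top _) (Subgroup.mem_top _)
      convert h1 using 1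
      have h2 : ((2 * (k + k) : ℕ) : ZMod (2 * (k + k))) = 0 := ZMod.natCast_self _
      push_cast at h2
      rw [commutatorElement_def,
        inv_eq_of_mul_eq_one_right (show QuaternionGroup.a i * QuaternionGroup.a (-i) = 1 by
          rw [QuaternionGroup.a_mul_a, add_neg_cancel]; rfl),
        inv_eq_of_mul_eq_one_right (show QuaternionGroup.xa (0 : ZMod (2 * (k + k))) *
            QuaternionGroup.xa ((k + k : ℕ) : ZMod (2 * (k + k))) = 1 by
          rw [QuaternionGroup.xa_mul_xa, QuaternionGroup.one_def]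
          congr 1
          push_cast
          linear_combination h2),
        QuaternionGroup.a_mul_xa, QuaternionGroup.xa_mul_a, QuaternionGroup.xa_mul_xa]
      congr 1
      push_cast
      linear_combination -h2
  rcases x with i | i
  · rw [pow_two, QuaternionGroup.a_mul_a]
    exact h i
  · rw [pow_two, QuaternionGroup.xa_mul_xa]
    convert h (k : ZMod (2 * (k + k))) using 2
    push_cast
    ring

theorem sqComm_sylow_sl2 {F : Type*} [Field F] [Fintype F] (hF : Odd (Fintype.card F))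
    (P : Sylow 2 (Matrix.SpecialLinearGroup (Fin 2) F)) :
    SqComm (P : Subgroup (Matrix.SpecialLinearGroup (Fin 2) F)) := by
  obtain ⟨p, hp⟩ := CharP.exists F
  obtain ⟨m, hpp, hcard⟩ := FiniteField.card F p
  haveI : Fact p.Prime := ⟨hpp⟩
  have hp2 : p ≠ 2 := by
    rintro rfl
    rw [hcard, Nat.odd_pow_iff m.pos.ne'] at hF
    exact absurd hF (by decide)
  obtain ⟨k, hk, ⟨e⟩⟩ := H37.sylow_two_quaternion p hp2 P
  rw [sqComm_iff]
  exact pow_mem_commutator_of_equiv e.symm
    (sqComm_quaternion _ (Nat.even_pow.mpr ⟨even_two, by omega⟩))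

end H18
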