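import Cfsg.Agent.H18.OctonionOrbit
import Cfsg.Agent.H18.SquaresTwo
import Cfsg.Agent.H86.Sylow
import Cfsg.Agent.H40.PrimeOrderMaps

/-!
A Sylow 2-subgroup of `G₂(q)`, `q` odd, has elementary abelian commutator quotient.
-/

set_option autoImplicit false
set_option linter.unusedSectionVars false

open Matrix Cfsg.Lie
open scoped commutatorElement

namespace H18

variable {F : Type*} [Field F] [Fintype F]

theorem sqComm_sylow_prod {G L : Type*} [Group G] [Finite G] [Group L] [Finite L]
    (hG : ∀ P : Sylow 2 G, SqComm (P : Subgroup G)) (hL : ∀ P : Sylow 2 L, SqComm (P : Subgroup L))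
    (P : Sylow 2 (G × L)) : SqComm (P : Subgroup (G × L)) := by
  haveI : Fact (Nat.Prime 2) := ⟨Nat.prime_two⟩
  let A : Sylow 2 G := default
  let B : Sylow 2 L := default
  have hcard : Nat.card ((A : Subgroup G).prod (B : Subgroup L)) =
      2 ^ (Nat.card (G × L)).factorization 2 := by
    rw [Nat.card_congr (Subgroup.prodEquiv _ _).toEquiv, Nat.card_prod, A.card_eq_multiplicity,
      B.card_eq_multiplicity, ← pow_add, Nat.card_prod,
      Nat.factorization_mul Nat.card_pos.ne' Nat.card_pos.ne', Finsupp.add_apply]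
  obtain ⟨S, hS⟩ := (IsPGroup.of_card hcard).exists_le_sylow
  have hSe : (A : Subgroup G).prod (B : Subgroup L) = (S : Subgroup (G × L)) :=
    Subgroup.eq_of_le_of_card_ge hS (by rw [S.card_eq_multiplicity, hcard])
  refine SqComm.of_sylow S ?_ P
  rw [← hSe, show (A : Subgroup G).prod (B : Subgroup L) =
      (A : Subgroup G).map (MonoidHom.inl G L) ⊔ (B : Subgroup L).map (MonoidHom.inr G L) from ?_]
  · exact sqComm_sup _ _
      (fun a ha => Subgroup.commutator_mono le_sup_left le_sup_left ((hG A).map _ a ha))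
      (fun b hb => Subgroup.commutator_mono le_sup_right le_sup_right ((hL B).map _ b hb))
  · refine le_antisymm (fun x hx => ?_) (sup_le ?_ ?_)
    · rw [show x = (x.1, 1) * (1, x.2) by simp]
      exact Subgroup.mul_mem_sup ⟨x.1, hx.1, rfl⟩ ⟨x.2, hx.2, rfl⟩
    · rintro _ ⟨a, ha, rfl⟩; exact ⟨ha, one_mem _⟩
    · rintro _ ⟨b, hb, rfl⟩; exact ⟨one_mem _, hb⟩

/-- The embedding of two copies of `SL(2)`. -/
noncomputable def slPair : SpecialLinearGroup (Fin 2) F × SpecialLinearGroup (Fin 2) F →* detPair F :=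
  ((SpecialLinearGroup.toGL : SpecialLinearGroup (Fin 2) F →* GL (Fin 2) F).prodMap
    (SpecialLinearGroup.toGL : SpecialLinearGroup (Fin 2) F →* GL (Fin 2) F)).codRestrict (detPair F)
    (fun s => (mem_detPair _).mpr (s.1.2.trans s.2.2.symm))

theorem card_detPair_mul : Nat.card (detPair F) * (Fintype.card F - 1) =
    Nat.card (GL (Fin 2) F) * Nat.card (GL (Fin 2) F) := by
  have h := (detPair F).card_mul_index
  rw [detPair, Subgroup.index_ker, MonoidHom.range_eq_top_of_surjective _ ?_, Subgroup.card_top,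
    Nat.card_units, Nat.card_eq_fintype_card (α := F), Nat.card_prod] at h
  · exact h
  · intro u
    refine ⟨(GeneralLinearGroup.mkOfDetNeZero !![(u : F), 0; 0, 1] (by simp [det_fin_two]), 1), ?_⟩
    rw [MonoidHom.div_apply]
    simp only [MonoidHom.comp_apply, MonoidHom.coe_fst, MonoidHom.coe_snd, map_one, div_one]
    ext
    show (!![(u : F), 0; 0, 1] : Matrix (Fin 2) (Fin 2) F).det = u
    simp [det_fin_two]

theorem card_ker_pairHom : Nat.card (pairHom (F := F)).ker = Fintype.card F - 1 := by
  rw [← Nat.card_eq_fintype_card (α := F), ← Nat.card_units]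
  let f : Fˣ → (pairHom (F := F)).ker := fun t =>
    ⟨⟨(GeneralLinearGroup.scalar (Fin 2) t, GeneralLinearGroup.scalar (Fin 2) t),
      (mem_detPair _).mpr rfl⟩, (pairHom_eq_one_iff _).mpr ⟨t, by
        constructor <;>
        · show Matrix.scalar (Fin 2) (t : F) = _
          ext i j; fin_cases i <;> fin_cases j <;> simp⟩⟩
  refine (Nat.card_congr (Equiv.ofBijective f ⟨fun t t' e => ?_, ?_⟩)).symm
  · have e' := congrArg (fun z : (pairHom (F := F)).ker =>
      ((z.1.1.1 : GL (Fin 2) F) : Matrix (Fin 2) (Fin 2) F) 0 0) e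
    have e'' : (Matrix.scalar (Fin 2) (t : F)) 0 0 = (Matrix.scalar (Fin 2) (t' : F)) 0 0 := e'
    exact Units.ext (by simpa using e'')
  · rintro ⟨⟨⟨h, k⟩, hp⟩, hker⟩
    obtain ⟨t, ht, ht'⟩ := (pairHom_eq_one_iff _).mp hker
    have ht0 : t ≠ 0 := by
      rintro rfl
      have hd := (GeneralLinearGroup.det h).ne_zero
      rw [GeneralLinearGroup.val_det_apply, show ((h : GL (Fin 2) F) : Matrix (Fin 2) (Fin 2) F) = 0 by
        simpa using ht] at hd
      exact hd det_zero
    refine ⟨Units.mk0 t ht0, Subtype.ext (Subtype.ext (Prod.ext ?_ ?_))⟩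
    · refine Units.ext ?_
      show Matrix.scalar (Fin 2) t = _
      rw [ht]; ext i j; fin_cases i <;> fin_cases j <;> simp
    · refine Units.ext ?_
      show Matrix.scalar (Fin 2) t = _
      rw [ht']; ext i j; fin_cases i <;> fin_cases j <;> simp

theorem card_range_pairHom : Nat.card (pairHom (F := F)).range =
    Nat.card (SpecialLinearGroup (Fin 2) F) * Nat.card (SpecialLinearGroup (Fin 2) F) := by
  have h := (pairHom (F := F)).ker.card_mul_index
  rw [Subgroup.index_ker, card_ker_pairHom] at h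
  have hgl : Nat.card (SpecialLinearGroup (Fin 2) F) * (Fintype.card F - 1) = Nat.card (GL (Fin 2) F) :=
    H40.card_SL_mul (F := F) (ι := Fin 2)
  have hd := card_detPair_mul (F := F)
  have hq : 0 < Fintype.card F - 1 := by have := Fintype.one_lt_card (α := F); omega
  rw [← hgl] at hd
  refine Nat.eq_of_mul_eq_mul_left hq (h.trans (Nat.eq_of_mul_eq_mul_right hq ?_))
  rw [hd]; ring

theorem sqComm_sylow_g2 (hodd : Odd (Fintype.card F)) (P : Sylow 2 (G2 F)) :
    SqComm (P : Subgroup (G2 F)) := by
  classical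
  haveI : Fact (Nat.Prime 2) := ⟨Nat.prime_two⟩
  haveI : Finite (G2 F) := inferInstance
  have h2 : (2 : F) ≠ 0 := by
    intro h
    have := FiniteField.even_card_iff_char_two (F := F) |>.mp
      (CharP.ringChar_of_prime_eq_zero Nat.prime_two (by exact_mod_cast h))
    rw [Nat.odd_iff] at hodd
    omega
  set a := (Fintype.card F ^ 2 - 1).factorization 2 with ha
  let K := ((pairHom (F := F)).comp slPair).range
  let I := (pairHom (F := F)).range
  have hKI : K ≤ I := by rintro _ ⟨s, rfl⟩; exact ⟨slPair s, rfl⟩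
  -- an involution of `I` outside `K`
  obtain ⟨δ, hδ⟩ := FiniteField.exists_nonsquare (F := F) (fun h => h2 (by
    have h' := ringChar.Nat.cast_ringChar (R := F)
    rw [h] at h'
    exact_mod_cast h'))
  have hδ0 : δ ≠ 0 := fun h => hδ (h ▸ IsSquare.zero)
  let g : GL (Fin 2) F := GeneralLinearGroup.mkOfDetNeZero !![0, -δ; 1, 0] (by simp [det_fin_two, hδ0])
  let pg : detPair F := ⟨(g, g), (mem_detPair _).mpr rfl⟩
  have hg2 : pairHom pg * pairHom pg = 1 := by
    rw [← map_mul, pairHom_eq_one_iff]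
    refine ⟨-δ, ?_, ?_⟩ <;>
    · show (!![0, -δ; 1, 0] : Matrix (Fin 2) (Fin 2) F) * !![0, -δ; 1, 0] = _
      ext i j; fin_cases i <;> fin_cases j <;> simp [Matrix.mul_apply, Fin.sum_univ_two]
  have hgK : pairHom pg ∉ K := by
    rintro ⟨s, hs⟩
    rw [MonoidHom.comp_apply] at hs
    have h1 : pairHom ((slPair s)⁻¹ * pg) = 1 := by rw [map_mul, map_inv, hs, inv_mul_cancel]
    obtain ⟨t, ht, -⟩ := (pairHom_eq_one_iff _).mp h1
    have hg : (g : Matrix (Fin 2) (Fin 2) F) = t • (s.1 : Matrix (Fin 2) (Fin 2) F) := by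
      have e : (g : GL (Fin 2) F) = SpecialLinearGroup.toGL s.1 *
          ((SpecialLinearGroup.toGL s.1)⁻¹ * g) := by rw [mul_inv_cancel_left]
      rw [e, Units.val_mul]
      have ht' : ((((SpecialLinearGroup.toGL s.1)⁻¹ * g : GL (Fin 2) F)) : Matrix (Fin 2) (Fin 2) F) =
          t • 1 := ht
      rw [ht', Matrix.mul_smul, Matrix.mul_one]
      rfl
    have hd := congrArg Matrix.det hg
    rw [det_smul, s.1.2, mul_one, Fintype.card_fin] at hd
    exact hδ ⟨t, by rw [← pow_two, ← hd]; show δ = (!![0, -δ; 1, 0] : Matrix (Fin 2) (Fin 2) F).det; simp [det_fin_two]⟩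
  -- orders
  have hIcard : (Nat.card I).factorization 2 = 2 * a := by
    rw [card_range_pairHom, Nat.factorization_mul Nat.card_pos.ne' Nat.card_pos.ne', Finsupp.add_apply,
      val_card_sl2 hodd, two_mul]
  have hKcard : 2 * Nat.card K = Nat.card I := by
    have h := ((pairHom (F := F)).comp slPair).ker.card_mul_index
    rw [Subgroup.index_ker, Nat.card_prod] at h
    have hker : Nat.card ((pairHom (F := F)).comp slPair).ker = 2 := by
      rw [Nat.card_eq_two_iff]
      have hm : ((-1 : SpecialLinearGroup (Fin 2) F), (-1 : SpecialLinearGroup (Fin 2) F)) ∈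
          ((pairHom (F := F)).comp slPair).ker :=
        (pairHom_eq_one_iff _).mpr ⟨-1, by
          constructor <;>
          · show (((-1 : SpecialLinearGroup (Fin 2) F)) : Matrix (Fin 2) (Fin 2) F) = _
            simp⟩
      refine ⟨1, ⟨_, hm⟩, fun e => ?_, ?_⟩
      · have e' : ((1 : SpecialLinearGroup (Fin 2) F) : Matrix (Fin 2) (Fin 2) F) 0 0 =
            ((-1 : SpecialLinearGroup (Fin 2) F) : Matrix (Fin 2) (Fin 2) F) 0 0 :=
          congrArg (fun z : ((pairHom (F := F)).comp slPair).ker =>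
            ((z.1.1 : SpecialLinearGroup (Fin 2) F) : Matrix (Fin 2) (Fin 2) F) 0 0) e
        simp at e'
        exact h2 (by linear_combination e')
      · refine Set.eq_univ_of_forall fun z => ?_
        obtain ⟨t, ht, ht'⟩ := (pairHom_eq_one_iff _).mp (show pairHom (slPair z.1) = 1 from z.2)
        have ht1 : (z.1.1 : Matrix (Fin 2) (Fin 2) F) = t • 1 := ht
        have ht2 : (z.1.2 : Matrix (Fin 2) (Fin 2) F) = t • 1 := ht'
        have hd := z.1.1.2
        rw [ht1, det_smul, det_one, mul_one, Fintype.card_fin, sq_eq_one_iff] at hd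
        rcases hd with rfl | rfl
        · left
          refine Subtype.ext (Prod.ext (Subtype.ext ?_) (Subtype.ext ?_))
          · simpa using ht1
          · simpa using ht2
        · right
          refine Subtype.ext (Prod.ext (Subtype.ext ?_) (Subtype.ext ?_))
          · simpa using ht1
          · simpa using ht2
    rw [hker] at h
    rw [card_range_pairHom]
    exact h
  have hKval : (Nat.card K).factorization 2 + 1 = 2 * a := by
    rw [← hIcard, ← hKcard, Nat.factorization_mul two_ne_zero Nat.card_pos.ne', Finsupp.add_apply,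
      Nat.prime_two.factorization_self, add_comm]
  haveI hn : (K.subgroupOf I).Normal := by
    refine Subgroup.normal_of_index_eq_two ?_
    have h := (K.subgroupOf I).card_mul_index
    rw [Nat.card_congr (Subgroup.subgroupOfEquivOfLe hKI).toEquiv, ← hKcard, mul_comm 2] at h
    exact Nat.eq_of_mul_eq_mul_left Nat.card_pos h
  -- a Sylow subgroup through the involution
  let i : I := ⟨pairHom pg, pg, rfl⟩
  have hi2 : i * i = 1 := Subtype.ext hg2
  have hz : IsPGroup 2 (Subgroup.zpowers i) := by
    rintro ⟨y, hy⟩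
    obtain ⟨n, rfl⟩ := Subgroup.mem_zpowers_iff.mp hy
    refine ⟨1, Subtype.ext ?_⟩
    show (i ^ n) ^ 2 ^ 1 = 1
    rw [pow_one, ← zpow_natCast, ← _root_.zpow_mul, mul_comm, _root_.zpow_mul, zpow_natCast, pow_two,
      hi2, _root_.one_zpow]
  obtain ⟨T, hT⟩ := hz.exists_le_sylow
  obtain ⟨R, hR⟩ := H86.exists_sylow_inf_normal T (K.subgroupOf I)
  -- the part inside `K`
  have hKsq : ∀ Q : Sylow 2 (K.subgroupOf I), SqComm (Q : Subgroup (K.subgroupOf I)) := by
    let e : K ≃* K.subgroupOf I := (Subgroup.subgroupOfEquivOfLe hKI).symm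
    let f : SpecialLinearGroup (Fin 2) F × SpecialLinearGroup (Fin 2) F →* K.subgroupOf I :=
      e.toMonoidHom.comp ((pairHom (F := F)).comp slPair).rangeRestrict
    have hf : Function.Surjective f :=
      e.surjective.comp ((pairHom (F := F)).comp slPair).rangeRestrict_surjective
    intro Q
    let S : Sylow 2 (SpecialLinearGroup (Fin 2) F × SpecialLinearGroup (Fin 2) F) := default
    exact SqComm.of_sylow (S.mapSurjective hf)
      ((sqComm_sylow_prod (sqComm_sylow_sl2 hodd) (sqComm_sylow_sl2 hodd) S).map f) Q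
  set T0 := (T : Subgroup I) ⊓ K.subgroupOf I with hT0
  have hT0sq : SqComm T0 := by
    have h := (hKsq R).map (K.subgroupOf I).subtype
    rwa [hR, Subgroup.subgroupOf_map_subtype] at h
  have hT0card : Nat.card T0 = 2 ^ (Nat.card K).factorization 2 := by
    rw [hT0, ← Subgroup.subgroupOf_map_subtype, ← hR, Subgroup.card_map_of_injective (Subgroup.subtype_injective _),
      R.card_eq_multiplicity, Nat.card_congr (Subgroup.subgroupOfEquivOfLe hKI).toEquiv]
  have hTeq : (T : Subgroup I) = T0 ⊔ Subgroup.zpowers i := by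
    refine (Subgroup.eq_of_le_of_card_ge (sup_le inf_le_left hT) ?_).symm
    obtain ⟨j, hj⟩ := IsPGroup.iff_card.mp (T.2.to_le (sup_le inf_le_left hT : T0 ⊔ Subgroup.zpowers i ≤ _))
    have hlt : Nat.card T0 < Nat.card (T0 ⊔ Subgroup.zpowers i : Subgroup I) := by
      by_contra h
      have heq := Subgroup.eq_of_le_of_card_ge (le_sup_left : T0 ≤ T0 ⊔ Subgroup.zpowers i) (not_lt.mp h)
      have : i ∈ T0 := heq ▸ Subgroup.mem_sup_right (Subgroup.mem_zpowers i)
      exact hgK this.2
    rw [hT0card, hj] at hlt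
    have := (Nat.pow_lt_pow_iff_right (by norm_num : 1 < 2)).mp hlt
    rw [T.card_eq_multiplicity, hIcard, hj]
    exact Nat.pow_le_pow_right (by norm_num) (by omega)
  have hTsq : SqComm (T : Subgroup I) := by
    rw [hTeq]
    refine sqComm_sup _ _ (fun x hx => Subgroup.commutator_mono le_sup_left le_sup_left (hT0sq x hx))
      fun x hx => ?_
    obtain ⟨n, rfl⟩ := Subgroup.mem_zpowers_iff.mp hx
    rw [← zpow_natCast, ← _root_.zpow_mul, mul_comm, _root_.zpow_mul, zpow_natCast, pow_two, hi2,
      _root_.one_zpow]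
    exact one_mem _
  -- it is a full Sylow subgroup
  have hImg : IsPGroup 2 ((T : Subgroup I).map I.subtype) := T.2.map _
  obtain ⟨S, hS⟩ := hImg.exists_le_sylow
  have hSe : (T : Subgroup I).map I.subtype = (S : Subgroup (G2 F)) := by
    refine Subgroup.eq_of_le_of_card_ge hS ?_
    rw [Subgroup.card_map_of_injective I.subtype_injective, T.card_eq_multiplicity, hIcard,
      S.card_eq_multiplicity]
    exact Nat.pow_le_pow_right (by norm_num) (val_card_g2_le hodd)
  exact SqComm.of_sylow S (hSe ▸ hTsq.map I.subtype) P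

end H18
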