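import Cfsg.Agent.H18.PiChar
import Cfsg.Agent.H18.FixedExtension
import Cfsg.Agent.H12.Monomial
import Mathlib.GroupTheory.RegularWreathProduct

/-!
A regular wreath product of a monomial group by a group of prime order is monomial.
-/

set_option autoImplicit false
set_option linter.unusedSectionVars false

open Cfsg
open scoped ComplexConjugate commutatorElement

namespace H18

universe u

/-- Every irreducible character is induced from a linear character. -/
def IsMG (M : Type u) [Group M] [Fintype M] : Prop :=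
  ∀ χ : M → ℂ, IsIrrCharacter M χ →
    ∃ (H : Subgroup M) (lam : H →* ℂˣ), χ = indFun H (fun h => (lam h : ℂ))

theorem indFun_comp_equiv {A B : Type u} [Group A] [Fintype A] [Group B] [Fintype B] (e : A ≃* B)
    (H : Subgroup B) (θ : H → ℂ) :
    indFun (H.comap e.toMonoidHom) (fun a => θ ⟨e a, a.2⟩) = indFun H θ ∘ e := by
  classical
  funext a
  simp only [Function.comp_apply, H12.indFun_apply]
  congr 1
  · congr 2
    exact Nat.card_congr (e.toEquiv.subtypeEquiv fun a => Iff.rfl)
  · refine Fintype.sum_equiv e.toEquiv _ _ fun x => ?_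
    by_cases hx : x⁻¹ * a * x ∈ H.comap e.toMonoidHom
    · have hx' : (e x)⁻¹ * e a * e x ∈ H := by simpa using hx
      rw [H12.extendByZero_mk _ _ hx]
      refine (congrArg θ (Subtype.ext ?_)).trans (H12.extendByZero_mk _ θ hx').symm
      simp
    · have hx' : (e x)⁻¹ * e a * e x ∉ H := by simpa using hx
      exact (H12.extendByZero_of_notMem _ _ hx).trans (H12.extendByZero_of_notMem _ θ hx').symm

theorem exists_lin_twist {G : Type u} [Group G] [Fintype G] (N : Subgroup G) [N.Normal] [Fintype N]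
    [hc : IsMulCommutative (G ⧸ N)] (μ χ : IrrCharacter G) {θ : N → ℂ} (hθ : IsIrrCharacter N θ)
    (hμ : (fun n : N => (μ : G → ℂ) n) = θ) (hχ : (fun n : N => (χ : G → ℂ) n) = θ) :
    ∃ f : (G ⧸ N) →* ℂˣ,
      (χ : G → ℂ) = fun g : G => (μ : G → ℂ) g * (f (g : G ⧸ N) : ℂ) := by
  classical
  have hG : (Nat.card G : ℂ) ≠ 0 := by exact_mod_cast Nat.card_pos.ne'
  have hsum : ∑ l : IrrCharacter (G ⧸ N),
      classInner (fun g => (μ : G → ℂ) g * (l : G ⧸ N → ℂ) g) (χ : G → ℂ) = 1 := by
    have key : ∀ g : G, ∑ l : IrrCharacter (G ⧸ N),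
        (μ : G → ℂ) g * (l : G ⧸ N → ℂ) g * conj ((χ : G → ℂ) g) =
        if g ∈ N then (N.index : ℂ) * ((μ : G → ℂ) g * conj ((χ : G → ℂ) g)) else 0 := by
      intro g
      haveI : Fintype (G ⧸ N) := Fintype.ofFinite _
      rw [Finset.sum_congr rfl (g := fun l : IrrCharacter (G ⧸ N) =>
        ((l : G ⧸ N → ℂ) g * conj ((l : G ⧸ N → ℂ) 1)) * ((μ : G → ℂ) g * conj ((χ : G → ℂ) g)))
        (fun l _ => by rw [H12.irr_apply_one_of_comm hc.is_comm.comm l, map_one]; ring),
        ← Finset.sum_mul, H12.column_orthogonality]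
      by_cases hg : g ∈ N
      · rw [if_pos hg, if_pos (by rw [(QuotientGroup.eq_one_iff g).mpr hg])]
        congr 1
        have : Subgroup.centralizer ({(g : G ⧸ N)} : Set (G ⧸ N)) = ⊤ := by
          rw [eq_top_iff]; intro z _
          rw [Subgroup.mem_centralizer_singleton_iff]
          exact hc.is_comm.comm _ _
        rw [this, Subgroup.card_top, Subgroup.index_eq_card]
      · rw [if_neg hg, if_neg (fun h => hg ((QuotientGroup.eq_one_iff g).mp (isConj_one_left.mp h))),
          zero_mul]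
    simp only [H12.classInner_def]
    rw [← Finset.mul_sum, Finset.sum_comm, Finset.sum_congr rfl fun g _ => key g,
      ← Finset.sum_filter, ← Finset.mul_sum,
      Finset.sum_subtype _ (fun g => by simp) (p := fun g : G => g ∈ N)]
    have h4 : ∑ n : N, (μ : G → ℂ) n * conj ((χ : G → ℂ) n) = (Nat.card N : ℂ) := by
      have h := H12.classInner_irr_self (⟨θ, hθ⟩ : IrrCharacter N)
      rw [H12.classInner_def, inv_mul_eq_iff_eq_mul₀ (by exact_mod_cast Nat.card_pos.ne'),
        mul_one] at h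
      rw [← h]
      refine Finset.sum_congr rfl fun n _ => ?_
      rw [show (μ : G → ℂ) n = θ n from congrFun hμ n, show (χ : G → ℂ) n = θ n from congrFun hχ n]
    rw [h4, ← Nat.cast_mul, mul_comm N.index, N.card_mul_index, inv_mul_cancel₀ hG]
  obtain ⟨l, -, hl⟩ := Finset.exists_ne_zero_of_sum_ne_zero (hsum ▸ one_ne_zero)
  obtain ⟨f, hf⟩ := H12.exists_monoidHom_of_apply_one_eq_one (H12.isCharacter_irr l)
    (H12.irr_apply_one_of_comm hc.is_comm.comm l)
  refine ⟨f, ?_⟩
  have heq : (⟨_, mul_lin_irr N μ l⟩ : IrrCharacter G) = χ := by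
    by_contra hne
    exact hl (H12.classInner_irr_ne hne)
  rw [← heq]
  funext g
  exact congrArg ((μ : G → ℂ) g * ·) (congrFun hf _).symm

variable {D Q : Type u} [Group D] [Group Q] [Fintype D] [Fintype Q]

/-- The base group of a wreath product. -/
def baseEquiv : (RegularWreathProduct.rightHom : D ≀ᵣ Q →* Q).ker ≃* (Q → D) where
  toFun n := (n : D ≀ᵣ Q).left
  invFun f := ⟨⟨f, 1⟩, rfl⟩
  left_inv n := by
    refine Subtype.ext ?_
    have h : (n : D ≀ᵣ Q).right = 1 := n.2
    exact RegularWreathProduct.ext rfl h.symm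
  right_inv f := rfl
  map_mul' a b := by
    have h : (a : D ≀ᵣ Q).right = 1 := a.2
    funext q
    simp [h]

/-- The wreath product of a subgroup by the top group. -/
def wreathTop (H : Subgroup D) : Subgroup (D ≀ᵣ Q) where
  carrier := {w | ∀ q, w.left q ∈ H}
  one_mem' q := by simp [H.one_mem]
  mul_mem' {a b} ha hb q := by simpa using H.mul_mem (ha q) (hb _)
  inv_mem' {a} ha q := by simpa using H.inv_mem (ha _)

/-- The product of a linear character over the coordinates. -/
def wreathLin {H : Subgroup D} (lam : H →* ℂˣ) : wreathTop (Q := Q) H →* ℂˣ where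
  toFun w := ∏ q, lam ⟨(w : D ≀ᵣ Q).left q, w.2 q⟩
  map_one' := Finset.prod_eq_one fun q _ => map_one lam
  map_mul' a b := by
    have h1 : ∏ q, lam ⟨(b : D ≀ᵣ Q).left q, b.2 q⟩ =
        ∏ q, lam ⟨(b : D ≀ᵣ Q).left ((a : D ≀ᵣ Q).right⁻¹ * q), b.2 _⟩ :=
      (Fintype.prod_equiv (Equiv.mulLeft (a : D ≀ᵣ Q).right⁻¹) _ _ fun q => rfl).symm
    rw [h1, ← Finset.prod_mul_distrib]
    refine Finset.prod_congr rfl fun q _ => ?_
    rw [← map_mul]
    exact congrArg lam (Subtype.ext rfl)

theorem extendByZero_wreathLin {H : Subgroup D} (lam : H →* ℂˣ) (w : D ≀ᵣ Q) :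
    extendByZero (wreathTop H) (fun h => (wreathLin lam h : ℂ)) w =
      ∏ q, extendByZero H (fun h => (lam h : ℂ)) (w.left q) := by
  classical
  by_cases hw : w ∈ wreathTop H
  · rw [H12.extendByZero_mk _ _ hw]
    change ((∏ q, lam ⟨w.left q, hw q⟩ : ℂˣ) : ℂ) = _
    rw [Units.coe_prod]
    exact Finset.prod_congr rfl fun q _ => (H12.extendByZero_mk H (fun h => (lam h : ℂ)) (hw q)).symm
  · rw [H12.extendByZero_of_notMem _ _ hw]
    obtain ⟨q, hq⟩ : ∃ q, w.left q ∉ H := by
      by_contra h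
      push Not at h
      exact hw h
    exact (Finset.prod_eq_zero (Finset.mem_univ q) (H12.extendByZero_of_notMem H _ hq)).symm

theorem res_indFun_wreath [Fintype (D ≀ᵣ Q)] {H : Subgroup D} (lam : H →* ℂˣ) (n : D ≀ᵣ Q)
    (hn : n.right = 1) :
    indFun (wreathTop H) (fun h => (wreathLin lam h : ℂ)) n =
      ∏ q, indFun H (fun h => (lam h : ℂ)) (n.left q) := by
  classical
  have hcard : Nat.card (wreathTop (Q := Q) H) = Nat.card H ^ Nat.card Q * Nat.card Q := by
    rw [← Nat.card_fun, ← Nat.card_prod]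
    exact Nat.card_congr
      { toFun := fun w => (fun q => ⟨(w : D ≀ᵣ Q).left q, w.2 q⟩, (w : D ≀ᵣ Q).right)
        invFun := fun p => ⟨⟨fun q => p.1 q, p.2⟩, fun q => (p.1 q).2⟩
        left_inv := fun w => rfl
        right_inv := fun p => rfl }
  simp only [H12.indFun_apply]
  rw [Finset.prod_mul_distrib, Finset.prod_const, Finset.card_univ, hcard,
    Finset.prod_univ_sum, Fintype.piFinset_univ]
  have hQ : (Fintype.card Q : ℂ) ≠ 0 := by exact_mod_cast Fintype.card_ne_zero
  have hsum : ∑ x : D ≀ᵣ Q,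
      extendByZero (wreathTop H) (fun h => (wreathLin lam h : ℂ)) (x⁻¹ * n * x) =
      (Fintype.card Q : ℂ) *
        ∑ f : Q → D, ∏ q, extendByZero H (fun h => (lam h : ℂ)) ((f q)⁻¹ * n.left q * f q) := by
    rw [← (RegularWreathProduct.equivProd D Q).symm.sum_comp, Fintype.sum_prod_type,
      Finset.mul_sum]
    refine Finset.sum_congr rfl fun f _ => ?_
    rw [← nsmul_eq_mul, ← Finset.card_univ, ← Finset.sum_const]
    refine Finset.sum_congr rfl fun a _ => ?_
    rw [extendByZero_wreathLin]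
    refine Fintype.prod_equiv (Equiv.mulLeft a) _ _ fun q => ?_
    simp [RegularWreathProduct.equivProd, hn]
  rw [hsum, Nat.card_eq_fintype_card (α := Q)]
  push_cast
  rw [mul_inv, inv_pow]
  field_simp

theorem wreath_isMG (hD : IsMG D) (hQ : (Nat.card Q).Prime) [Fintype (D ≀ᵣ Q)] :
    IsMG (D ≀ᵣ Q) := by
  classical
  intro χ hχ
  set N := (RegularWreathProduct.rightHom : D ≀ᵣ Q →* Q).ker with hN
  haveI : Fintype N := Fintype.ofFinite _
  have hidx : N.index = Nat.card Q := by
    have hs : Function.Surjective (RegularWreathProduct.rightHom : D ≀ᵣ Q →* Q) :=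
      fun q => ⟨RegularWreathProduct.inl q, rfl⟩
    rw [hN, Subgroup.index_ker, MonoidHom.range_eq_top.mpr hs, Subgroup.card_top]
  have hp : N.index.Prime := hidx ▸ hQ
  let e : N ≃* (Q → D) := baseEquiv
  obtain ⟨ψ, hψ⟩ := H13.exists_constituent N (H12.isCharacter_of_isIrrCharacter hχ)
    (H12.irr_ne_zero ⟨χ, hχ⟩)
  obtain ⟨θ, hθ⟩ := exists_eq_piFun
    (⟨_, H13.isIrrCharacter_comp_equiv e.symm ψ.2⟩ : IrrCharacter (Q → D))
  have hψe : (ψ : N → ℂ) = (piFun fun q => (θ q : D → ℂ)) ∘ e := by
    rw [← hθ]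
    funext n
    simp
  choose Hq lamq hlam using fun q => hD _ (θ q).2
  by_cases hinert : H13.inertia N (ψ : N → ℂ) ≤ N
  · -- induced from the base
    have hirr := H13.isIrrCharacter_indFun_of_inertia N ψ.2 hinert
    have hne : classInner (indFun N (ψ : N → ℂ)) χ ≠ 0 := by
      rw [H12.classInner_indFun N _ (H12.IsCharacter.isClassFunction
        (H12.isCharacter_of_isIrrCharacter hχ)), ← H12.conj_classInner]
      simpa using hψ
    have heq : indFun N (ψ : N → ℂ) = χ := by
      by_contra hne'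
      exact hne (H12.classInner_irr_ne (χ := (⟨_, hirr⟩ : IrrCharacter (D ≀ᵣ Q))) (ψ := ⟨χ, hχ⟩)
        (fun h => hne' (congrArg Subtype.val h)))
    let P : Subgroup (Q → D) := Subgroup.pi Set.univ Hq
    let Lam : P →* ℂˣ :=
      { toFun := fun g => ∏ q, lamq q ⟨(g : Q → D) q, g.2 q (Set.mem_univ q)⟩
        map_one' := Finset.prod_eq_one fun q _ => map_one (lamq q)
        map_mul' := fun a b => by
          rw [← Finset.prod_mul_distrib]
          refine Finset.prod_congr rfl fun q _ => ?_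
          rw [← map_mul]; exact congrArg (lamq q) (Subtype.ext rfl) }
    have h1 : (piFun fun q => (θ q : D → ℂ)) = indFun P (fun g => (Lam g : ℂ)) := by
      rw [funext hlam, ← indFun_pi]
      congr 1
      funext g
      exact (Units.coe_prod _ _).symm
    let Lam' : P.comap e.toMonoidHom →* ℂˣ :=
      Lam.comp { toFun := fun a => ⟨e a, a.2⟩, map_one' := Subtype.ext (map_one e),
                 map_mul' := fun a b => Subtype.ext (map_mul e _ _) }
    have h2 : (ψ : N → ℂ) = indFun (P.comap e.toMonoidHom) (fun a => (Lam' a : ℂ)) := by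
      rw [hψe, h1, ← indFun_comp_equiv]
      rfl
    refine ⟨(P.comap e.toMonoidHom).map N.subtype,
      Lam'.comp ((P.comap e.toMonoidHom).equivMapOfInjective N.subtype
        N.subtype_injective).symm.toMonoidHom, ?_⟩
    rw [← heq, h2, H12.indFun_map_subtype]
    rfl
  · -- an invariant constituent
    have htop : H13.inertia N (ψ : N → ℂ) = ⊤ := by
      have hle : N ≤ H13.inertia N (ψ : N → ℂ) := H13.le_inertia N (H12.irr_isClassFunction ψ)
      have h1 := Subgroup.relIndex_mul_index hle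
      rcases (Nat.dvd_prime hp).mp (Dvd.intro_left _ h1) with h | h
      · exact Subgroup.index_eq_one.mp h
      · exfalso
        rw [h, mul_eq_right₀ hp.ne_zero, Subgroup.relIndex_eq_one] at h1
        exact hinert h1
    have hinv : ∀ g, H13.twist N g (ψ : N → ℂ) = ψ := fun g =>
      (H13.mem_inertia N).mp (htop ▸ Subgroup.mem_top g)
    have hθc : ∀ q, θ q = θ 1 := by
      intro q
      have h1 := hinv (RegularWreathProduct.inl q)
      have h2 : (piFun fun r => (θ (q * r) : D → ℂ)) = piFun fun r => (θ r : D → ℂ) := by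
        funext f
        have h3 := congrFun h1 (e.symm f)
        rw [H13.twist_apply, hψe] at h3
        simp only [Function.comp_apply, MulEquiv.apply_symm_apply] at h3
        rw [← h3]
        simp only [piFun]
        refine Fintype.prod_equiv (Equiv.mulLeft q) _ _ fun r => ?_
        simp [e, baseEquiv]
      have h4 := congrFun (piFun_irr_injective _ _ h2) 1
      simpa using h4
    set μ : (D ≀ᵣ Q) → ℂ := indFun (wreathTop (Hq 1)) (fun h => (wreathLin (lamq 1) h : ℂ)) with hμ
    have hμres : (fun n : N => μ n) = ψ := by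
      funext n
      rw [hμ, res_indFun_wreath (lamq 1) _ n.2, hψe]
      simp only [Function.comp_apply, piFun]
      refine Finset.prod_congr rfl fun q _ => ?_
      rw [hθc q, ← hlam 1]
      rfl
    have hμc : IsCharacter (D ≀ᵣ Q) μ :=
      H12.IsCharacter.indFun (H12.isCharacter_monoidHom (wreathLin (lamq 1)))
    have hμi : IsIrrCharacter (D ≀ᵣ Q) μ := irr_of_comp_irr N.subtype hμc ψ.2 hμres
    have hχres := res_eq_of_prime_index N hp ψ.2 hinv ⟨χ, hχ⟩ hψ
    haveI : Fact (Nat.card ((D ≀ᵣ Q) ⧸ N)).Prime := ⟨by rw [← Subgroup.index_eq_card]; exact hp⟩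
    haveI : IsCyclic ((D ≀ᵣ Q) ⧸ N) := isCyclic_of_prime_card rfl
    obtain ⟨f, hf⟩ := exists_lin_twist N ⟨μ, hμi⟩ ⟨χ, hχ⟩ ψ.2 hμres hχres
    refine ⟨wreathTop (Hq 1), wreathLin (lamq 1) *
      ((f.comp (QuotientGroup.mk' N)).comp (wreathTop (Hq 1)).subtype), ?_⟩
    change χ = _
    rw [show χ = fun g => μ g * (f (g : (D ≀ᵣ Q) ⧸ N) : ℂ) from hf]
    have hcf : IsClassFunction (D ≀ᵣ Q) (fun g => (f (g : (D ≀ᵣ Q) ⧸ N) : ℂ)) :=
      H12.IsCharacter.isClassFunction
        (H12.isCharacter_monoidHom (f.comp (QuotientGroup.mk' N)))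
    exact (H12.indFun_mul_res (wreathTop (Hq 1)) (fun h => (wreathLin (lamq 1) h : ℂ)) hcf).symm.trans
      (congrArg _ (funext fun h => rfl))

end H18
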