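import Mathlib.GroupTheory.Sylow
import Mathlib.GroupTheory.Nilpotent
import Mathlib.GroupTheory.SpecificGroups.Cyclic
import Mathlib.GroupTheory.Abelianization.Defs

set_option autoImplicit false
open scoped commutatorElement

namespace H18

variable {P : Type*} [Group P]

/-- In a group with central derived subgroup and an abelian subgroup `M` of prime index not
containing `b`, the derived subgroup has order `[M : Z(P)]`. -/
theorem card_commutator_mul_eq_of_abelian_index_prime [Finite P] {p : ℕ} (hp : p.Prime)
    (M : Subgroup P) (hM : M.index = p) (hab : ∀ x ∈ M, ∀ y ∈ M, x * y = y * x)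
    (hna : ∃ a b : P, a * b ≠ b * a) (hc : commutator P ≤ Subgroup.center P) :
    Nat.card (commutator P) * p = (Subgroup.center P).index := by
  have hgen : ∀ c : P, c ∉ M → M ⊔ Subgroup.zpowers c = ⊤ := by
    intro c hcM
    by_contra h
    have h1 := Subgroup.relIndex_mul_index (le_sup_left : M ≤ M ⊔ Subgroup.zpowers c)
    rw [hM] at h1
    rcases hp.eq_one_or_self_of_dvd _ (Dvd.intro _ h1) with h2 | h2
    · rw [Subgroup.relIndex_eq_one] at h2
      exact hcM (h2 (Subgroup.mem_sup_right (Subgroup.mem_zpowers c)))
    · rw [h2] at h1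
      exact h (Subgroup.index_eq_one.mp (mul_left_cancel₀ hp.ne_zero (by rw [h1, mul_one])))
  obtain ⟨b, hb⟩ : ∃ b : P, b ∉ M := by
    by_contra h
    push Not at h
    exact hp.one_lt.ne' (hM ▸ Subgroup.index_eq_one.mpr (eq_top_iff.mpr fun x _ => h x))
  have hZM : Subgroup.center P ≤ M := by
    intro z hz
    by_contra hzM
    obtain ⟨x, y, hxy⟩ := hna
    apply hxy
    have hle : (⊤ : Subgroup P) ≤ Subgroup.centralizer ((M : Set P) ∪ {z}) := by
      rw [← hgen z hzM]
      refine sup_le (fun m hm => ?_) (Subgroup.zpowers_le.mpr ?_)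
      · rw [Subgroup.mem_centralizer_iff]
        rintro g (hg | hg)
        · exact hab g hg m hm
        · rw [Set.mem_singleton_iff.mp hg]; exact (Subgroup.mem_center_iff.mp hz m).symm
      · rw [Subgroup.mem_centralizer_iff]
        intro g _
        exact Subgroup.mem_center_iff.mp hz g
    have hle2 : (⊤ : Subgroup P) ≤ Subgroup.centralizer ({y} : Set P) := by
      rw [← hgen z hzM]
      refine sup_le (fun m hm => ?_) (Subgroup.zpowers_le.mpr ?_)
      · rw [Subgroup.mem_centralizer_singleton_iff]
        exact Subgroup.mem_centralizer_iff.mp (hle (Subgroup.mem_top y)) m (Or.inl hm)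
      · rw [Subgroup.mem_centralizer_singleton_iff]
        exact (Subgroup.mem_center_iff.mp hz y).symm
    exact Subgroup.mem_centralizer_singleton_iff.mp (hle2 (Subgroup.mem_top x))
  have hcomm : ∀ x y : P, ⁅x, y⁆ ∈ Subgroup.center P := fun x y =>
    hc (Subgroup.commutator_mem_commutator (Subgroup.mem_top x) (Subgroup.mem_top y))
  let f : M →* P :=
    { toFun := fun m => ⁅b, (m : P)⁆
      map_one' := by simp
      map_mul' := fun m n => by
        change ⁅b, (m : P) * n⁆ = ⁅b, (m : P)⁆ * ⁅b, (n : P)⁆
        have h := Subgroup.mem_center_iff.mp (hcomm b n) (m : P)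
        have h' : ⁅b, (m : P) * n⁆ = ⁅b, (m : P)⁆ * ((m : P) * ⁅b, (n : P)⁆ * (m : P)⁻¹) := by
          simp [commutatorElement_def, mul_assoc]
        rw [h', h, mul_assoc _ (m : P) (m : P)⁻¹, mul_inv_cancel, mul_one] }
  have hker : f.ker = (Subgroup.center P).subgroupOf M := by
    ext m
    rw [MonoidHom.mem_ker, Subgroup.mem_subgroupOf]
    change ⁅b, (m : P)⁆ = 1 ↔ _
    rw [commutatorElement_eq_one_iff_commute]
    constructor
    · intro h
      rw [Subgroup.mem_center_iff]
      intro g
      have : (⊤ : Subgroup P) ≤ Subgroup.centralizer ({(m : P)} : Set P) := by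
        rw [← hgen b hb]
        refine sup_le (fun x hx => ?_) (Subgroup.zpowers_le.mpr ?_)
        · rw [Subgroup.mem_centralizer_singleton_iff]
          exact hab x hx m m.2
        · rw [Subgroup.mem_centralizer_singleton_iff]
          exact h.eq
      exact Subgroup.mem_centralizer_singleton_iff.mp (this (Subgroup.mem_top g))
    · intro h
      exact Subgroup.mem_center_iff.mp h b
  have hrange : f.range = commutator P := by
    apply le_antisymm
    · rintro _ ⟨m, rfl⟩
      exact Subgroup.commutator_mem_commutator (Subgroup.mem_top _) (Subgroup.mem_top _)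
    · have hn : f.range.Normal := ⟨fun x hx g => by
        obtain ⟨m, rfl⟩ := hx
        have := Subgroup.mem_center_iff.mp (hcomm b (m : P)) g
        change g * ⁅b, (m : P)⁆ * g⁻¹ ∈ _
        rw [this, mul_assoc, mul_inv_cancel, mul_one]
        exact ⟨m, rfl⟩⟩
      have hmk : ∀ m ∈ M, Commute (QuotientGroup.mk' f.range b) (QuotientGroup.mk' f.range m) := by
        intro m hm
        rw [← commutatorElement_eq_one_iff_commute, ← map_commutatorElement,
          ← MonoidHom.mem_ker, QuotientGroup.ker_mk']
        exact ⟨⟨m, hm⟩, rfl⟩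
      set S := (M ⊔ Subgroup.zpowers b).map (QuotientGroup.mk' f.range) with hS
      have hS' : S = ⊤ := by
        rw [hS, hgen b hb, Subgroup.map_top_of_surjective _ (QuotientGroup.mk'_surjective _)]
      have hgens : ∀ u ∈ (M : Set P) ∪ {b}, ∀ v ∈ (M : Set P) ∪ {b},
          Commute (QuotientGroup.mk' f.range u) (QuotientGroup.mk' f.range v) := by
        rintro u (hu | hu) v (hv | hv)
        · exact (Commute.map (hab u hu v hv) _)
        · rw [Set.mem_singleton_iff.mp hv]; exact (hmk u hu).symm
        · rw [Set.mem_singleton_iff.mp hu]; exact hmk v hv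
        · rw [Set.mem_singleton_iff.mp hu, Set.mem_singleton_iff.mp hv]
      have hclo : Subgroup.closure ((QuotientGroup.mk' f.range) '' ((M : Set P) ∪ {b})) = ⊤ := by
        rw [← MonoidHom.map_closure, Subgroup.closure_union, Subgroup.closure_eq,
          ← Subgroup.zpowers_eq_closure]
        exact hS'
      rw [commutator_def, Subgroup.commutator_le]
      intro x _ y _
      have : Commute (QuotientGroup.mk' f.range x) (QuotientGroup.mk' f.range y) := by
        have hcc : ∀ z : P ⧸ f.range, z ∈ Subgroup.center (P ⧸ f.range) := by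
          intro z
          rw [Subgroup.mem_center_iff]
          intro w
          have hz : z ∈ Subgroup.closure ((QuotientGroup.mk' f.range) '' ((M : Set P) ∪ {b})) := by
            rw [hclo]; trivial
          induction hz using Subgroup.closure_induction with
          | mem z hz =>
            obtain ⟨v, hv, rfl⟩ := hz
            have hw : w ∈ Subgroup.closure ((QuotientGroup.mk' f.range) '' ((M : Set P) ∪ {b})) := by
              rw [hclo]; trivial
            induction hw using Subgroup.closure_induction with
            | mem w hw =>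
              obtain ⟨u, hu, rfl⟩ := hw
              exact hgens u hu v hv
            | one => simp
            | mul a c _ _ ha hc' => exact (Commute.mul_left ha hc')
            | inv a _ ha => exact (Commute.inv_left ha)
          | one => simp
          | mul a c _ _ ha hc' => exact (Commute.mul_right ha hc')
          | inv a _ ha => exact (Commute.inv_right ha)
        exact (Subgroup.mem_center_iff.mp (hcc (QuotientGroup.mk' f.range y)) _)
      rw [← commutatorElement_eq_one_iff_commute, ← map_commutatorElement, ← MonoidHom.mem_ker,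
        QuotientGroup.ker_mk'] at this
      exact this
  have h1 : (Subgroup.center P).relIndex M = Nat.card (commutator P) := by
    rw [← hrange, ← Subgroup.index_ker, hker]
    rfl
  rw [← Subgroup.relIndex_mul_index hZM, h1, hM]

theorem ne_comm_of_index_center [Finite P] {n : ℕ} (hn : n ≠ 1)
    (h : (Subgroup.center P).index = n) : ∃ a b : P, a * b ≠ b * a := by
  by_contra hh
  push Not at hh
  exact hn (h ▸ Subgroup.index_eq_one.mpr
    (eq_top_iff.mpr fun x _ => Subgroup.mem_center_iff.mpr fun g => hh g x))

theorem card_commutator_eq_of_index_center_sq [Finite P] {p : ℕ} [hp : Fact p.Prime]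
    (h : (Subgroup.center P).index = p ^ 2) : Nat.card (commutator P) = p := by
  have hna := ne_comm_of_index_center (P := P)
    (n := p ^ 2) (by simp [hp.out.one_lt.ne']) h
  have hq : Nat.card (P ⧸ Subgroup.center P) = p ^ 2 := h
  have hc : commutator P ≤ Subgroup.center P := by
    rw [commutator_def, Subgroup.commutator_le]
    intro x _ y _
    have := IsPGroup.commutative_of_card_eq_prime_sq hq
      (QuotientGroup.mk' _ x) (QuotientGroup.mk' _ y)
    rw [← QuotientGroup.ker_mk' (Subgroup.center P), MonoidHom.mem_ker, map_commutatorElement,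
      commutatorElement_eq_one_iff_commute]
    exact this
  obtain ⟨a, b, hab⟩ := hna
  have ha : a ∉ Subgroup.center P := fun h' => hab (Subgroup.mem_center_iff.mp h' b).symm
  set M := Subgroup.center P ⊔ Subgroup.zpowers a with hMdef
  have hMab : ∀ x ∈ M, ∀ y ∈ M, x * y = y * x := by
    have h1 : M ≤ Subgroup.centralizer ({a} : Set P) := by
      refine sup_le (Subgroup.center_le_centralizer _) (Subgroup.zpowers_le.mpr ?_)
      rw [Subgroup.mem_centralizer_singleton_iff]
    intro x hx y hy
    have h2 : M ≤ Subgroup.centralizer ({x} : Set P) := by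
      refine sup_le (Subgroup.center_le_centralizer _) (Subgroup.zpowers_le.mpr ?_)
      rw [Subgroup.mem_centralizer_singleton_iff]
      exact (Subgroup.mem_centralizer_singleton_iff.mp (h1 hx)).symm
    exact (Subgroup.mem_centralizer_singleton_iff.mp (h2 hy)).symm
  have hidx : M.index = p := by
    have hdvd : M.index ∣ p ^ 2 := h ▸ Subgroup.index_dvd_of_le le_sup_left
    obtain ⟨k, hk, hMk⟩ := (Nat.dvd_prime_pow hp.out).mp hdvd
    interval_cases k
    · exfalso
      have := Subgroup.index_eq_one.mp (hMk.trans (pow_zero p))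
      exact hab (hMab a (this ▸ Subgroup.mem_top a) b (this ▸ Subgroup.mem_top b))
    · simpa using hMk
    · exfalso
      have h1 := Subgroup.relIndex_mul_index (le_sup_left : Subgroup.center P ≤ M)
      rw [hMk, h, mul_eq_right₀ (pow_ne_zero _ hp.out.ne_zero)] at h1
      exact ha (Subgroup.relIndex_eq_one.mp h1
        (Subgroup.mem_sup_right (Subgroup.mem_zpowers a)))
  have := card_commutator_mul_eq_of_abelian_index_prime hp.out M hidx hMab ⟨a, b, hab⟩ hc
  rw [h, pow_two] at this
  exact mul_right_cancel₀ hp.out.ne_zero this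

theorem normal_card_prime_le_center [Finite P] {p : ℕ} [hp : Fact p.Prime] (hP : IsPGroup p P)
    (N : Subgroup P) [N.Normal] (hN : Nat.card N = p) : N ≤ Subgroup.center P := by
  obtain ⟨z, hz, hz1⟩ := (hP.of_equiv ConjAct.toConjAct).exists_fixed_point_of_prime_dvd_card_of_fixed_point
    (α := N) (by rw [hN]) (a := 1) (fun g => Subtype.ext (by simp [ConjAct.Subgroup.val_conj_smul]))
  have hzc : (z : P) ∈ Subgroup.center P := by
    rw [Subgroup.mem_center_iff]
    intro g
    have := congrArg Subtype.val (hz (ConjAct.toConjAct g))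
    simp only [ConjAct.Subgroup.val_conj_smul, ConjAct.smul_def, ConjAct.ofConjAct_toConjAct] at this
    exact mul_inv_eq_iff_eq_mul.mp this
  have hgen : Subgroup.zpowers (z : P) = N := by
    refine Subgroup.eq_of_le_of_card_ge (Subgroup.zpowers_le.mpr z.2) ?_
    rw [hN, Nat.card_zpowers, Subgroup.orderOf_coe]
    have hd := orderOf_dvd_natCard z
    rw [hN] at hd
    rcases hp.out.eq_one_or_self_of_dvd _ hd with h | h
    · exact absurd (orderOf_eq_one_iff.mp h).symm hz1
    · rw [h]
  rw [← hgen]
  exact Subgroup.zpowers_le.mpr hzc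

theorem index_center_of_card_commutator [Finite P] {p : ℕ} [hp : Fact p.Prime]
    (hP : Nat.card P = p ^ 4) (h : Nat.card (commutator P) = p) :
    (Subgroup.center P).index = p ^ 2 := by
  have hpP : IsPGroup p P := IsPGroup.of_card hP
  have hc : commutator P ≤ Subgroup.center P := normal_card_prime_le_center hpP _ h
  obtain ⟨a, b, hab⟩ : ∃ a b : P, a * b ≠ b * a := by
    by_contra hh
    push Not at hh
    have : commutator P = ⊥ := by
      rw [commutator_def, Subgroup.commutator_eq_bot_iff_le_centralizer]
      intro x _
      rw [Subgroup.mem_centralizer_iff]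
      intro y _
      exact hh y x
    rw [this, Subgroup.card_bot] at h
    exact hp.out.one_lt.ne' h.symm
  have ha : a ∉ Subgroup.center P := fun h' => hab (Subgroup.mem_center_iff.mp h' b).symm
  set M := Subgroup.centralizer ({a} : Set P) with hMdef
  have hcomm : ∀ x y : P, ⁅x, y⁆ ∈ Subgroup.center P := fun x y =>
    hc (Subgroup.commutator_mem_commutator (Subgroup.mem_top x) (Subgroup.mem_top y))
  let f : P →* commutator P :=
    { toFun := fun g => ⟨⁅a, g⁆,
        Subgroup.commutator_mem_commutator (Subgroup.mem_top _) (Subgroup.mem_top _)⟩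
      map_one' := by ext; simp
      map_mul' := fun m n => Subtype.ext <| by
        change ⁅a, m * n⁆ = ⁅a, m⁆ * ⁅a, n⁆
        have h := Subgroup.mem_center_iff.mp (hcomm a n) m
        have h' : ⁅a, m * n⁆ = ⁅a, m⁆ * (m * ⁅a, n⁆ * m⁻¹) := by
          simp [commutatorElement_def, mul_assoc]
        rw [h', h, mul_assoc _ m m⁻¹, mul_inv_cancel, mul_one] }
  have hker : f.ker = M := by
    ext g
    rw [MonoidHom.mem_ker, Subgroup.mem_centralizer_singleton_iff, Subtype.ext_iff]
    change ⁅a, g⁆ = 1 ↔ _
    rw [commutatorElement_eq_one_iff_commute]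
    exact ⟨fun h => h.eq.symm, fun h => h.symm⟩
  have hidx : M.index = p := by
    have hd : M.index ∣ p := by
      rw [← hker, Subgroup.index_ker, ← h]
      exact Subgroup.card_subgroup_dvd_card _
    refine (hp.out.eq_one_or_self_of_dvd _ hd).resolve_left fun h1 => ?_
    have := Subgroup.index_eq_one.mp h1
    exact hab (Subgroup.mem_centralizer_singleton_iff.mp (this ▸ Subgroup.mem_top b : b ∈ M)).symm
  have hcardM : Nat.card M = p ^ 3 := by
    have := M.card_mul_index
    rw [hidx, hP, pow_succ] at this
    exact mul_right_cancel₀ hp.out.ne_zero this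
  have hMab : ∀ x ∈ M, ∀ y ∈ M, x * y = y * x := by
    set K := Subgroup.center P ⊔ Subgroup.zpowers a with hK
    have haM : a ∈ M := Subgroup.mem_centralizer_singleton_iff.mpr rfl
    have hKM : K ≤ M := sup_le (Subgroup.center_le_centralizer _) (Subgroup.zpowers_le.mpr haM)
    have hKc : K.subgroupOf M ≤ Subgroup.center M := by
      intro x hx
      rw [Subgroup.mem_subgroupOf] at hx
      rw [Subgroup.mem_center_iff]
      intro g
      have h1 : K ≤ Subgroup.centralizer ({(g : P)} : Set P) := by
        refine sup_le (Subgroup.center_le_centralizer _) (Subgroup.zpowers_le.mpr ?_)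
        rw [Subgroup.mem_centralizer_singleton_iff]
        exact (Subgroup.mem_centralizer_singleton_iff.mp g.2).symm
      exact Subtype.ext (Subgroup.mem_centralizer_singleton_iff.mp (h1 hx)).symm
    have hpK : p ^ 2 ∣ Nat.card K := by
      obtain ⟨j, hj⟩ := (IsPGroup.iff_card).mp (hpP.to_subgroup (Subgroup.center P))
      obtain ⟨i, hi⟩ := (IsPGroup.iff_card).mp (hpP.to_subgroup K)
      have hlt : Nat.card (Subgroup.center P) < Nat.card K := by
        rcases (Subgroup.card_le_of_le (le_sup_left : Subgroup.center P ≤ K)).lt_or_eq with h' | h'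
        · exact h'
        · exact absurd ((Subgroup.eq_of_le_of_card_ge le_sup_left h'.ge) ▸
            (Subgroup.mem_sup_right (Subgroup.mem_zpowers a)) : a ∈ Subgroup.center P) ha
      rw [hi, hj, Nat.pow_lt_pow_iff_right hp.out.one_lt] at hlt
      have hj0 : j ≠ 0 := by
        intro h0
        have h1 : commutator P = ⊥ := by
          rw [← le_bot_iff]
          refine hc.trans (le_of_eq ?_)
          rw [← Subgroup.card_eq_one, hj, h0, pow_zero]
        rw [h1, Subgroup.card_bot] at h
        exact hp.out.one_lt.ne' h.symm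
      rw [hi]
      exact pow_dvd_pow p (by omega)
    have hcyc : IsCyclic (M ⧸ Subgroup.center M) := by
      have hidx2 : (Subgroup.center M).index ∣ p := by
        refine (Subgroup.index_dvd_of_le hKc).trans ?_
        have h1 := (K.subgroupOf M).card_mul_index
        rw [Nat.card_congr (Subgroup.subgroupOfEquivOfLe hKM).toEquiv, hcardM] at h1
        obtain ⟨c, hc'⟩ := hpK
        rw [hc', pow_succ p 2, mul_assoc] at h1
        exact Dvd.intro_left _ (mul_left_cancel₀ (pow_ne_zero _ hp.out.ne_zero) h1)
      rcases hp.out.eq_one_or_self_of_dvd _ hidx2 with h1 | h1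
      · have : Subsingleton (M ⧸ Subgroup.center M) :=
          (Nat.card_eq_one_iff_unique.mp h1).1
        exact isCyclic_of_subsingleton
      · exact isCyclic_of_prime_card (p := p) h1
    intro x hx y hy
    exact congrArg Subtype.val
      ((isMulCommutative_of_isCyclic_quotient_center_self (G := M)).is_comm.comm ⟨x, hx⟩ ⟨y, hy⟩)
  have := card_commutator_mul_eq_of_abelian_index_prime hp.out M hidx hMab ⟨a, b, hab⟩ hc
  rw [← this, h, pow_two]

end H18
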