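import Cfsg.Agent.H12.Orth
import Cfsg.Agent.H12.Induction

/-!
Irreducible characters of finite powers of a group.
-/

set_option autoImplicit false
set_option linter.unusedSectionVars false

open Cfsg
open scoped ComplexConjugate

namespace H18

universe u

variable {ι : Type u} [Fintype ι] {K : Type u} [Group K]

/-- The outer product of functions on the factors. -/
def piFun (θ : ι → K → ℂ) : (ι → K) → ℂ := fun g => ∏ i, θ i (g i)

theorem isCharacter_piFun [Finite K] {θ : ι → K → ℂ} (hθ : ∀ i, IsCharacter K (θ i)) :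
    IsCharacter (ι → K) (piFun θ) := by
  classical
  have key : ∀ s : Finset ι, IsCharacter (ι → K) (fun g => ∏ i ∈ s, θ i (g i)) := by
    intro s
    induction s using Finset.induction with
    | empty => simpa using H12.isCharacter_one
    | insert i s hi ih =>
      simp only [Finset.prod_insert hi]
      exact H12.IsCharacter.mul
        (H12.IsCharacter.comp (hθ i) (Pi.evalMonoidHom (fun _ : ι => K) i)) ih
  exact key Finset.univ

theorem classInner_piFun [Fintype K] [iP : Fintype (ι → K)] (θ η : ι → K → ℂ) :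
    classInner (piFun θ) (piFun η) = ∏ i, classInner (θ i) (η i) := by
  classical
  obtain rfl : iP = Pi.instFintype := Subsingleton.elim _ _
  simp only [H12.classInner_def, piFun, map_prod, ← Finset.prod_mul_distrib]
  rw [Finset.prod_mul_distrib, Finset.prod_const, Finset.card_univ, Nat.card_fun,
    Nat.card_eq_fintype_card (α := ι), Nat.cast_pow, inv_pow]
  congr 1
  rw [Finset.prod_univ_sum, Fintype.piFinset_univ]

theorem isIrrCharacter_piFun [Finite K] (θ : ι → IrrCharacter K) :
    IsIrrCharacter (ι → K) (piFun fun i => (θ i : K → ℂ)) := by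
  classical
  cases nonempty_fintype K
  refine H12.isIrrCharacter_of_classInner_self_eq_one
    (isCharacter_piFun fun i => H12.isCharacter_irr (θ i)) ?_
  rw [classInner_piFun]
  exact Finset.prod_eq_one fun i _ => H12.classInner_irr_self (θ i)

theorem piFun_irr_injective [Finite K] (θ η : ι → IrrCharacter K)
    (h : (piFun fun i => (θ i : K → ℂ)) = piFun fun i => (η i : K → ℂ)) : θ = η := by
  classical
  cases nonempty_fintype K
  funext i
  by_contra hne
  have h1 : classInner (piFun fun i => (θ i : K → ℂ)) (piFun fun i => (θ i : K → ℂ)) = 1 := by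
    rw [classInner_piFun]
    exact Finset.prod_eq_one fun i _ => H12.classInner_irr_self (θ i)
  nth_rewrite 2 [h] at h1
  rw [classInner_piFun, Finset.prod_eq_zero (Finset.mem_univ i) (H12.classInner_irr_ne hne)] at h1
  exact zero_ne_one h1

theorem exists_eq_piFun [Finite K] (χ : IrrCharacter (ι → K)) :
    ∃ θ : ι → IrrCharacter K, (χ : (ι → K) → ℂ) = piFun fun i => (θ i : K → ℂ) := by
  classical
  cases nonempty_fintype K
  by_contra hχ
  push Not at hχ
  let Φ : (ι → IrrCharacter K) → IrrCharacter (ι → K) := fun θ => ⟨_, isIrrCharacter_piFun θ⟩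
  have hΦ : Function.Injective Φ := fun a b h => piFun_irr_injective a b (congrArg Subtype.val h)
  have h1 := H12.sum_degree_sq (G := ι → K)
  have h2 : ∑ θ : ι → IrrCharacter K,
      (Φ θ : (ι → K) → ℂ) 1 ^ 2 = (Nat.card (ι → K) : ℂ) := by
    have h3 := H12.sum_degree_sq (G := K)
    simp only [Φ, piFun, Pi.one_apply, ← Finset.prod_pow]
    rw [← Fintype.piFinset_univ, ← Finset.prod_univ_sum (fun _ : ι => Finset.univ)
      (fun _ (ψ : IrrCharacter K) => (ψ : K → ℂ) 1 ^ 2)]
    simp only [h3, Finset.prod_const, Finset.card_univ, Nat.card_fun, Nat.cast_pow,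
      Nat.card_eq_fintype_card (α := ι)]
  rw [← Finset.sum_image (f := fun ψ : IrrCharacter (ι → K) => (ψ : (ι → K) → ℂ) 1 ^ 2)
    fun a _ b _ h => hΦ h] at h2
  have hmem : χ ∉ Finset.univ.image Φ := by
    rw [Finset.mem_image]
    rintro ⟨θ, -, h⟩
    exact hχ θ (congrArg Subtype.val h).symm
  have h4 := Finset.sum_insert (f := fun ψ : IrrCharacter (ι → K) => (ψ : (ι → K) → ℂ) 1 ^ 2) hmem
  rw [h2] at h4
  have hR : (((∑ ψ ∈ insert χ (Finset.univ.image Φ), H12.degree (ψ : (ι → K) → ℂ) ^ 2 : ℕ)) : ℂ) =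
      ((H12.degree (χ : (ι → K) → ℂ) ^ 2 + Nat.card (ι → K) : ℕ) : ℂ) := by
    push_cast
    simpa only [H12.irr_apply_one] using h4
  have h5 : ∑ ψ ∈ insert χ (Finset.univ.image Φ), H12.degree (ψ : (ι → K) → ℂ) ^ 2 ≤
      Nat.card (ι → K) := by
    rw [← H12.sum_degree_sq_nat]
    exact Finset.sum_le_sum_of_subset (Finset.subset_univ _)
  rw [Nat.cast_inj] at hR
  have := H12.irr_degree_pos χ
  rw [hR] at h5
  have := Nat.one_le_pow 2 _ (H12.irr_degree_pos χ)
  omega

theorem indFun_pi [Fintype K] [iP : Fintype (ι → K)] (H : ι → Subgroup K) (θ : ∀ i, H i → ℂ) :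
    indFun (Subgroup.pi Set.univ H)
        (fun g => ∏ i, θ i ⟨(g : ι → K) i, g.2 i (Set.mem_univ i)⟩) =
      piFun fun i => indFun (H i) (θ i) := by
  classical
  obtain rfl : iP = Pi.instFintype := Subsingleton.elim _ _
  have hcard : Nat.card (Subgroup.pi Set.univ H) = ∏ i, Nat.card (H i) := by
    rw [← Nat.card_pi]
    exact Nat.card_congr
      { toFun := fun g i => ⟨(g : ι → K) i, g.2 i (Set.mem_univ i)⟩
        invFun := fun g => ⟨fun i => g i, fun i _ => (g i).2⟩
        left_inv := fun g => rfl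
        right_inv := fun g => rfl }
  funext g
  simp only [piFun, H12.indFun_apply, Finset.prod_mul_distrib, hcard, Nat.cast_prod,
    ← Finset.prod_inv_distrib]
  congr 1
  rw [Finset.prod_univ_sum, Fintype.piFinset_univ]
  refine Fintype.sum_equiv (Equiv.refl _) _ _ fun x => ?_
  by_cases hx : x⁻¹ * g * x ∈ Subgroup.pi Set.univ H
  · rw [H12.extendByZero_mk _ _ hx]
    refine Finset.prod_congr rfl fun i _ => ?_
    exact (H12.extendByZero_mk (H i) (θ i) (hx i (Set.mem_univ i))).symm
  · rw [H12.extendByZero_of_notMem _ _ hx]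
    obtain ⟨i, hi⟩ : ∃ i, (x⁻¹ * g * x) i ∉ H i := by
      by_contra h
      push Not at h
      exact hx fun i _ => h i
    exact (Finset.prod_eq_zero (Finset.mem_univ i)
      (H12.extendByZero_of_notMem (H i) (θ i) hi)).symm

end H18
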