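import Cfsg.Agent.H12.Products
import Cfsg.Agent.H12.Linear
import Cfsg.Agent.H1.CoprimeAction
import Cfsg.Agent.H2.FPFSubgroup

/-!
Elements on which all nonlinear irreducible characters vanish, and groups in which irreducible
characters are multiplicative on products of elements of coprime prime power orders.
-/

set_option autoImplicit false
set_option linter.unusedSectionVars false

open Cfsg
open scoped ComplexConjugate commutatorElement

namespace H18

universe u

variable {G : Type u} [Group G] [Finite G]

/-- All nonlinear irreducible characters vanish at `z`. -/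
def NonlinVanish (z : G) : Prop := ∀ χ : IrrCharacter G, (χ : G → ℂ) 1 ≠ 1 → (χ : G → ℂ) z = 0

theorem lin_mul (χ : IrrCharacter G) (h : (χ : G → ℂ) 1 = 1) (a b : G) :
    (χ : G → ℂ) (a * b) = (χ : G → ℂ) a * (χ : G → ℂ) b := by
  obtain ⟨f, hf⟩ := H12.exists_monoidHom_of_apply_one_eq_one (H12.isCharacter_irr χ) h
  simp only [← congrFun hf, map_mul, Units.val_mul]

theorem nonlinVanish_iff (z : G) :
    NonlinVanish z ↔ Nat.card (Subgroup.centralizer ({z} : Set G)) = (commutator G).index := by
  classical
  cases nonempty_fintype G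
  have h := H12.column_orthogonality z z
  rw [if_pos (IsConj.refl z),
    ← Finset.sum_filter_add_sum_filter_not Finset.univ (fun χ : IrrCharacter G => (χ : G → ℂ) 1 = 1)] at h
  have h1 : ∀ χ ∈ Finset.univ.filter (fun χ : IrrCharacter G => (χ : G → ℂ) 1 = 1),
      (χ : G → ℂ) z * conj ((χ : G → ℂ) z) = 1 := by
    intro χ hχ
    rw [← H12.irr_inv, ← lin_mul χ (Finset.mem_filter.mp hχ).2, mul_inv_cancel]
    exact (Finset.mem_filter.mp hχ).2
  have h2 : ((Finset.univ.filter (fun χ : IrrCharacter G => (χ : G → ℂ) 1 = 1)).card : ℂ) =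
      ((commutator G).index : ℂ) := by
    rw [← H12.card_linear_irr, Nat.card_eq_fintype_card, Fintype.card_subtype]
  rw [Finset.sum_congr rfl h1, Finset.sum_const, nsmul_eq_mul, mul_one, h2] at h
  constructor
  · intro hz
    rw [Finset.sum_eq_zero (s := Finset.univ.filter fun χ : IrrCharacter G => ¬(χ : G → ℂ) 1 = 1)
      (fun χ hχ => by rw [hz χ (Finset.mem_filter.mp hχ).2, zero_mul]), add_zero] at h
    exact_mod_cast h.symm
  · intro hc
    rw [hc, add_eq_left] at h
    simp only [Complex.mul_conj, ← Complex.ofReal_sum, Complex.ofReal_eq_zero] at h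
    intro χ hχ
    exact Complex.normSq_eq_zero.mp ((Finset.sum_eq_zero_iff_of_nonneg
      fun ψ _ => Complex.normSq_nonneg _).mp h χ (Finset.mem_filter.mpr ⟨Finset.mem_univ _, hχ⟩))

theorem isConj_of_mem_coset {z w : G} (hz : NonlinVanish z) (hw : z⁻¹ * w ∈ commutator G) :
    IsConj z w := by
  classical
  cases nonempty_fintype G
  rw [H12.isConj_iff_irr]
  intro χ
  by_cases hlin : (χ : G → ℂ) 1 = 1
  · obtain ⟨f, hf⟩ := H12.exists_monoidHom_of_apply_one_eq_one (H12.isCharacter_irr χ) hlin
    have h : f (z⁻¹ * w) = 1 := Abelianization.commutator_subset_ker f hw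
    rw [map_mul, map_inv, inv_mul_eq_one] at h
    simp only [← congrFun hf, h]
  · have hclass : ∀ v : G, z⁻¹ * v ∈ commutator G →
        v ∈ MulAction.orbit (ConjAct G) z := by
      intro v hv
      have hsub : MulAction.orbit (ConjAct G) z ⊆ {v : G | z⁻¹ * v ∈ commutator G} := by
        rintro _ ⟨c, rfl⟩
        change z⁻¹ * (c • z) ∈ commutator G
        rw [ConjAct.smul_def, commutator_def]
        have : z⁻¹ * (ConjAct.ofConjAct c * z * (ConjAct.ofConjAct c)⁻¹) =
            ⁅z⁻¹, ConjAct.ofConjAct c⁆ := by simp only [commutatorElement_def]; group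
        rw [this]
        exact Subgroup.commutator_mem_commutator (Subgroup.mem_top _) (Subgroup.mem_top _)
      have hcard : ({v : G | z⁻¹ * v ∈ commutator G}).ncard = (MulAction.orbit (ConjAct G) z).ncard := by
        have h1 : ({v : G | z⁻¹ * v ∈ commutator G}).ncard = Nat.card (commutator G) := by
          rw [← Nat.card_coe_set_eq]
          exact Nat.card_congr (Equiv.subtypeEquiv (Equiv.mulLeft z⁻¹) fun v => Iff.rfl)
        have h2 := MulAction.index_stabilizer (ConjAct G) z
        have h3 : (MulAction.stabilizer (ConjAct G) z).index =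
            (Subgroup.centralizer ({z} : Set G)).index := by
          rw [← Subgroup.index_comap_of_surjective _ (f := (ConjAct.toConjAct : G ≃* ConjAct G).toMonoidHom)
            ConjAct.toConjAct.surjective]
          congr 1
          ext c
          simp [Subgroup.mem_centralizer_singleton_iff, MulAction.mem_stabilizer_iff, ConjAct.smul_def,
            mul_inv_eq_iff_eq_mul]
        have h4 := (Subgroup.centralizer ({z} : Set G)).card_mul_index
        rw [(nonlinVanish_iff z).mp hz, ← h3, h2] at h4
        have h5 := (commutator G).card_mul_index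
        rw [h1]
        have := Nat.eq_of_mul_eq_mul_left (Nat.pos_of_ne_zero Subgroup.index_ne_zero_of_finite)
          (h4.trans (h5.symm.trans (mul_comm _ _)))
        exact this.symm
      rw [Set.eq_of_subset_of_ncard_le hsub hcard.le (Set.toFinite _)]
      exact hv
    obtain ⟨c, rfl⟩ := hclass w hw
    exact (H12.IsClassFunction.of_isConj (H12.irr_isClassFunction χ)
      (isConj_iff.mpr ⟨ConjAct.ofConjAct c, (ConjAct.smul_def c z).symm⟩))

theorem not_mem_commutator {z : G} (hz : NonlinVanish z) {χ : IrrCharacter G}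
    (hχ : (χ : G → ℂ) 1 ≠ 1) : z ∉ commutator G := by
  intro h
  have h1 := isConj_of_mem_coset hz (w := 1) (by rw [mul_one]; exact inv_mem h)
  rw [isConj_one_left] at h1
  exact H12.irr_apply_one_ne_zero χ (h1 ▸ hz χ hχ)

end H18
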