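import Cfsg.Agent.H18.ProductValues
import Mathlib.GroupTheory.SchurZassenhaus

/-!
Groups with irreducible characters multiplicative on products of coprime prime power elements.
-/

set_option autoImplicit false
set_option linter.unusedSectionVars false

open Cfsg
open scoped ComplexConjugate commutatorElement

namespace H18

universe u

variable {G : Type u} [Group G] [Finite G]

theorem vanish_of_multiplicative
    (H : ∀ (x y : G) (χ : IrrCharacter G), x ≠ 1 → y ≠ 1 →
      (∃ p q a b : ℕ, p.Prime ∧ q.Prime ∧ p ≠ q ∧ orderOf x = p ^ a ∧ orderOf y = q ^ b) →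
      (χ : G → ℂ) (x * y) = (χ : G → ℂ) x * (χ : G → ℂ) y)
    {x y : G} (hx : x ≠ 1) (hy : y ≠ 1)
    (hpq : ∃ p q a b : ℕ, p.Prime ∧ q.Prime ∧ p ≠ q ∧ orderOf x = p ^ a ∧ orderOf y = q ^ b) :
    NonlinVanish (x * y) := by
  intro χ hχ
  cases nonempty_fintype G
  have h1 : ∀ a : G, (χ : G → ℂ) (x * (a * y * a⁻¹)) = (χ : G → ℂ) x * (χ : G → ℂ) y := by
    intro a
    have hc : (χ : G → ℂ) (a * y * a⁻¹) = (χ : G → ℂ) y := H12.irr_isClassFunction χ y a
    rw [H x (a * y * a⁻¹) χ hx (fun h => hy (by simpa using h)) ?_, hc]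
    have ho : orderOf (a * y * a⁻¹) = orderOf y :=
      orderOf_injective (MulAut.conj a).toMonoidHom (MulAut.conj a).injective y
    simpa only [ho] using hpq
  have h2 := H12.irr_class_product χ x y
  rw [Finset.sum_congr rfl (fun a _ => h1 a), Finset.sum_const, Finset.card_univ, nsmul_eq_mul,
    ← Nat.card_eq_fintype_card] at h2
  have hd := H12.irr_apply_one_ne_zero χ
  have hG : (Nat.card G : ℂ) ≠ 0 := by exact_mod_cast Nat.card_pos.ne'
  rw [eq_div_iff hd] at h2
  have h3 : (Nat.card G : ℂ) * ((χ : G → ℂ) x * (χ : G → ℂ) y) * ((χ : G → ℂ) 1 - 1) = 0 := by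
    linear_combination h2
  rw [H x y χ hx hy hpq]
  exact (mul_eq_zero.mp ((mul_eq_zero.mp h3).resolve_right (sub_ne_zero.mpr hχ))).resolve_left hG

theorem commutator_isPGroup {χ : IrrCharacter G} (hχ : (χ : G → ℂ) 1 ≠ 1)
    (hne : commutator G ≠ ⊥)
    (hvan : ∀ x y : G, x ≠ 1 → y ≠ 1 →
      (∃ p q a b : ℕ, p.Prime ∧ q.Prime ∧ p ≠ q ∧ orderOf x = p ^ a ∧ orderOf y = q ^ b) →
      NonlinVanish (x * y)) :
    ∃ p : ℕ, p.Prime ∧ IsPGroup p (commutator G) := by
  classical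
  have hcard : Nat.card (commutator G) ≠ 1 := fun h => hne (Subgroup.eq_bot_of_card_eq _ h)
  obtain ⟨p, hp, hpd⟩ := Nat.exists_prime_and_dvd hcard
  haveI := Fact.mk hp
  obtain ⟨x, hx⟩ := exists_prime_orderOf_dvd_card' p hpd
  refine ⟨p, hp, IsPGroup.iff_card.mpr ⟨(Nat.card (commutator G)).primeFactorsList.length,
    Nat.eq_prime_pow_of_unique_prime_dvd Nat.card_pos.ne' fun {q} hq hqd => ?_⟩⟩
  by_contra hqp
  haveI := Fact.mk hq
  obtain ⟨y, hy⟩ := exists_prime_orderOf_dvd_card' q hqd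
  rw [← Subgroup.orderOf_coe] at hx hy
  refine not_mem_commutator (hvan (x : G) y ?_ ?_ ⟨p, q, 1, 1, hp, hq, Ne.symm hqp,
    by rw [pow_one, hx], by rw [pow_one, hy]⟩) hχ (mul_mem x.2 y.2)
  · intro h; rw [h, orderOf_one] at hx; exact hp.ne_one hx.symm
  · intro h; rw [h, orderOf_one] at hy; exact hq.ne_one hy.symm

theorem structure_of_multiplicative
    (H : ∀ (x y : G) (χ : IrrCharacter G), x ≠ 1 → y ≠ 1 →
      (∃ p q a b : ℕ, p.Prime ∧ q.Prime ∧ p ≠ q ∧ orderOf x = p ^ a ∧ orderOf y = q ^ b) →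
      (χ : G → ℂ) (x * y) = (χ : G → ℂ) x * (χ : G → ℂ) y)
    (hnp : ¬ ∃ p : ℕ, p.Prime ∧ IsPGroup p G) (hnab : ¬ IsMulCommutative G) :
    ∃ (p : ℕ) (_ : Fact p.Prime) (P : Sylow p G) (A : Subgroup G), (P : Subgroup G).Normal ∧
      IsCyclic A ∧ A ≠ ⊥ ∧ (Nat.card A).Coprime p ∧ A ⊔ (P : Subgroup G) = ⊤ ∧
      IsMulCommutative ↥((P : Subgroup G) ⊓ Subgroup.centralizer (A : Set G)) ∧
      (⁅A, (P : Subgroup G)⁆).Normal ∧
      ((P : Subgroup G) ⊓ Subgroup.centralizer (A : Set G)) ⊔ ⁅A, (P : Subgroup G)⁆ = (P : Subgroup G) ∧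
      ((P : Subgroup G) ⊓ Subgroup.centralizer (A : Set G)) ⊓ ⁅A, (P : Subgroup G)⁆ = ⊥ ∧
      ∀ a ∈ A, a ≠ 1 → ∀ d ∈ ⁅A, (P : Subgroup G)⁆, a * d = d * a → d = 1 := by
  classical
  cases nonempty_fintype G
  have hne : commutator G ≠ ⊥ := fun h => hnab ⟨⟨fun a b => by
    rw [← commutatorElement_eq_one_iff_mul_comm]
    exact (h ▸ Subgroup.commutator_mem_commutator (Subgroup.mem_top a) (Subgroup.mem_top b) :
      ⁅a, b⁆ ∈ (⊥ : Subgroup G))⟩⟩
  obtain ⟨χ, hχ⟩ : ∃ χ : IrrCharacter G, (χ : G → ℂ) 1 ≠ 1 := by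
    by_contra h
    push Not at h
    refine hnab ⟨⟨fun a b => ?_⟩⟩
    by_contra hab
    have hc : IsConj (a * b) (b * a) := isConj_iff.mpr ⟨b, by group⟩
    obtain ⟨ψ, hψ⟩ : ∃ ψ : IrrCharacter G, (ψ : G → ℂ) ⁅a, b⁆ ≠ (ψ : G → ℂ) 1 := by
      by_contra h'
      push Not at h'
      exact hab (commutatorElement_eq_one_iff_mul_comm.mp
        (isConj_one_left.mp ((H12.isConj_iff_irr _ _).mpr h')))
    obtain ⟨f, hf⟩ := H12.exists_monoidHom_of_apply_one_eq_one (H12.isCharacter_irr ψ) (h ψ)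
    refine hψ ?_
    simp only [← congrFun hf, map_commutatorElement]
    simp [commutatorElement_eq_one_iff_mul_comm.mpr (mul_comm (f a) (f b))]
  have hvan : ∀ x y : G, x ≠ 1 → y ≠ 1 →
      (∃ p q a b : ℕ, p.Prime ∧ q.Prime ∧ p ≠ q ∧ orderOf x = p ^ a ∧ orderOf y = q ^ b) →
      NonlinVanish (x * y) := fun x y => vanish_of_multiplicative H
  obtain ⟨p, hp, hDp⟩ := commutator_isPGroup hχ hne hvan
  haveI := Fact.mk hp
  obtain ⟨P, hDP⟩ := hDp.exists_le_sylow
  haveI hPn : (P : Subgroup G).Normal := ⟨fun x hx g => by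
    have h1 : ⁅g, x⁆ ∈ (P : Subgroup G) :=
      hDP (Subgroup.commutator_mem_commutator (Subgroup.mem_top g) (Subgroup.mem_top x))
    simpa [commutatorElement_def] using (P : Subgroup G).mul_mem h1 hx⟩
  obtain ⟨A, hA⟩ := Subgroup.exists_right_complement'_of_coprime P.card_coprime_index
  have hAcard : Nat.card A = (P : Subgroup G).index := hA.symm.index_eq_card.symm
  have hAp : (Nat.card A).Coprime p :=
    ((hp.coprime_iff_not_dvd).mpr (hAcard ▸ P.not_dvd_index)).symm
  have hAP : (Nat.card A).Coprime (Nat.card (P : Subgroup G)) := by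
    obtain ⟨k, hk⟩ := IsPGroup.iff_card.mp P.2
    rw [hk]; exact hAp.pow_right k
  have hAbot : A ≠ ⊥ := fun h => hnp ⟨p, hp, by
    have h1 : (P : Subgroup G) = ⊤ := by
      rw [← Subgroup.index_eq_one, ← hAcard, h, Subgroup.card_bot]
    exact P.2.of_equiv ((MulEquiv.subgroupCongr h1).trans Subgroup.topEquiv)⟩
  have hAsup : A ⊔ (P : Subgroup G) = ⊤ := by rw [sup_comm]; exact hA.sup_eq_top
  -- no fixed points on the derived subgroup
  have hfpf : ∀ a ∈ A, a ≠ 1 → ∀ d ∈ commutator G, a * d = d * a → d = 1 := by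
    intro a ha ha1 d hd hcomm
    by_contra hd1
    obtain ⟨q, hq, hqd⟩ := Nat.exists_prime_and_dvd (fun h => ha1 (orderOf_eq_one_iff.mp h))
    set b := a ^ (orderOf a / q) with hb
    have hbo : orderOf b = q := orderOf_pow_orderOf_div (orderOf_pos a).ne' hqd
    have hbd : b * d = d * b := (Commute.pow_left hcomm _).eq
    obtain ⟨j, hj⟩ := IsPGroup.iff_orderOf.mp hDp ⟨d, hd⟩
    rw [← Subgroup.orderOf_coe] at hj
    have hqA : q ∣ Nat.card A := hqd.trans (Subgroup.orderOf_dvd_natCard A ha)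
    have hqp : q ≠ p := fun h => hq.ne_one (Nat.eq_one_of_dvd_coprimes hAp hqA (h ▸ dvd_rfl))
    have hb1 : b ≠ 1 := fun h => hq.ne_one (by rw [← hbo, h, orderOf_one])
    have hv := hvan b d hb1 hd1 ⟨q, p, 1, j, hq, hp, hqp, by rw [pow_one, hbo], hj⟩
    have hc := isConj_of_mem_coset hv (w := b) (by
      rw [mul_inv_rev, mul_assoc, inv_mul_cancel, mul_one]; exact inv_mem hd)
    obtain ⟨c, hc'⟩ := isConj_iff.mp hc
    have ho : orderOf (b * d) = orderOf b := by
      conv_rhs => rw [← hc']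
      exact (orderOf_injective (MulAut.conj c).toMonoidHom (MulAut.conj c).injective (b * d)).symm
    rw [Commute.orderOf_mul_eq_mul_orderOf_of_coprime hbd (by
      rw [hbo, hj]; exact ((Nat.coprime_primes hq hp).mpr hqp).pow_right j), hbo, hj,
      mul_eq_left₀ hq.ne_zero] at ho
    rw [ho] at hj
    exact hd1 (orderOf_eq_one_iff.mp hj)
  have hAcomm : IsMulCommutative A := ⟨⟨fun a b => Subtype.ext (by
    rw [Subgroup.coe_mul, Subgroup.coe_mul, ← commutatorElement_eq_one_iff_mul_comm]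
    have h1 : ⁅(a : G), (b : G)⁆ ∈ A := by
      rw [commutatorElement_def]
      exact mul_mem (mul_mem (mul_mem a.2 b.2) (inv_mem a.2)) (inv_mem b.2)
    have h2 : ⁅(a : G), (b : G)⁆ ∈ (P : Subgroup G) :=
      hDP (Subgroup.commutator_mem_commutator (Subgroup.mem_top _) (Subgroup.mem_top _))
    exact (Subgroup.disjoint_of_coprime_natCard hAP).le_bot ⟨h1, h2⟩)⟩⟩
  -- cyclicity
  let V : Subgroup G := (Subgroup.center (commutator G)).map (commutator G).subtype
  have hVab : IsMulCommutative V := ⟨⟨by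
    rintro ⟨_, a, ha, rfl⟩ ⟨_, b, hb, rfl⟩
    exact Subtype.ext (show (a : G) * b = b * a from congrArg Subtype.val ((Subgroup.mem_center_iff.mp ha b).symm))⟩⟩
  have hVle : V ≤ commutator G := Subgroup.map_subtype_le _
  have hVn : V.Normal := inferInstance
  have hAV : A ≤ Subgroup.normalizer (V : Set G) := by
    rw [Subgroup.normalizer_eq_top]; exact le_top
  have hVne : V ≠ ⊥ := by
    haveI : Nontrivial (commutator G) := (Subgroup.nontrivial_iff_ne_bot _).mpr hne
    haveI := hDp.center_nontrivial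
    intro h
    have h' := (Subgroup.map_eq_bot_iff_of_injective _ (commutator G).subtype_injective).mp h
    exact (Subgroup.nontrivial_iff_ne_bot _).mp inferInstance h'
  have hAcyc : IsCyclic A := H2.isCyclic_of_fpf_subgroup A V hAV hVne (fun a ha ha1 => by
    rw [eq_bot_iff]
    rintro d ⟨hd, hc⟩
    rw [Subgroup.mem_bot]
    exact hfpf a ha ha1 d (hVle hd) (Subgroup.mem_centralizer_singleton_iff.mp hc).symm) (.inl hAcomm)
  have hPnorm : A ≤ Subgroup.normalizer ((P : Subgroup G) : Set G) := by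
    rw [Subgroup.normalizer_eq_top]; exact le_top
  have hDle : ⁅A, (P : Subgroup G)⁆ ≤ commutator G := Subgroup.commutator_mono le_top le_top
  have hsup := H1.commutator_sup_centralizer_eq hPnorm hAP
    (Or.inl (letI := hAcyc.commGroup; inferInstance))
  obtain ⟨a₀, ha₀, ha₀1⟩ := A.ne_bot_iff_exists_ne_one.mp hAbot |> fun ⟨a, ha⟩ =>
    (⟨a, a.2, fun h => ha (Subtype.ext h)⟩ : ∃ a₀ ∈ A, (a₀ : G) ≠ 1)
  have hCD : ∀ z ∈ (P : Subgroup G) ⊓ Subgroup.centralizer (A : Set G), z ∈ commutator G → z = 1 :=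
    fun z hz hz' => hfpf a₀ ha₀ ha₀1 z hz' (Subgroup.mem_centralizer_iff.mp hz.2 a₀ ha₀)
  refine ⟨p, inferInstance, P, A, hPn, hAcyc, hAbot, hAp, hAsup, ⟨⟨fun a b => Subtype.ext ?_⟩⟩,
    ?_, ?_, ?_, fun a ha ha1 d hd hc => hfpf a ha ha1 d (hDle hd) hc⟩
  · rw [Subgroup.coe_mul, Subgroup.coe_mul, ← commutatorElement_eq_one_iff_mul_comm]
    refine hCD _ ?_ (Subgroup.commutator_mem_commutator (Subgroup.mem_top _) (Subgroup.mem_top _))
    rw [commutatorElement_def]
    exact mul_mem (mul_mem (mul_mem a.2 b.2) (inv_mem a.2)) (inv_mem b.2)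
  · rw [← Subgroup.normalizer_eq_top_iff, eq_top_iff, ← hAsup]
    rw [Subgroup.commutator_comm A (P : Subgroup G)]
    exact sup_le H1.right_le_normalizer_commutator H1.left_le_normalizer_commutator
  · rw [sup_comm, Subgroup.commutator_comm A (P : Subgroup G)]
    exact hsup
  · rw [eq_bot_iff]
    rintro z ⟨hz, hz'⟩
    exact Subgroup.mem_bot.mpr (hCD z hz (hDle hz'))

theorem multiplicative_of_structure (p : ℕ) [Fact p.Prime] (P : Sylow p G) (A : Subgroup G)
    (hPn : (P : Subgroup G).Normal) (hcyc : IsCyclic A) (hAp : (Nat.card A).Coprime p)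
    (hAsup : A ⊔ (P : Subgroup G) = ⊤)
    (hCab : IsMulCommutative ↥((P : Subgroup G) ⊓ Subgroup.centralizer (A : Set G)))
    (hDn : (⁅A, (P : Subgroup G)⁆).Normal)
    (hCD : ((P : Subgroup G) ⊓ Subgroup.centralizer (A : Set G)) ⊔ ⁅A, (P : Subgroup G)⁆ =
      (P : Subgroup G))
    (hfpf : ∀ a ∈ A, a ≠ 1 → ∀ d ∈ ⁅A, (P : Subgroup G)⁆, a * d = d * a → d = 1)
    {x y : G} (χ : IrrCharacter G) (hx : x ≠ 1) (hy : y ≠ 1)
    (hpq : ∃ p q a b : ℕ, p.Prime ∧ q.Prime ∧ p ≠ q ∧ orderOf x = p ^ a ∧ orderOf y = q ^ b) :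
    (χ : G → ℂ) (x * y) = (χ : G → ℂ) x * (χ : G → ℂ) y := by
  classical
  cases nonempty_fintype G
  haveI := hPn
  set D := ⁅A, (P : Subgroup G)⁆ with hD
  set C := (P : Subgroup G) ⊓ Subgroup.centralizer (A : Set G) with hC
  haveI := hDn
  have hpp : p.Prime := Fact.out
  -- every element is a product
  have hdec : ∀ z : G, ∃ a ∈ A, ∃ c ∈ C, ∃ d ∈ D, z = a * c * d := by
    intro z
    obtain ⟨a, ha, u, hu, rfl⟩ := Subgroup.mem_sup_of_normal_right.mp
      (hAsup ▸ Subgroup.mem_top z : z ∈ A ⊔ (P : Subgroup G))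
    obtain ⟨c, hc, d, hd, rfl⟩ := Subgroup.mem_sup_of_normal_right.mp (hCD ▸ hu : u ∈ C ⊔ D)
    exact ⟨a, ha, c, hc, d, hd, (mul_assoc _ _ _).symm⟩
  have hDG : D ≤ commutator G := Subgroup.commutator_mono le_top le_top
  have hAcomm : IsMulCommutative A :=
    ⟨⟨fun a b => letI := hcyc.commGroup; mul_comm a b⟩⟩
  have hGD : commutator G = D := by
    refine le_antisymm (Subgroup.Normal.quotient_commutative_iff_commutator_le.mp
      ⟨⟨fun X Y => ?_⟩⟩) hDG
    obtain ⟨z, rfl⟩ := QuotientGroup.mk_surjective X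
    obtain ⟨w, rfl⟩ := QuotientGroup.mk_surjective Y
    obtain ⟨a, ha, c, hc, d, hd, rfl⟩ := hdec z
    obtain ⟨a', ha', c', hc', d', hd', rfl⟩ := hdec w
    rw [QuotientGroup.mk_mul_of_mem _ hd, QuotientGroup.mk_mul_of_mem _ hd', ← QuotientGroup.mk_mul,
      ← QuotientGroup.mk_mul]
    congr 1
    have e1 : c * a' = a' * c := (Subgroup.mem_centralizer_iff.mp hc.2 a' ha').symm
    have e2 : c' * a = a * c' := (Subgroup.mem_centralizer_iff.mp hc'.2 a ha).symm
    have e3 : a * a' = a' * a := congrArg Subtype.val (hAcomm.is_comm.comm ⟨a, ha⟩ ⟨a', ha'⟩)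
    have e4 : c * c' = c' * c := congrArg Subtype.val (hCab.is_comm.comm ⟨c, hc⟩ ⟨c', hc'⟩)
    calc a * c * (a' * c') = a * a' * (c * c') := by
          rw [mul_assoc, ← mul_assoc c, e1]; group
      _ = a' * a * (c' * c) := by rw [e3, e4]
      _ = a' * c' * (a * c) := by rw [mul_assoc a' c', ← mul_assoc c', e2]; group
  -- elements outside `P`
  have hout : ∀ z : G, z ∉ (P : Subgroup G) → NonlinVanish z := by
    intro z hz
    obtain ⟨a, ha, c, hc, d, hd, rfl⟩ := hdec z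
    have ha1 : a ≠ 1 := fun h => hz (by
      rw [h, one_mul]
      exact (P : Subgroup G).mul_mem hc.1 (hCD ▸ Subgroup.mem_sup_right hd))
    set m := a * c with hm
    have hac : Commute a c := Subgroup.mem_centralizer_iff.mp hc.2 a ha
    have hcent : ∀ e ∈ D, m * e = e * m → e = 1 := by
      intro e he hcomm
      obtain ⟨k, hk⟩ := IsPGroup.iff_orderOf.mp P.2 ⟨c, hc.1⟩
      rw [← Subgroup.orderOf_coe] at hk
      have h1 : m ^ p ^ k = a ^ p ^ k := by
        rw [hm, hac.mul_pow, ← hk, pow_orderOf_eq_one, mul_one]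
      refine hfpf _ (pow_mem ha (p ^ k)) (fun h => ha1 ?_) e he ?_
      · rw [← orderOf_dvd_iff_pow_eq_one] at h
        exact orderOf_eq_one_iff.mp (Nat.eq_one_of_dvd_coprimes
          ((hAp.pow_right k).coprime_dvd_left (Subgroup.orderOf_dvd_natCard A ha)) dvd_rfl h)
      · rw [← h1]; exact (Commute.pow_left hcomm _).eq
    -- the class of `m` is its coset
    let f : D → D := fun e => ⟨m⁻¹ * ((e : G) * m * (e : G)⁻¹), by
      have : m⁻¹ * ((e : G) * m * (e : G)⁻¹) = (m⁻¹ * e * m) * (e : G)⁻¹ := by group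
      rw [this]
      exact D.mul_mem (by simpa using hDn.conj_mem _ e.2 m⁻¹) (inv_mem e.2)⟩
    have hf : Function.Injective f := by
      intro e e' h
      have h' : m⁻¹ * ((e : G) * m * (e : G)⁻¹) = m⁻¹ * ((e' : G) * m * (e' : G)⁻¹) :=
        congrArg Subtype.val h
      rw [mul_right_inj] at h'
      have := hcent ((e' : G)⁻¹ * e) (D.mul_mem (inv_mem e'.2) e.2) (by
        calc m * ((e' : G)⁻¹ * e) = (e' : G)⁻¹ * ((e' : G) * m * (e' : G)⁻¹) * e := by group
          _ = (e' : G)⁻¹ * e * m := by rw [← h']; group)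
      rw [inv_mul_eq_one] at this
      exact Subtype.ext this.symm
    obtain ⟨e, he⟩ := Finite.injective_iff_surjective.mp hf ⟨d, hd⟩
    have hz' : m * d = (e : G) * m * (e : G)⁻¹ := by
      have := congrArg Subtype.val he
      change m⁻¹ * ((e : G) * m * (e : G)⁻¹) = d at this
      rw [← this, mul_inv_cancel_left]
    suffices NonlinVanish m by
      intro ψ hψ
      rw [hz', (H12.irr_isClassFunction ψ) m e]
      exact this ψ hψ
    rw [nonlinVanish_iff, hGD]
    have hinj : Nat.card (Subgroup.centralizer ({m} : Set G)) ≤ D.index := by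
      rw [Subgroup.index_eq_card]
      refine Nat.card_le_card_of_injective (fun v => ((v : G) : G ⧸ D)) fun v w h => ?_
      have h1 : (v : G)⁻¹ * w ∈ D := QuotientGroup.eq.mp h
      have := hcent _ h1 (Subgroup.mem_centralizer_singleton_iff.mp
        (mul_mem (inv_mem v.2) w.2)).symm
      exact Subtype.ext (inv_mul_eq_one.mp this)
    refine le_antisymm hinj ?_
    -- the class lies in the coset
    have hsub : MulAction.orbit (ConjAct G) m ⊆ {v : G | m⁻¹ * v ∈ D} := by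
      rintro _ ⟨g, rfl⟩
      change m⁻¹ * (g • m) ∈ D
      rw [ConjAct.smul_def, ← hGD, commutator_def]
      have : m⁻¹ * (ConjAct.ofConjAct g * m * (ConjAct.ofConjAct g)⁻¹) =
          ⁅m⁻¹, ConjAct.ofConjAct g⁆ := by simp only [commutatorElement_def]; group
      rw [this]
      exact Subgroup.commutator_mem_commutator (Subgroup.mem_top _) (Subgroup.mem_top _)
    have h1 : (MulAction.orbit (ConjAct G) m).ncard ≤ Nat.card D := by
      refine (Set.ncard_le_ncard hsub (Set.toFinite _)).trans (le_of_eq ?_)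
      rw [← Nat.card_coe_set_eq]
      exact Nat.card_congr (Equiv.subtypeEquiv (Equiv.mulLeft m⁻¹) fun v => Iff.rfl)
    have h3 : (MulAction.stabilizer (ConjAct G) m).index =
        (Subgroup.centralizer ({m} : Set G)).index := by
      rw [← Subgroup.index_comap_of_surjective _ (f := (ConjAct.toConjAct : G ≃* ConjAct G).toMonoidHom)
        ConjAct.toConjAct.surjective]
      congr 1
      ext g
      simp [Subgroup.mem_centralizer_singleton_iff, MulAction.mem_stabilizer_iff, ConjAct.smul_def,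
        mul_inv_eq_iff_eq_mul]
    rw [← MulAction.index_stabilizer (ConjAct G) m, h3] at h1
    have h4 := (Subgroup.centralizer ({m} : Set G)).card_mul_index
    have h5 := D.card_mul_index
    have h6 : (Subgroup.centralizer ({m} : Set G)).index ≠ 0 := Subgroup.index_ne_zero_of_finite
    nlinarith [Nat.mul_le_mul_left (Nat.card (Subgroup.centralizer ({m} : Set G))) h1,
      Nat.card_pos (α := D)]
  by_cases hlin : (χ : G → ℂ) 1 = 1
  · exact lin_mul χ hlin x y
  obtain ⟨q, r, a, b, hq, hr, hqr, hxo, hyo⟩ := hpq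
  have hmem : ∀ {w : G} {s k : ℕ}, s.Prime → orderOf w = s ^ k → w ∈ (P : Subgroup G) → w ≠ 1 →
      s = p := by
    intro w s k hs ho hw hw1
    obtain ⟨j, hj⟩ := IsPGroup.iff_orderOf.mp P.2 ⟨w, hw⟩
    rw [← Subgroup.orderOf_coe, ho] at hj
    have hk : k ≠ 0 := fun h => hw1 (orderOf_eq_one_iff.mp (by rw [ho, h, pow_zero]))
    exact (Nat.prime_dvd_prime_iff_eq hs hpp).mp (hs.dvd_of_dvd_pow (hj ▸ dvd_pow_self s hk))
  by_cases hxP : x ∈ (P : Subgroup G)
  · have hq' := hmem hq hxo hxP hx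
    have hyP : y ∉ (P : Subgroup G) := fun h => hqr (hq'.trans (hmem hr hyo h hy).symm)
    have hxyP : x * y ∉ (P : Subgroup G) := fun h =>
      hyP (by simpa using mul_mem (inv_mem hxP) h)
    rw [hout y hyP χ hlin, hout _ hxyP χ hlin, mul_zero]
  · have hxyP : x * y ∉ (P : Subgroup G) := by
      intro h
      apply hxP
      rw [← QuotientGroup.eq_one_iff]
      have h1 : ((x : G) : G ⧸ (P : Subgroup G)) * (y : G) = 1 := by
        rw [← QuotientGroup.mk_mul]; exact (QuotientGroup.eq_one_iff _).mpr h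
      have h2 : orderOf ((x : G) : G ⧸ (P : Subgroup G)) ∣ q ^ a :=
        hxo ▸ orderOf_map_dvd (QuotientGroup.mk' _) x
      have h3 : orderOf ((x : G) : G ⧸ (P : Subgroup G)) ∣ r ^ b := by
        rw [eq_inv_of_mul_eq_one_left h1, orderOf_inv]
        exact hyo ▸ orderOf_map_dvd (QuotientGroup.mk' _) y
      exact orderOf_eq_one_iff.mp
        (Nat.eq_one_of_dvd_coprimes (((Nat.coprime_primes hq hr).mpr hqr).pow a b) h2 h3)
    rw [hout x hxP χ hlin, hout _ hxyP χ hlin, zero_mul]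

end H18
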