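import Mathlib.Analysis.Complex.Basic
import Mathlib.Tactic

/-!
Two families of roots of unity of prime order satisfying a quadratic identity are trivial.
-/

set_option autoImplicit false

namespace H18

open Finset

theorem eq_one_of_re_eq_one {z : ℂ} (h : ‖z‖ = 1) (hr : z.re = 1) : z = 1 := by
  have := Complex.normSq_eq_norm_sq z
  rw [h, Complex.normSq_apply, hr] at this
  exact Complex.ext hr (by simpa using mul_self_eq_zero.mp (by linarith : z.im * z.im = 0))

theorem all_one_of_sum_eq_card {ι : Type*} [Fintype ι] (z : ι → ℂ) (hz : ∀ i, ‖z i‖ = 1)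
    (h : ∑ i, z i = (Fintype.card ι : ℂ)) (i : ι) : z i = 1 := by
  have h1 : ∑ i, (1 - (z i).re) = 0 := by
    rw [Finset.sum_sub_distrib, ← Complex.re_sum, h]
    simp
  have h2 := (Finset.sum_eq_zero_iff_of_nonneg fun i _ => by
    have := Complex.re_le_norm (z i); rw [hz i] at this; linarith).mp h1 i (Finset.mem_univ i)
  exact eq_one_of_re_eq_one (hz i) (by linarith)

theorem pairwise_mul_eq_one {ι : Type*} [Fintype ι] (z : ι → ℂ) (hz : ∀ i, ‖z i‖ = 1)
    (h : (∑ i, z i) ^ 2 - ∑ i, z i ^ 2 = (Fintype.card ι : ℂ) ^ 2 - Fintype.card ι)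
    (i j : ι) (hij : i ≠ j) : z i * z j = 1 := by
  classical
  let q : ι × ι → ℂ := fun x => if x.1 = x.2 then 1 else z x.1 * z x.2
  have hq : ∀ x, ‖q x‖ = 1 := fun x => by
    simp only [q]; split_ifs <;> simp [hz]
  have hs : ∑ x, q x = (Fintype.card (ι × ι) : ℂ) := by
    have e : ∀ x : ι × ι, q x = z x.1 * z x.2 + if x.1 = x.2 then 1 - z x.1 ^ 2 else 0 := by
      intro x
      simp only [q]
      split_ifs with hx
      · rw [hx]; ring
      · rw [add_zero]
    rw [Finset.sum_congr rfl fun x _ => e x, Finset.sum_add_distrib, Fintype.sum_prod_type,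
      Fintype.sum_prod_type, ← Finset.sum_mul_sum]
    simp only [Finset.sum_ite_eq, Finset.mem_univ, if_true, Finset.sum_sub_distrib,
      Finset.sum_const, Finset.card_univ, Fintype.card_prod, nsmul_eq_mul, mul_one, Nat.cast_mul]
    linear_combination h
  simpa [q, hij] using all_one_of_sum_eq_card q hq hs (i, j)

theorem geom_sum_of_pow_eq_one {z : ℂ} {r : ℕ} (h : z ^ r = 1) :
    ∑ k ∈ Finset.range r, z ^ k = if z = 1 then (r : ℂ) else 0 := by
  split_ifs with hz
  · simp [hz]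
  · rw [geom_sum_eq hz, h, sub_self, zero_div]

theorem card_filter_eq_of_pow {ι : Type*} [Fintype ι] {r : ℕ} (hr : 0 < r) (z : ι → ℂ)
    (hz : ∀ i, z i ^ r = 1) (h : ∀ k, ¬ r ∣ k → ∑ i, z i ^ k = 0) : r ∣ Fintype.card ι := by
  classical
  have h1 : ∑ k ∈ Finset.range r, ∑ i, z i ^ k = (Fintype.card ι : ℂ) := by
    rw [Finset.sum_eq_single_of_mem 0 (Finset.mem_range.mpr hr) fun k hk hk0 => h k fun hd =>
      hk0 (Nat.eq_zero_of_dvd_of_lt hd (Finset.mem_range.mp hk))]
    simp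
  rw [Finset.sum_comm, Finset.sum_congr rfl fun i _ => geom_sum_of_pow_eq_one (hz i),
    ← Finset.sum_filter, Finset.sum_const, nsmul_eq_mul] at h1
  exact ⟨(Finset.univ.filter fun i => z i = 1).card, by
    have : Fintype.card ι = (Finset.univ.filter fun i => z i = 1).card * r := by
      exact_mod_cast h1.symm
    rw [this, mul_comm]⟩

theorem roots_trivial {ι κ : Type*} [Fintype ι] [Fintype κ] {r m : ℕ} (hr : r.Prime) (hr2 : r ≠ 2)
    (hm : 3 ≤ m) (hι : Fintype.card ι = m) (hκ : Fintype.card κ = m) (w : ι → ℂ) (v : κ → ℂ)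
    (hw : ∀ i, w i ^ r = 1) (hv : ∀ j, v j ^ r = 1)
    (h : ∀ k, ¬ r ∣ k →
      ((∑ i, w i ^ k + ∑ j, v j ^ k) ^ 2 - (∑ i, w i ^ (2 * k) + ∑ j, v j ^ (2 * k)) =
        2 * (m : ℂ) * ((∑ i, w i ^ k + ∑ j, v j ^ k) - 1)) ∧
      ((∑ i, w i ^ k - ∑ j, v j ^ k) ^ 2 - (∑ i, w i ^ (2 * k) + ∑ j, v j ^ (2 * k)) =
        2 * (m : ℂ) * ((∑ i, w i ^ k - ∑ j, v j ^ k) - 1))) :
    (∀ i, w i = 1) ∧ ∀ j, v j = 1 := by
  classical
  set W : ℕ → ℂ := fun k => ∑ i, w i ^ k with hW
  set V : ℕ → ℂ := fun k => ∑ j, v j ^ k with hV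
  have hnorm : ∀ {z : ℂ}, z ^ r = 1 → ∀ k, ‖z ^ k‖ = 1 := fun {z} hz k => by
    rw [norm_pow, Complex.norm_eq_one_of_pow_eq_one hz hr.ne_zero, one_pow]
  have hVW : ∀ k, ¬ r ∣ k → V k * (W k - m) = 0 := fun k hk => by
    obtain ⟨e1, e2⟩ := h k hk
    simp only [hW, hV]
    linear_combination (e1 - e2) / 4
  have hinj : ∀ {z : ℂ} {k : ℕ}, z ^ r = 1 → ¬ r ∣ k → z ^ k = 1 → z = 1 := by
    intro z k hz hk hzk
    have h3 := Nat.dvd_gcd (orderOf_dvd_of_pow_eq_one hz) (orderOf_dvd_of_pow_eq_one hzk)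
    rw [(hr.coprime_iff_not_dvd).mpr hk] at h3
    exact orderOf_eq_one_iff.mp (Nat.dvd_one.mp h3)
  by_cases hcase : ∃ k, ¬ r ∣ k ∧ W k = (m : ℂ)
  · obtain ⟨k, hk, hWk⟩ := hcase
    have hw1 : ∀ i, w i = 1 := fun i => hinj (hw i) hk
      (all_one_of_sum_eq_card (fun i => w i ^ k) (fun i => hnorm (hw i) k) (by rw [hι]; exact hWk) i)
    refine ⟨hw1, fun j => ?_⟩
    have h1 : ¬ r ∣ 1 := hr.not_dvd_one
    have e1 := (h 1 h1).1
    simp only [hw1, one_pow, Finset.sum_const, Finset.card_univ, hι, nsmul_eq_mul, mul_one,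
      pow_one] at e1
    have hp := pairwise_mul_eq_one v (fun j => by simpa using hnorm (hv j) 1) (by
      rw [hκ]; linear_combination e1)
    obtain ⟨a, ha, b, hb, hab⟩ : ∃ a, a ≠ j ∧ ∃ b, b ≠ j ∧ a ≠ b := by
      have h2 : 2 ≤ ((Finset.univ : Finset κ).erase j).card := by
        rw [Finset.card_erase_of_mem (Finset.mem_univ j), Finset.card_univ, hκ]; omega
      obtain ⟨a, ha, b, hb, hab⟩ := Finset.one_lt_card.mp h2
      exact ⟨a, Finset.ne_of_mem_erase ha, b, Finset.ne_of_mem_erase hb, hab⟩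
    have q1 := hp j a ha.symm
    have q2 := hp j b hb.symm
    have q3 := hp a b hab
    have hsq : v j ^ 2 = 1 := by linear_combination (-(v j) ^ 2) * q3 + (v j * v b) * q1 + q2
    exact hinj (hv j) (fun hd => hr2 ((Nat.prime_dvd_prime_iff_eq hr Nat.prime_two).mp hd)) hsq
  push Not at hcase
  exfalso
  have hV0 : ∀ k, ¬ r ∣ k → V k = 0 := fun k hk =>
    (mul_eq_zero.mp (hVW k hk)).resolve_right (sub_ne_zero.mpr (hcase k hk))
  have hWid : ∀ k, ¬ r ∣ k → W k ^ 2 - W (2 * k) = 2 * (m : ℂ) * (W k - 1) := by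
    intro k hk
    have h2k : ¬ r ∣ 2 * k := fun hd => (hr.dvd_mul.mp hd).elim
      (fun hd' => hr2 ((Nat.prime_dvd_prime_iff_eq hr Nat.prime_two).mp hd')) hk
    have e1 := (h k hk).1
    have a1 := hV0 k hk
    have a2 := hV0 (2 * k) h2k
    simp only [hV] at a1 a2
    rw [a1, a2] at e1
    simpa [hW] using e1
  have hrκ : r ∣ m := hκ ▸ card_filter_eq_of_pow hr.pos v hv hV0
  -- some root among the `w` equals one
  obtain ⟨i0, hi0⟩ : ∃ i, w i = 1 := by
    by_contra hc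
    push Not at hc
    have hz : ∑ k ∈ Finset.range r, W k = 0 := by
      simp only [hW]
      rw [Finset.sum_comm]
      exact Finset.sum_eq_zero fun i _ => by rw [geom_sum_of_pow_eq_one (hw i), if_neg (hc i)]
    have hz2 : ∑ k ∈ Finset.range r, W (2 * k) = 0 := by
      simp only [hW, pow_mul]
      rw [Finset.sum_comm]
      refine Finset.sum_eq_zero fun i _ => ?_
      rw [geom_sum_of_pow_eq_one (by rw [← pow_mul, mul_comm, pow_mul, hw i, one_pow]), if_neg]
      exact fun h2 => hc i (hinj (hw i)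
        (fun hd => hr2 ((Nat.prime_dvd_prime_iff_eq hr Nat.prime_two).mp hd)) h2)
    have hsq : ∑ k ∈ Finset.range r, W k ^ 2 =
        ((r * (Finset.univ.filter fun x : ι × ι => w x.1 * w x.2 = 1).card : ℕ) : ℂ) := by
      have e : ∀ k, W k ^ 2 = ∑ x : ι × ι, (w x.1 * w x.2) ^ k := fun k => by
        simp only [hW, pow_two, Finset.sum_mul_sum, Fintype.sum_prod_type, mul_pow]
      rw [Finset.sum_congr rfl fun k _ => e k, Finset.sum_comm, Finset.sum_congr rfl fun x _ =>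
        geom_sum_of_pow_eq_one (show (w x.1 * w x.2) ^ r = 1 by rw [mul_pow, hw, hw, one_mul]),
        ← Finset.sum_filter, Finset.sum_const, nsmul_eq_mul, Nat.cast_mul, mul_comm]
    obtain ⟨Q, hQ⟩ : ∃ Q : ℕ, ∑ k ∈ Finset.range r, W k ^ 2 = ((r * Q : ℕ) : ℂ) := ⟨_, hsq⟩
    have htot : ∀ k ∈ Finset.range r, W k ^ 2 - W (2 * k) - 2 * (m : ℂ) * (W k - 1) =
        if k = 0 then (m : ℂ) ^ 2 - m - 2 * m * (m - 1) else 0 := by
      intro k hk
      split_ifs with h0
      · simp [hW, h0, hι]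
      · rw [hWid k fun hd => h0 (Nat.eq_zero_of_dvd_of_lt hd (Finset.mem_range.mp hk)), sub_self]
    have := Finset.sum_congr rfl htot
    rw [Finset.sum_sub_distrib, Finset.sum_sub_distrib, ← Finset.mul_sum, Finset.sum_sub_distrib,
      hz, hz2, hQ, Finset.sum_const, Finset.card_range, Finset.sum_ite_eq',
      if_pos (Finset.mem_range.mpr hr.pos), nsmul_eq_mul] at this
    have h3 : ((r * Q + 2 * m * r + m ^ 2 : ℕ) : ℂ) = ((m : ℕ) : ℂ) := by
      push_cast at this ⊢
      linear_combination this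
    have h4 : r * Q + 2 * m * r + m ^ 2 = m := by exact_mod_cast h3
    nlinarith
  set E : ℕ → ℂ := fun k => ∑ i ∈ (Finset.univ : Finset ι).erase i0, w i ^ k with hE
  have hWE : ∀ k, W k = 1 + E k := fun k => by
    simp only [hW, hE]
    rw [← Finset.add_sum_erase _ _ (Finset.mem_univ i0), hi0, one_pow]
  have hEb : ∀ k, ‖E k‖ ≤ (m : ℝ) - 1 := fun k => by
    refine (norm_sum_le _ _).trans ?_
    rw [Finset.sum_congr rfl fun i _ => hnorm (hw i) k, Finset.sum_const,
      Finset.card_erase_of_mem (Finset.mem_univ i0), Finset.card_univ, hι, nsmul_eq_mul, mul_one,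
      Nat.cast_sub (by omega)]
    simp
  have hEid : ∀ k, ¬ r ∣ k → E k ^ 2 - E (2 * k) = (2 * (m : ℂ) - 2) * E k := fun k hk => by
    have := hWid k hk
    rw [hWE, hWE] at this
    linear_combination this
  have hper : ∀ k, E k = E (k % r) := fun k => Finset.sum_congr rfl fun i _ => by
    conv_lhs => rw [← Nat.mod_add_div k r, pow_add, pow_mul, hw i, one_pow, mul_one]
  obtain ⟨k0, hk0, hmax⟩ := Finset.exists_max_image ((Finset.range r).erase 0) (fun k => ‖E k‖)
    ⟨1, Finset.mem_erase.mpr ⟨one_ne_zero, Finset.mem_range.mpr hr.one_lt⟩⟩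
  have hnd : ∀ k ∈ (Finset.range r).erase 0, ¬ r ∣ k := fun k hk hd =>
    Finset.ne_of_mem_erase hk
      (Nat.eq_zero_of_dvd_of_lt hd (Finset.mem_range.mp (Finset.mem_of_mem_erase hk)))
  have hmax' : ∀ k, ¬ r ∣ k → ‖E k‖ ≤ ‖E k0‖ := fun k hk => by
    rw [hper]
    exact hmax _ (Finset.mem_erase.mpr ⟨fun h0 => hk (Nat.dvd_of_mod_eq_zero h0),
      Finset.mem_range.mpr (Nat.mod_lt _ hr.pos)⟩)
  have hE0 : ∀ k, ¬ r ∣ k → E k = 0 := by
    have hk0' := hnd k0 hk0
    have h2k : ¬ r ∣ 2 * k0 := fun hd => (hr.dvd_mul.mp hd).elim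
      (fun hd' => hr2 ((Nat.prime_dvd_prime_iff_eq hr Nat.prime_two).mp hd')) hk0'
    have h1 := hmax' _ h2k
    have h2 := hEb k0
    have h3 := congrArg norm (hEid k0 hk0')
    rw [norm_mul, show (2 * (m : ℂ) - 2) = ((2 * (m : ℝ) - 2 : ℝ) : ℂ) by push_cast; ring,
      Complex.norm_real, Real.norm_of_nonneg (by
        have : (3 : ℝ) ≤ m := by exact_mod_cast hm
        linarith)] at h3
    have h4 := norm_sub_le (E k0 ^ 2) (E (2 * k0))
    rw [h3, norm_pow] at h4
    have h5 : ‖E k0‖ = 0 := by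
      rcases (norm_nonneg (E k0)).lt_or_eq with hpos | h0
      · have : (3 : ℝ) ≤ m := by exact_mod_cast hm
        nlinarith
      · exact h0.symm
    exact fun k hk => norm_le_zero_iff.mp ((hmax' k hk).trans h5.le)
  have hr1 : r ∣ m - 1 := by
    have h6 := card_filter_eq_of_pow hr.pos (fun i : {i : ι // i ≠ i0} => w i) (fun i => hw i)
      fun k hk => by
        rw [← hE0 k hk]
        simp only [hE]
        exact (Finset.sum_subtype _ (fun i => by simp) (fun i => w i ^ k)).symm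
    simpa [Fintype.card_subtype_compl, hι] using h6
  have := Nat.dvd_sub hrκ hr1
  rw [show m - (m - 1) = 1 by omega] at this
  exact hr.not_dvd_one this

end H18
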