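import Mathlib.GroupTheory.Transfer
import Cfsg.Agent.H18.Basic
import Cfsg.Agent.H18.Generators

/-!
Groups with an element `x` of prime order `p` whose centralizer is `⟨x⟩`.
-/

set_option autoImplicit false
open scoped commutatorElement

namespace H18

variable {G : Type*} [Group G] [Finite G] {p : ℕ} [hp : Fact p.Prime] {x : G}
  (hx : orderOf x = p) (hC : Subgroup.centralizer ({x} : Set G) = Subgroup.zpowers x)

include hx

theorem sc_card_zpowers : Nat.card (Subgroup.zpowers x) = p := by rw [Nat.card_zpowers, hx]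

theorem sc_ne_one : x ≠ 1 := by
  intro h
  rw [h, orderOf_one] at hx
  exact hp.out.one_lt.ne hx

theorem sc_zpowers_eq {y : G} (hy : y ∈ Subgroup.zpowers x) (hy1 : y ≠ 1) :
    Subgroup.zpowers y = Subgroup.zpowers x ∧ orderOf y = p := by
  have hd : orderOf y ∣ p := hx ▸ orderOf_dvd_of_mem_zpowers hy
  have ho : orderOf y = p :=
    (hp.out.eq_one_or_self_of_dvd _ hd).resolve_left (mt orderOf_eq_one_iff.mp hy1)
  refine ⟨Subgroup.eq_of_le_of_card_ge (Subgroup.zpowers_le.mpr hy) ?_, ho⟩
  rw [sc_card_zpowers hx, Nat.card_zpowers, ho]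

include hC

/-- `⟨x⟩` is a Sylow subgroup. -/
theorem sc_exists_sylow : ∃ P : Sylow p G, (P : Subgroup G) = Subgroup.zpowers x := by
  obtain ⟨P, hP⟩ := (IsPGroup.of_card (n := 1)
    (by rw [sc_card_zpowers hx, pow_one] : Nat.card (Subgroup.zpowers x) = p ^ 1)).exists_le_sylow
  refine ⟨P, le_antisymm ?_ hP⟩
  have hxP : x ∈ (P : Subgroup G) := hP (Subgroup.mem_zpowers x)
  haveI : Nontrivial (P : Subgroup G) := ⟨⟨⟨x, hxP⟩, 1, fun h => sc_ne_one hx (congrArg Subtype.val h)⟩⟩
  haveI := P.isPGroup'.center_nontrivial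
  obtain ⟨z, hz⟩ := exists_ne (1 : Subgroup.center (P : Subgroup G))
  have hzc : ((z : (P : Subgroup G)) : G) ∈ Subgroup.centralizer ({x} : Set G) := by
    rw [Subgroup.mem_centralizer_singleton_iff]
    exact (congrArg Subtype.val (Subgroup.mem_center_iff.mp z.2 ⟨x, hxP⟩)).symm
  have hz1 : ((z : (P : Subgroup G)) : G) ≠ 1 := fun h => hz (Subtype.ext (Subtype.ext h))
  rw [hC] at hzc
  have hxz := (sc_zpowers_eq hx hzc hz1).1
  intro w hw
  rw [← hC, Subgroup.mem_centralizer_singleton_iff]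
  have hcz : Subgroup.zpowers ((z : (P : Subgroup G)) : G) ≤
      Subgroup.centralizer ({w} : Set G) := by
    rw [Subgroup.zpowers_le, Subgroup.mem_centralizer_singleton_iff]
    exact (congrArg Subtype.val (Subgroup.mem_center_iff.mp z.2 ⟨w, hw⟩)).symm
  rw [hxz, Subgroup.zpowers_le, Subgroup.mem_centralizer_singleton_iff] at hcz
  exact hcz.symm

theorem sc_centralizer_eq {y : G} (hy : y ∈ Subgroup.zpowers x) (hy1 : y ≠ 1) :
    Subgroup.centralizer ({y} : Set G) = Subgroup.zpowers x := by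
  refine le_antisymm (fun g hg => ?_) (fun g hg => ?_)
  · rw [← hC]
    rw [Subgroup.mem_centralizer_singleton_iff] at hg ⊢
    have hcz : Subgroup.zpowers y ≤ Subgroup.centralizer ({g} : Set G) := by
      rw [Subgroup.zpowers_le, Subgroup.mem_centralizer_singleton_iff]
      exact hg.symm
    rw [(sc_zpowers_eq hx hy hy1).1, Subgroup.zpowers_le,
      Subgroup.mem_centralizer_singleton_iff] at hcz
    exact hcz.symm
  · rw [Subgroup.mem_centralizer_singleton_iff]
    obtain ⟨i, rfl⟩ := hy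
    obtain ⟨j, rfl⟩ := hg
    simp [← zpow_add, add_comm]

/-- The subgroups of order `p` are the Sylow subgroups. -/
theorem sc_card_subgroups_order_p :
    Nat.card {H : Subgroup G // Nat.card H = p} =
      (Subgroup.normalizer ((Subgroup.zpowers x : Subgroup G) : Set G)).index := by
  obtain ⟨P, hP⟩ := sc_exists_sylow hx hC
  have hm : p = p ^ (Nat.card G).factorization p := by
    rw [← P.card_eq_multiplicity]
    change p = Nat.card (P : Subgroup G)
    rw [hP, sc_card_zpowers hx]
  rw [← hP]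
  refine Eq.trans ?_ P.card_eq_index_normalizer
  refine Nat.card_congr
    { toFun := fun H => Sylow.ofCard H.1 (H.2.trans hm)
      invFun := fun Q => ⟨Q, (Q.card_eq_multiplicity).trans hm.symm⟩
      left_inv := fun H => rfl
      right_inv := fun Q => Sylow.ext rfl }

/-- The commutators of elements of the normalizer of `⟨x⟩` lie in `⟨x⟩`. -/
theorem sc_commutator_normalizer {g h : G}
    (hg : g ∈ Subgroup.normalizer ((Subgroup.zpowers x : Subgroup G) : Set G))
    (hh : h ∈ Subgroup.normalizer ((Subgroup.zpowers x : Subgroup G) : Set G)) :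
    ⁅g, h⁆ ∈ Subgroup.zpowers x := by
  obtain ⟨a, ha⟩ := (Subgroup.mem_normalizer_iff.mp hg x).mp (Subgroup.mem_zpowers x)
  obtain ⟨b, hb⟩ := (Subgroup.mem_normalizer_iff.mp hh x).mp (Subgroup.mem_zpowers x)
  simp only at ha hb
  have h1 : (g * h) * x * (g * h)⁻¹ = x ^ (a * b) := by
    calc (g * h) * x * (g * h)⁻¹ = MulAut.conj g (MulAut.conj h x) := by simp [mul_assoc]
      _ = MulAut.conj g (x ^ b) := by rw [MulAut.conj_apply h x, hb]
      _ = x ^ (a * b) := by rw [map_zpow, MulAut.conj_apply, ← ha, zpow_mul]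
  have h2 : (h * g) * x * (h * g)⁻¹ = x ^ (a * b) := by
    calc (h * g) * x * (h * g)⁻¹ = MulAut.conj h (MulAut.conj g x) := by simp [mul_assoc]
      _ = MulAut.conj h (x ^ a) := by rw [MulAut.conj_apply g x, ha]
      _ = x ^ (a * b) := by rw [map_zpow, MulAut.conj_apply, ← hb, ← zpow_mul, mul_comm]
  have h3 : ((h * g)⁻¹ * (g * h)) * x = x * ((h * g)⁻¹ * (g * h)) := by
    have h12 := h1.trans h2.symm
    rw [mul_inv_eq_iff_eq_mul] at h12
    rw [mul_assoc, h12]
    group
  have h4 : (h * g)⁻¹ * (g * h) = ⁅g⁻¹, h⁻¹⁆ := by simp [commutatorElement_def, mul_assoc]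
  rw [h4, ← Subgroup.mem_centralizer_singleton_iff, hC] at h3
  have h5 : ⁅g, h⁆ = (h * g) * ⁅g⁻¹, h⁻¹⁆ * (h * g)⁻¹ := by simp [commutatorElement_def, mul_assoc]
  rw [h5]
  exact (Subgroup.mem_normalizer_iff.mp (Subgroup.mul_mem _ hh hg) _).mp h3

/-- A normal subgroup of order divisible by `p` contains `x`. -/
theorem sc_mem_of_dvd {S : Subgroup G} [S.Normal] (h : p ∣ Nat.card S) : x ∈ S := by
  obtain ⟨P, hP⟩ := sc_exists_sylow hx hC
  obtain ⟨y, hy⟩ := exists_prime_orderOf_dvd_card' p h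
  obtain ⟨Q, hQ⟩ := (IsPGroup.of_card (n := 1)
    (by rw [Nat.card_zpowers, Subgroup.orderOf_coe, hy, pow_one] :
      Nat.card (Subgroup.zpowers (y : G)) = p ^ 1)).exists_le_sylow
  obtain ⟨g, hg⟩ := MulAction.exists_smul_eq G Q P
  have hy' : (y : G) ∈ (Q : Subgroup G) := hQ (Subgroup.mem_zpowers _)
  have hgy : g * (y : G) * g⁻¹ ∈ Subgroup.zpowers x := by
    rw [← hP, ← hg, Sylow.coe_subgroup_smul, mem_conj_smul]
    simpa [mul_assoc] using hy'
  have hy1 : g * (y : G) * g⁻¹ ≠ 1 := by
    intro he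
    rw [conj_eq_one_iff, ← OneMemClass.coe_one S, Subtype.coe_inj] at he
    rw [he, orderOf_one] at hy
    exact hp.out.one_lt.ne hy
  have : Subgroup.zpowers (g * (y : G) * g⁻¹) ≤ S :=
    Subgroup.zpowers_le.mpr (Subgroup.Normal.conj_mem inferInstance _ y.2 g)
  rw [(sc_zpowers_eq hx hgy hy1).1] at this
  exact this (Subgroup.mem_zpowers x)

/-- A normal subgroup of order divisible by `p` contains the derived subgroup. -/
theorem sc_commutator_le {S : Subgroup G} [S.Normal] (h : p ∣ Nat.card S) :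
    commutator G ≤ S := by
  obtain ⟨P, hP⟩ := sc_exists_sylow hx hC
  have hxS := sc_mem_of_dvd hx hC h
  have hle : (P : Subgroup G) ≤ S := by rw [hP]; exact Subgroup.zpowers_le.mpr hxS
  have htop := Sylow.normalizer_sup_eq_top' P hle
  refine commutator_le_of_generators (s := (Subgroup.normalizer ((P : Subgroup G) : Set G) : Set G) ∪ S)
    (by rw [Subgroup.closure_union, Subgroup.closure_eq, Subgroup.closure_eq]; exact htop) ?_
  have hS : ∀ a ∈ S, ∀ b : G, ⁅a, b⁆ ∈ S := fun a ha b => by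
    have h1 := S.mul_mem ha (Subgroup.Normal.conj_mem inferInstance a⁻¹ (S.inv_mem ha) b)
    simpa [commutatorElement_def, mul_assoc] using h1
  rintro u (hu | hu) v (hv | hv)
  · rw [hP] at hu hv
    exact (Subgroup.zpowers_le.mpr hxS) (sc_commutator_normalizer hx hC hu hv)
  · rw [← commutatorElement_inv]; exact S.inv_mem (hS v hv u)
  · exact hS u hu v
  · exact hS u hu v

section pprime

variable {S : Subgroup G} [S.Normal] (hS : ¬ p ∣ Nat.card S)
include hS

theorem sc_inf_eq_bot : S ⊓ Subgroup.zpowers x = ⊥ := by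
  rw [Subgroup.eq_bot_iff_forall]
  intro y hy
  by_contra hy1
  exact hS ((sc_zpowers_eq hx hy.2 hy1).2 ▸ S.orderOf_dvd_natCard hy.1)

theorem sc_commutator_surjective {z : G} (hz : z ∈ S) : ∃ s ∈ S, ⁅s, x⁆ = z := by
  let f : S → S := fun s => ⟨⁅(s : G), x⁆, by
    have h1 := S.mul_mem s.2 (Subgroup.Normal.conj_mem inferInstance _ (S.inv_mem s.2) x)
    simpa [commutatorElement_def, mul_assoc] using h1⟩
  have hf : Function.Injective f := by
    intro s t hst
    have h1 : (s : G) * x * (s : G)⁻¹ = (t : G) * x * (t : G)⁻¹ :=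
      mul_right_cancel (congrArg Subtype.val hst)
    have h2 : (t : G)⁻¹ * s ∈ Subgroup.zpowers x := by
      rw [← hC, Subgroup.mem_centralizer_singleton_iff, mul_assoc,
        mul_inv_eq_iff_eq_mul.mp h1]
      group
    have h3 : (t : G)⁻¹ * s ∈ S ⊓ Subgroup.zpowers x :=
      ⟨S.mul_mem (S.inv_mem t.2) s.2, h2⟩
    rw [sc_inf_eq_bot hx hC hS, Subgroup.mem_bot, inv_mul_eq_one] at h3
    exact Subtype.ext h3.symm
  obtain ⟨s, hs⟩ := (Finite.injective_iff_surjective.mp hf) ⟨z, hz⟩
  exact ⟨s, s.2, congrArg Subtype.val hs⟩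

theorem sc_le_commutator : S ≤ commutator G := by
  intro z hz
  obtain ⟨s, _, rfl⟩ := sc_commutator_surjective hx hC hS hz
  exact Subgroup.commutator_mem_commutator (Subgroup.mem_top _) (Subgroup.mem_top _)

theorem sc_centralizer_mod {g : G} (hg : ⁅g, x⁆ ∈ S) : g ∈ S ⊔ Subgroup.zpowers x := by
  obtain ⟨s, hs, he⟩ := sc_commutator_surjective hx hC hS hg
  have h1 : s⁻¹ * g ∈ Subgroup.zpowers x := by
    rw [← hC, Subgroup.mem_centralizer_singleton_iff, mul_assoc,
      mul_inv_eq_iff_eq_mul.mp (mul_right_cancel he).symm]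
    group
  have := Subgroup.mul_mem_sup hs h1
  rwa [mul_inv_cancel_left] at this

theorem sc_inf_normalizer_eq_bot :
    S ⊓ Subgroup.normalizer ((Subgroup.zpowers x : Subgroup G) : Set G) = ⊥ := by
  rw [Subgroup.eq_bot_iff_forall]
  intro n hn
  have h1 : ⁅n, x⁆ ∈ S ⊓ Subgroup.zpowers x :=
    ⟨by simpa [commutatorElement_def, mul_assoc] using
        S.mul_mem hn.1 (Subgroup.Normal.conj_mem inferInstance _ (S.inv_mem hn.1) x),
      (by simpa [commutatorElement_def] using (Subgroup.zpowers x).mul_mem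
            ((Subgroup.mem_normalizer_iff.mp hn.2 x).mp (Subgroup.mem_zpowers x))
            ((Subgroup.zpowers x).inv_mem (Subgroup.mem_zpowers x)))⟩
  rw [sc_inf_eq_bot hx hC hS, Subgroup.mem_bot, commutatorElement_eq_one_iff_commute] at h1
  have h2 : n ∈ Subgroup.zpowers x := by
    rw [← hC, Subgroup.mem_centralizer_singleton_iff]; exact h1.eq
  have h3 : n ∈ S ⊓ Subgroup.zpowers x := ⟨hn.1, h2⟩
  rwa [sc_inf_eq_bot hx hC hS, Subgroup.mem_bot] at h3

theorem sc_card_dvd :
    Nat.card S ∣ (Subgroup.normalizer ((Subgroup.zpowers x : Subgroup G) : Set G)).index := by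
  set N := Subgroup.normalizer ((Subgroup.zpowers x : Subgroup G) : Set G)
  have h := Subgroup.relIndex_mul_relIndex ⊥ S (N ⊔ S) bot_le le_sup_right
  rw [Subgroup.relIndex_sup_right, Subgroup.relIndex_bot_left, Subgroup.relIndex_bot_left] at h
  have h2 := Subgroup.relIndex_mul_relIndex ⊥ N (N ⊔ S) bot_le le_sup_left
  rw [Subgroup.relIndex_bot_left, Subgroup.relIndex_bot_left, ← h] at h2
  have h3 : S.relIndex N = Nat.card N := by
    rw [← Subgroup.inf_relIndex_right, sc_inf_normalizer_eq_bot hx hC hS,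
      Subgroup.relIndex_bot_left]
  rw [h3, mul_comm (Nat.card S)] at h2
  rw [← Subgroup.relIndex_mul_index (le_sup_left : N ≤ N ⊔ S),
    mul_left_cancel₀ Nat.card_pos.ne' h2]
  exact dvd_mul_right _ _

theorem sc_card_mod : Nat.card S % p = 1 := by
  have hpg : IsPGroup p (ConjAct (Subgroup.zpowers x)) :=
    (IsPGroup.of_card (n := 1) (by rw [sc_card_zpowers hx, pow_one])).of_equiv ConjAct.toConjAct
  let act : MulAction (Subgroup.zpowers x) S :=
    MulAction.compHom S ((ConjAct.toConjAct : G ≃* ConjAct G).toMonoidHom.comp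
      (Subgroup.zpowers x).subtype)
  have hmod := (IsPGroup.of_card (n := 1)
    (by rw [sc_card_zpowers hx, pow_one] :
      Nat.card (Subgroup.zpowers x) = p ^ 1)).card_modEq_card_fixedPoints S
  have h1 : Nat.card (MulAction.fixedPoints (Subgroup.zpowers x) S) = 1 := by
    rw [Nat.card_eq_one_iff_unique]
    refine ⟨⟨fun a b => ?_⟩, ⟨⟨1, fun g => Subtype.ext ?_⟩⟩⟩
    · have key : ∀ a : MulAction.fixedPoints (Subgroup.zpowers x) S, ((a : S) : G) = 1 := by
        intro a
        have ha : x * ((a : S) : G) * x⁻¹ = (a : S) :=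
          congrArg Subtype.val (a.2 ⟨x, Subgroup.mem_zpowers x⟩)
        have h2 : ((a : S) : G) ∈ S ⊓ Subgroup.zpowers x := ⟨(a : S).2,
          hC.le (Subgroup.mem_centralizer_singleton_iff.mpr (mul_inv_eq_iff_eq_mul.mp ha).symm)⟩
        rwa [sc_inf_eq_bot hx hC hS, Subgroup.mem_bot] at h2
      exact Subtype.ext (Subtype.ext ((key a).trans (key b).symm))
    · change (g : G) * 1 * (g : G)⁻¹ = 1
      simp
  rw [h1] at hmod
  rw [hmod, Nat.mod_eq_of_lt hp.out.one_lt]

end pprime

/-- Counting the classes of elements of order `p`. -/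
theorem sc_classes_mul :
    Nat.card {C : ConjClasses G // ∃ g ∈ C.carrier, orderOf g = p} *
      (Subgroup.zpowers x).relIndex
        (Subgroup.normalizer ((Subgroup.zpowers x : Subgroup G) : Set G)) = p - 1 := by
  classical
  cases nonempty_fintype G
  set N := Subgroup.normalizer ((Subgroup.zpowers x : Subgroup G) : Set G) with hN
  obtain ⟨P, hP⟩ := sc_exists_sylow hx hC
  let X := {y : Subgroup.zpowers x // y ≠ 1}
  let T := {C : ConjClasses G // ∃ g ∈ C.carrier, orderOf g = p}
  have hy1 : ∀ y : X, ((y.1 : Subgroup.zpowers x) : G) ≠ 1 := fun y h => y.2 (Subtype.ext h)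
  let cl : X → T := fun y => ⟨ConjClasses.mk (y.1 : G),
    (y.1 : G), ConjClasses.mem_carrier_mk, (sc_zpowers_eq hx y.1.2 (hy1 y)).2⟩
  have hfib : ∀ C : T, Nat.card {y : X // cl y = C} = (Subgroup.zpowers x).relIndex N := by
    rintro ⟨C, g, hg, hgo⟩
    obtain ⟨Q, hQ⟩ := (IsPGroup.of_card (n := 1)
      (by rw [Nat.card_zpowers, hgo, pow_one] :
        Nat.card (Subgroup.zpowers g) = p ^ 1)).exists_le_sylow
    obtain ⟨k, hk⟩ := MulAction.exists_smul_eq G Q P
    set y₀ := k * g * k⁻¹ with hy₀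
    have hy₀x : y₀ ∈ Subgroup.zpowers x := by
      rw [← hP, ← hk, Sylow.coe_subgroup_smul, mem_conj_smul]
      simpa [hy₀, mul_assoc] using hQ (Subgroup.mem_zpowers g)
    have hy₀1 : y₀ ≠ 1 := by
      intro he
      rw [hy₀, conj_eq_one_iff] at he
      rw [he, orderOf_one] at hgo
      exact hp.out.one_lt.ne hgo
    have hCy : C = ConjClasses.mk y₀ := by
      rw [← ConjClasses.mem_carrier_iff_mk_eq.mp hg, ConjClasses.mk_eq_mk_iff_isConj, isConj_iff]
      exact ⟨k, rfl⟩
    have hmem : ∀ n : N, (n : G) * y₀ * (n : G)⁻¹ ∈ Subgroup.zpowers x := fun n =>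
      (Subgroup.mem_normalizer_iff.mp n.2 _).mp hy₀x
    let f : N → {y : X // cl y = ⟨C, g, hg, hgo⟩} := fun n =>
      ⟨⟨⟨_, hmem n⟩, fun he => hy₀1 (conj_eq_one_iff.mp (congrArg Subtype.val he))⟩,
        Subtype.ext (by
          change ConjClasses.mk _ = C
          rw [hCy, ConjClasses.mk_eq_mk_iff_isConj, isConj_comm, isConj_iff]
          exact ⟨n, rfl⟩)⟩
    have hrel : ∀ a b : N, f a = f b ↔ (a⁻¹ * b : N) ∈ (Subgroup.zpowers x).subgroupOf N := by
      intro a b
      rw [Subgroup.mem_subgroupOf, ← sc_centralizer_eq hx hC hy₀x hy₀1,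
        Subgroup.mem_centralizer_singleton_iff]
      simp only [Subgroup.coe_mul, Subgroup.coe_inv]
      constructor
      · intro h
        replace h : (a : G) * y₀ * (a : G)⁻¹ = b * y₀ * (b : G)⁻¹ :=
          congrArg (fun z => ((z.1.1 : Subgroup.zpowers x) : G)) h
        calc (a : G)⁻¹ * b * y₀ = (a : G)⁻¹ * ((b : G) * y₀ * (b : G)⁻¹) * b := by group
          _ = (a : G)⁻¹ * ((a : G) * y₀ * (a : G)⁻¹) * b := by rw [h]
          _ = y₀ * ((a : G)⁻¹ * b) := by group
      · intro h
        refine Subtype.ext (Subtype.ext (Subtype.ext ?_))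
        change (a : G) * y₀ * (a : G)⁻¹ = b * y₀ * (b : G)⁻¹
        calc (a : G) * y₀ * (a : G)⁻¹ = a * (y₀ * ((a : G)⁻¹ * b)) * (b : G)⁻¹ := by group
          _ = a * ((a : G)⁻¹ * b * y₀) * (b : G)⁻¹ := by rw [h]
          _ = b * y₀ * (b : G)⁻¹ := by group
    have hsurj : Function.Surjective f := by
      rintro ⟨y, hy⟩
      have hy' : ConjClasses.mk ((y.1 : Subgroup.zpowers x) : G) = C := congrArg Subtype.val hy
      rw [hCy, ConjClasses.mk_eq_mk_iff_isConj, isConj_comm, isConj_iff] at hy'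
      obtain ⟨c, hc⟩ := hy'
      have hcN : c ∈ N := by
        rw [hN, Subgroup.mem_normalizer_iff_map_conj_eq,
          ← (sc_zpowers_eq hx hy₀x hy₀1).1, MonoidHom.map_zpowers]
        change Subgroup.zpowers (c * y₀ * c⁻¹) = _
        rw [hc, (sc_zpowers_eq hx y.1.2 (hy1 y)).1, (sc_zpowers_eq hx hy₀x hy₀1).1]
      exact ⟨⟨c, hcN⟩, Subtype.ext (Subtype.ext (Subtype.ext hc))⟩
    refine (Nat.card_eq_of_bijective (Quotient.lift f (fun a b h => (hrel a b).mpr
      (QuotientGroup.leftRel_apply.mp h))) ⟨?_, ?_⟩).symm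
    · intro a b
      induction a using Quotient.inductionOn
      induction b using Quotient.inductionOn
      intro h
      exact Quotient.sound (QuotientGroup.leftRel_apply.mpr ((hrel _ _).mp h))
    · intro z
      obtain ⟨n, hn⟩ := hsurj z
      exact ⟨⟦n⟧, hn⟩
  have hX : Nat.card X = p - 1 := by
    rw [Nat.card_eq_fintype_card, Fintype.card_subtype_compl, Fintype.card_subtype_eq,
      ← Nat.card_eq_fintype_card, sc_card_zpowers hx]
  haveI : Finite (ConjClasses G) := Quotient.finite _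
  haveI : Finite T := Subtype.finite
  haveI : Fintype T := Fintype.ofFinite _
  rw [← hX, ← Nat.card_congr (Equiv.sigmaFiberEquiv cl), Nat.card_sigma,
    Finset.sum_congr rfl fun C _ => hfib C, Finset.sum_const, smul_eq_mul, Finset.card_univ,
    ← Nat.card_eq_fintype_card]

omit hx in
/-- Shorthand: the relative index of `⟨x⟩` in its normalizer is one exactly when it is the
whole normalizer. -/
theorem sc_normalizer_eq_of_relIndex_eq_one
    (he : (Subgroup.zpowers x).relIndex
      (Subgroup.normalizer ((Subgroup.zpowers x : Subgroup G) : Set G)) = 1) :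
    Subgroup.normalizer ((Subgroup.zpowers x : Subgroup G) : Set G) = Subgroup.zpowers x :=
  le_antisymm (Subgroup.relIndex_eq_one.mp he) Subgroup.le_normalizer

theorem sc_dvd_commutator_of_relIndex_ne_one
    (he : (Subgroup.zpowers x).relIndex
      (Subgroup.normalizer ((Subgroup.zpowers x : Subgroup G) : Set G)) ≠ 1) :
    p ∣ Nat.card (commutator G) := by
  rw [Ne, Subgroup.relIndex_eq_one, SetLike.not_le_iff_exists] at he
  obtain ⟨n, hn, hn'⟩ := he
  have h1 : ⁅n, x⁆ ∈ Subgroup.zpowers x :=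
    sc_commutator_normalizer hx hC hn (Subgroup.le_normalizer (Subgroup.mem_zpowers x))
  have h2 : ⁅n, x⁆ ≠ 1 := by
    intro h
    rw [commutatorElement_eq_one_iff_commute] at h
    apply hn'
    rw [← hC, Subgroup.mem_centralizer_singleton_iff]
    exact h.eq
  rw [← (sc_zpowers_eq hx h1 h2).2]
  exact Subgroup.orderOf_dvd_natCard _
    (Subgroup.commutator_mem_commutator (Subgroup.mem_top _) (Subgroup.mem_top _))

theorem sc_index_commutator_dvd (h : p ∣ Nat.card (commutator G)) :
    (commutator G).index ∣ (Subgroup.zpowers x).relIndex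
      (Subgroup.normalizer ((Subgroup.zpowers x : Subgroup G) : Set G)) := by
  set N := Subgroup.normalizer ((Subgroup.zpowers x : Subgroup G) : Set G) with hN
  obtain ⟨P, hP⟩ := sc_exists_sylow hx hC
  have hle : Subgroup.zpowers x ≤ commutator G :=
    Subgroup.zpowers_le.mpr (sc_mem_of_dvd hx hC h)
  have htop : N ⊔ commutator G = ⊤ := by
    rw [hN, ← hP]
    exact Sylow.normalizer_sup_eq_top' P (hP ▸ hle)
  rw [← Subgroup.relIndex_top_right, ← htop, Subgroup.relIndex_sup_right]
  exact Subgroup.relIndex_dvd_of_le_left N hle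

/-- Burnside transfer, when `⟨x⟩` is its own normalizer. -/
theorem sc_index_commutator_of_relIndex_eq_one
    (he : (Subgroup.zpowers x).relIndex
      (Subgroup.normalizer ((Subgroup.zpowers x : Subgroup G) : Set G)) = 1) :
    (commutator G).index = p ∧ ¬ p ∣ Nat.card (commutator G) := by
  obtain ⟨P, hP⟩ := sc_exists_sylow hx hC
  have hN := sc_normalizer_eq_of_relIndex_eq_one (x := x) hC he
  have hc : Subgroup.normalizer ((P : Subgroup G) : Set G) ≤
      Subgroup.centralizer ((P : Subgroup G) : Set G) := by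
    rw [hP, hN]
    intro a ha
    rw [Subgroup.mem_centralizer_iff]
    intro b hb
    obtain ⟨i, rfl⟩ := hb
    obtain ⟨j, rfl⟩ := ha
    simp [← zpow_add, add_comm]
  have hcompl := MonoidHom.ker_transferSylow_isComplement' P hc
  set K := (MonoidHom.transferSylow P hc).ker with hK
  have hidx : K.index = p := by
    rw [hcompl.symm.index_eq_card, hP, sc_card_zpowers hx]
  have hKp : ¬ p ∣ Nat.card K := by
    rw [← hcompl.index_eq_card]
    exact P.not_dvd_index
  have h1 : K ≤ commutator G := sc_le_commutator hx hC hKp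
  have h2 : commutator G ≤ K := by
    haveI : Fact (Nat.card (G ⧸ K)).Prime := ⟨by rw [← Subgroup.index_eq_card, hidx]; exact hp.out⟩
    haveI : IsCyclic (G ⧸ K) := isCyclic_of_prime_card rfl
    letI := IsCyclic.commGroup (α := G ⧸ K)
    rw [← QuotientGroup.ker_mk' K]
    exact Abelianization.commutator_subset_ker (QuotientGroup.mk' K)
  rw [le_antisymm h2 h1]
  exact ⟨hidx, hKp⟩

end H18
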