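import Cfsg.Agent.H18.CofactorKlein
import Cfsg.Agent.H18.CofactorSylow
import Cfsg.Agent.H18.BrauerPRQ
import Cfsg.Agent.H59.A5Char
import Cfsg.Agent.S0496
import Cfsg.Agent.S0205
import Cfsg.Agent.S4500
import Cfsg.Agent.H37.SmallIso

/-!
Simple groups of order `4 p ^ a q ^ b` and `3 p ^ a q ^ b`, `a ≤ 2`.
-/

set_option autoImplicit false

open Cfsg

namespace H18.SC

universe u

variable {G : Type u} [Group G] [Finite G] [IsSimpleGroup G]

theorem not_solvable (hG : ¬ IsMulCommutative G) : ¬ Group.IsSolvable G := fun h =>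
  hG ⟨⟨IsSimpleGroup.comm_iff_isSolvable.mpr h⟩⟩

def checkTwo : Bool :=
  (List.range 79).all fun l => (List.range 12).all fun i => (List.range 4).all fun a =>
    decide (l < 5) || decide (3 % a ≠ 0) || decide ((a * 2 ^ i) % (l * l) ≠ 1) ||
      decide (a * 2 ^ i = 1)

theorem checkTwo_eq : checkTwo = true := by decide +kernel

theorem mod_r_two (l : ℕ) (hl : l < 79) (h5 : 5 ≤ l) (i : ℕ) (hi : i < 12) (a : ℕ) (ha : a < 4)
    (h3 : 3 % a = 0) (h1 : (a * 2 ^ i) % (l * l) = 1) : a * 2 ^ i = 1 := by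
  have h := checkTwo_eq
  simp only [checkTwo, List.all_eq_true, List.mem_range, Bool.or_eq_true, decide_eq_true_eq] at h
  have h' := h l hl i hi a ha
  omega

theorem mod_r_three : ∀ i < 8, ∀ a < 5, 4 % a = 0 → (a * 3 ^ i) % 25 = 1 → a * 3 ^ i = 1 := by
  decide +kernel

theorem mod_small : ∀ d < 37, (36 % d = 0 ∨ 12 % d = 0) → d % 25 = 1 → d = 1 := by decide +kernel

theorem mod_twenty : ∀ d < 21, 20 % d = 0 → d % 27 = 1 → d = 1 := by decide +kernel

theorem four_case (hG : ¬ IsMulCommutative G) {p q a b : ℕ} (hp : p.Prime) (hq : q.Prime)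
    (hpq : p ≠ q) (ha : a ≤ 2) (hcard : Nat.card G = 4 * p ^ a * q ^ b) :
    Nonempty (G ≃* alternatingGroup (Fin 5)) := by
  have hns := not_solvable hG
  have ha0 : a ≠ 0 := fun h => hns (Cfsg.Agent.S0144.result 2 q 2 b Nat.prime_two hq
    (by rw [hcard, h]; ring))
  have hb0 : b ≠ 0 := fun h => hns (Cfsg.Agent.S0144.result 2 p 2 a Nat.prime_two hp
    (by rw [hcard, h]; ring))
  have hp2 : p ≠ 2 := fun h => hns (Cfsg.Agent.S0144.result 2 q (2 + a) b Nat.prime_two hq
    (by rw [hcard, h]; ring))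
  have hq2 : q ≠ 2 := fun h => hns (Cfsg.Agent.S0144.result 2 p (2 + b) a Nat.prime_two hp
    (by rw [hcard, h]; ring))
  have hodd : Odd (p ^ a * q ^ b) :=
    (hp.odd_of_ne_two hp2).pow.mul (hq.odd_of_ne_two hq2).pow
  have hsupp : TwoSupp p q (p ^ a * q ^ b) := by
    intro s hs hd
    rcases hs.dvd_mul.1 hd with h | h
    · exact Or.inl ((Nat.prime_dvd_prime_iff_eq hs hp).1 (hs.dvd_of_dvd_pow h))
    · exact Or.inr ((Nat.prime_dvd_prime_iff_eq hs hq).1 (hs.dvd_of_dvd_pow h))
  obtain ⟨⟨χ, hχ, h3⟩, hor⟩ := four_setup hG hp hq hpq hodd (by rw [hcard, mul_assoc]) hsupp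
  have hsmall : Nat.card G ≤ 1092 → Nonempty (G ≃* alternatingGroup (Fin 5)) := by
    intro hle
    rcases Cfsg.Agent.S0496.result hG hle with h | h | h | h | h | h
    · exact H59.simple60_iso h
    all_goals
      exfalso
      rw [hcard] at h
      rcases hor with ⟨rfl, rfl⟩ | ⟨rfl, rfl⟩
      · have h7 : ¬ 7 ∣ 4 * 3 ^ a * 5 ^ b := by
          intro h'
          rcases (by norm_num : Nat.Prime 7).dvd_mul.1 h' with h' | h'
          · rcases (by norm_num : Nat.Prime 7).dvd_mul.1 h' with h' | h'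
            · norm_num at h'
            · have := (Nat.prime_dvd_prime_iff_eq (by norm_num) hp).1
                ((by norm_num : Nat.Prime 7).dvd_of_dvd_pow h')
              omega
          · have := (Nat.prime_dvd_prime_iff_eq (by norm_num) hq).1
              ((by norm_num : Nat.Prime 7).dvd_of_dvd_pow h')
            omega
        have h8 : ¬ 8 ∣ 4 * 3 ^ a * 5 ^ b := by
          rw [mul_assoc]; obtain ⟨l, hl⟩ := hodd; rw [hl]; omega
        have h11 : ¬ 11 ∣ 4 * 3 ^ a * 5 ^ b := by
          intro h'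
          rcases (by norm_num : Nat.Prime 11).dvd_mul.1 h' with h' | h'
          · rcases (by norm_num : Nat.Prime 11).dvd_mul.1 h' with h' | h'
            · norm_num at h'
            · have := (Nat.prime_dvd_prime_iff_eq (by norm_num) hp).1
                ((by norm_num : Nat.Prime 11).dvd_of_dvd_pow h')
              omega
          · have := (Nat.prime_dvd_prime_iff_eq (by norm_num) hq).1
              ((by norm_num : Nat.Prime 11).dvd_of_dvd_pow h')
            omega
        omega
      · have h7 : ¬ 7 ∣ 4 * 5 ^ a * 3 ^ b := by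
          intro h'
          rcases (by norm_num : Nat.Prime 7).dvd_mul.1 h' with h' | h'
          · rcases (by norm_num : Nat.Prime 7).dvd_mul.1 h' with h' | h'
            · norm_num at h'
            · have := (Nat.prime_dvd_prime_iff_eq (by norm_num) hp).1
                ((by norm_num : Nat.Prime 7).dvd_of_dvd_pow h')
              omega
          · have := (Nat.prime_dvd_prime_iff_eq (by norm_num) hq).1
              ((by norm_num : Nat.Prime 7).dvd_of_dvd_pow h')
            omega
        have h8 : ¬ 8 ∣ 4 * 5 ^ a * 3 ^ b := by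
          rw [mul_assoc]; obtain ⟨l, hl⟩ := hodd; rw [hl]; omega
        have h11 : ¬ 11 ∣ 4 * 5 ^ a * 3 ^ b := by
          intro h'
          rcases (by norm_num : Nat.Prime 11).dvd_mul.1 h' with h' | h'
          · rcases (by norm_num : Nat.Prime 11).dvd_mul.1 h' with h' | h'
            · norm_num at h'
            · have := (Nat.prime_dvd_prime_iff_eq (by norm_num) hp).1
                ((by norm_num : Nat.Prime 11).dvd_of_dvd_pow h')
              omega
          · have := (Nat.prime_dvd_prime_iff_eq (by norm_num) hq).1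
              ((by norm_num : Nat.Prime 11).dvd_of_dvd_pow h')
            omega
        omega
  rcases hor with ⟨rfl, rfl⟩ | ⟨rfl, rfl⟩
  · -- `5`-subgroups
    haveI : Fact (Nat.Prime 5) := ⟨by norm_num⟩
    have hm : 4 * 3 ^ a = 12 ∨ 4 * 3 ^ a = 36 := by
      rcases (show a = 1 ∨ a = 2 by omega) with rfl | rfl <;> norm_num
    rcases Nat.lt_or_ge b 2 with hb | hb
    · apply hsmall
      rw [hcard, show b = 1 by omega]; omega
    · apply hsmall
      refine le_trans (small_index (p := 5) (b := b) (m := 4 * 3 ^ a) hG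
        (fun P => abelian_sylow_five_le χ hχ h3 le_rfl P) (by rw [hcard]; ring) (by omega)
        (by omega) fun d hd h1 => ?_) ?_
      · have h25 : d % 25 = 1 := by
          obtain ⟨c, hc⟩ : 25 ∣ 5 ^ b := (show (25 : ℕ) = 5 ^ 2 by norm_num) ▸ pow_dvd_pow 5 hb
          rw [← Nat.mod_mul_right_mod d 25 c, ← hc, h1]
        rcases hm with h | h <;> rw [h] at hd
        · exact mod_small d (by have := Nat.le_of_dvd (by norm_num) hd; omega)
            (Or.inr (Nat.mod_eq_zero_of_dvd hd)) h25
        · exact mod_small d (by have := Nat.le_of_dvd (by norm_num) hd; omega)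
            (Or.inl (Nat.mod_eq_zero_of_dvd hd)) h25
      · rcases hm with h | h <;> rw [h] <;> norm_num [Nat.factorial]
  · haveI : Fact (Nat.Prime 3) := ⟨Nat.prime_three⟩
    rcases (show a = 1 ∨ a = 2 by omega) with rfl | rfl
    · rcases Nat.lt_or_ge b 3 with hb | hb
      · apply hsmall
        interval_cases b <;> omega
      · apply hsmall
        refine le_trans (small_index (p := 3) (b := b) (m := 20) hG
          (fun P => abelian_sylow_three hG χ hχ h3 P) (by rw [hcard]; ring) (by norm_num)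
          (by omega) fun d hd h1 => ?_) (by norm_num [Nat.factorial])
        have h27 : d % 27 = 1 := by
          obtain ⟨c, hc⟩ : 27 ∣ 3 ^ b := (show (27 : ℕ) = 3 ^ 3 by norm_num) ▸ pow_dvd_pow 3 hb
          rw [← Nat.mod_mul_right_mod d 27 c, ← hc, h1]
        exact mod_twenty d (by have := Nat.le_of_dvd (by norm_num) hd; omega)
          (Nat.mod_eq_zero_of_dvd hd) h27
    · exfalso
      haveI : Fact (Nat.Prime 5) := ⟨by norm_num⟩
      obtain ⟨P⟩ : Nonempty (Sylow 3 G) := inferInstance
      have h3m : ¬ 3 ∣ 100 := by norm_num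
      have hb' : 3 ^ b ≤ 3 * 12 ^ 3 := by
        rw [← H62.card_sylow_coe (p := 3) (a := b) (m := 100) (by rw [hcard]; ring) h3m P]
        exact sylow_bound hG χ hχ h3 P
      have hb8 : b < 8 := by
        by_contra h
        have := Nat.pow_le_pow_right (show 0 < 3 by norm_num) (not_lt.1 h)
        omega
      have h5m : ¬ 5 ∣ 4 * 3 ^ b := by
        intro h
        have h' : 5 ∣ 3 ^ b := (show Nat.Coprime 5 4 by norm_num).dvd_of_dvd_mul_left h
        have := Nat.le_of_dvd (by norm_num) ((by norm_num : Nat.Prime 5).dvd_of_dvd_pow h')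
        omega
      refine no_sq (m := 4) (r := 3) (b := b) (ℓ := 5) hG χ hχ h3 Nat.prime_three le_rfl h5m
        (by rw [hcard]; ring) (fun d hd h1 => ?_) fun C h => ?_
      · obtain ⟨x, y, hx, hy, rfl⟩ := Nat.dvd_mul.1 hd
        obtain ⟨i, hi, rfl⟩ := (Nat.dvd_prime_pow Nat.prime_three).1 hy
        exact mod_r_three i (by omega) x (by have := Nat.le_of_dvd (by norm_num) hx; omega)
          (Nat.mod_eq_zero_of_dvd hx) h1
      · have hC : Nat.card C ∣ 2 ^ 2 * (5 ^ 2 * 3 ^ b) := by
          refine (Subgroup.card_subgroup_dvd_card C).trans (dvd_of_eq ?_)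
          rw [hcard]; ring
        obtain ⟨x, y, hx, hy, hxy⟩ := Nat.dvd_mul.1 hC
        obtain ⟨i, hi, rfl⟩ := (Nat.dvd_prime_pow Nat.prime_two).1 hx
        refine solvable_two_odd C (c := 1) (p := 5) (q := 3) (a := 2) (b := b) (by norm_num)
          Nat.prime_three (by decide) (by decide) le_rfl (hxy ▸ mul_dvd_mul ?_ hy)
        rcases Nat.lt_or_ge i 2 with hi' | hi'
        · exact pow_dvd_pow 2 (by omega)
        · exact absurd ((dvd_of_eq (by rw [show i = 2 by omega]; norm_num : (4:ℕ) = 2 ^ i)).trans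
            (hxy ▸ dvd_mul_right _ _)) h

theorem three_case (hG : ¬ IsMulCommutative G) {p q a b : ℕ} (hp : p.Prime) (hq : q.Prime)
    (hpq : p ≠ q) (ha : a ≤ 2) (hcard : Nat.card G = 3 * p ^ a * q ^ b) :
    Nonempty (G ≃* alternatingGroup (Fin 5)) ∨
      Nonempty (G ≃* Matrix.ProjectiveSpecialLinearGroup (Fin 2) (ZMod 7)) := by
  have hns := not_solvable hG
  have ha0 : a ≠ 0 := fun h => hns (Cfsg.Agent.S0144.result 3 q 1 b Nat.prime_three hq
    (by rw [hcard, h]; ring))
  have hb0 : b ≠ 0 := fun h => hns (Cfsg.Agent.S0144.result 3 p 1 a Nat.prime_three hp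
    (by rw [hcard, h]; ring))
  have hp3 : p ≠ 3 := fun h => hns (Cfsg.Agent.S0144.result 3 q (1 + a) b Nat.prime_three hq
    (by rw [hcard, h]; ring))
  have hq3 : q ≠ 3 := fun h => hns (Cfsg.Agent.S0144.result 3 p (1 + b) a Nat.prime_three hp
    (by rw [hcard, h]; ring))
  rcases (show a = 1 ∨ a = 2 by omega) with rfl | rfl
  · have hc : ¬ IsCyclic G := fun h => hG h.commutative
    rcases H18.BR.prq hc hp hq Nat.prime_three hpq hp3 hq3
      (b := b) (by rw [hcard]; ring) with
      ⟨F, _, _, hF, ⟨e⟩⟩ | ⟨F, _, _, hF, ⟨e⟩⟩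
    · obtain ⟨d⟩ := H37.PSL2_five_mulEquiv_alternating hF
      exact Or.inl ⟨e.trans d⟩
    · haveI : Fact (Nat.Prime 7) := ⟨by norm_num⟩
      exact Or.inr ⟨e.trans (H37.pslCongr (ZMod.ringEquivOfPrime F Fact.out hF).symm)⟩
  · by_cases hp2 : p = 2
    · subst hp2
      exact Or.inl (four_case hG Nat.prime_three hq (Ne.symm hq3) (a := 1) (b := b) (by norm_num)
        (by rw [hcard]; ring))
    by_cases hq2 : q = 2
    · subst hq2
      exfalso
      haveI : Fact p.Prime := ⟨hp⟩
      haveI : Fact (Nat.Prime 2) := ⟨Nat.prime_two⟩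
      haveI : Nontrivial G := inferInstance
      obtain ⟨⟨χ, hχ, k, hk⟩, -⟩ := Cfsg.Agent.S4500.result (G := G) p 3 2 2 1 b hp Nat.prime_three
        Nat.prime_two hp3 hpq (by norm_num) le_rfl (by rw [hcard]; ring)
      have h5 : 5 ≤ p := by
        rcases Nat.lt_or_ge p 5 with h | h
        · have := hp.two_le
          interval_cases p <;> first | omega | exact absurd hp (by norm_num)
        · exact h
      have hpm : ¬ p ∣ 3 * 2 ^ b := by
        intro h
        rcases hp.dvd_mul.1 h with h | h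
        · exact hp3 ((Nat.prime_dvd_prime_iff_eq hp Nat.prime_three).1 h)
        · exact hpq ((Nat.prime_dvd_prime_iff_eq hp Nat.prime_two).1 (hp.dvd_of_dvd_pow h))
      have h3 : charDegree (χ : G → ℂ) = 3 := by
        letI := Fintype.ofFinite G
        have hd : 3 ^ k ∣ Nat.card G := hk ▸ H12.irr_degree_dvd_card χ
        have h9 : ¬ 3 ^ 2 ∣ Nat.card G := by
          rw [hcard, show 3 ^ 2 = 3 * 3 from rfl, mul_assoc]
          intro h
          rcases Nat.prime_three.dvd_mul.1 ((Nat.mul_dvd_mul_iff_left (by norm_num)).1 h) with h | h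
          · exact hp3 ((Nat.prime_dvd_prime_iff_eq Nat.prime_three hp).1
              (Nat.prime_three.dvd_of_dvd_pow h)).symm
          · exact hq3 ((Nat.prime_dvd_prime_iff_eq Nat.prime_three Nat.prime_two).1
              (Nat.prime_three.dvd_of_dvd_pow h)).symm
        rcases Nat.lt_trichotomy k 1 with h | h | h
        · exfalso
          rw [show k = 0 by omega, pow_zero] at hk
          exact hχ (by rw [H18.BR.linear_eq_one (H19.PrimeDeg.commutator_top hG) hk]; rfl)
        · rw [hk, h, pow_one]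
        · exact absurd ((pow_dvd_pow 3 h).trans hd) h9
      have hcard' : Nat.card G = 2 ^ b * (3 * p ^ 2) := by rw [hcard]; ring
      have h2m : ¬ 2 ∣ 3 * p ^ 2 := by
        have := Nat.odd_iff.1 ((show Odd 3 by decide).mul ((hp.odd_of_ne_two hp2).pow (n := 2)))
        omega
      obtain ⟨T⟩ : Nonempty (Sylow 2 G) := inferInstance
      have hb' : 2 ^ b ≤ 2 * 12 ^ 3 := by
        rw [← H62.card_sylow_coe hcard' h2m T]
        exact sylow_bound hG χ hχ h3 T
      have hb12 : b < 12 := by
        by_contra h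
        have := Nat.pow_le_pow_right (show 0 < 2 by norm_num) (not_lt.1 h)
        omega
      refine no_sq (m := 3) (r := 2) (b := b) (ℓ := p) hG χ hχ h3 Nat.prime_two h5 hpm
        (by rw [hcard]; ring) (fun d hd h1 => ?_) fun C h => ?_
      · by_contra hd1
        obtain ⟨x, y, hx, hy, rfl⟩ := Nat.dvd_mul.1 hd
        obtain ⟨i, hi, rfl⟩ := (Nat.dvd_prime_pow Nat.prime_two).1 hy
        have hxle := Nat.le_of_dvd (by norm_num) hx
        have hile : 2 ^ i ≤ 2 ^ 11 := Nat.pow_le_pow_right (by norm_num) (by omega)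
        have hp79 : p < 79 := by
          by_contra hp79
          have h2 : 79 ^ 2 ≤ p ^ 2 := Nat.pow_le_pow_left (not_lt.1 hp79) 2
          have h4 : x * 2 ^ i ≤ 3 * 2 ^ 11 := Nat.mul_le_mul hxle hile
          rw [Nat.mod_eq_of_lt (by omega)] at h1
          omega
        exact hd1 (mod_r_two p hp79 h5 i (by omega) x (by omega) (Nat.mod_eq_zero_of_dvd hx)
          (by rwa [← pow_two]))
      · have hC : Nat.card C ∣ 3 * (p ^ 2 * 2 ^ b) := by
          refine (Subgroup.card_subgroup_dvd_card C).trans (dvd_of_eq ?_)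
          rw [hcard]; ring
        have hC' := ((Nat.prime_three.coprime_iff_not_dvd).2 h).symm.dvd_of_dvd_mul_left hC
        obtain ⟨x, y, hx, hy, hxy⟩ := Nat.dvd_mul.1 hC'
        obtain ⟨i, -, rfl⟩ := (Nat.dvd_prime_pow hp).1 hx
        obtain ⟨j, -, rfl⟩ := (Nat.dvd_prime_pow Nat.prime_two).1 hy
        exact Cfsg.Agent.S0144.result p 2 i j hp Nat.prime_two hxy.symm
    exfalso
    exact hns (Cfsg.Agent.S0205.result (hcard ▸
      ((show Odd 3 by decide).mul (hp.odd_of_ne_two hp2).pow).mul (hq.odd_of_ne_two hq2).pow))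

end H18.SC
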