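import Cfsg.Agent.H18.MonomialWreath

/-!
Every finite solvable group embeds in a monomial group.
-/

set_option autoImplicit false

open Cfsg

namespace H18

universe u

theorem exists_isMG_embedding (n : ℕ) : ∀ (G : Type u) [Group G] [Finite G],
    Group.IsSolvable G → Nat.card G = n →
    ∃ (M : Type u) (_ : Group M) (_ : Fintype M), IsMG M ∧ ∃ f : G →* M, Function.Injective f := by
  induction n using Nat.strong_induction_on with
  | _ n ih =>
  intro G _ _ hsolv hn
  classical
  cases nonempty_fintype G
  rcases subsingleton_or_nontrivial G with hG | hG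
  · refine ⟨G, inferInstance, inferInstance, fun χ hχ => ⟨⊤, 1, ?_⟩, MonoidHom.id G,
      Function.injective_id⟩
    funext g
    rw [Subsingleton.elim g 1, H12.indFun_one]
    have h1 : χ 1 = 1 := H12.irr_apply_one_of_comm (fun a b => Subsingleton.elim _ _) ⟨χ, hχ⟩
    simp [h1]
  · haveI := hsolv
    obtain ⟨N, hN, hp⟩ := exists_normal_index_prime G
    haveI := hN
    have hlt : Nat.card N < n := by
      rw [← hn, ← N.card_mul_index]
      exact lt_mul_of_one_lt_right Nat.card_pos hp.one_lt
    obtain ⟨M, gM, fM, hM, j, hj⟩ := ih _ hlt N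
      (Group.isSolvable_of_isSolvable_injective N.subtype_injective) rfl
    haveI : Fintype (G ⧸ N) := Fintype.ofFinite _
    haveI : Fintype (M ≀ᵣ (G ⧸ N)) := Fintype.ofFinite _
    have hW : IsMG (M ≀ᵣ (G ⧸ N)) := wreath_isMG hM (by rw [← Subgroup.index_eq_card]; exact hp)
    let π := QuotientGroup.mk' N
    let s : G ⧸ N → G := Quotient.out
    have hs : ∀ q, π (s q) = q := fun q => q.out_eq'
    let k : G → G ⧸ N → N := fun g q => ⟨(s q)⁻¹ * g * s ((π g)⁻¹ * q), by
      rw [← QuotientGroup.eq_one_iff]
      change π _ = 1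
      rw [map_mul, map_mul, map_inv, hs, hs]
      group⟩
    let F : G →* M ≀ᵣ (G ⧸ N) := MonoidHom.mk' (fun g => ⟨fun q => j (k g q), π g⟩) (fun a b => by
      refine RegularWreathProduct.ext (funext fun q => ?_) (map_mul π a b)
      simp only [RegularWreathProduct.mul_left, Pi.mul_apply, ← map_mul]
      refine congrArg j (Subtype.ext ?_)
      simp only [k, Subgroup.coe_mul, map_mul, mul_inv_rev, mul_assoc, mul_inv_cancel_left])
    refine ⟨M ≀ᵣ (G ⧸ N), inferInstance, inferInstance, hW, F, fun a b h => ?_⟩
    have h1 : π a = π b := congrArg RegularWreathProduct.right h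
    have h2 : (k a 1 : G) = k b 1 :=
      congrArg Subtype.val (hj (congrFun (congrArg RegularWreathProduct.left h) 1))
    simp only [k, h1] at h2
    simpa using h2

end H18
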