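import Cfsg.Agent.H18.SquaresTwo
import Cfsg.Agent.H18.SquaresCounts
import Mathlib.LinearAlgebra.Matrix.SchurComplement

/-!
Block diagonal subgroups of general linear groups, and a Sylow 2-subgroup of `GL(2, q)`.
-/

set_option autoImplicit false
set_option linter.unusedSectionVars false

open Matrix

namespace H18

variable {l : Type} [Fintype l] [DecidableEq l] {F : Type*} [Field F]

/-- A family of 2 by 2 matrices as one matrix. -/
def blockPair (g : l → Matrix (Fin 2) (Fin 2) F) : Matrix (l ⊕ l) (l ⊕ l) F :=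
  fromBlocks (diagonal fun i => g i 0 0) (diagonal fun i => g i 0 1)
    (diagonal fun i => g i 1 0) (diagonal fun i => g i 1 1)

/-- The numbering of a sum of two copies. -/
def pairEquiv (l : Type) : Fin 2 × l ≃ l ⊕ l where
  toFun x := if x.1 = 0 then Sum.inl x.2 else Sum.inr x.2
  invFun := Sum.elim (fun i => (0, i)) (fun i => (1, i))
  left_inv := by rintro ⟨a, i⟩; fin_cases a <;> rfl
  right_inv := by rintro (i | i) <;> rfl

theorem det_blockPair (g : l → Matrix (Fin 2) (Fin 2) F) :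
    (blockPair g).det = ∏ i, (g i).det := by
  have h : blockPair g = reindex (pairEquiv l) (pairEquiv l) (blockDiagonal g) := by
    ext x y
    rcases x with i | i <;> rcases y with j | j <;>
      simp [blockPair, pairEquiv, blockDiagonal_apply, diagonal_apply]
  rw [h, det_reindex_self, det_blockDiagonal]

/-- Block diagonal embedding. -/
def gDiag : (l → GL (Fin 2) F) →* GL (l ⊕ l) F :=
  MonoidHom.toHomUnits
    { toFun := fun g => blockPair fun i => (g i : Matrix (Fin 2) (Fin 2) F)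
      map_one' := by simp [blockPair, fromBlocks_one]
      map_mul' := fun g h => by
        simp [blockPair, fromBlocks_multiply, diagonal_mul_diagonal, diagonal_add,
          Fin.sum_univ_two, Matrix.mul_apply] }

theorem gDiag_val (g : l → GL (Fin 2) F) :
    (gDiag g : Matrix (l ⊕ l) (l ⊕ l) F) = blockPair fun i => (g i : Matrix (Fin 2) (Fin 2) F) := rfl

theorem det_gDiag (g : l → GL (Fin 2) F) :
    GeneralLinearGroup.det (gDiag g) = ∏ i, GeneralLinearGroup.det (g i) := by
  ext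
  simp [Units.coe_prod, gDiag_val, det_blockPair]

theorem gDiag_injective : Function.Injective (gDiag (l := l) (F := F)) := by
  intro g h e
  have e' := congrArg Units.val e
  rw [gDiag_val, gDiag_val] at e'
  obtain ⟨e00, e01, e10, e11⟩ := fromBlocks_inj.1 e'
  funext i
  refine Units.ext (Matrix.ext fun a b => ?_)
  fin_cases a <;> fin_cases b
  · exact congrFun (diagonal_injective e00) i
  · exact congrFun (diagonal_injective e01) i
  · exact congrFun (diagonal_injective e10) i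
  · exact congrFun (diagonal_injective e11) i

/-- The permutations of the blocks. -/
def gPerm : Equiv.Perm l →* GL (l ⊕ l) F :=
  MonoidHom.toHomUnits
    { toFun := fun σ => fromBlocks (σ.symm.toPEquiv.toMatrix) 0 0 (σ.symm.toPEquiv.toMatrix)
      map_one' := by simp [Equiv.Perm.one_def, fromBlocks_one]
      map_mul' := fun σ τ => by
        simp [fromBlocks_multiply, ← PEquiv.toMatrix_trans, ← Equiv.toPEquiv_trans,
          Equiv.Perm.mul_def] }

theorem gPerm_val (σ : Equiv.Perm l) : (gPerm (F := F) σ : Matrix (l ⊕ l) (l ⊕ l) F) =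
    fromBlocks (σ.symm.toPEquiv.toMatrix) 0 0 (σ.symm.toPEquiv.toMatrix) := rfl

theorem det_gPerm (σ : Equiv.Perm l) : GeneralLinearGroup.det (gPerm (F := F) σ) = 1 := by
  ext
  simp only [GeneralLinearGroup.val_det_apply, gPerm_val, det_fromBlocks_zero₂₁, Units.val_one]
  have h : (σ.symm.toPEquiv.toMatrix : Matrix l l F).det = Equiv.Perm.sign σ.symm :=
    Matrix.det_permutation σ.symm
  rw [h]
  rcases Int.units_eq_one_or (Equiv.Perm.sign σ.symm) with h' | h' <;> simp [h']

theorem gPerm_conj (σ : Equiv.Perm l) (g : l → GL (Fin 2) F) :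
    gPerm (F := F) σ * gDiag g * (gPerm σ)⁻¹ = gDiag (g ∘ σ.symm) := by
  rw [mul_inv_eq_iff_eq_mul]
  refine Units.ext ?_
  rw [Units.val_mul, Units.val_mul, gPerm_val, gDiag_val, gDiag_val, blockPair, blockPair,
    fromBlocks_multiply, fromBlocks_multiply]
  simp only [zero_mul, mul_zero, add_zero, zero_add, PEquiv.toMatrix_toPEquiv_mul,
    PEquiv.mul_toMatrix_toPEquiv]
  congr 1 <;> ext i j <;> by_cases h : σ.symm i = j <;>
    simp [diagonal_apply, h, Equiv.symm_symm, (show (i = σ j) ↔ (σ.symm i = j) from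
      (Equiv.symm_apply_eq σ).symm)]

theorem eq_one_of_gDiag_eq_gPerm {g : l → GL (Fin 2) F} {σ : Equiv.Perm l}
    (h : gDiag g = gPerm σ) : σ = 1 := by
  have e' := congrArg Units.val h
  rw [gDiag_val, gPerm_val] at e'
  obtain ⟨e00, -, -, -⟩ := fromBlocks_inj.1 e'
  refine Equiv.ext fun i => ?_
  by_contra hne
  have h1 := congrFun (congrFun e00 (σ i)) i
  rw [PEquiv.toMatrix_apply, diagonal_apply_ne _ (by simpa using hne)] at h1
  simp [Equiv.toPEquiv_apply] at h1

theorem gPerm_injective : Function.Injective (gPerm (l := l) (F := F)) := by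
  intro σ τ h
  have h1 : gPerm (F := F) (σ * τ⁻¹) = gDiag (1 : l → GL (Fin 2) F) := by
    rw [map_mul, map_inv, h, mul_inv_cancel, map_one]
  exact mul_inv_eq_one.mp (eq_one_of_gDiag_eq_gPerm h1.symm)

/-- `diag(z, 1)`. -/
def dGL : Fˣ →* GL (Fin 2) F :=
  MonoidHom.toHomUnits
    { toFun := fun z => diagonal ![(z : F), 1]
      map_one' := by ext a b; fin_cases a <;> fin_cases b <;> simp
      map_mul' := fun z w => by
        rw [diagonal_mul_diagonal]; congr 1; funext a; fin_cases a <;> simp }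

theorem det_dGL (z : Fˣ) : GeneralLinearGroup.det (dGL z) = z := by
  ext
  show (diagonal ![(z : F), 1]).det = _
  simp [det_diagonal, Fin.prod_univ_two]

variable [Fintype F]

theorem exists_two_root : ∃ z : Fˣ, orderOf z = 2 ^ (Fintype.card F - 1).factorization 2 ∧
    ∀ y : Fˣ, (∃ k, y ^ 2 ^ k = 1) → y ∈ Subgroup.zpowers z := by
  classical
  obtain ⟨g, hg⟩ := IsCyclic.exists_generator (α := Fˣ)
  have hgo : orderOf g = Fintype.card F - 1 := by
    rw [orderOf_eq_card_of_forall_mem_zpowers hg, Nat.card_eq_fintype_card, Fintype.card_units]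
  set n := Fintype.card F - 1
  set e := n.factorization 2 with he
  have hn : n ≠ 0 := by
    have := Fintype.one_lt_card (α := F)
    omega
  refine ⟨g ^ (n / 2 ^ e), ?_, ?_⟩
  · have h1 : 2 ^ e ∣ n := Nat.ordProj_dvd n 2
    have h2 : n / 2 ^ e ≠ 0 := by
      have := Nat.le_of_dvd (Nat.pos_of_ne_zero hn) h1
      exact Nat.div_ne_zero_iff.mpr ⟨by positivity, this⟩
    rw [orderOf_pow_of_dvd h2 (by rw [hgo]; exact Nat.div_dvd_of_dvd h1), hgo,
      Nat.div_div_self h1 hn]
  · rintro y ⟨k, hk⟩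
    have hyo : orderOf y ∣ 2 ^ e := by
      obtain ⟨j, -, hj⟩ := (Nat.dvd_prime_pow Nat.prime_two).mp (orderOf_dvd_of_pow_eq_one hk)
      rw [hj]
      refine pow_dvd_pow 2 ((Nat.prime_two.pow_dvd_iff_le_factorization hn).mp ?_)
      rw [← hj, ← hgo, orderOf_eq_card_of_forall_mem_zpowers hg]
      exact orderOf_dvd_natCard y
    obtain ⟨i, hi⟩ := hg y
    simp only at hi
    have hgy : g ^ (i * (2 ^ e : ℕ)) = 1 := by
      rw [_root_.zpow_mul, hi, zpow_natCast, orderOf_dvd_iff_pow_eq_one.mp hyo]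
    have h3 : ((n : ℕ) : ℤ) ∣ i * (2 ^ e : ℕ) := hgo ▸ orderOf_dvd_iff_zpow_eq_one.mpr hgy
    have h4 : ((n / 2 ^ e : ℕ) : ℤ) ∣ i := by
      have h5 : ((n / 2 ^ e * 2 ^ e : ℕ) : ℤ) ∣ i * (2 ^ e : ℕ) := by
        rwa [Nat.div_mul_cancel (Nat.ordProj_dvd n 2)]
      rw [Nat.cast_mul] at h5
      exact Int.dvd_of_mul_dvd_mul_right (Nat.cast_ne_zero.mpr (by positivity)) h5
    obtain ⟨t, ht⟩ := h4
    exact ⟨t, by simp only; rw [← zpow_natCast, ← _root_.zpow_mul, ← ht, hi]⟩

/-- A Sylow 2-subgroup of `GL(2, q)` adapted to the determinant. -/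
theorem exists_gl2_data (hodd : Odd (Fintype.card F)) (z : Fˣ)
    (hz : orderOf z = 2 ^ (Fintype.card F - 1).factorization 2)
    (hall : ∀ y : Fˣ, (∃ k, y ^ 2 ^ k = 1) → y ∈ Subgroup.zpowers z) :
    ∃ (W Q : Subgroup (GL (Fin 2) F)), IsPGroup 2 W ∧ Q ≤ W ∧ dGL z ∈ W ∧
      SqComm Q ∧ (∀ x ∈ Q, GeneralLinearGroup.det x = 1) ∧
      (∀ w ∈ W, GeneralLinearGroup.det w ∈ Subgroup.zpowers z) ∧
      (∀ w ∈ W, ∃ (k : ℤ), w * (dGL z) ^ k ∈ Q) ∧
      Nat.card W = 2 ^ ((Fintype.card F ^ 2 - 1).factorization 2 +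
        (Fintype.card F - 1).factorization 2) := by
  haveI : Fact (Nat.Prime 2) := ⟨Nat.prime_two⟩
  have hD : IsPGroup 2 (Subgroup.zpowers (dGL z)) := by
    rintro ⟨y, hy⟩
    obtain ⟨k, rfl⟩ := Subgroup.mem_zpowers_iff.mp hy
    refine ⟨(Fintype.card F - 1).factorization 2, Subtype.ext ?_⟩
    show ((dGL z) ^ k) ^ 2 ^ _ = 1
    rw [← zpow_natCast, ← _root_.zpow_mul, mul_comm, _root_.zpow_mul, zpow_natCast, ← map_pow, ← hz,
      pow_orderOf_eq_one, map_one, _root_.one_zpow]
  obtain ⟨W, hW⟩ := hD.exists_le_sylow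
  have hdW : dGL z ∈ (W : Subgroup (GL (Fin 2) F)) := hW (Subgroup.mem_zpowers _)
  have hdet : ∀ w ∈ (W : Subgroup (GL (Fin 2) F)),
      GeneralLinearGroup.det w ∈ Subgroup.zpowers z := fun w hw => by
    obtain ⟨k, hk⟩ := W.2 ⟨w, hw⟩
    refine hall _ ⟨k, ?_⟩
    rw [← map_pow, show w ^ 2 ^ k = 1 from congrArg Subtype.val hk, map_one]
  set Q := (W : Subgroup (GL (Fin 2) F)) ⊓
    (GeneralLinearGroup.det : GL (Fin 2) F →* Fˣ).ker with hQ
  have hred : ∀ w ∈ (W : Subgroup (GL (Fin 2) F)), ∃ k : ℤ, w * (dGL z) ^ k ∈ Q := by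
    intro w hw
    obtain ⟨k, hk⟩ := Subgroup.mem_zpowers_iff.mp (hdet w hw)
    refine ⟨-k, mul_mem hw (Subgroup.zpow_mem _ hdW _), ?_⟩
    show _ = (1 : Fˣ)
    rw [map_mul, map_zpow, det_dGL, ← hk, ← _root_.zpow_add, add_neg_cancel, _root_.zpow_zero]
  have hWcard : Nat.card (W : Subgroup (GL (Fin 2) F)) = 2 ^ ((Fintype.card F ^ 2 - 1).factorization 2 +
      (Fintype.card F - 1).factorization 2) := by
    rw [W.card_eq_multiplicity, val_card_gl2 hodd]
  refine ⟨W, Q, W.2, inf_le_left, hdW, ?_, fun x hx => hx.2, hdet, hred, hWcard⟩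
  let j : SpecialLinearGroup (Fin 2) F →* GL (Fin 2) F := SpecialLinearGroup.toGL
  have hjinj : Function.Injective j := SpecialLinearGroup.toGL_injective
  have hQrange : Q ≤ j.range := fun x hx =>
    ⟨⟨x, congrArg Units.val (hx.2 : GeneralLinearGroup.det x = 1)⟩, Units.ext rfl⟩
  have hmap : (Q.comap j).map j = Q := Subgroup.map_comap_eq_self hQrange
  have hQ2 : IsPGroup 2 (Q.comap j) := (W.2.to_le inf_le_left).comap_of_injective j hjinj
  have hle : 2 ^ (Fintype.card F ^ 2 - 1).factorization 2 ≤ Nat.card (Q.comap j) := by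
    rw [Nat.card_congr ((Q.comap j).equivMapOfInjective j hjinj).toEquiv, hmap]
    let f : (W : Subgroup (GL (Fin 2) F)) →* Fˣ :=
      (GeneralLinearGroup.det : GL (Fin 2) F →* Fˣ).comp (W : Subgroup (GL (Fin 2) F)).subtype
    have h1 := f.ker.card_mul_index
    rw [Subgroup.index_ker, hWcard] at h1
    have h2 : Nat.card f.range ≤ 2 ^ (Fintype.card F - 1).factorization 2 := by
      rw [← hz, ← Nat.card_zpowers]
      exact Subgroup.card_le_of_le (by rintro _ ⟨w, rfl⟩; exact hdet w w.2)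
    have h3 : Nat.card f.ker = Nat.card Q := Nat.card_congr
      { toFun := fun w => ⟨(w : (W : Subgroup (GL (Fin 2) F))), (w : (W : Subgroup (GL (Fin 2) F))).2, w.2⟩
        invFun := fun x => ⟨⟨x, x.2.1⟩, x.2.2⟩
        left_inv := fun _ => rfl
        right_inv := fun _ => rfl }
    rw [h3] at h1
    refine Nat.le_of_mul_le_mul_right ?_
      (pow_pos (by norm_num : 0 < 2) ((Fintype.card F - 1).factorization 2))
    rw [← pow_add, ← h1]
    exact Nat.mul_le_mul_left _ h2
  obtain ⟨P, hP⟩ := hQ2.exists_le_sylow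
  have hPQ : Q.comap j = (P : Subgroup _) := Subgroup.eq_of_le_of_card_ge hP (by
    rw [P.card_eq_multiplicity, val_card_sl2 hodd]; exact hle)
  rw [← hmap, hPQ]
  exact (sqComm_sylow_sl2 hodd P).map j

end H18
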