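import Cfsg.Agent.H18.SquaresBlocks
import Cfsg.Agent.H48.Diag

/-!
Sylow 2-subgroups of symplectic and special linear groups in odd characteristic have elementary
abelian commutator quotient.
-/

set_option autoImplicit false
set_option linter.unusedSectionVars false

open Matrix
open scoped commutatorElement

namespace H18

variable {F : Type*} [Field F] [Fintype F]

theorem SqComm.sylow_of_equiv {G L : Type*} [Group G] [Finite G] [Group L] [Finite L] {p : ℕ}
    [Fact p.Prime] (e : G ≃* L) (h : ∀ P : Sylow p G, SqComm (P : Subgroup G)) (Q : Sylow p L) :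
    SqComm (Q : Subgroup L) :=
  SqComm.of_sylow ((default : Sylow p G).mapSurjective (f := e.toMonoidHom) e.surjective)
    ((h default).map e.toMonoidHom) Q

theorem card_pi_subgroup {ι M : Type*} [Fintype ι] [Group M] (W : Subgroup M) :
    Nat.card (Subgroup.pi Set.univ fun _ : ι => W) = Nat.card W ^ Fintype.card ι := by
  rw [← Nat.card_eq_fintype_card, ← Nat.card_fun]
  exact Nat.card_congr
    { toFun := fun g i => ⟨g.1 i, g.2 i trivial⟩
      invFun := fun f => ⟨fun i => f i, fun i _ => (f i).2⟩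
      left_inv := fun _ => rfl
      right_inv := fun _ => rfl }

theorem isPGroup_pi {ι M : Type*} [Fintype ι] [Group M] {W : Subgroup M} (hW : IsPGroup 2 W)
    [Finite W] : IsPGroup 2 (Subgroup.pi Set.univ fun _ : ι => W) := by
  haveI : Fact (Nat.Prime 2) := ⟨Nat.prime_two⟩
  obtain ⟨n, hn⟩ := IsPGroup.iff_card.mp hW
  exact IsPGroup.of_card (n := n * Fintype.card ι) (by rw [card_pi_subgroup, hn, pow_mul])

theorem card_sylow_perm {α : Type*} [Fintype α] [DecidableEq α] (T : Sylow 2 (Equiv.Perm α)) :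
    Nat.card (T : Subgroup (Equiv.Perm α)) = 2 ^ (Fintype.card α).factorial.factorization 2 := by
  haveI : Fact (Nat.Prime 2) := ⟨Nat.prime_two⟩
  rw [T.card_eq_multiplicity, Nat.card_eq_fintype_card, Fintype.card_perm]

section Sp

theorem sqComm_sylow_sp (hodd : Odd (Fintype.card F)) (n : ℕ)
    (P : Sylow 2 (Matrix.symplecticGroup (Fin n) F)) :
    SqComm (P : Subgroup (Matrix.symplecticGroup (Fin n) F)) := by
  classical
  haveI : Fact (Nat.Prime 2) := ⟨Nat.prime_two⟩
  let Q : Sylow 2 (SpecialLinearGroup (Fin 2) F) := default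
  let T : Sylow 2 (Equiv.Perm (Fin n)) := default
  let D := H48.diagHom (l := Fin n) (F := F)
  let Pm := H48.permHom (l := Fin n) (F := F)
  let A := (Subgroup.pi Set.univ fun _ : Fin n => (Q : Subgroup _)).map D
  let B := (T : Subgroup (Equiv.Perm (Fin n))).map Pm
  have hval : ∀ (g : Fin n → SpecialLinearGroup (Fin 2) F) (σ : Equiv.Perm (Fin n)),
      D g = Pm σ → σ = 1 := by
    intro g σ h
    refine Equiv.ext fun i => ?_
    by_contra hne
    have h1 := congrFun (congrFun (congrArg Subtype.val h) (Sum.inl (σ i))) (Sum.inl i)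
    simp [D, Pm, H48.diagHom, H48.diagMat, H48.permHom, PEquiv.toMatrix_apply,
      Equiv.toPEquiv_apply] at h1
    rw [diagonal_apply_ne _ (by simpa using hne)] at h1
    exact zero_ne_one h1
  have hPinj : Function.Injective Pm := fun σ τ h =>
    mul_inv_eq_one.mp (hval 1 (σ * τ⁻¹) (by rw [map_mul, map_inv, h, mul_inv_cancel, map_one]))
  refine sqComm_sylow_of_semidirect (MonoidHom.id _) (fun _ _ h => h) A B (fun x _ => ⟨x, rfl⟩)
    (fun x _ => ⟨x, rfl⟩) ((isPGroup_pi Q.2).map D) (T.2.map Pm) ?_ ?_ ?_ ?_ ?_ P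
  · rintro _ ⟨σ, hσ, rfl⟩
    have hconj : ∀ τ : Equiv.Perm (Fin n), ∀ x ∈ A, Pm τ * x * (Pm τ)⁻¹ ∈ A := by
      rintro τ _ ⟨g, hg, rfl⟩
      exact ⟨g ∘ τ.symm, fun i _ => hg _ trivial, (H48.permHom_conj_diagHom τ g).symm⟩
    rw [Subgroup.mem_normalizer_iff]
    intro x
    refine ⟨hconj σ x, fun hx => ?_⟩
    have := hconj σ⁻¹ _ hx
    rwa [map_inv, show (Pm σ)⁻¹ * (Pm σ * x * (Pm σ)⁻¹) * (Pm σ)⁻¹⁻¹ = x by group] at this
  · rw [eq_bot_iff]
    rintro x ⟨⟨g, hg, rfl⟩, σ, hσ, e⟩
    rw [Subgroup.mem_bot, ← e, hval g σ e.symm, map_one]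
  · rw [Nat.card_congr (Subgroup.equivMapOfInjective _ Pm hPinj).symm.toEquiv,
      Nat.card_congr (Subgroup.equivMapOfInjective _ D H48.diagHom_injective).symm.toEquiv,
      card_pi_subgroup, card_sylow_perm, Fintype.card_fin, Q.card_eq_multiplicity,
      val_card_sl2 hodd, ← pow_mul, ← pow_add, val_card_sp hodd, mul_comm n]
  · intro a ha
    obtain ⟨g, hg, rfl⟩ := ha
    have h : (Subgroup.pi Set.univ fun _ : Fin n => (Q : Subgroup _)) ≤
        (sqSub (A ⊔ B)).comap D := by
      rw [Subgroup.pi_le_iff]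
      rintro i _ ⟨q, hq, rfl⟩
      let Di := D.comp (MonoidHom.mulSingle (fun _ : Fin n => SpecialLinearGroup (Fin 2) F) i)
      have hle : (Q : Subgroup _).map Di ≤ A := by
        rintro _ ⟨x, hx, rfl⟩
        refine ⟨_, fun k _ => ?_, rfl⟩
        show (Pi.mulSingle i x : Fin n → SpecialLinearGroup (Fin 2) F) k ∈
          (Q : Subgroup (SpecialLinearGroup (Fin 2) F))
        rcases eq_or_ne k i with rfl | hk
        · rw [Pi.mulSingle_eq_same]; exact hx
        · rw [Pi.mulSingle_eq_of_ne hk]; exact one_mem _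
      refine (mem_sqSub _ _).mpr ⟨Subgroup.mem_sup_left (hle ⟨q, hq, rfl⟩), ?_⟩
      exact Subgroup.commutator_mono (hle.trans le_sup_left) (hle.trans le_sup_left)
        ((sqComm_sylow_sl2 hodd Q).map Di _ ⟨q, hq, rfl⟩)
    exact ((mem_sqSub _ _).mp (h hg)).2
  · intro b hb
    exact Subgroup.commutator_mono le_sup_right le_sup_right
      ((sqComm_sylow_perm T).map Pm b hb)

end Sp

section LinearGroups

variable {l : Type} [Fintype l] [DecidableEq l]

/-- Reindexing special linear groups. -/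
def slReindex {m n R : Type*} [Fintype m] [DecidableEq m] [Fintype n] [DecidableEq n] [CommRing R]
    (e : m ≃ n) : SpecialLinearGroup m R ≃* SpecialLinearGroup n R where
  toFun x := ⟨reindex e e x.1, by rw [det_reindex_self]; exact x.2⟩
  invFun x := ⟨reindex e.symm e.symm x.1, by rw [det_reindex_self]; exact x.2⟩
  left_inv x := Subtype.ext (by simp)
  right_inv x := Subtype.ext (by simp)
  map_mul' x y := Subtype.ext (by
    show reindex e e (x.1 * y.1) = reindex e e x.1 * reindex e e y.1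
    simp [Matrix.submatrix_mul_equiv])

/-- `M ↦ diag(M, det M⁻¹)`. -/
def detFix {ι : Type*} [Fintype ι] [DecidableEq ι] :
    GL ι F →* SpecialLinearGroup (ι ⊕ Unit) F where
  toFun M := ⟨fromBlocks (M : Matrix ι ι F) 0 0
    (diagonal fun _ => (((GeneralLinearGroup.det M)⁻¹ : Fˣ) : F)), by
    rw [det_fromBlocks_zero₂₁, det_diagonal, Finset.prod_const, Finset.card_univ,
      Fintype.card_unit, pow_one, ← GeneralLinearGroup.val_det_apply, ← Units.val_mul,
      mul_inv_cancel, Units.val_one]⟩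
  map_one' := Subtype.ext (by simp [fromBlocks_one])
  map_mul' a b := Subtype.ext (by
    show fromBlocks _ _ _ _ = fromBlocks _ _ _ _ * fromBlocks _ _ _ _
    simp [fromBlocks_multiply, diagonal_mul_diagonal, mul_comm])

theorem detFix_injective {ι : Type*} [Fintype ι] [DecidableEq ι] :
    Function.Injective (detFix (ι := ι) (F := F)) := fun a b h =>
  Units.ext (fromBlocks_inj.1 (congrArg Subtype.val h)).1

theorem prod_zpow_eq {ι M : Type*} [CommGroup M] (s : Finset ι) (a : M) (k : ι → ℤ) :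
    ∏ i ∈ s, a ^ k i = a ^ ∑ i ∈ s, k i := by
  classical
  induction s using Finset.induction with
  | empty => simp
  | insert b t hb ih => rw [Finset.prod_insert hb, Finset.sum_insert hb, _root_.zpow_add, ih]

/-- Products of commuting diagonal corrections. -/
theorem mem_of_pairs {M : Type*} [Group M] (d : M) (S : Subgroup (l → M)) (o : l) (k : l → ℤ)
    (hk : d ^ (∑ i, k i) = 1)
    (hS : ∀ i, Pi.mulSingle i d * Pi.mulSingle o d⁻¹ ∈ S) :
    (fun i => d ^ k i) ∈ S := by
  classical
  letI : CommGroup (Subgroup.zpowers d) :=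
    { (inferInstance : Group (Subgroup.zpowers d)) with
      mul_comm := fun a b => by
        obtain ⟨x, hx⟩ := Subgroup.mem_zpowers_iff.mp a.2
        obtain ⟨y, hy⟩ := Subgroup.mem_zpowers_iff.mp b.2
        exact Subtype.ext (by simp only [Subgroup.coe_mul, ← hx, ← hy]; exact (Commute.zpow_zpow_self d x y).eq) }
  let ι : (l → Subgroup.zpowers d) →* (l → M) :=
    Pi.monoidHom fun i => (Subgroup.zpowers d).subtype.comp (Pi.evalMonoidHom _ i)
  set dd : Subgroup.zpowers d := ⟨d, Subgroup.mem_zpowers d⟩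
  let E : l → (l → Subgroup.zpowers d) := fun i => Pi.mulSingle i dd * Pi.mulSingle o dd⁻¹
  have hE : ∀ i, ι (E i) ∈ S := by
    intro i
    convert hS i using 1
    funext x
    show ((E i x : Subgroup.zpowers d) : M) = _
    by_cases hx : x = i <;> by_cases hxo : x = o <;>
      simp [E, dd, hx, hxo, Pi.mulSingle_apply] <;> split_ifs <;> simp_all
  have hk' : ∏ i, dd ^ k i = 1 := by
    rw [prod_zpow_eq]
    exact Subtype.ext hk
  have heq : (fun i => dd ^ k i) = ∏ i, E i ^ k i := by
    funext x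
    simp only [Finset.prod_apply, E, Pi.pow_apply, Pi.mul_apply, Pi.mulSingle_apply, mul_zpow,
      Finset.prod_mul_distrib, ite_pow, _root_.one_zpow, _root_.inv_zpow]
    rw [Finset.prod_ite_eq Finset.univ x, if_pos (Finset.mem_univ x)]
    split_ifs with hx
    · rw [Finset.prod_inv_distrib, hk', inv_one, mul_one]
    · rw [Finset.prod_const_one, mul_one]
  have : ι (fun i => dd ^ k i) ∈ S := by
    rw [heq]
    exact (Subgroup.prod_mem (S.comap ι) fun i _ => Subgroup.zpow_mem _ (hE i) _)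
  exact this

theorem sqComm_sylow_sl_even (hodd : Odd (Fintype.card F)) [Nonempty l] (z : Fˣ)
    (hz : orderOf z = 2 ^ (Fintype.card F - 1).factorization 2)
    (hall : ∀ y : Fˣ, (∃ k, y ^ 2 ^ k = 1) → y ∈ Subgroup.zpowers z)
    (T : Sylow 2 (Equiv.Perm l))
    (hswap : z ^ 2 = 1 ∨ ∀ i o : l, i ≠ o →
      ∃ σ ∈ (T : Subgroup (Equiv.Perm l)), σ * σ = 1 ∧ σ i = o)
    (P : Sylow 2 (SpecialLinearGroup (l ⊕ l) F)) :
    SqComm (P : Subgroup (SpecialLinearGroup (l ⊕ l) F)) := by
  classical
  haveI : Fact (Nat.Prime 2) := ⟨Nat.prime_two⟩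
  obtain ⟨W, Q, hW2, hQW, hdW, hQsq, hQdet, hWdet, hWred, hWcard⟩ := exists_gl2_data hodd z hz hall
  let D := gDiag (l := l) (F := F)
  let Pm := gPerm (l := l) (F := F)
  let δ : (l → GL (Fin 2) F) →* Fˣ :=
    { toFun := fun g => ∏ i, GeneralLinearGroup.det (g i)
      map_one' := by simp
      map_mul' := fun g h => by simp [Finset.prod_mul_distrib] }
  let PW := Subgroup.pi Set.univ fun _ : l => W
  let A0 := PW ⊓ δ.ker
  let A := A0.map D
  let B := (T : Subgroup (Equiv.Perm l)).map Pm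
  have hAc : ∀ τ : Equiv.Perm l, ∀ x ∈ A, Pm τ * x * (Pm τ)⁻¹ ∈ A := by
    rintro τ _ ⟨g, ⟨hg, hgd⟩, rfl⟩
    refine ⟨g ∘ τ.symm, ⟨fun i _ => hg _ trivial, ?_⟩, (gPerm_conj τ g).symm⟩
    show ∏ i, GeneralLinearGroup.det (g (τ.symm i)) = 1
    rw [Equiv.prod_comp τ.symm fun i => GeneralLinearGroup.det (g i)]
    exact hgd
  have hrange : ∀ x : GL (l ⊕ l) F, GeneralLinearGroup.det x = 1 →
      x ∈ (SpecialLinearGroup.toGL : SpecialLinearGroup (l ⊕ l) F →* GL (l ⊕ l) F).range :=
    fun x hx => ⟨⟨x, congrArg Units.val hx⟩, Units.ext rfl⟩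
  have hcardA0 : Nat.card A0 * 2 ^ (Fintype.card F - 1).factorization 2 =
      Nat.card W ^ Fintype.card l := by
    let f : PW →* Fˣ := δ.comp PW.subtype
    have h1 := f.ker.card_mul_index
    have h2 : f.range = Subgroup.zpowers z := by
      refine le_antisymm ?_ ?_
      · rintro _ ⟨g, rfl⟩
        exact Subgroup.prod_mem _ fun i _ => hWdet _ (g.2 i trivial)
      · rw [Subgroup.zpowers_le]
        obtain ⟨i0⟩ := (inferInstance : Nonempty l)
        refine ⟨⟨(Pi.mulSingle i0 (dGL z) : l → GL (Fin 2) F), fun i _ => ?_⟩, ?_⟩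
        · show (Pi.mulSingle i0 (dGL z) : l → GL (Fin 2) F) i ∈ W
          rcases eq_or_ne i i0 with rfl | hi
          · rw [Pi.mulSingle_eq_same]; exact hdW
          · rw [Pi.mulSingle_eq_of_ne hi]; exact one_mem _
        · show ∏ i, GeneralLinearGroup.det ((Pi.mulSingle i0 (dGL z) : l → GL (Fin 2) F) i) = z
          rw [Finset.prod_eq_single i0 (fun i _ hi => by rw [Pi.mulSingle_eq_of_ne hi, map_one])
            (by simp), Pi.mulSingle_eq_same, det_dGL]
    rw [Subgroup.index_ker, h2, Nat.card_zpowers, hz, card_pi_subgroup] at h1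
    rw [← h1]
    congr 1
    exact Nat.card_congr
      { toFun := fun g => ⟨⟨g.1, g.2.1⟩, g.2.2⟩
        invFun := fun g => ⟨g.1.1, g.1.2, g.2⟩
        left_inv := fun _ => rfl
        right_inv := fun _ => rfl }
  refine sqComm_sylow_of_semidirect SpecialLinearGroup.toGL SpecialLinearGroup.toGL_injective A B
    ?_ ?_ (((isPGroup_pi hW2).to_le inf_le_left).map D) (T.2.map Pm) ?_ ?_ ?_ ?_ ?_ P
  · rintro _ ⟨g, ⟨-, hgd⟩, rfl⟩
    exact hrange _ (by rw [det_gDiag]; exact hgd)
  · rintro _ ⟨σ, -, rfl⟩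
    exact hrange _ (det_gPerm σ)
  · rintro _ ⟨σ, hσ, rfl⟩
    rw [Subgroup.mem_normalizer_iff]
    intro x
    refine ⟨hAc σ x, fun hx => ?_⟩
    have := hAc σ⁻¹ _ hx
    rwa [map_inv, show (Pm σ)⁻¹ * (Pm σ * x * (Pm σ)⁻¹) * (Pm σ)⁻¹⁻¹ = x by group] at this
  · rw [eq_bot_iff]
    rintro x ⟨⟨g, hg, rfl⟩, σ, hσ, e⟩
    rw [Subgroup.mem_bot, ← e, eq_one_of_gDiag_eq_gPerm e.symm, map_one]
  · rw [Nat.card_congr (Subgroup.equivMapOfInjective _ Pm gPerm_injective).symm.toEquiv,
      Nat.card_congr (Subgroup.equivMapOfInjective _ D gDiag_injective).symm.toEquiv,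
      card_sylow_perm]
    haveI : NeZero (2 * Fintype.card l) := ⟨by have := Fintype.card_pos (α := l); omega⟩
    have hv := val_card_sl (F := F) hodd (2 * Fintype.card l)
    rw [sum_val_all Fintype.one_lt_card hodd] at hv
    have he : Nat.card (SpecialLinearGroup (l ⊕ l) F) =
        Nat.card (SpecialLinearGroup (Fin (2 * Fintype.card l)) F) :=
      Nat.card_congr (slReindex (Fintype.equivFinOfCardEq
        (by rw [Fintype.card_sum, two_mul]))).toEquiv
    rw [he]
    refine Nat.eq_of_mul_eq_mul_right (Nat.two_pow_pos ((Fintype.card F - 1).factorization 2)) ?_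
    rw [mul_right_comm, hcardA0, hWcard, ← pow_mul, ← pow_add, ← pow_add, hv, mul_comm]
  · rintro _ ⟨g, ⟨hgW, hgd⟩, rfl⟩
    set S := (sqSub (A ⊔ B)).comap D with hS
    suffices g ∈ S from ((mem_sqSub _ _).mp this).2
    choose k hk using fun i => hWred (g i) (hgW i trivial)
    -- the part inside `Q`
    have hqS : ∀ g' : l → GL (Fin 2) F, (∀ i, g' i ∈ Q) → g' ∈ S := by
      intro g' hg'
      refine (Subgroup.pi_le_iff (J := S) (H := fun _ : l => Q)).mpr (fun i => ?_) ?_
      · rintro _ ⟨q, hq, rfl⟩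
        let Di := D.comp (MonoidHom.mulSingle (fun _ : l => GL (Fin 2) F) i)
        have hle : Q.map Di ≤ A := by
          rintro _ ⟨x, hx, rfl⟩
          refine ⟨_, ⟨fun j _ => ?_, ?_⟩, rfl⟩
          · rcases eq_or_ne j i with rfl | hj
            · simpa using hQW hx
            · simpa [Pi.mulSingle_eq_of_ne hj] using one_mem W
          · show ∏ j, GeneralLinearGroup.det ((Pi.mulSingle i x : l → GL (Fin 2) F) j) = 1
            refine Finset.prod_eq_one fun j _ => ?_
            rcases eq_or_ne j i with rfl | hj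
            · rw [Pi.mulSingle_eq_same]; exact hQdet x hx
            · rw [Pi.mulSingle_eq_of_ne hj, map_one]
        refine (mem_sqSub _ _).mpr ⟨Subgroup.mem_sup_left (hle ⟨q, hq, rfl⟩), ?_⟩
        exact Subgroup.commutator_mono (hle.trans le_sup_left) (hle.trans le_sup_left)
          (hQsq.map Di _ ⟨q, hq, rfl⟩)
      · exact fun i _ => hg' i
    obtain ⟨o⟩ := (inferInstance : Nonempty l)
    have hdiag : (fun i => dGL z ^ (-k i)) ∈ S := by
      refine mem_of_pairs (dGL z) S o (fun i => -k i) ?_ fun i => ?_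
      · rw [← map_zpow, ← prod_zpow_eq, map_eq_one_iff]
        · refine Eq.trans (Finset.prod_congr rfl fun i _ => ?_) hgd
          have := hQdet _ (hk i)
          rw [map_mul, map_zpow, det_dGL] at this
          rw [_root_.zpow_neg]
          exact (eq_inv_of_mul_eq_one_left this).symm
        · intro x y h
          simpa [det_dGL] using congrArg GeneralLinearGroup.det h
      · rcases eq_or_ne i o with rfl | hio
        · rw [← Pi.mulSingle_mul, mul_inv_cancel, Pi.mulSingle_one]
          exact one_mem _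
        set E : l → GL (Fin 2) F := Pi.mulSingle i (dGL z) * Pi.mulSingle o (dGL z)⁻¹ with hE
        have hEA : D E ∈ A := by
          refine ⟨E, ⟨mul_mem ?_ ?_, ?_⟩, rfl⟩
          · intro j _
            rcases eq_or_ne j i with rfl | hj
            · rw [Pi.mulSingle_eq_same]; exact hdW
            · rw [Pi.mulSingle_eq_of_ne hj]; exact one_mem W
          · intro j _
            rcases eq_or_ne j o with rfl | hj
            · rw [Pi.mulSingle_eq_same]; exact inv_mem hdW
            · rw [Pi.mulSingle_eq_of_ne hj]; exact one_mem W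
          · show δ E = 1
            have hs : ∀ (a : l) (x : GL (Fin 2) F),
                δ (Pi.mulSingle a x) = GeneralLinearGroup.det x := fun a x => by
              show ∏ j, GeneralLinearGroup.det ((Pi.mulSingle a x : l → GL (Fin 2) F) j) = _
              rw [Finset.prod_eq_single a (fun j _ hj => by rw [Pi.mulSingle_eq_of_ne hj, map_one])
                (by simp), Pi.mulSingle_eq_same]
            rw [hE, map_mul, hs, hs, map_inv, mul_inv_cancel]
        refine (mem_sqSub _ _).mpr ⟨Subgroup.mem_sup_left hEA, ?_⟩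
        have hcomm : Commute (Pi.mulSingle i (dGL z) : l → GL (Fin 2) F)
            (Pi.mulSingle o (dGL z)⁻¹) := Pi.mulSingle_commute hio _ _
        rcases hswap with hz2 | hswap
        · rw [← map_pow, hE, hcomm.mul_pow, ← Pi.mulSingle_pow, ← Pi.mulSingle_pow, inv_pow,
            ← map_pow, hz2, map_one, inv_one, Pi.mulSingle_one, Pi.mulSingle_one, one_mul, map_one]
          exact one_mem _
        · obtain ⟨σ, hσ, hσ2, hσi⟩ := hswap i o hio
          have hσo : σ o = i := by rw [← hσi, ← Equiv.Perm.mul_apply, hσ2, Equiv.Perm.one_apply]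
          have hσs : ∀ j, σ.symm j = σ j := fun j => by
            rw [Equiv.symm_apply_eq, ← Equiv.Perm.mul_apply, hσ2, Equiv.Perm.one_apply]
          have hEinv : E⁻¹ ∘ σ.symm = E := by
            funext j
            simp only [Function.comp_apply, hσs, Pi.inv_apply, hE, Pi.mul_apply]
            rcases eq_or_ne j i with rfl | hji
            · simp [hσi, hio, hio.symm]
            rcases eq_or_ne j o with rfl | hjo
            · simp [hσo, hio, hio.symm]
            have h1 : σ j ≠ o := fun q => hji (by rw [← hσi] at q; exact σ.injective q)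
            have h2 : σ j ≠ i := fun q => hjo (by rw [← hσo] at q; exact σ.injective q)
            simp [h1, h2, hji, hjo]
          have hcm : ⁅D E, Pm σ⁆ = D E ^ 2 := by
            rw [commutatorElement_def, mul_assoc (D E), mul_assoc, ← map_inv, gPerm_conj, hEinv,
              pow_two]
          rw [← hcm]
          exact Subgroup.commutator_mem_commutator (Subgroup.mem_sup_left hEA)
            (Subgroup.mem_sup_right ⟨σ, hσ, rfl⟩)
    have := S.mul_mem (hqS (fun i => g i * dGL z ^ k i) hk) hdiag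
    convert this using 1
    funext i
    simp [mul_assoc, ← _root_.zpow_add]
  · intro b hb
    exact Subgroup.commutator_mono le_sup_right le_sup_right
      ((sqComm_sylow_perm T).map Pm b hb)

theorem sqComm_sylow_sl_odd (hodd : Odd (Fintype.card F)) (z : Fˣ)
    (hz : orderOf z = 2 ^ (Fintype.card F - 1).factorization 2)
    (hall : ∀ y : Fˣ, (∃ k, y ^ 2 ^ k = 1) → y ∈ Subgroup.zpowers z) (hz2 : z ^ 2 = 1)
    (P : Sylow 2 (SpecialLinearGroup ((l ⊕ l) ⊕ Unit) F)) :
    SqComm (P : Subgroup (SpecialLinearGroup ((l ⊕ l) ⊕ Unit) F)) := by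
  classical
  haveI : Fact (Nat.Prime 2) := ⟨Nat.prime_two⟩
  obtain ⟨W, Q, hW2, hQW, hdW, hQsq, -, -, hWred, hWcard⟩ := exists_gl2_data hodd z hz hall
  have hWsq : SqComm W := by
    have hWeq : W = Q ⊔ Subgroup.zpowers (dGL z) := by
      refine le_antisymm (fun w hw => ?_) (sup_le hQW ((Subgroup.zpowers_le).mpr hdW))
      obtain ⟨k, hk⟩ := hWred w hw
      rw [← mul_inv_cancel_right w (dGL z ^ k)]
      exact Subgroup.mul_mem_sup hk (inv_mem ⟨k, rfl⟩)
    rw [hWeq]
    refine sqComm_sup _ _ (fun a ha => Subgroup.commutator_mono le_sup_left le_sup_left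
      (hQsq a ha)) ?_
    rintro _ ⟨k, rfl⟩
    simp only
    rw [← zpow_natCast, ← _root_.zpow_mul, mul_comm, _root_.zpow_mul, zpow_natCast, ← map_pow, hz2,
      map_one, _root_.one_zpow]
    exact one_mem _
  let T : Sylow 2 (Equiv.Perm l) := default
  let D : (l → GL (Fin 2) F) →* SpecialLinearGroup ((l ⊕ l) ⊕ Unit) F := detFix.comp gDiag
  let Pm : Equiv.Perm l →* SpecialLinearGroup ((l ⊕ l) ⊕ Unit) F := detFix.comp gPerm
  let A := (Subgroup.pi Set.univ fun _ : l => W).map D
  let B := (T : Subgroup (Equiv.Perm l)).map Pm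
  refine sqComm_sylow_of_semidirect (MonoidHom.id _) (fun _ _ h => h) A B (fun x _ => ⟨x, rfl⟩)
    (fun x _ => ⟨x, rfl⟩) ((isPGroup_pi hW2).map D) (T.2.map Pm) ?_ ?_ ?_ ?_ ?_ P
  · rintro _ ⟨σ, hσ, rfl⟩
    have hconj : ∀ τ : Equiv.Perm l, ∀ x ∈ A, Pm τ * x * (Pm τ)⁻¹ ∈ A := by
      rintro τ _ ⟨g, hg, rfl⟩
      refine ⟨g ∘ τ.symm, fun i _ => hg _ trivial, ?_⟩
      show detFix (gDiag (g ∘ τ.symm)) = _
      rw [← gPerm_conj, map_mul, map_mul, map_inv]
      rfl
    rw [Subgroup.mem_normalizer_iff]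
    intro x
    refine ⟨hconj σ x, fun hx => ?_⟩
    have := hconj σ⁻¹ _ hx
    rwa [map_inv, show (Pm σ)⁻¹ * (Pm σ * x * (Pm σ)⁻¹) * (Pm σ)⁻¹⁻¹ = x by group] at this
  · rw [eq_bot_iff]
    rintro x ⟨⟨g, hg, rfl⟩, σ, hσ, e⟩
    rw [Subgroup.mem_bot, ← e, eq_one_of_gDiag_eq_gPerm (detFix_injective e).symm, map_one]
  · rw [Nat.card_congr (Subgroup.equivMapOfInjective _ Pm
        (detFix_injective.comp gPerm_injective)).symm.toEquiv,
      Nat.card_congr (Subgroup.equivMapOfInjective _ D
        (detFix_injective.comp gDiag_injective)).symm.toEquiv,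
      card_pi_subgroup, card_sylow_perm, hWcard, ← pow_mul, ← pow_add]
    congr 1
    have hv := val_card_sl (F := F) hodd (2 * Fintype.card l + 1)
    rw [Finset.sum_range_succ, sum_val_all Fintype.one_lt_card hodd,
      val_pow_sub_one_odd Fintype.one_lt_card hodd ⟨_, rfl⟩, add_left_inj] at hv
    have he : Nat.card (SpecialLinearGroup ((l ⊕ l) ⊕ Unit) F) =
        Nat.card (SpecialLinearGroup (Fin (2 * Fintype.card l + 1)) F) :=
      Nat.card_congr (slReindex (Fintype.equivFinOfCardEq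
        (by rw [Fintype.card_sum, Fintype.card_sum, Fintype.card_unit, two_mul]))).toEquiv
    rw [he, hv, mul_comm]
  · rintro _ ⟨g, hg, rfl⟩
    have h : (Subgroup.pi Set.univ fun _ : l => W) ≤ (sqSub (A ⊔ B)).comap D := by
      rw [Subgroup.pi_le_iff]
      rintro i _ ⟨q, hq, rfl⟩
      let Di := D.comp (MonoidHom.mulSingle (fun _ : l => GL (Fin 2) F) i)
      have hle : W.map Di ≤ A := by
        rintro _ ⟨x, hx, rfl⟩
        refine ⟨_, fun k _ => ?_, rfl⟩
        rcases eq_or_ne k i with rfl | hk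
        · simpa using hx
        · simpa [Pi.mulSingle_eq_of_ne hk] using one_mem W
      refine (mem_sqSub _ _).mpr ⟨Subgroup.mem_sup_left (hle ⟨q, hq, rfl⟩), ?_⟩
      exact Subgroup.commutator_mono (hle.trans le_sup_left) (hle.trans le_sup_left)
        (hWsq.map Di _ ⟨q, hq, rfl⟩)
    exact ((mem_sqSub _ _).mp (h hg)).2
  · intro b hb
    exact Subgroup.commutator_mono le_sup_right le_sup_right
      ((sqComm_sylow_perm T).map Pm b hb)

end LinearGroups

/-- A Sylow 2-subgroup of a symmetric group of degree `2^j` containing all translations. -/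
theorem exists_translating_sylow (j : ℕ) :
    ∃ T : Sylow 2 (Equiv.Perm (Fin (2 ^ j))), ∀ i o : Fin (2 ^ j), i ≠ o →
      ∃ σ ∈ (T : Subgroup (Equiv.Perm (Fin (2 ^ j)))), σ * σ = 1 ∧ σ i = o := by
  classical
  let e : (Fin j → ZMod 2) ≃ Fin (2 ^ j) := Fintype.equivFinOfCardEq (by simp)
  let f : Multiplicative (Fin j → ZMod 2) →* Equiv.Perm (Fin (2 ^ j)) :=
    { toFun := fun v => e.symm.trans ((Equiv.addLeft v.toAdd).trans e)
      map_one' := Equiv.ext fun x => by simp
      map_mul' := fun v w => Equiv.ext fun x => by simp [add_assoc] }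
  have hf : ∀ v, f v * f v = 1 := fun v => by
    rw [← map_mul, ← map_one f]
    congr 1
    refine Multiplicative.toAdd.injective (funext fun i => ?_)
    simp only [toAdd_mul, Pi.add_apply]
    exact CharTwo.add_self_eq_zero _
  have h2 : IsPGroup 2 f.range := by
    rintro ⟨_, v, rfl⟩
    exact ⟨1, Subtype.ext (by simp [pow_two, hf])⟩
  obtain ⟨T, hT⟩ := h2.exists_le_sylow
  refine ⟨T, fun i o _ => ⟨f (Multiplicative.ofAdd (e.symm o - e.symm i)), hT ⟨_, rfl⟩, hf _, ?_⟩⟩
  show e (e.symm o - e.symm i + e.symm i) = o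
  simp

theorem z_sq_eq_one (z : Fˣ) (hz : orderOf z = 2 ^ (Fintype.card F - 1).factorization 2)
    (hq : 4 ∣ Fintype.card F + 1) : z ^ 2 = 1 := by
  apply orderOf_dvd_iff_pow_eq_one.mp
  rw [hz]
  refine (pow_dvd_pow 2 (?_ : _ ≤ 1)).trans (by norm_num)
  by_contra h
  push Not at h
  have h2 : 4 ∣ Fintype.card F - 1 := by
    have := (Nat.prime_two.pow_dvd_iff_le_factorization (k := 2)
      (by have := Fintype.one_lt_card (α := F); omega : Fintype.card F - 1 ≠ 0)).mpr h
    simpa using this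
  have := Fintype.one_lt_card (α := F)
  omega

theorem sqComm_sylow_sl_two_mul (hodd : Odd (Fintype.card F)) (m : ℕ) (hm : 1 ≤ m)
    (hq : 4 ∣ Fintype.card F + 1 ∨ (4 ∣ Fintype.card F - 1 ∧ ∃ j : ℕ, m = 2 ^ j))
    (P : Sylow 2 (SpecialLinearGroup (Fin (2 * m)) F)) :
    SqComm (P : Subgroup (SpecialLinearGroup (Fin (2 * m)) F)) := by
  haveI : Fact (Nat.Prime 2) := ⟨Nat.prime_two⟩
  haveI : Nonempty (Fin m) := ⟨⟨0, hm⟩⟩
  obtain ⟨z, hz, hall⟩ := exists_two_root (F := F)
  refine SqComm.sylow_of_equiv (slReindex (finSumFinEquiv.trans (finCongr (two_mul m).symm)))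
    (fun P' => ?_) P
  rcases hq with hq | ⟨-, j, rfl⟩
  · exact sqComm_sylow_sl_even hodd z hz hall default (.inl (z_sq_eq_one z hz hq)) P'
  · obtain ⟨T, hT⟩ := exists_translating_sylow j
    exact sqComm_sylow_sl_even hodd z hz hall T (.inr hT) P'

theorem sqComm_sylow_sl_two_mul_add_one (hodd : Odd (Fintype.card F))
    (hq : 4 ∣ Fintype.card F + 1) (m : ℕ)
    (P : Sylow 2 (SpecialLinearGroup (Fin (2 * m + 1)) F)) :
    SqComm (P : Subgroup (SpecialLinearGroup (Fin (2 * m + 1)) F)) := by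
  haveI : Fact (Nat.Prime 2) := ⟨Nat.prime_two⟩
  obtain ⟨z, hz, hall⟩ := exists_two_root (F := F)
  refine SqComm.sylow_of_equiv (slReindex
    (((finSumFinEquiv.trans (finCongr (two_mul m).symm)).sumCongr finOneEquiv.symm).trans
      finSumFinEquiv)) (fun P' => ?_) P
  exact sqComm_sylow_sl_odd (l := Fin m) hodd z hz hall (z_sq_eq_one z hz hq) P'

end H18
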