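import Cfsg.Agent.H18.SquaresOrthSylow
import Cfsg.Agent.H18.SquaresCounts
import Cfsg.Agent.H38.StdForms
import Cfsg.Agent.H47.OrthCongr

/-!
Sylow 2-subgroups of the groups Omega in odd characteristic have elementary abelian commutator
quotient.
-/

set_option autoImplicit false
set_option linter.unusedSectionVars false

open H43 Matrix
open scoped commutatorElement

namespace H18

section Arith

variable {q : ℕ}

theorem val_eq_one_of_mod {x : ℕ} (h : x % 4 = 2) : x.factorization 2 = 1 := by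
  obtain ⟨y, rfl⟩ : ∃ y, x = 2 * y := ⟨x / 2, by omega⟩
  rw [Nat.factorization_mul (by norm_num) (by omega), Finsupp.add_apply,
    Nat.factorization_eq_zero_of_not_dvd (show ¬ 2 ∣ y by omega), Nat.prime_two.factorization_self]

theorem val_two_mul_pow_mul (hq : 1 < q) (hodd : Odd q) (e x n : ℕ) (hx : x ≠ 0) :
    (2 * q ^ e * x * ∏ i ∈ Finset.range n, (q ^ (2 * (i + 1)) - 1)).factorization 2 =
      1 + x.factorization 2 + (n * (q ^ 2 - 1).factorization 2 + n.factorial.factorization 2) := by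
  have hq0 : q ^ e ≠ 0 := pow_ne_zero _ (by omega)
  have hne : ∀ i ∈ Finset.range n, q ^ (2 * (i + 1)) - 1 ≠ 0 := fun i _ => by
    have := Nat.one_lt_pow (show 2 * (i + 1) ≠ 0 by omega) hq
    omega
  rw [Nat.factorization_mul (by positivity) (Finset.prod_ne_zero_iff.mpr hne),
    Nat.factorization_mul (by positivity) hx, Nat.factorization_mul (by norm_num) hq0,
    Finsupp.add_apply, Finsupp.add_apply, Finsupp.add_apply, val_prod _ _ hne,
    sum_val_even hq hodd, Nat.prime_two.factorization_self,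
    Nat.factorization_eq_zero_of_not_dvd
      (fun h => (Nat.not_even_iff_odd.mpr (hodd.pow (n := e))) (even_iff_two_dvd.mpr h)), add_zero]

theorem val_sub_add (hq : 1 < q) (hodd : Odd q) {K : ℕ} (hK : K ≠ 0) :
    (q ^ K - 1).factorization 2 + (q ^ K + 1).factorization 2 =
      (q ^ 2 - 1).factorization 2 + K.factorization 2 := by
  rw [← val_pow_sub_one_even hq hodd hK, mul_comm 2 K, pow_mul,
    show (q ^ K) ^ 2 - 1 = (q ^ K + 1) * (q ^ K - 1) by simpa using Nat.sq_sub_sq (q ^ K) 1,
    Nat.factorization_mul (by omega) (by have := Nat.one_lt_pow hK hq; omega),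
    Finsupp.add_apply, add_comm]

theorem val_mod_one (hq : 1 < q) (hodd : Odd q) {K : ℕ} (hK : K ≠ 0) (h : q ^ K % 4 = 1) :
    (q ^ K + 1).factorization 2 = 1 ∧
      (q ^ K - 1).factorization 2 + 1 = (q ^ 2 - 1).factorization 2 + K.factorization 2 := by
  have h1 : (q ^ K + 1).factorization 2 = 1 := val_eq_one_of_mod (by omega)
  exact ⟨h1, by rw [← val_sub_add hq hodd hK, h1]⟩

theorem val_mod_three (hq : 1 < q) (hodd : Odd q) {K : ℕ} (hK : K ≠ 0) (h : ¬ q ^ K % 4 = 1) :
    (q ^ K - 1).factorization 2 = 1 ∧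
      (q ^ K + 1).factorization 2 + 1 = (q ^ 2 - 1).factorization 2 + K.factorization 2 := by
  have h0 : q ^ K % 2 = 1 := Nat.odd_iff.mp hodd.pow
  have h1 : (q ^ K - 1).factorization 2 = 1 := val_eq_one_of_mod (by omega)
  exact ⟨h1, by rw [← val_sub_add hq hodd hK, h1, add_comm]⟩

end Arith

variable {F : Type*} [Field F] [Fintype F]

/-- Conjugating by an isometry. -/
noncomputable def orthTransfer {V W : Type*} [AddCommGroup V] [Module F V] [AddCommGroup W]
    [Module F W] (Q : QuadraticForm F V) (Q' : QuadraticForm F W) (g : V ≃ₗ[F] W)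
    (hg : ∀ v, Q' (g v) = Q v) : orthGroup Q ≃* orthGroup Q' where
  toFun x := ⟨g.symm.trans (x.1.trans g), fun w => by
    show Q' (g (x.1 (g.symm w))) = Q' w
    rw [hg, x.2, ← hg, g.apply_symm_apply]⟩
  invFun y := ⟨g.trans (y.1.trans g.symm), fun v => by
    show Q (g.symm (y.1 (g v))) = Q v
    rw [← hg, g.apply_symm_apply, y.2, hg]⟩
  left_inv x := orth_ext fun v => by
    show g.symm (g (x.1 (g.symm (g v)))) = x.1 v
    rw [g.symm_apply_apply, g.symm_apply_apply]
  right_inv y := orth_ext fun w => by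
    show g (g.symm (y.1 (g (g.symm w)))) = y.1 w
    rw [g.apply_symm_apply, g.apply_symm_apply]
  map_mul' x y := orth_ext fun w => by
    show g (x.1 (y.1 (g.symm w))) = g (x.1 (g.symm (g (y.1 (g.symm w)))))
    rw [g.symm_apply_apply]

theorem gram_diagQ {ι : Type} [Fintype ι] [DecidableEq ι] (w : ι → F) :
    (Matrix.of fun i j => polB (diagQ w) (Pi.single i 1) (Pi.single j 1)).det = ∏ i, 2 * w i := by
  rw [show (Matrix.of fun i j => polB (diagQ w) (Pi.single i 1) (Pi.single j 1)) =
      diagonal fun i => 2 * w i from ?_, det_diagonal]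
  ext i j
  rw [Matrix.of_apply, polB_diagQ_single]
  by_cases h : i = j
  · subst h; simp
  · simp [Matrix.diagonal_apply_ne _ h, Pi.single_eq_of_ne (Ne.symm h)]

theorem exists_transfer (hodd : Odd (Fintype.card F)) {ι : Type} [Fintype ι] [DecidableEq ι]
    (Qs : QuadraticForm F (ι → F)) (hns : (polB Qs).Nondegenerate) {k r : ℕ} (c : Fin r → F)
    (hc : ∀ j, c j ≠ 0) (hι : Fintype.card ι = 2 * k + r)
    (hd : IsSquare (2 ^ r * (∏ j, c j) *
      (Matrix.of fun i j => polB Qs (Pi.single i 1) (Pi.single j 1)).det)) :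
    ∃ g : (ι → F) ≃ₗ[F] (OIdx k r → F), ∀ v, diagQ (blockW (k := k) c) (g v) = Qs v := by
  have h2 : (2 : F) ≠ 0 := two_ne_zero_of_odd_card hodd
  refine H47.equiv_of_det hodd Qs (diagQ (blockW (k := k) c)) (H44.polarSep_of_nondegenerate hns)
    (H44.polarSep_of_nondegenerate (diagQ_nondeg h2 _ (by
      rintro (p | j)
      · exact one_ne_zero
      · exact hc j))) (Pi.basisFun F ι) (Pi.basisFun F (OIdx k r)) ?_ ?_
  · rw [hι, Fintype.card_sum, Fintype.card_prod, Fintype.card_fin, Fintype.card_fin,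
      Fintype.card_fin, mul_comm]
  · simp only [Pi.basisFun_apply]
    show IsSquare ((Matrix.of fun i j => polB Qs (Pi.single i 1) (Pi.single j 1)).det *
      (Matrix.of fun i j => polB (diagQ (blockW (k := k) c)) (Pi.single i 1) (Pi.single j 1)).det)
    rw [gram_diagQ, Fintype.prod_sum_type]
    simp only [blockW, Sum.elim_inl, Sum.elim_inr, mul_one, Finset.prod_const, Finset.card_univ,
      Fintype.card_prod, Fintype.card_fin, Finset.prod_mul_distrib]
    obtain ⟨s, hs⟩ := hd
    exact ⟨2 ^ k * s, by rw [mul_mul_mul_comm _ s, ← hs, ← pow_add]; ring⟩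

theorem card_iso_eq {ι : Type} [Fintype ι] [DecidableEq ι] {Qs : QuadraticForm F (ι → F)}
    {f : (ι → F) → F} (hf : ⇑Qs = f) {W : Type*} [AddCommGroup W] [Module F W]
    {Q' : QuadraticForm F W} (g : (ι → F) ≃ₗ[F] W) (hg : ∀ v, Q' (g v) = Qs v) :
    Nat.card (Cfsg.isometryGroup F f) = Nat.card (orthGroup Q') := by
  subst hf
  exact Nat.card_congr ((toOrth Qs).trans (orthTransfer Qs Q' g hg)).toEquiv

theorem val_card_plane (hodd : Odd (Fintype.card F)) :
    (Nat.card (orthGroup (planeQ F))).factorization 2 =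
      (Fintype.card F ^ 2 - 1).factorization 2 := by
  classical
  have hq : 1 < Fintype.card F := Fintype.one_lt_card
  have h2 : (2 : F) ≠ 0 := two_ne_zero_of_odd_card hodd
  have hp : (polB (planeQ F)).Nondegenerate := diagQ_nondeg h2 _ fun _ => one_ne_zero
  have hgp : (Matrix.of fun i j => polB (planeQ F) (Pi.single i 1) (Pi.single j 1)).det = 2 * 2 := by
    rw [planeQ, gram_diagQ, Fin.prod_univ_two, mul_one]
  by_cases h1 : Fintype.card F % 4 = 1
  · obtain ⟨g, hg⟩ := H47.equiv_of_det hodd (qPlus 1 F) (planeQ F)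
      (H44.polarSep_of_nondegenerate (qPlus_nondeg 1)) (H44.polarSep_of_nondegenerate hp)
      (Pi.basisFun F _) (Pi.basisFun F (Fin 2)) rfl (by
        simp only [Pi.basisFun_apply]
        show IsSquare ((Matrix.of fun i j => polB (qPlus 1 F) (Pi.single i 1) (Pi.single j 1)).det *
          (Matrix.of fun i j => polB (planeQ F) (Pi.single i 1) (Pi.single j 1)).det)
        rw [gram_qPlus, det_swap_blocks, hgp]
        exact ((isSquare_neg_one_pow_iff rfl hodd 1).mpr (by rwa [pow_one])).mul ⟨2, rfl⟩)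
    rw [← card_iso_eq (coe_qPlus 1 F) g hg, H38.card_plus 0, val_two_mul_pow_mul hq hodd _ _ _
      (by have := Nat.one_lt_pow (Nat.succ_ne_zero 0) hq; simp only [Nat.succ_eq_add_one] at this; omega)]
    have := (val_mod_one hq hodd one_ne_zero (K := 1) (by rwa [pow_one])).2
    simp only [zero_add, zero_mul, Nat.factorial_zero, Nat.factorization_one, Finsupp.coe_zero,
      Pi.zero_apply, add_zero] at this ⊢
    omega
  · have hns : ¬ IsSquare ((-1 : F) ^ 1) := fun h =>
      h1 (by simpa using (isSquare_neg_one_pow_iff rfl hodd 1).mp h)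
    have hab : ∀ z₁ z₂ : F, z₁ ^ 2 + 0 * z₁ * z₂ + 1 * z₂ ^ 2 = 0 → z₁ = 0 ∧ z₂ = 0 := by
      intro z₁ z₂ h
      by_cases hz : z₂ = 0
      · subst hz
        exact ⟨by simpa using h, rfl⟩
      · exact absurd ⟨z₁ / z₂, by field_simp; linear_combination -h⟩ hns
    obtain ⟨g, hg⟩ := H47.equiv_of_det hodd (qMinus 0 F 0 1) (planeQ F)
      (H44.polarSep_of_nondegenerate (qMinus_nondeg 0 hab)) (H44.polarSep_of_nondegenerate hp)
      (Pi.basisFun F _) (Pi.basisFun F (Fin 2)) rfl (by
        simp only [Pi.basisFun_apply]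
        show IsSquare ((Matrix.of fun i j => polB (qMinus 0 F 0 1) (Pi.single i 1) (Pi.single j 1)).det *
          (Matrix.of fun i j => polB (planeQ F) (Pi.single i 1) (Pi.single j 1)).det)
        rw [gram_qMinus, Matrix.det_fromBlocks_zero₁₂, det_swap_blocks, Matrix.det_fin_two_of, hgp]
        exact ⟨4, by ring⟩)
    rw [← card_iso_eq (coe_qMinus 0 F 0 1) g hg, H38.card_minus 0 0 1 hab,
      val_two_mul_pow_mul hq hodd _ _ _ (by omega)]
    have := (val_mod_three hq hodd one_ne_zero (K := 1) (by rwa [pow_one])).2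
    simp only [zero_add, zero_mul, Nat.factorial_zero, Nat.factorization_one, Finsupp.coe_zero,
      Pi.zero_apply, add_zero] at this ⊢
    omega

theorem sqComm_sylow_omega (hodd : Odd (Fintype.card F)) {ι : Type} [Fintype ι] [DecidableEq ι]
    {Qs : QuadraticForm F (ι → F)} {f : (ι → F) → F} (hf : ⇑Qs = f) (hns : (polB Qs).Nondegenerate)
    {k r : ℕ} (hk : 2 ≤ k) (c : Fin r → F) (hc : ∀ j, c j ≠ 0) (hι : Fintype.card ι = 2 * k + r)
    (hd : IsSquare (2 ^ r * (∏ j, c j) *
      (Matrix.of fun i j => polB Qs (Pi.single i 1) (Pi.single j 1)).det))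
    (hcard : (Nat.card (Cfsg.isometryGroup F f)).factorization 2 =
      k * (Fintype.card F ^ 2 - 1).factorization 2 + k.factorial.factorization 2 + r)
    (P : Sylow 2 (Cfsg.Omega F f)) : SqComm (P : Subgroup (Cfsg.Omega F f)) := by
  subst hf
  haveI : Fact (Nat.Prime 2) := ⟨Nat.prime_two⟩
  obtain ⟨g, hg⟩ := exists_transfer hodd Qs hns c hc hι hd
  haveI : Finite (orthGroup (diagQ (blockW (k := k) c))) := finite_orthGroup
  let e := orthTransfer Qs _ g hg
  haveI : Finite (Cfsg.isometryGroup F ⇑Qs) := Finite.of_equiv _ ((toOrth Qs).trans e).toEquiv.symm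
  have hmap : (Cfsg.Omega F ⇑Qs).map ((toOrth Qs).trans e).toMonoidHom =
      commutator (orthGroup (diagQ (blockW (k := k) c))) := by
    rw [Cfsg.Omega, commutator_def, Subgroup.map_commutator,
      Subgroup.map_top_of_surjective _ ((toOrth Qs).trans e).surjective, commutator_def]
  refine SqComm.of_sylow P ?_ P
  have h := fun P' => sqComm_sylow_commutator_diag hodd hk c hc (val_card_plane hodd)
    (by rw [← card_iso_eq rfl g hg]; exact hcard) P'
  let e2 : Cfsg.Omega F ⇑Qs ≃* commutator (orthGroup (diagQ (blockW (k := k) c))) :=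
    (((toOrth Qs).trans e).subgroupMap (Cfsg.Omega F ⇑Qs)).trans (MulEquiv.subgroupCongr hmap)
  exact SqComm.of_sylow ((default : Sylow 2 (commutator (orthGroup (diagQ (blockW (k := k) c))))).mapSurjective
      (f := e2.symm.toMonoidHom) e2.symm.surjective) ((h default).map e2.symm.toMonoidHom) P

theorem sqComm_sylow_omega_odd (hodd : Odd (Fintype.card F)) (m : ℕ) (hm : 2 ≤ m)
    (P : Sylow 2 (Cfsg.Omega F (Cfsg.quadFormOdd m F))) :
    SqComm (P : Subgroup (Cfsg.Omega F (Cfsg.quadFormOdd m F))) := by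
  classical
  have h2 : (2 : F) ≠ 0 := two_ne_zero_of_odd_card hodd
  have hq : 1 < Fintype.card F := Fintype.one_lt_card
  have hD : (Matrix.of fun i j => polB (qOdd m F) (Pi.single i 1) (Pi.single j 1)).det ≠ 0 := by
    have e := (LinearMap.BilinForm.nondegenerate_iff_det_ne_zero (B := polB (qOdd m F))
      (Pi.basisFun F (Unit ⊕ (Fin m ⊕ Fin m)))).mp (qOdd_nondeg h2 m)
    convert e using 2
    ext i j
    simp [LinearMap.BilinForm.toMatrix_apply]
  set D := (Matrix.of fun i j => polB (qOdd m F) (Pi.single i 1) (Pi.single j 1)).det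
  refine sqComm_sylow_omega hodd (coe_qOdd m F) (qOdd_nondeg h2 m) hm (fun _ : Fin 1 => 2 * D)
    (fun _ => mul_ne_zero h2 hD) (by simp; omega) ?_ ?_ P
  · exact ⟨2 * D, by rw [Fin.prod_univ_one]; ring⟩
  · rw [H38.card_odd h2, ← mul_one (2 * Fintype.card F ^ (m ^ 2)),
      val_two_mul_pow_mul hq hodd _ _ _ one_ne_zero]
    simp only [Nat.factorization_one, Finsupp.coe_zero, Pi.zero_apply]
    omega

theorem sqComm_sylow_omega_plus (hodd : Odd (Fintype.card F)) (m : ℕ) (hm : 2 ≤ m) (hm' : Even m ∨ 3 ≤ m)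
    (P : Sylow 2 (Cfsg.Omega F (Cfsg.quadFormPlus m F))) :
    SqComm (P : Subgroup (Cfsg.Omega F (Cfsg.quadFormPlus m F))) := by
  classical
  have h2 : (2 : F) ≠ 0 := two_ne_zero_of_odd_card hodd
  have hq : 1 < Fintype.card F := Fintype.one_lt_card
  obtain ⟨n, rfl⟩ : ∃ n, m = n + 1 := ⟨m - 1, by omega⟩
  set D := (Matrix.of fun i j => polB (qPlus (n + 1) F) (Pi.single i 1) (Pi.single j 1)).det with hD
  have hDval : D = (-1) ^ (n + 1) := by rw [hD, gram_qPlus, det_swap_blocks]
  have hx : Fintype.card F ^ (n + 1) - 1 ≠ 0 := by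
    have := Nat.one_lt_pow (Nat.succ_ne_zero n) hq
    simp only [Nat.succ_eq_add_one] at this
    omega
  by_cases hs : Fintype.card F ^ (n + 1) % 4 = 1
  · refine sqComm_sylow_omega hodd (coe_qPlus (n + 1) F) (qPlus_nondeg _) (k := n + 1) hm
      (Fin.elim0 : Fin 0 → F) (fun j => j.elim0) (by simp; omega) ?_ ?_ P
    · simpa [← hD, hDval] using (isSquare_neg_one_pow_iff rfl hodd (n + 1)).mpr hs
    · rw [H38.card_plus, val_two_mul_pow_mul hq hodd _ _ _ hx, val_factorial_succ, add_one_mul]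
      have := (val_mod_one hq hodd (Nat.succ_ne_zero n) hs).2
      simp only [Nat.succ_eq_add_one] at this
      omega
  · have hodd' : ¬ Even (n + 1) := by
      rintro ⟨j, hj⟩
      apply hs
      obtain ⟨t, ht⟩ := (hodd.pow (n := j))
      rw [hj, pow_add, ht, Nat.mul_mod]
      have : (2 * t + 1) % 4 = 1 ∨ (2 * t + 1) % 4 = 3 := by omega
      rcases this with h | h <;> rw [h]
    refine sqComm_sylow_omega hodd (coe_qPlus (n + 1) F) (qPlus_nondeg _) (k := n)
      (by rcases hm' with h | h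
          · exact absurd h hodd'
          · omega)
      (![1, D] : Fin 2 → F) ?_ (by simp; omega) ?_ ?_ P
    · intro j
      fin_cases j
      · exact one_ne_zero
      · simp [hDval]
    · exact ⟨2 * D, by rw [← hD, Fin.prod_univ_two]; simp; ring⟩
    · rw [H38.card_plus, val_two_mul_pow_mul hq hodd _ _ _ hx,
        (val_mod_three hq hodd (Nat.succ_ne_zero n) hs).1]
      omega

theorem sqComm_sylow_omega_minus (hodd : Odd (Fintype.card F)) (m : ℕ) (hm : 3 ≤ m) (a b : F)
    (hab : ∀ z₁ z₂ : F, z₁ ^ 2 + a * z₁ * z₂ + b * z₂ ^ 2 = 0 → z₁ = 0 ∧ z₂ = 0)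
    (P : Sylow 2 (Cfsg.Omega F (Cfsg.quadFormMinus (m - 1) F a b))) :
    SqComm (P : Subgroup (Cfsg.Omega F (Cfsg.quadFormMinus (m - 1) F a b))) := by
  classical
  have h2 : (2 : F) ≠ 0 := two_ne_zero_of_odd_card hodd
  have hq : 1 < Fintype.card F := Fintype.one_lt_card
  have hpm := H47.plus_minus_disc hodd m (by omega) hab
  obtain ⟨n, rfl⟩ : ∃ n, m = n + 1 := ⟨m - 1, by omega⟩
  change Sylow 2 (Cfsg.Omega F (Cfsg.quadFormMinus n F a b)) at P
  change SqComm (P : Subgroup (Cfsg.Omega F (Cfsg.quadFormMinus n F a b)))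
  rw [show n + 1 - 1 = n from rfl] at hpm
  set D := (Matrix.of fun i j => polB (qMinus n F a b) (Pi.single i 1) (Pi.single j 1)).det with hD
  rw [gram_qPlus, det_swap_blocks] at hpm
  have hD0 : D ≠ 0 := fun h => hpm (by rw [h, mul_zero]; exact IsSquare.zero)
  have hsq : IsSquare D ↔ ¬ Fintype.card F ^ (n + 1) % 4 = 1 := by
    rw [← isSquare_neg_one_pow_iff rfl hodd]
    have := H44.isSquare_mul_iff (pow_ne_zero (n + 1) (neg_ne_zero.mpr (one_ne_zero' F))) hD0
    tauto
  by_cases hs : Fintype.card F ^ (n + 1) % 4 = 1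
  · refine sqComm_sylow_omega hodd (coe_qMinus n F a b) (qMinus_nondeg n hab) (k := n) (by omega)
      (![1, D] : Fin 2 → F) ?_ (by simp; omega) ?_ ?_ P
    · intro j
      fin_cases j
      · exact one_ne_zero
      · simpa using hD0
    · exact ⟨2 * D, by rw [← hD, Fin.prod_univ_two]; simp; ring⟩
    · rw [H38.card_minus n a b hab, val_two_mul_pow_mul hq hodd _ _ _ (by omega),
        (val_mod_one hq hodd (Nat.succ_ne_zero n) hs).1]
      omega
  · refine sqComm_sylow_omega hodd (coe_qMinus n F a b) (qMinus_nondeg n hab) (k := n + 1) (by omega)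
      (Fin.elim0 : Fin 0 → F) (fun j => j.elim0) (by simp; omega) ?_ ?_ P
    · simpa [← hD] using hsq.mpr hs
    · rw [H38.card_minus n a b hab, val_two_mul_pow_mul hq hodd _ _ _ (by omega), val_factorial_succ,
        add_one_mul]
      have := (val_mod_three hq hodd (Nat.succ_ne_zero n) hs).2
      simp only [Nat.succ_eq_add_one] at this
      omega

end H18
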