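import Cfsg.Agent.H18.SquaresTwo
import Cfsg.Agent.H86.Sylow

/-!
Group-theoretic part of the computation for orthogonal groups: 2-groups generated by involutions
inside the kernel of a homomorphism onto an abelian group.
-/

set_option autoImplicit false

open scoped commutatorElement

namespace H18

variable {G A : Type*} [Group G] [CommGroup A]

/-- The subgroup generated by the involutions of `B` in the kernel of `χ`. -/
def invKer (χ : G →* A) (B : Subgroup G) : Subgroup G :=
  Subgroup.closure {x | x ∈ B ∧ χ x = 1 ∧ x * x = 1}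

theorem invKer_le (χ : G →* A) (B : Subgroup G) : invKer χ B ≤ B ⊓ χ.ker := by
  rw [invKer, Subgroup.closure_le]
  exact fun x hx => ⟨hx.1, hx.2.1⟩

theorem conj_mem_invKer (χ : G →* A) (B : Subgroup G) {y n : G} (hy : y ∈ B)
    (hn : n ∈ invKer χ B) : y * n * y⁻¹ ∈ invKer χ B := by
  induction hn using Subgroup.closure_induction with
  | mem x hx =>
    refine Subgroup.subset_closure ⟨mul_mem (mul_mem hy hx.1) (inv_mem hy), ?_, ?_⟩
    · rw [map_mul, map_mul, map_inv, hx.2.1, mul_one, mul_inv_cancel]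
    · calc y * x * y⁻¹ * (y * x * y⁻¹) = y * (x * x) * y⁻¹ := by group
        _ = 1 := by rw [hx.2.2, mul_one, mul_inv_cancel]
  | one => rw [mul_one, mul_inv_cancel]; exact one_mem _
  | mul u v _ _ hu hv =>
    rw [show y * (u * v) * y⁻¹ = (y * u * y⁻¹) * (y * v * y⁻¹) by group]
    exact mul_mem hu hv
  | inv u _ hu =>
    rw [show y * u⁻¹ * y⁻¹ = (y * u * y⁻¹)⁻¹ by group]
    exact inv_mem hu

/-- A group generated by involutions of two classes meets the kernel in the subgroup generated by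
involutions, as soon as any two involutions of one class are linked by commuting ones. -/
theorem inf_ker_le_invKer (χ : G →* A) (B : Subgroup G) (R : Set G) (hRB : R ⊆ B)
    (hB : B ≤ Subgroup.closure R) (hinv : ∀ r ∈ R, r * r = 1) (a b : G) (ha : a ∈ R) (hb : b ∈ R)
    (hab : Commute a b) (ha1 : χ a ≠ 1) (hb1 : χ b ≠ 1) (hne : χ a ≠ χ b)
    (hcls : ∀ r ∈ R, χ r = χ a ∨ χ r = χ b)
    (hlink : ∀ r ∈ R, ∀ s ∈ R, χ r = χ s → r * s ∈ invKer χ B) :
    B ⊓ χ.ker ≤ invKer χ B := by
  intro x hx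
  let P : G → Prop := fun y => ∃ n ∈ invKer χ B, y = n ∨ y = a * n ∨ y = b * n ∨ y = a * b * n
  have ha2 := hinv a ha
  have hb2 := hinv b hb
  have stepa : ∀ y, P y → P (a * y) := by
    rintro y ⟨n, hn, h | h | h | h⟩ <;> rw [h]
    · exact ⟨n, hn, .inr (.inl rfl)⟩
    · exact ⟨n, hn, .inl (by rw [← mul_assoc, ha2, one_mul])⟩
    · exact ⟨n, hn, .inr (.inr (.inr (by rw [mul_assoc])))⟩
    · exact ⟨n, hn, .inr (.inr (.inl (by rw [← mul_assoc, ← mul_assoc, ha2, one_mul])))⟩
  have stepb : ∀ y, P y → P (b * y) := by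
    rintro y ⟨n, hn, h | h | h | h⟩ <;> rw [h]
    · exact ⟨n, hn, .inr (.inr (.inl rfl))⟩
    · exact ⟨n, hn, .inr (.inr (.inr (by rw [← mul_assoc, ← hab.eq])))⟩
    · exact ⟨n, hn, .inl (by rw [← mul_assoc, hb2, one_mul])⟩
    · exact ⟨n, hn, .inr (.inl (by
        rw [hab.eq, ← mul_assoc, ← mul_assoc, hb2, one_mul]))⟩
  have stepn : ∀ m ∈ invKer χ B, ∀ y, P y → P (m * y) := by
    rintro m hm y ⟨n, hn, h | h | h | h⟩ <;> rw [h]
    · exact ⟨_, mul_mem hm hn, .inl rfl⟩
    · exact ⟨_, mul_mem (conj_mem_invKer χ B (inv_mem (hRB ha)) hm) hn, .inr (.inl (by group))⟩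
    · exact ⟨_, mul_mem (conj_mem_invKer χ B (inv_mem (hRB hb)) hm) hn,
        .inr (.inr (.inl (by group)))⟩
    · exact ⟨_, mul_mem (conj_mem_invKer χ B (inv_mem (mul_mem (hRB ha) (hRB hb))) hm) hn,
        .inr (.inr (.inr (by group)))⟩
  have step : ∀ r ∈ R, ∀ y, P y → P (r * y) := by
    intro r hr y hy
    rcases hcls r hr with h | h
    · rw [show r = (r * a) * a by rw [mul_assoc, ha2, mul_one], mul_assoc]
      exact stepn _ (hlink r hr a ha h) _ (stepa _ hy)
    · rw [show r = (r * b) * b by rw [mul_assoc, hb2, mul_one], mul_assoc]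
      exact stepn _ (hlink r hr b hb h) _ (stepb _ hy)
  have hP : P x := by
    have hxR := hB hx.1
    clear hx
    induction hxR using Subgroup.closure_induction_left with
    | one => exact ⟨1, one_mem _, .inl rfl⟩
    | mul_left r hr y _ hy => exact step r hr y hy
    | inv_mul_cancel r hr y _ hy =>
      rw [inv_eq_of_mul_eq_one_right (hinv r hr)]
      exact step r hr y hy
  obtain ⟨n, hn, h⟩ := hP
  have hn1 : χ n = 1 := (invKer_le χ B hn).2
  have hx1 : χ x = 1 := hx.2
  rcases h with rfl | rfl | rfl | rfl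
  · exact hn
  · exact absurd (by simpa [hn1] using hx1) ha1
  · exact absurd (by simpa [hn1] using hx1) hb1
  · have e : χ a * χ b = 1 := by simpa [hn1] using hx1
    have e' : χ b * χ b = 1 := by rw [← map_mul, hb2, map_one]
    exact absurd (mul_right_cancel (e.trans e'.symm)) hne

/-- Squares in the kernel part of a product `B K`. -/
theorem sqComm_sup_inf_ker (χ : G →* A) (B K : Subgroup G) (hK : K ≤ χ.ker)
    (hKB : K ≤ Subgroup.normalizer (B : Set G)) (hB : B ⊓ χ.ker ≤ invKer χ B) (hKsq : SqComm K) :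
    SqComm ((B ⊔ K) ⊓ χ.ker) := by
  have heq : (B ⊔ K) ⊓ χ.ker = invKer χ B ⊔ K := by
    refine le_antisymm ?_ (sup_le ?_ (le_inf le_sup_right hK))
    · rintro x ⟨hx, hx1⟩
      obtain ⟨y, hy, k, hk, rfl⟩ :=
        (Set.ext_iff.mp (Subgroup.coe_mul_of_right_le_normalizer_left B K hKB) x).mp hx
      refine Subgroup.mul_mem_sup (hB ⟨hy, ?_⟩) hk
      have : χ y * χ k = 1 := by rw [← map_mul]; exact hx1
      rwa [hK hk, mul_one] at this
    · exact (invKer_le χ B).trans (inf_le_inf_right _ le_sup_left)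
  rw [heq]
  refine sqComm_sup _ _ ?_ fun k hk => Subgroup.commutator_mono le_sup_right le_sup_right (hKsq k hk)
  intro x hx
  have h : invKer χ B ≤ sqSub (invKer χ B ⊔ K) := by
    rw [invKer, Subgroup.closure_le]
    intro y hy
    refine (mem_sqSub _ _).mpr ⟨Subgroup.mem_sup_left (Subgroup.subset_closure hy), ?_⟩
    rw [pow_two, hy.2.2]
    exact one_mem _
  exact ((mem_sqSub _ _).mp (h hx)).2

/-- Sylow 2-subgroups of a normal subgroup, from one Sylow 2-subgroup of the whole group. -/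
theorem sqComm_sylow_normal [Finite G] (H : Subgroup G) [H.Normal] (T : Sylow 2 G)
    (h : SqComm ((T : Subgroup G) ⊓ H)) (P : Sylow 2 H) : SqComm (P : Subgroup H) := by
  haveI : Fact (Nat.Prime 2) := ⟨Nat.prime_two⟩
  obtain ⟨R, hR⟩ := H86.exists_sylow_inf_normal T H
  refine SqComm.of_sylow R (SqComm.of_map_injective H.subtype_injective ?_) P
  rwa [hR, Subgroup.subgroupOf_map_subtype]

end H18
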