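import Cfsg.Agent.H18.SquaresOrthAlg
import Cfsg.Agent.H43.Omega
import Cfsg.Agent.H44.Omega

/-!
A Sylow 2-subgroup of the orthogonal group of a sum of squares, built from blocks of dimension two,
one and the permutations of the blocks.
-/

set_option autoImplicit false
set_option linter.unusedSectionVars false

open H43 QuadraticMap
open scoped commutatorElement

namespace H18

variable {F : Type*} [Field F]

/-- A diagonal quadratic form. -/
def diagQ {ι : Type} [Fintype ι] (w : ι → F) : QuadraticForm F (ι → F) :=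
  weightedSumSquares F w

theorem diagQ_apply {ι : Type} [Fintype ι] (w v : ι → F) :
    diagQ w v = ∑ i, w i * (v i * v i) := by
  simp [diagQ, weightedSumSquares_apply]

theorem polB_diagQ {ι : Type} [Fintype ι] (w u v : ι → F) :
    polB (diagQ w) u v = ∑ i, 2 * w i * (u i * v i) := by
  rw [polB_apply, QuadraticMap.polar, diagQ_apply, diagQ_apply, diagQ_apply,
    ← Finset.sum_sub_distrib, ← Finset.sum_sub_distrib]
  exact Finset.sum_congr rfl fun i _ => by simp only [Pi.add_apply]; ring

theorem polB_diagQ_single {ι : Type} [Fintype ι] [DecidableEq ι] (w u : ι → F) (i : ι) :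
    polB (diagQ w) u (Pi.single i 1) = 2 * w i * u i := by
  rw [polB_diagQ, Finset.sum_eq_single i (fun j _ hj => by simp [Pi.single_eq_of_ne hj]) (by simp)]
  simp

theorem diagQ_nondeg {ι : Type} [Fintype ι] (h2 : (2 : F) ≠ 0) (w : ι → F) (hw : ∀ i, w i ≠ 0) :
    (polB (diagQ w)).Nondegenerate := by
  classical
  have hl : ∀ x, (∀ y, polB (diagQ w) x y = 0) → x = 0 := fun x hx => funext fun i => by
    have := hx (Pi.single i 1)
    rw [polB_diagQ_single] at this
    simpa [h2, hw i] using this
  exact ⟨hl, fun y hy => hl y fun x => by rw [polB_comm]; exact hy x⟩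

/-- Orthogonal reflections commute. -/
theorem commute_refl {V : Type*} [AddCommGroup V] [Module F V] {Q : QuadraticForm F V} {v w : V}
    (h : polB Q v w = 0) : Commute (refl Q v) (refl Q w) := by
  have e := refl_conj (refl Q v) w
  rw [refl_fix (by rw [polB_comm]; exact h)] at e
  exact mul_inv_eq_iff_eq_mul.mp e

/-- In dimension two an odd isometry is a reflection. -/
theorem exists_refl_of_dickson {V : Type*} [AddCommGroup V] [Module F V] [FiniteDimensional F V]
    {Q : QuadraticForm F V} (hQ : (polB Q).Nondegenerate) (hV : Module.finrank F V = 2)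
    (g : orthGroup Q) (hd : dickson g ≠ 1) : ∃ v, Q v ≠ 0 ∧ g = refl Q v := by
  have h1 : Module.finrank F (resid g) = 1 := by
    have h2 : Module.finrank F (resid g) ≤ 2 := hV ▸ Submodule.finrank_le _
    rcases (show Module.finrank F (resid g) = 0 ∨ Module.finrank F (resid g) = 1 ∨
      Module.finrank F (resid g) = 2 by omega) with h | h | h
    · exact absurd (by rw [dickson, h]; rfl) hd
    · exact h
    · exact absurd (by rw [dickson, h]; rfl) hd
  obtain ⟨⟨v, hv⟩, hv0, hspan⟩ := finrank_eq_one_iff'.mp h1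
  have hQv : Q v ≠ 0 := by
    intro h0
    apply hv0
    refine (wallForm_nondeg hQ g).1 _ fun u => ?_
    obtain ⟨c, rfl⟩ := hspan u
    rw [map_smul, wallForm_self, h0, smul_zero]
  refine ⟨v, hQv, ?_⟩
  have h3 := finrank_resid_refl_mul_of_mem hQ hQv hv
  rw [h1] at h3
  have h4 : refl Q v * g = 1 := eq_one_of_resid_eq_bot (Submodule.finrank_eq_zero.mp (by omega))
  rw [← refl_mul_refl_mul g v, h4, mul_one]

section Blocks

variable {k r : ℕ}

/-- Coordinates: `k` planes and `r` further lines. -/
abbrev OIdx (k r : ℕ) : Type := (Fin k × Fin 2) ⊕ Fin r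

/-- The weights. -/
def blockW (c : Fin r → F) : OIdx k r → F := Sum.elim (fun _ => 1) c

/-- The plane with form `x² + y²`. -/
def planeQ (F : Type*) [Field F] : QuadraticForm F (Fin 2 → F) := diagQ fun _ => 1

variable (c : Fin r → F)

/-- Block diagonal maps. -/
def blockFun (g : Fin k → orthGroup (planeQ F)) (s : Fin r → ℤˣ) :
    (OIdx k r → F) →ₗ[F] (OIdx k r → F) where
  toFun x := Sum.elim (fun p => (g p.1).1 (fun b => x (.inl (p.1, b))) p.2)
    (fun j => ((s j : ℤ) : F) * x (.inr j))
  map_add' x y := by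
    funext p
    rcases p with ⟨i, a⟩ | j
    · exact congrFun (map_add (g i).1 (fun b => x (.inl (i, b))) fun b => y (.inl (i, b))) a
    · simp [mul_add]
  map_smul' t x := by
    funext p
    rcases p with ⟨i, a⟩ | j
    · exact congrFun (map_smul (g i).1 t fun b => x (.inl (i, b))) a
    · simp [mul_left_comm]

theorem blockFun_mul (g h : Fin k → orthGroup (planeQ F)) (s t : Fin r → ℤˣ) (x : OIdx k r → F) :
    blockFun (g * h) (s * t) x = blockFun g s (blockFun h t x) := by
  funext p
  rcases p with ⟨i, a⟩ | j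
  · rfl
  · simp [blockFun, mul_assoc]

theorem blockFun_one (x : OIdx k r → F) :
    blockFun (1 : Fin k → orthGroup (planeQ F)) (1 : Fin r → ℤˣ) x = x := by
  funext p
  rcases p with ⟨i, a⟩ | j
  · rfl
  · simp [blockFun]

theorem blockFun_form (g : Fin k → orthGroup (planeQ F)) (s : Fin r → ℤˣ) (x : OIdx k r → F) :
    diagQ (blockW c) (blockFun g s x) = diagQ (blockW c) x := by
  simp only [diagQ_apply, Fintype.sum_sum_type, Fintype.sum_prod_type]
  congr 1
  · refine Finset.sum_congr rfl fun i _ => ?_
    have h := (g i).2 fun b => x (.inl (i, b))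
    simp only [planeQ, diagQ_apply] at h
    exact h
  · refine Finset.sum_congr rfl fun j _ => ?_
    rcases Int.units_eq_one_or (s j) with h | h <;> simp [blockW, blockFun, h]

/-- The block diagonal subgroup. -/
def blockHom : (Fin k → orthGroup (planeQ F)) × (Fin r → ℤˣ) →*
    orthGroup (diagQ (blockW (k := k) c)) :=
  MonoidHom.mk' (fun p => ⟨
    { blockFun p.1 p.2 with
      invFun := blockFun p.1⁻¹ p.2⁻¹
      left_inv := fun x => by
        show blockFun p.1⁻¹ p.2⁻¹ (blockFun p.1 p.2 x) = x
        rw [← blockFun_mul, inv_mul_cancel, inv_mul_cancel, blockFun_one]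
      right_inv := fun x => by
        show blockFun p.1 p.2 (blockFun p.1⁻¹ p.2⁻¹ x) = x
        rw [← blockFun_mul, mul_inv_cancel, mul_inv_cancel, blockFun_one] },
    blockFun_form c p.1 p.2⟩)
    fun p q => orth_ext fun x => blockFun_mul p.1 q.1 p.2 q.2 x

theorem blockHom_inl (g : Fin k → orthGroup (planeQ F)) (s : Fin r → ℤˣ) (x : OIdx k r → F)
    (i : Fin k) (a : Fin 2) :
    (blockHom c (g, s)).1 x (.inl (i, a)) = (g i).1 (fun b => x (.inl (i, b))) a := rfl

theorem blockHom_inr (g : Fin k → orthGroup (planeQ F)) (s : Fin r → ℤˣ) (x : OIdx k r → F)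
    (j : Fin r) : (blockHom c (g, s)).1 x (.inr j) = ((s j : ℤ) : F) * x (.inr j) := rfl

theorem blockHom_injective (h2 : (2 : F) ≠ 0) :
    Function.Injective (blockHom (k := k) c) := by
  rintro ⟨g, s⟩ ⟨g', s'⟩ e
  refine Prod.ext (funext fun i => orth_ext fun u => funext fun a => ?_) (funext fun j => ?_)
  · have := congrArg (fun f : orthGroup (diagQ (blockW (k := k) c)) =>
      f.1 (Sum.elim (fun p => u p.2) 0) (.inl (i, a))) e
    exact this
  · have := congrArg (fun f : orthGroup (diagQ (blockW (k := k) c)) =>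
      f.1 (Pi.single (.inr j) 1) (.inr j)) e
    simp only [blockHom_inr, Pi.single_eq_same, mul_one] at this
    have hne : (1 : F) ≠ -1 := fun h => h2 (by linear_combination h)
    rcases Int.units_eq_one_or (s j) with h | h <;> rcases Int.units_eq_one_or (s' j) with h' | h' <;>
      simp [h, h', hne, hne.symm] at this ⊢

/-- The permutations of the blocks. -/
def blockPerm : Equiv.Perm (Fin k) →* orthGroup (diagQ (blockW (k := k) c)) :=
  MonoidHom.mk' (fun σ => ⟨LinearEquiv.funCongrLeft F F
      (Equiv.sumCongr (σ.symm.prodCongr (Equiv.refl (Fin 2))) (Equiv.refl (Fin r))), fun x => by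
      simp only [diagQ_apply]
      refine Fintype.sum_equiv
        (Equiv.sumCongr (σ.symm.prodCongr (Equiv.refl (Fin 2))) (Equiv.refl (Fin r))) _ _ fun p => ?_
      rcases p with ⟨i, a⟩ | j <;> rfl⟩)
    fun σ τ => orth_ext fun x => funext fun p => by rcases p with ⟨i, a⟩ | j <;> rfl

theorem blockPerm_inl (σ : Equiv.Perm (Fin k)) (x : OIdx k r → F) (i : Fin k) (a : Fin 2) :
    (blockPerm c σ).1 x (.inl (i, a)) = x (.inl (σ.symm i, a)) := rfl

theorem blockPerm_inr (σ : Equiv.Perm (Fin k)) (x : OIdx k r → F) (j : Fin r) :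
    (blockPerm c σ).1 x (.inr j) = x (.inr j) := rfl

theorem blockPerm_conj (σ : Equiv.Perm (Fin k)) (g : Fin k → orthGroup (planeQ F))
    (s : Fin r → ℤˣ) :
    blockPerm c σ * blockHom c (g, s) * (blockPerm c σ)⁻¹ = blockHom c (g ∘ σ.symm, s) := by
  rw [mul_inv_eq_iff_eq_mul]
  refine orth_ext fun x => funext fun p => ?_
  rcases p with ⟨i, a⟩ | j
  · show (g (σ.symm i)).1 _ a = (g (σ.symm i)).1 _ a
    rfl
  · rfl

theorem eq_one_of_blockHom_eq_blockPerm {g : Fin k → orthGroup (planeQ F)} {s : Fin r → ℤˣ}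
    {σ : Equiv.Perm (Fin k)} (h : blockHom c (g, s) = blockPerm c σ) : σ = 1 := by
  refine Equiv.ext fun i => ?_
  by_contra hne
  have := congrArg (fun f : orthGroup (diagQ (blockW (k := k) c)) =>
      f.1 (Pi.single (.inl (i, 0)) 1) (.inl (σ i, 0))) h
  simp only [blockHom_inl, blockPerm_inl, Equiv.symm_apply_apply, Pi.single_eq_same] at this
  have hz : (fun b => (Pi.single (Sum.inl (i, 0)) 1 : OIdx k r → F) (.inl (σ i, b))) = 0 :=
    funext fun b => Pi.single_eq_of_ne (by simp [show σ i ≠ i from hne]) _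
  rw [hz, map_zero] at this
  exact zero_ne_one this

theorem blockPerm_injective : Function.Injective (blockPerm (k := k) c) := by
  intro σ τ h
  refine mul_inv_eq_one.mp (eq_one_of_blockHom_eq_blockPerm c (g := 1) (s := 1) ?_)
  rw [map_mul, map_inv, h, mul_inv_cancel]
  exact map_one _

/-- A vector of one block. -/
def planeVec (i : Fin k) (u : Fin 2 → F) : OIdx k r → F :=
  Sum.elim (fun p => if p.1 = i then u p.2 else 0) 0

theorem diagQ_planeVec (i : Fin k) (u : Fin 2 → F) :
    diagQ (blockW c) (planeVec i u) = planeQ F u := by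
  simp [diagQ_apply, planeQ, planeVec, blockW, Fintype.sum_sum_type, Fintype.sum_prod_type,
    Finset.sum_ite_eq']

theorem polB_planeVec (i : Fin k) (u : Fin 2 → F) (x : OIdx k r → F) :
    polB (diagQ (blockW c)) x (planeVec i u) = polB (planeQ F) (fun b => x (.inl (i, b))) u := by
  simp [polB_diagQ, planeQ, planeVec, blockW, Fintype.sum_sum_type, Fintype.sum_prod_type,
    Finset.sum_ite_eq']

theorem blockHom_refl (i : Fin k) (u : Fin 2 → F) :
    blockHom c (Pi.mulSingle i (refl (planeQ F) u), 1) =
      refl (diagQ (blockW c)) (planeVec i u) := by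
  refine orth_ext fun x => funext fun p => ?_
  rcases p with ⟨j, a⟩ | j
  · rw [blockHom_inl, refl_apply, polB_planeVec, diagQ_planeVec]
    rcases eq_or_ne j i with rfl | hj
    · simp [refl_apply, planeVec]
    · simp [Pi.mulSingle_eq_of_ne hj, planeVec, hj, orth_one_apply]
  · rw [blockHom_inr, refl_apply]
    simp [planeVec]

theorem diagQ_lineVec (j : Fin r) :
    diagQ (blockW (k := k) c) (Pi.single (.inr j) 1) = c j := by
  rw [diagQ_apply, Finset.sum_eq_single (Sum.inr j)
    (fun p _ hp => by simp [Pi.single_eq_of_ne hp]) (by simp)]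
  simp [blockW]

theorem blockHom_sign (hc : ∀ j, c j ≠ 0) (j : Fin r) :
    blockHom (k := k) c (1, Pi.mulSingle j (-1)) =
      refl (diagQ (blockW c)) (Pi.single (.inr j) 1) := by
  refine orth_ext fun x => funext fun p => ?_
  rw [refl_apply, polB_diagQ_single, diagQ_lineVec]
  rcases p with ⟨i, a⟩ | j'
  · rw [blockHom_inl]
    simp [orth_one_apply, blockW]
  · rw [blockHom_inr]
    have := hc j
    rcases eq_or_ne j' j with rfl | hj
    · simp [blockW]
      field_simp
      ring
    · simp [Pi.mulSingle_eq_of_ne hj, hj]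

theorem blockPerm_swap (h2 : (2 : F) ≠ 0) {i j : Fin k} (hij : i ≠ j) :
    blockPerm c (Equiv.swap i j) =
      refl (diagQ (blockW c)) (planeVec i (Pi.single 0 1) - planeVec j (Pi.single 0 1)) *
      refl (diagQ (blockW c)) (planeVec i (Pi.single 1 1) - planeVec j (Pi.single 1 1)) := by
  have hQ : ∀ a : Fin 2,
      diagQ (blockW c) (planeVec i (Pi.single a 1) - planeVec j (Pi.single a 1)) = 2 := by
    intro a
    rw [qmap_sub, diagQ_planeVec, diagQ_planeVec, polB_planeVec]
    simp [planeQ, diagQ_apply, polB_diagQ, planeVec, hij.symm, Pi.single_apply]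
    norm_num
  have hp : ∀ (a : Fin 2) (x : OIdx k r → F),
      polB (diagQ (blockW c)) x (planeVec i (Pi.single a 1) - planeVec j (Pi.single a 1)) =
        2 * (x (.inl (i, a)) - x (.inl (j, a))) := by
    intro a x
    rw [map_sub, polB_planeVec, polB_planeVec, planeQ, polB_diagQ_single, polB_diagQ_single]
    ring
  refine orth_ext fun x => funext fun p => ?_
  simp only [orth_mul_apply, refl_apply, hQ, hp, inv_mul_cancel_left₀ h2]
  rcases p with ⟨l, a⟩ | l
  · rw [blockPerm_inl, Equiv.symm_swap]
    fin_cases a <;> rcases eq_or_ne l i with rfl | hli <;> rcases eq_or_ne l j with rfl | hlj <;>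
      simp_all [planeVec, Equiv.swap_apply_of_ne_of_ne]
  · simp [blockPerm_inr, planeVec]

end Blocks

end H18
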