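import Cfsg.Agent.H18.SquaresOrthBlocks
import Cfsg.Agent.H43.Disc
import Mathlib.GroupTheory.Perm.Sign

/-!
The Sylow 2-subgroups of the commutator subgroup of the orthogonal group of a sum of squares.
-/

set_option autoImplicit false
set_option linter.unusedSectionVars false

open H43
open scoped commutatorElement

namespace H18

variable {F : Type*} [Field F]

theorem ofAdd_one_ne_one : (Multiplicative.ofAdd (1 : ZMod 2)) ≠ 1 := by decide

section Inv

variable {V : Type*} [AddCommGroup V] [Module F V] [FiniteDimensional F V] {Q : QuadraticForm F V}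

theorem invHom_refl (hQ : (polB Q).Nondegenerate) (hgen : ReflGenerates F V) {v : V} (hv : Q v ≠ 0) :
    H44.invHom hQ hgen (refl Q v) = (Multiplicative.ofAdd 1, sqc (Q v)) :=
  Prod.ext (dickson_refl hQ hv) (spinor_refl hQ hv)

theorem invHom_mul_self (hQ : (polB Q).Nondegenerate) (hgen : ReflGenerates F V) (x : orthGroup Q) :
    H44.invHom hQ hgen x * H44.invHom hQ hgen x = 1 :=
  Prod.ext (H44.mulTwo_mul_self _) (sqClass_mul_self _)

theorem ker_invHom [Finite F] (hQ : (polB Q).Nondegenerate) (hgen : ReflGenerates F V) :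
    (H44.invHom hQ hgen).ker = commutator (orthGroup Q) := by
  ext g
  rw [H44.mem_commutator_iff hQ hgen, MonoidHom.mem_ker]
  exact Prod.ext_iff

theorem refl_mem_sylow_of_class [Finite V] (hQ : (polB Q).Nondegenerate)
    (hgen : ReflGenerates F V) (hV : Module.finrank F V = 2) (D : Sylow 2 (orthGroup Q)) (a : F)
    (ha : a ≠ 0) [Finite F] :
    ∃ u, Q u ≠ 0 ∧ refl Q u ∈ (D : Subgroup (orthGroup Q)) ∧ sqc (Q u) = sqc a := by
  haveI : Fact (Nat.Prime 2) := ⟨Nat.prime_two⟩
  haveI : Finite (orthGroup Q) := finite_orthGroup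
  obtain ⟨u, hu⟩ := exists_qmap_eq hQ hV.ge a ha
  have h2 : IsPGroup 2 (Subgroup.zpowers (refl Q u)) := by
    rintro ⟨y, hy⟩
    obtain ⟨n, rfl⟩ := Subgroup.mem_zpowers_iff.mp hy
    refine ⟨1, Subtype.ext ?_⟩
    show (refl Q u ^ n) ^ 2 ^ 1 = 1
    rw [pow_one, ← zpow_natCast, ← _root_.zpow_mul, mul_comm, _root_.zpow_mul, zpow_natCast, pow_two,
      refl_sq, _root_.one_zpow]
  obtain ⟨P, hP⟩ := h2.exists_le_sylow
  obtain ⟨g, rfl⟩ := MulAction.exists_smul_eq (orthGroup Q) P D
  refine ⟨g.1 u, by rwa [orth_qmap, hu], ?_, by rw [orth_qmap, hu]⟩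
  rw [← refl_conj, Sylow.coe_subgroup_smul]
  exact Subgroup.mem_map.mpr ⟨refl Q u, hP (Subgroup.mem_zpowers _), rfl⟩

theorem sylow_le_closure_refl [Finite V] (hQ : (polB Q).Nondegenerate) (hgen : ReflGenerates F V)
    (hV : Module.finrank F V = 2) (D : Sylow 2 (orthGroup Q)) [Finite F] :
    (D : Subgroup (orthGroup Q)) ≤ Subgroup.closure
      {x | ∃ u, Q u ≠ 0 ∧ x = refl Q u ∧ x ∈ (D : Subgroup (orthGroup Q))} := by
  intro x hx
  obtain ⟨u, hu, huD, -⟩ := refl_mem_sylow_of_class hQ hgen hV D 1 one_ne_zero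
  have hmem : refl Q u ∈ Subgroup.closure
      {x | ∃ u, Q u ≠ 0 ∧ x = refl Q u ∧ x ∈ (D : Subgroup (orthGroup Q))} :=
    Subgroup.subset_closure ⟨u, hu, rfl, huD⟩
  by_cases hd : dickson x = 1
  · have hd' : dickson (refl Q u * x) ≠ 1 := by
      rw [dickson_refl_mul hQ x hu, hd, mul_one]
      decide
    obtain ⟨v, hv, e⟩ := exists_refl_of_dickson hQ hV _ hd'
    rw [← refl_mul_refl_mul x u]
    exact mul_mem hmem (Subgroup.subset_closure ⟨v, hv, e, mul_mem huD hx⟩)
  · obtain ⟨v, hv, e⟩ := exists_refl_of_dickson hQ hV x hd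
    exact Subgroup.subset_closure ⟨v, hv, e, hx⟩

end Inv

variable [Fintype F] {k r : ℕ}

theorem polB_blockW_lines (c : Fin r → F) {i j : Fin r} (h : i ≠ j) :
    polB (diagQ (blockW (k := k) c)) (Pi.single (.inr i) 1) (Pi.single (.inr j) 1) = 0 := by
  rw [polB_diagQ_single]; simp [h.symm]

theorem sqComm_sylow_commutator_diag (hodd : Odd (Fintype.card F)) (hk : 2 ≤ k) (c : Fin r → F)
    (hc : ∀ j, c j ≠ 0) {a : ℕ}
    (hplane : (Nat.card (orthGroup (planeQ F))).factorization 2 = a)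
    (hcard : (Nat.card (orthGroup (diagQ (blockW (k := k) c)))).factorization 2 =
      k * a + k.factorial.factorization 2 + r)
    (P : Sylow 2 (commutator (orthGroup (diagQ (blockW (k := k) c))))) :
    SqComm (P : Subgroup (commutator (orthGroup (diagQ (blockW (k := k) c))))) := by
  classical
  haveI : Fact (Nat.Prime 2) := ⟨Nat.prime_two⟩
  have h2 : (2 : F) ≠ 0 := two_ne_zero_of_odd_card hodd
  haveI : Finite (orthGroup (diagQ (blockW (k := k) c))) := finite_orthGroup
  haveI : Finite (orthGroup (planeQ F)) := finite_orthGroup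
  have hQU : (polB (planeQ F)).Nondegenerate := diagQ_nondeg h2 _ fun _ => one_ne_zero
  have hQ : (polB (diagQ (blockW (k := k) c))).Nondegenerate := diagQ_nondeg h2 _ (by
    rintro (p | j)
    · exact one_ne_zero
    · exact hc j)
  have hgU := reflGenerates_of_two_ne_zero (V := Fin 2 → F) h2
  have hg := reflGenerates_of_two_ne_zero (V := OIdx k r → F) h2
  have hU2 : Module.finrank F (Fin 2 → F) = 2 := by simp
  let D : Sylow 2 (orthGroup (planeQ F)) := default
  let χ := H44.invHom hQ hg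
  let Φ := blockHom (k := k) c
  let PD := (Subgroup.pi Set.univ fun _ : Fin k => (D : Subgroup (orthGroup (planeQ F)))).prod
    (⊤ : Subgroup (Fin r → ℤˣ))
  let B := PD.map Φ
  let T : Sylow 2 (Equiv.Perm (Fin k)) := default
  let K := (T : Subgroup (Equiv.Perm (Fin k))).map (blockPerm c)
  let Qf := diagQ (blockW (k := k) c)
  -- the distinguished reflections
  let W : Set (OIdx k r → F) := {v | (∃ i u, planeQ F u ≠ 0 ∧
    refl (planeQ F) u ∈ (D : Subgroup (orthGroup (planeQ F))) ∧ v = planeVec i u) ∨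
    ∃ j, v = Pi.single (.inr j) 1}
  have hWne : ∀ v ∈ W, Qf v ≠ 0 := by
    rintro v (⟨i, u, hu, -, rfl⟩ | ⟨j, rfl⟩)
    · rwa [show Qf = diagQ (blockW c) from rfl, diagQ_planeVec]
    · rw [show Qf = diagQ (blockW c) from rfl, diagQ_lineVec]; exact hc j
  have hWB : ∀ v ∈ W, refl Qf v ∈ B := by
    rintro v (⟨i, u, -, huD, rfl⟩ | ⟨j, rfl⟩)
    · refine ⟨(Pi.mulSingle i (refl (planeQ F) u), 1), ⟨fun l _ => ?_, Subgroup.mem_top _⟩,
        blockHom_refl c i u⟩
      show (Pi.mulSingle i (refl (planeQ F) u) : Fin k → orthGroup (planeQ F)) l ∈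
        (D : Subgroup (orthGroup (planeQ F)))
      rcases eq_or_ne l i with rfl | hl
      · rwa [Pi.mulSingle_eq_same]
      · rw [Pi.mulSingle_eq_of_ne hl]; exact one_mem _
    · exact ⟨(1, Pi.mulSingle j (-1)), ⟨fun l _ => show (1 : orthGroup (planeQ F)) ∈ (D : Subgroup (orthGroup (planeQ F))) from one_mem _, Subgroup.mem_top _⟩,
        blockHom_sign c hc j⟩
  let R : Set (orthGroup Qf) := {x | ∃ v ∈ W, x = refl Qf v}
  have hBR : B ≤ Subgroup.closure R := by
    rintro _ ⟨⟨g, s⟩, ⟨hgD, -⟩, rfl⟩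
    rw [show ((g, s) : (Fin k → orthGroup (planeQ F)) × (Fin r → ℤˣ)) = (g, 1) * (1, s) by simp,
      map_mul]
    refine mul_mem ?_ ?_
    · have h : (Subgroup.pi Set.univ fun _ : Fin k => (D : Subgroup (orthGroup (planeQ F)))) ≤
          (Subgroup.closure R).comap (Φ.comp (MonoidHom.inl _ _)) := by
        rw [Subgroup.pi_le_iff]
        intro i
        rw [Subgroup.map_le_iff_le_comap]
        refine (sylow_le_closure_refl hQU hgU hU2 D).trans ((Subgroup.closure_le _).mpr ?_)
        rintro x ⟨u, hu, rfl, huD⟩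
        exact Subgroup.subset_closure ⟨planeVec i u, .inl ⟨i, u, hu, huD, rfl⟩, blockHom_refl c i u⟩
      exact h hgD
    · have h : (Subgroup.pi Set.univ fun _ : Fin r => (⊤ : Subgroup ℤˣ)) ≤
          (Subgroup.closure R).comap (Φ.comp (MonoidHom.inr _ _)) := by
        rw [Subgroup.pi_le_iff]
        intro j
        rw [Subgroup.map_le_iff_le_comap]
        intro e _
        rcases Int.units_eq_one_or e with rfl | rfl
        · exact one_mem _
        · exact Subgroup.subset_closure ⟨_, .inr ⟨j, rfl⟩, blockHom_sign c hc j⟩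
      exact h (fun _ _ => Subgroup.mem_top _)
  -- one reflection of each class in every block
  have hns : ∃ ν : F, ν ≠ 0 ∧ ¬ IsSquare ν := by
    obtain ⟨ν, hν⟩ := FiniteField.exists_nonsquare
      (fun h => h2 (by
        have h' := ringChar.Nat.cast_ringChar (R := F)
        rw [h] at h'
        exact_mod_cast h'))
    exact ⟨ν, fun h => hν (h ▸ IsSquare.zero), hν⟩
  obtain ⟨ν, hν0, hν⟩ := hns
  obtain ⟨u1, hu1, hu1D, hu1c⟩ := refl_mem_sylow_of_class hQU hgU hU2 D 1 one_ne_zero
  obtain ⟨u2, hu2, hu2D, hu2c⟩ := refl_mem_sylow_of_class hQU hgU hU2 D ν hν0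
  rw [sqc_one] at hu1c
  have hu2ne : sqc (planeQ F u2) ≠ 1 := by rw [hu2c, ne_eq, sqc_eq_one_iff hν0]; exact hν
  have hdich : ∀ x : SqClass F, x = sqc (planeQ F u1) ∨ x = sqc (planeQ F u2) := by
    intro x
    by_cases hx : x = 1
    · exact .inl (hx.trans hu1c.symm)
    · right
      have e := (H44.sqClass_mul_of_ne_one hx hu2ne).trans (sqClass_mul_self (sqc (planeQ F u2))).symm
      exact mul_right_cancel e
  have hperp : ∀ (i l : Fin k) (u u' : Fin 2 → F), i ≠ l →
      polB Qf (planeVec i u) (planeVec l u') = 0 := by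
    intro i l u u' hil
    rw [show Qf = diagQ (blockW c) from rfl, polB_planeVec]
    rw [show (fun b => (planeVec i u : OIdx k r → F) (.inl (l, b))) = 0 from
      funext fun b => by simp [planeVec, hil.symm], map_zero, LinearMap.zero_apply]
  have hperp' : ∀ (i : Fin k) (j : Fin r) (u : Fin 2 → F),
      polB Qf (planeVec i u) (Pi.single (.inr j) 1) = 0 := by
    intro i j u
    rw [show Qf = diagQ (blockW c) from rfl, polB_diagQ_single]
    simp [planeVec]
  have hχ : ∀ v ∈ W, χ (refl Qf v) = (Multiplicative.ofAdd 1, sqc (Qf v)) :=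
    fun v hv => invHom_refl hQ hg (hWne v hv)
  let i0 : Fin k := ⟨0, by omega⟩
  let i1 : Fin k := ⟨1, by omega⟩
  have hi01 : i0 ≠ i1 := by simp [i0, i1, Fin.ext_iff]
  have hv1 : planeVec i0 u1 ∈ W := .inl ⟨i0, u1, hu1, hu1D, rfl⟩
  have hv2 : planeVec i1 u2 ∈ W := .inl ⟨i1, u2, hu2, hu2D, rfl⟩
  have hpair : ∀ v ∈ W, ∀ w ∈ W, sqc (Qf v) = sqc (Qf w) → polB Qf v w = 0 →
      refl Qf v * refl Qf w ∈ invKer χ B := by
    intro v hv w hw hcl hvw
    refine Subgroup.subset_closure ⟨mul_mem (hWB v hv) (hWB w hw), ?_, ?_⟩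
    · rw [map_mul, hχ v hv, hχ w hw, hcl]
      exact Prod.ext (H44.mulTwo_mul_self _) (sqClass_mul_self _)
    · rw [mul_assoc, ← mul_assoc (refl Qf w), ← (commute_refl hvw).eq, mul_assoc, refl_sq, mul_one,
        refl_sq]
  have hB : B ⊓ χ.ker ≤ invKer χ B := by
    refine inf_ker_le_invKer χ B R (by rintro x ⟨v, hv, rfl⟩; exact hWB v hv) hBR
      (by rintro x ⟨v, -, rfl⟩; exact refl_sq v) _ _ ⟨_, hv1, rfl⟩ ⟨_, hv2, rfl⟩
      (commute_refl (hperp i0 i1 u1 u2 hi01)) ?_ ?_ ?_ ?_ ?_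
    · rw [hχ _ hv1]; exact fun h => absurd (congrArg Prod.fst h) ofAdd_one_ne_one
    · rw [hχ _ hv2]; exact fun h => absurd (congrArg Prod.fst h) ofAdd_one_ne_one
    · rw [hχ _ hv1, hχ _ hv2]
      intro h
      apply hu2ne
      have := congrArg Prod.snd h
      rw [show Qf = diagQ (blockW c) from rfl, diagQ_planeVec, diagQ_planeVec] at this
      exact this.symm.trans hu1c
    · rintro x ⟨v, hv, rfl⟩
      rw [hχ v hv, hχ _ hv1, hχ _ hv2, show Qf = diagQ (blockW c) from rfl, diagQ_planeVec,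
        diagQ_planeVec]
      exact (hdich (sqc (diagQ (blockW c) v))).imp (fun h => by rw [h]) fun h => by rw [h]
    · rintro x ⟨v, hv, rfl⟩ y ⟨w, hw, rfl⟩ hxy
      rw [hχ v hv, hχ w hw] at hxy
      have hcl : sqc (Qf v) = sqc (Qf w) := congrArg Prod.snd hxy
      rcases hv with ⟨i, u, hu, huD, rfl⟩ | ⟨j, rfl⟩ <;> rcases hw with ⟨l, u', hu', hu'D, rfl⟩ | ⟨j', rfl⟩
      · rcases eq_or_ne i l with rfl | hil
        · obtain ⟨m, hm⟩ : ∃ m : Fin k, m ≠ i :=
            if h : i0 = i then ⟨i1, fun e => hi01 (h.trans e.symm)⟩ else ⟨i0, h⟩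
          obtain ⟨t, ht, htD, htc⟩ := refl_mem_sylow_of_class hQU hgU hU2 D (planeQ F u) hu
          have htW : planeVec m t ∈ W := .inl ⟨m, t, ht, htD, rfl⟩
          have htcl : sqc (Qf (planeVec m t)) = sqc (Qf (planeVec i u)) := by
            rw [show Qf = diagQ (blockW c) from rfl, diagQ_planeVec, diagQ_planeVec, htc]
          rw [show refl Qf (planeVec i u) * refl Qf (planeVec i u') =
              (refl Qf (planeVec i u) * refl Qf (planeVec m t)) *
                (refl Qf (planeVec m t) * refl Qf (planeVec i u')) by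
            rw [mul_assoc, refl_mul_refl_mul]]
          exact mul_mem (hpair _ (.inl ⟨i, u, hu, huD, rfl⟩) _ htW htcl.symm (hperp _ _ _ _ hm.symm))
            (hpair _ htW _ (.inl ⟨i, u', hu', hu'D, rfl⟩) (htcl.trans hcl) (hperp _ _ _ _ hm))
        · exact hpair _ (.inl ⟨i, u, hu, huD, rfl⟩) _ (.inl ⟨l, u', hu', hu'D, rfl⟩) hcl
            (hperp _ _ _ _ hil)
      · exact hpair _ (.inl ⟨i, u, hu, huD, rfl⟩) _ (.inr ⟨j', rfl⟩) hcl (hperp' _ _ _)
      · exact hpair _ (.inr ⟨j, rfl⟩) _ (.inl ⟨l, u', hu', hu'D, rfl⟩) hcl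
          (by rw [polB_comm]; exact hperp' _ _ _)
      · rcases eq_or_ne j j' with rfl | hjj
        · rw [refl_sq]; exact one_mem _
        · exact hpair _ (.inr ⟨j, rfl⟩) _ (.inr ⟨j', rfl⟩) hcl (polB_blockW_lines c hjj)
  -- the permutations of the blocks lie in the kernel
  have hKker : K ≤ χ.ker := by
    rintro _ ⟨σ, -, rfl⟩
    have htop : Subgroup.closure {s : Equiv.Perm (Fin k) | Equiv.Perm.IsSwap s} ≤
        χ.ker.comap (blockPerm c) := by
      rw [Subgroup.closure_le]
      rintro _ ⟨i, j, hij, rfl⟩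
      show χ (blockPerm c (Equiv.swap i j)) = 1
      have hQd : ∀ b : Fin 2,
          Qf (planeVec i (Pi.single b 1) - planeVec j (Pi.single b 1)) = 2 := by
        intro b
        rw [show Qf = diagQ (blockW c) from rfl, qmap_sub, diagQ_planeVec, diagQ_planeVec,
          polB_planeVec]
        simp [planeQ, diagQ_apply, polB_diagQ, planeVec, hij.symm, Pi.single_apply]
        norm_num
      rw [blockPerm_swap c h2 hij, map_mul, invHom_refl hQ hg (by rw [hQd]; exact h2),
        invHom_refl hQ hg (by rw [hQd]; exact h2), hQd, hQd]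
      exact Prod.ext (H44.mulTwo_mul_self _) (sqClass_mul_self _)
    rw [Equiv.Perm.closure_isSwap] at htop
    exact htop (Subgroup.mem_top σ)
  have hKB : K ≤ Subgroup.normalizer (B : Set (orthGroup Qf)) := by
    rintro _ ⟨σ, -, rfl⟩
    have hconj : ∀ τ : Equiv.Perm (Fin k), ∀ x ∈ B,
        blockPerm c τ * x * (blockPerm c τ)⁻¹ ∈ B := by
      rintro τ _ ⟨⟨g, s⟩, ⟨hgD, -⟩, rfl⟩
      exact ⟨(g ∘ τ.symm, s), ⟨fun i _ => hgD _ trivial, Subgroup.mem_top _⟩,
        (blockPerm_conj c τ g s).symm⟩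
    rw [Subgroup.mem_normalizer_iff]
    intro x
    refine ⟨hconj σ x, fun hx => ?_⟩
    have := hconj σ⁻¹ _ hx
    rwa [map_inv, show (blockPerm c σ)⁻¹ * (blockPerm c σ * x * (blockPerm c σ)⁻¹) *
      (blockPerm c σ)⁻¹⁻¹ = x by group] at this
  -- a full Sylow subgroup
  have hPDcard : Nat.card PD = 2 ^ (k * a + r) := by
    rw [Nat.card_congr (Subgroup.prodEquiv _ _).toEquiv, Nat.card_prod, Subgroup.card_top,
      Nat.card_eq_fintype_card (α := Fin r → ℤˣ), Fintype.card_fun, Fintype.card_units_int,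
      Fintype.card_fin]
    have hpi : Nat.card (Subgroup.pi Set.univ fun _ : Fin k => (D : Subgroup (orthGroup (planeQ F))))
        = Nat.card (D : Subgroup (orthGroup (planeQ F))) ^ k := by
      refine Eq.trans ?_ ((Nat.card_fun (α := Fin k) (β := (D : Subgroup (orthGroup (planeQ F))))).trans
        (by rw [Nat.card_fin]))
      exact Nat.card_congr
        { toFun := fun g i => ⟨g.1 i, g.2 i trivial⟩
          invFun := fun f => ⟨fun i => f i, fun i _ => (f i).2⟩
          left_inv := fun _ => rfl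
          right_inv := fun _ => rfl }
    rw [hpi, D.card_eq_multiplicity, hplane, ← pow_mul, ← pow_add, mul_comm]
  have hB2 : IsPGroup 2 B := (IsPGroup.of_card hPDcard).map Φ
  have hK2 : IsPGroup 2 K := T.2.map _
  have hBK2 : IsPGroup 2 (B ⊔ K : Subgroup _) := IsPGroup.to_sup_of_normal_left' hB2 hK2 hKB
  obtain ⟨S, hS⟩ := hBK2.exists_le_sylow
  have hdisj : Disjoint B K := by
    rw [disjoint_iff, eq_bot_iff]
    rintro x ⟨⟨⟨g, s⟩, -, rfl⟩, σ, -, e⟩
    rw [Subgroup.mem_bot, ← e, eq_one_of_blockHom_eq_blockPerm c e.symm, map_one]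
  have hSeq : B ⊔ K = (S : Subgroup (orthGroup Qf)) := by
    refine Subgroup.eq_of_le_of_card_ge hS ?_
    rw [S.card_eq_multiplicity, hcard]
    calc 2 ^ (k * a + k.factorial.factorization 2 + r) = Nat.card B * Nat.card K := by
          rw [Nat.card_congr (Subgroup.equivMapOfInjective _ _ (blockPerm_injective c)).symm.toEquiv,
            Nat.card_congr (Subgroup.equivMapOfInjective _ _ (blockHom_injective c h2)).symm.toEquiv,
            hPDcard, T.card_eq_multiplicity, Nat.card_eq_fintype_card, Fintype.card_perm,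
            Fintype.card_fin, ← pow_add]
          congr 1; ring
      _ ≤ _ := by
          rw [← Nat.card_prod]
          refine Nat.card_le_card_of_injective (fun x : B × K =>
            (⟨(x.1 : orthGroup Qf) * x.2, Subgroup.mul_mem_sup x.1.2 x.2.2⟩ : ↥(B ⊔ K))) ?_
          intro x y h
          exact Subgroup.mul_injective_of_disjoint hdisj (congrArg Subtype.val h)
  refine sqComm_sylow_normal _ S ?_ P
  rw [← hSeq, ← ker_invHom hQ hg]
  exact sqComm_sup_inf_ker χ B K hKker hKB hB ((sqComm_sylow_perm T).map _)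

end H18
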