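import Cfsg.Agent.H18.SylowSymmetric

/-!
The abelianised Sylow subgroups of symmetric and alternating groups have exponent `p`.
-/

set_option autoImplicit false

namespace H18

open Equiv Equiv.Perm

theorem pow_mem_commutator_of_generators {K : Type*} [Group K] {p : ℕ} {S : Set K}
    (hS : Subgroup.closure S = ⊤) (hp : ∀ s ∈ S, s ^ p = 1) (x : K) : x ^ p ∈ commutator K := by
  rw [← Abelianization.ker_of K, MonoidHom.mem_ker, map_pow]
  have h : Subgroup.closure S ≤ ((powMonoidHom p).comp Abelianization.of).ker := by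
    rw [Subgroup.closure_le]
    intro s hs
    simp [← map_pow, hp s hs]
  exact h (hS ▸ Subgroup.mem_top x)

theorem pow_mem_commutator_closure {K : Type*} [Group K] {p : ℕ} {S : Set K}
    (hp : ∀ s ∈ S, s ^ p = 1) (x : Subgroup.closure S) : x ^ p ∈ commutator (Subgroup.closure S) :=
  pow_mem_commutator_of_generators (Subgroup.closure_closure_coe_preimage (k := S))
    (fun s hs => Subtype.ext (by simpa using hp s hs)) x

theorem pow_mem_commutator_of_equiv {K L : Type*} [Group K] [Group L] (e : K ≃* L) {p : ℕ}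
    (h : ∀ x : K, x ^ p ∈ commutator K) (y : L) : y ^ p ∈ commutator L := by
  obtain ⟨x, rfl⟩ := e.surjective y
  rw [← map_pow]
  have h1 := Subgroup.mem_map_of_mem e.toMonoidHom (h x)
  rw [commutator_def, Subgroup.map_commutator] at h1
  rw [commutator_def]
  exact Subgroup.commutator_mono le_top le_top h1

variable {α : Type*} [Fintype α] [DecidableEq α]

theorem swap_commute_of_two_group {S : Set (Perm α)} (hK : IsPGroup 2 (Subgroup.closure S))
    {s t : Perm α} (hs : s ∈ S) (ht : t ∈ S) (hs' : s.IsSwap) (ht' : t.IsSwap) : s * t = t * s := by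
  by_contra hne
  obtain ⟨a, b, hab, rfl⟩ := hs'
  obtain ⟨c, d, hcd, rfl⟩ := ht'
  have key : ∀ x y z : α, x ≠ y → x ≠ z → y ≠ z →
      swap x y * swap x z ∉ Subgroup.closure S := by
    intro x y z h1 h2 h3 hm
    have h : orderOf (⟨_, hm⟩ : Subgroup.closure S) = 3 := by
      rw [← Subgroup.orderOf_coe]
      exact (isThreeCycle_swap_mul_swap_same h1 h2 h3).orderOf
    obtain ⟨j, hj⟩ := (IsPGroup.iff_orderOf.mp hK) ⟨_, hm⟩
    rw [h] at hj
    rcases j with _ | j
    · norm_num at hj
    · omega
  have hm : ∀ {u v : Perm α}, u ∈ S → v ∈ S → u * v ∈ Subgroup.closure S :=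
    fun hu hv => Subgroup.mul_mem _ (Subgroup.subset_closure hu) (Subgroup.subset_closure hv)
  by_cases h1 : a = c
  · subst h1
    by_cases h2 : b = d
    · subst h2; exact hne rfl
    · exact key a b d hab hcd h2 (hm hs ht)
  by_cases h2 : a = d
  · subst h2
    by_cases h3 : b = c
    · subst h3; exact hne (by rw [swap_comm b a])
    · exact key a b c hab h1 h3 (by simpa [swap_comm c a] using hm hs ht)
  by_cases h3 : b = c
  · subst h3
    exact key b a d hab.symm hcd h2 (by simpa [swap_comm a b] using hm hs ht)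
  by_cases h4 : b = d
  · subst h4
    exact key b a c hab.symm h3 h1 (by simpa [swap_comm a b, swap_comm c b] using hm hs ht)
  apply hne
  ext x
  simp only [Perm.mul_apply]
  simp only [swap_apply_def]
  split_ifs <;> simp_all

/-- The even part of a 2-group generated by involutions that are even or transpositions is
generated by involutions. -/
theorem even_part_generators {S : Set (Perm α)} (hS : ∀ s ∈ S, IsNiceGen 2 s)
    (hK : IsPGroup 2 (Subgroup.closure S)) :
    Subgroup.closure S ⊓ alternatingGroup α =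
      Subgroup.closure {x | x ∈ Subgroup.closure S ⊓ alternatingGroup α ∧ x ^ 2 = 1} := by
  set W := Subgroup.closure {x | x ∈ Subgroup.closure S ⊓ alternatingGroup α ∧ x ^ 2 = 1}
  refine le_antisymm ?_ ((Subgroup.closure_le _).mpr fun x hx => hx.1)
  have hWA : W ≤ alternatingGroup α := (Subgroup.closure_le _).mpr fun x hx => hx.1.2
  have hinv : ∀ s ∈ S, s * s = 1 := fun s hs => by rw [← pow_two]; exact (hS s hs).1
  have heven : ∀ s ∈ S, sign s = 1 → s ∈ W := fun s hs h =>
    Subgroup.subset_closure ⟨⟨Subgroup.subset_closure hs, mem_alternatingGroup.mpr h⟩, (hS s hs).1⟩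
  rintro k ⟨hk, hkA⟩
  by_cases hT : ∃ t ∈ S, t.IsSwap
  · obtain ⟨t, ht, htsw⟩ := hT
    have hpair : ∀ s ∈ S, s.IsSwap → s * t ∈ W ∧ t * s ∈ W := by
      intro s hs hsw
      have hc := swap_commute_of_two_group hK hs ht hsw htsw
      have h1 : s * t ∈ W := Subgroup.subset_closure
        ⟨⟨Subgroup.mul_mem _ (Subgroup.subset_closure hs) (Subgroup.subset_closure ht),
          mem_alternatingGroup.mpr (by rw [map_mul, hsw.sign_eq, htsw.sign_eq]; rfl)⟩, by
          rw [pow_two, mul_assoc, ← mul_assoc t, ← hc, mul_assoc, hinv t ht, mul_one, hinv s hs]⟩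
      exact ⟨h1, hc ▸ h1⟩
    have hconj : ∀ s ∈ S, sign s = 1 → t * s * t ∈ W := fun s hs h =>
      Subgroup.subset_closure ⟨⟨Subgroup.mul_mem _ (Subgroup.mul_mem _ (Subgroup.subset_closure ht)
        (Subgroup.subset_closure hs)) (Subgroup.subset_closure ht),
        mem_alternatingGroup.mpr (by rw [map_mul, map_mul, h, htsw.sign_eq]; rfl)⟩, by
          rw [pow_two]
          calc t * s * t * (t * s * t) = t * s * (t * t) * s * t := by group
            _ = t * (s * s) * t := by rw [hinv t ht]; group
            _ = 1 := by rw [hinv s hs, mul_one, hinv t ht]⟩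
    have step : ∀ x : Perm α, (∃ w ∈ W, x = w ∨ x = w * t) → ∀ s ∈ S,
        ∃ w ∈ W, x * s = w ∨ x * s = w * t := by
      rintro x ⟨w, hw, rfl | rfl⟩ s hs <;> rcases (hS s hs).2 with h | h
      · exact ⟨x * s, W.mul_mem hw (heven s hs h), .inl rfl⟩
      · refine ⟨x * (s * t), W.mul_mem hw (hpair s hs h).1, .inr ?_⟩
        rw [mul_assoc, mul_assoc, hinv t ht, mul_one]
      · refine ⟨w * (t * s * t), W.mul_mem hw (hconj s hs h), .inr ?_⟩
        calc w * t * s = w * (t * s * (t * t)) := by rw [hinv t ht]; group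
          _ = w * (t * s * t) * t := by group
      · exact ⟨w * (t * s), W.mul_mem hw (hpair s hs h).2, .inl (by rw [mul_assoc])⟩
    have key : ∃ w ∈ W, k = w ∨ k = w * t := by
      refine Subgroup.closure_induction_right (p := fun x _ => ∃ w ∈ W, x = w ∨ x = w * t)
        ⟨1, W.one_mem, .inl rfl⟩ (fun x _ s hs hx => step x hx s hs) (fun x _ s hs hx => ?_) hk
      rw [inv_eq_of_mul_eq_one_right (hinv s hs)]
      exact step x hx s hs
    obtain ⟨w, hw, rfl | rfl⟩ := key
    · exact hw
    · have h1 := mem_alternatingGroup.mp hkA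
      rw [map_mul, mem_alternatingGroup.mp (hWA hw), htsw.sign_eq] at h1
      exact absurd h1 (by decide)
  · push Not at hT
    exact (Subgroup.closure_le _).mpr
      (fun s hs => heven s hs ((hS s hs).2.resolve_right (hT s hs))) hk

end H18
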