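import Mathlib

/-!
Sylow subgroups of symmetric and alternating groups are generated by elements of prime order.
-/

set_option autoImplicit false

namespace H18

open Equiv Equiv.Perm

variable (p : ℕ)

/-- An element of order dividing `p` which is even or a transposition. -/
def IsNiceGen {α : Type*} [Fintype α] [DecidableEq α] (s : Perm α) : Prop :=
  s ^ p = 1 ∧ (sign s = 1 ∨ s.IsSwap)

variable {p}

/-- Translation in the second coordinate. -/
def shiftPerm {A M : Type*} [AddGroup M] (f : A → M) : Perm (A × M) where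
  toFun w := (w.1, w.2 + f w.1)
  invFun w := (w.1, w.2 - f w.1)
  left_inv w := by simp
  right_inv w := by simp

theorem shiftPerm_mul {A M : Type*} [AddCommGroup M] (f g : A → M) :
    shiftPerm f * shiftPerm g = shiftPerm (f + g) := by
  refine Equiv.ext fun w => ?_
  simp [shiftPerm, add_assoc, add_comm (g w.1)]

theorem shiftPerm_zero {A M : Type*} [AddCommGroup M] : shiftPerm (0 : A → M) = 1 := by
  refine Equiv.ext fun w => ?_
  simp [shiftPerm]

/-- Acting on the first coordinate. -/
def liftPerm {A M : Type*} (h : Perm A) : Perm (A × M) := Equiv.prodCongr h (Equiv.refl M)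

theorem liftPerm_mul {A M : Type*} (g h : Perm A) :
    (liftPerm g : Perm (A × M)) * liftPerm h = liftPerm (g * h) := rfl

theorem liftPerm_one {A M : Type*} : (liftPerm 1 : Perm (A × M)) = 1 := rfl

theorem liftPerm_mul_shiftPerm {A M : Type*} [AddCommGroup M] (h : Perm A) (f : A → M) :
    liftPerm h * shiftPerm f = shiftPerm (fun a => f (h⁻¹ a)) * liftPerm h := by
  refine Equiv.ext fun w => ?_
  simp [liftPerm, shiftPerm]

theorem zmod_two_cases : ∀ x : ZMod 2, x = 0 ∨ x = 1 := by decide

/-- The wreath product of `ZMod p` by a group of permutations. -/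
def wreathSubgroup (p : ℕ) {A : Type*} (H : Subgroup (Perm A)) : Subgroup (Perm (A × ZMod p)) where
  carrier := {g | ∃ f : A → ZMod p, ∃ h ∈ H, g = shiftPerm f * liftPerm h}
  one_mem' := ⟨0, 1, H.one_mem, by rw [shiftPerm_zero, liftPerm_one, one_mul]⟩
  mul_mem' := by
    rintro _ _ ⟨f, h, hh, rfl⟩ ⟨f', h', hh', rfl⟩
    refine ⟨f + fun a => f' (h⁻¹ a), h * h', H.mul_mem hh hh', ?_⟩
    rw [mul_assoc, ← mul_assoc (liftPerm h), liftPerm_mul_shiftPerm, mul_assoc, liftPerm_mul,
      ← mul_assoc, shiftPerm_mul]
  inv_mem' := by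
    rintro _ ⟨f, h, hh, rfl⟩
    refine ⟨fun a => - f (h a), h⁻¹, H.inv_mem hh, inv_eq_of_mul_eq_one_right ?_⟩
    rw [mul_assoc, ← mul_assoc (liftPerm h), liftPerm_mul_shiftPerm, mul_assoc, liftPerm_mul,
      mul_inv_cancel, liftPerm_one, mul_one, shiftPerm_mul]
    convert! shiftPerm_zero using 2
    funext a
    simp

theorem card_wreathSubgroup [hp : Fact p.Prime] {A : Type*} [Fintype A] (H : Subgroup (Perm A)) :
    Nat.card (wreathSubgroup p H) = p ^ Fintype.card A * Nat.card H := by
  classical
  let φ : (A → ZMod p) × H → wreathSubgroup p H := fun q =>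
    ⟨shiftPerm q.1 * liftPerm (q.2 : Perm A), q.1, q.2, q.2.2, rfl⟩
  have hφ : Function.Bijective φ := by
    refine ⟨?_, fun ⟨g, f, h, hh, hg⟩ => ⟨(f, ⟨h, hh⟩), Subtype.ext hg.symm⟩⟩
    rintro ⟨f, h, hh⟩ ⟨f', h', hh'⟩ e
    have e' := congrArg Subtype.val e
    have key : ∀ a, h a = h' a ∧ f (h a) = f' (h a) := by
      intro a
      have := congrArg (fun σ : Perm (A × ZMod p) => σ (a, 0)) e'
      simp only [φ, shiftPerm, liftPerm, Perm.mul_apply, Equiv.prodCongr_apply, Equiv.coe_fn_mk,
        Prod.map, Equiv.refl_apply, zero_add, Prod.mk.injEq] at this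
      exact ⟨this.1, this.1 ▸ this.2⟩
    obtain rfl : h = h' := Equiv.ext fun a => (key a).1
    obtain rfl : f = f' := funext fun a => by simpa using (key (h⁻¹ a)).2
    rfl
  rw [← Nat.card_congr (Equiv.ofBijective φ hφ), Nat.card_prod, Nat.card_fun,
    Nat.card_eq_fintype_card (α := ZMod p), ZMod.card, Nat.card_eq_fintype_card (α := A)]

theorem exists_nice_sylow (p : ℕ) [hp : Fact p.Prime] (n : ℕ) :
    ∃ S : Set (Perm (Fin n)), (∀ s ∈ S, IsNiceGen p s) ∧
      Nat.card (Subgroup.closure S) = p ^ padicValNat p n.factorial := by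
  classical
  induction n using Nat.strong_induction_on with
  | _ n ih =>
  rcases Nat.eq_zero_or_pos n with hn | hn
  · subst hn
    refine ⟨∅, by simp, ?_⟩
    rw [Subgroup.closure_empty, Subgroup.card_bot]
    simp
  set m := n / p with hm
  have hmn : m < n := Nat.div_lt_self hn hp.out.one_lt
  obtain ⟨T, hT, hTc⟩ := ih m hmn
  set H := Subgroup.closure T with hH
  obtain ⟨ι⟩ : Nonempty (Fin m × ZMod p ↪ Fin n) := by
    refine Function.Embedding.nonempty_of_card_le ?_
    simp only [Fintype.card_prod, Fintype.card_fin, ZMod.card]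
    exact Nat.div_mul_le_self n p
  let S₀ : Set (Perm (Fin m × ZMod p)) :=
    Set.range (fun a => shiftPerm (Pi.single a (1 : ZMod p))) ∪ liftPerm '' T
  have hgen : Subgroup.closure S₀ = wreathSubgroup p H := by
    refine le_antisymm ((Subgroup.closure_le _).mpr ?_) ?_
    · rintro _ (⟨a, rfl⟩ | ⟨h, hh, rfl⟩)
      · exact ⟨_, 1, H.one_mem, by rw [liftPerm_one, mul_one]⟩
      · exact ⟨0, h, Subgroup.subset_closure hh, by rw [shiftPerm_zero, one_mul]⟩
    · rintro _ ⟨f, h, hh, rfl⟩
      refine mul_mem ?_ ?_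
      · let Φ : Multiplicative (Fin m → ZMod p) →* Perm (Fin m × ZMod p) :=
          { toFun := fun f => shiftPerm f.toAdd
            map_one' := shiftPerm_zero
            map_mul' := fun f g => (shiftPerm_mul _ _).symm }
        have hf : f = ∑ a, (f a).val • (Pi.single a (1 : ZMod p) : Fin m → ZMod p) := by
          funext b
          rw [Finset.sum_apply, Finset.sum_eq_single b]
          · simp only [Pi.smul_apply, Pi.single_eq_same, nsmul_one, ZMod.natCast_zmod_val]
          · intro c _ hcb
            simp only [Pi.smul_apply, Pi.single_eq_of_ne hcb.symm, smul_zero]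
          · simp
        have : Multiplicative.ofAdd f ∈ (Subgroup.closure S₀).comap Φ := by
          rw [hf, ofAdd_sum]
          refine Subgroup.prod_mem _ fun a _ => ?_
          rw [ofAdd_nsmul]
          exact Subgroup.pow_mem _ (Subgroup.mem_comap.mpr (Subgroup.subset_closure (.inl ⟨a, rfl⟩))) _
        exact this
      · let Λ : Perm (Fin m) →* Perm (Fin m × ZMod p) :=
          { toFun := liftPerm, map_one' := liftPerm_one, map_mul' := fun g h => (liftPerm_mul g h).symm }
        have hle : H.map Λ ≤ Subgroup.closure S₀ := by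
          rw [hH, MonoidHom.map_closure]
          exact Subgroup.closure_mono Set.subset_union_right
        exact hle ⟨h, hh, rfl⟩
  have hodd : ∀ {β : Type} [Fintype β] [DecidableEq β] (s : Perm β), p ≠ 2 → s ^ p = 1 → sign s = 1 := by
    intro β _ _ s h2 hs
    have h1 : sign s ^ p = 1 := by rw [← map_pow, hs, map_one]
    rcases Int.units_eq_one_or (sign s) with h | h
    · exact h
    · rw [h, (hp.out.odd_of_ne_two h2).neg_one_pow] at h1
      exact absurd h1 (by decide)
  have hS₀ : ∀ s ∈ S₀, IsNiceGen p s := by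
    rintro _ (⟨a, rfl⟩ | ⟨h, hh, rfl⟩)
    · have hpow : ∀ k : ℕ, shiftPerm (Pi.single a (1 : ZMod p)) ^ k =
          shiftPerm (k • (Pi.single a (1 : ZMod p) : Fin m → ZMod p)) := by
        intro k
        induction k with
        | zero => rw [pow_zero, zero_smul, shiftPerm_zero]
        | succ k ihk => rw [pow_succ, ihk, shiftPerm_mul, succ_nsmul]
      have h1 : shiftPerm (Pi.single a (1 : ZMod p)) ^ p = 1 := by
        rw [hpow]
        convert! shiftPerm_zero using 2
        funext b
        simp [CharP.cast_eq_zero]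
      refine ⟨h1, ?_⟩
      by_cases h2 : p = 2
      · subst h2
        refine .inr ⟨(a, 0), (a, 1), by simp, Equiv.ext fun w => ?_⟩
        obtain ⟨b, x⟩ := w
        by_cases hb : b = a
        · subst hb
          have hx : x = 0 ∨ x = 1 := zmod_two_cases x
          rcases hx with rfl | rfl
          · simp [shiftPerm, Equiv.swap_apply_left]
          · have h11 : (1 : ZMod 2) + 1 = 0 := rfl
            simp [shiftPerm, Equiv.swap_apply_right, h11]
        · simp [shiftPerm, hb, Equiv.swap_apply_of_ne_of_ne]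
      · exact .inl (hodd _ h2 h1)
    · have h1 : (liftPerm h : Perm (Fin m × ZMod p)) ^ p = 1 := by
        let Λ : Perm (Fin m) →* Perm (Fin m × ZMod p) :=
          { toFun := liftPerm, map_one' := liftPerm_one, map_mul' := fun g h => (liftPerm_mul g h).symm }
        change Λ h ^ p = 1
        rw [← map_pow, (hT h hh).1, map_one]
      refine ⟨h1, .inl ?_⟩
      by_cases h2 : p = 2
      · have hh2 : (liftPerm h : Perm (Fin m × ZMod p)) = prodCongrLeft fun _ : ZMod p => h := rfl
        rw [hh2, sign_prodCongrLeft, Finset.prod_const, Finset.card_univ, ZMod.card, h2,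
          Int.units_pow_two]
      · exact hodd _ h2 h1
  refine ⟨viaEmbeddingHom ι '' S₀, ?_, ?_⟩
  · rintro _ ⟨s, hs, rfl⟩
    obtain ⟨h1, h2⟩ := hS₀ s hs
    refine ⟨by rw [← map_pow, h1, map_one], ?_⟩
    rcases h2 with h2 | ⟨a, b, hab, rfl⟩
    · left
      rw [viaEmbeddingHom_apply, viaEmbedding, sign_extendDomain, h2]
    · right
      refine ⟨ι a, ι b, ι.injective.ne hab, Equiv.ext fun y => ?_⟩
      rw [viaEmbeddingHom_apply]
      by_cases hy : y ∈ Set.range ι
      · obtain ⟨x, rfl⟩ := hy
        rw [viaEmbedding_apply, ι.injective.map_swap]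
      · rw [viaEmbedding_apply_of_notMem _ _ _ hy, Equiv.swap_apply_of_ne_of_ne]
        · rintro rfl; exact hy ⟨a, rfl⟩
        · rintro rfl; exact hy ⟨b, rfl⟩
  · rw [← MonoidHom.map_closure, Subgroup.card_map_of_injective (viaEmbeddingHom_injective ι), hgen,
      card_wreathSubgroup, hTc, Fintype.card_fin, ← pow_add]
    congr 1
    rw [← padicValNat_mul_div_factorial n, padicValNat_factorial_mul, add_comm, hm]

end H18
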